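import Groth.Agent.L19.VanishFibre.Noetherian
import Groth.Agent.L19.SupportPullback
import Groth.Agent.L17.PushQCoh

/-!
Cohomology of a coherent module vanishes above the dimension of its support in the fibres.
-/

set_option autoImplicit false
set_option linter.style.haveILetI false
set_option backward.isDefEq.respectTransparency.types false
set_option backward.isDefEq.respectTransparency false
universe u

open CategoryTheory CategoryTheory.Limits AlgebraicGeometry TopologicalSpace Opposite

noncomputable section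

namespace Groth.L10.RelCan

open Groth.L20.Strat (Supp0)

/-- sections vanish away from a set containing the support -/
theorem supp0_of_support_subset {X : Scheme.{u}} (M : X.Modules) {T : Set X} (h : CohB1.support M ⊆ T) :
    Supp0 M T := fun U hU s =>
  TopCat.Presheaf.section_ext ⟨M.presheaf, M.isSheaf⟩ U s 0 fun x hx =>
    haveI : Subsingleton (M.presheaf.stalk x) := not_nontrivial_iff_subsingleton.1 fun hn =>
      Set.disjoint_left.1 hU hx (h (not_subsingleton_iff_nontrivial.2 hn))
    Subsingleton.elim _ _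

variable {X Y : Scheme.{u}}

/-- vanishing at a point above the dimension of the support in its fibre -/
theorem subsingleton_stalk_Rpush_supp (f : X ⟶ Y) [IsProper f] [IsLocallyNoetherian Y]
    [HasInjectiveResolutions X.Modules] (y : Y) {d : ℕ} (F : X.Modules) (hF : Coh.IsCoh F) (S : Set X)
    (hS : IsClosed S) (hFS : CohB1.support F ⊆ S) (hd : topologicalKrullDim ↥(f ⁻¹' {y} ∩ S) ≤ d)
    {p : ℕ} (hp : d < p) : Subsingleton (((Coh.Rpush f p).obj F).presheaf.stalk y) := by
  let O := Y.presheaf.stalk y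
  let X₁ := pullback f (Y.fromSpecStalk y)
  let g : X₁ ⟶ X := pullback.fst _ _
  letI : X₁.Over (Spec (CommRingCat.of O)) := ⟨pullback.snd f (Y.fromSpecStalk y)⟩
  let f₁ : X₁ ⟶ Spec (CommRingCat.of O) := X₁ ↘ Spec (CommRingCat.of O)
  have hsq : IsPullback g f₁ f (Y.fromSpecStalk y) := IsPullback.of_hasPullback _ _
  obtain ⟨hfin, ⟨e⟩⟩ := Groth.L16.Rees.stalk_formal_functions f F hF y p g hsq
  haveI : IsProper f₁ := MorphismProperty.of_isPullback hsq inferInstance
  haveI : IsNoetherianRing O := inferInstance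
  haveI : IsLocallyNoetherian X₁ := LocallyOfFiniteType.isLocallyNoetherian f₁
  haveI : CompactSpace X₁ := QuasiCompact.compactSpace_of_compactSpace f₁
  haveI : IsNoetherian X₁ := {}
  haveI : X₁.IsSeparated := ⟨by rw [← terminal.comp_from f₁]; infer_instance⟩
  let c : Spec (CommRingCat.of O) := IsLocalRing.closedPoint O
  let I := IsLocalRing.maximalIdeal O
  have hfib : f₁ ⁻¹' (PrimeSpectrum.zeroLocus (I : Set O)) = f₁ ⁻¹' {c} := by
    rw [PrimeSpectrum.zeroLocus_eq_singleton I]
    rfl
  let T : Set X₁ := f₁ ⁻¹' (PrimeSpectrum.zeroLocus (I : Set O)) ∩ g ⁻¹' S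
  have hT : IsClosed T :=
    ((PrimeSpectrum.isClosed_zeroLocus _).preimage f₁.continuous).inter (hS.preimage g.continuous)
  let K := Scheme.IdealSheafData.vanishingIdeal ⟨T, hT⟩
  let i := K.subschemeι
  have hr : Set.range i = T := by
    rw [show Set.range i = (K.support : Set X₁) from K.range_subschemeι]
    rfl
  haveI : IsLocallyNoetherian K.subscheme := LocallyOfFiniteType.isLocallyNoetherian i
  haveI : CompactSpace K.subscheme := QuasiCompact.compactSpace_of_compactSpace i
  haveI : IsNoetherian K.subscheme := {}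
  haveI : IsPreimmersion g := MorphismProperty.of_isPullback hsq.flip inferInstance
  have hd₁ : topologicalKrullDim ↥K.subscheme ≤ d := by
    refine le_trans ?_ hd
    have hmem : ∀ z, g (i z) ∈ f ⁻¹' {y} ∩ S := fun z => by
      obtain ⟨h1, h2⟩ := hr.le ⟨z, rfl⟩
      refine ⟨?_, h2⟩
      have h1' : f₁ (i z) = c := (hfib.le h1 :)
      show f (g (i z)) = y
      rw [← Scheme.Hom.comp_apply, hsq.w, Scheme.Hom.comp_apply, h1']
      exact Y.fromSpecStalk_closedPoint
    refine Topology.IsInducing.topologicalKrullDim_le (f := fun z => (⟨g (i z), hmem z⟩ : ↥(f ⁻¹' {y} ∩ S))) ?_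
    exact (g.isEmbedding.comp i.isEmbedding).isInducing.codRestrict hmem
  haveI : Coh.IsQCoh F := hF.1
  let F₁ := (Scheme.Modules.pullback g).obj F
  have hF₁ : Coh.IsCoh F₁ := Groth.L16.AffineBC.isCoh_pullback g hF
  have hF₁S : CohB1.support F₁ ⊆ g ⁻¹' S :=
    (Groth.L19.SupportPullback.support_pullback g F hF.2).le.trans (Set.preimage_mono hFS)
  have hz : ∀ n, Subsingleton (Formal.HHmodPow I F₁ p n) := fun n => by
    haveI := (Groth.L16.HomSh.modPow_spec I hF₁ (n + 1)).1.1
    refine Groth.L19.VanishFibre.subsingleton_HH_of_supp0 i hd₁ _ (supp0_of_support_subset _ fun x hx => ?_) hp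
    rw [hr]
    refine ⟨?_, hF₁S fun hs => hx ?_⟩
    · by_contra hx'
      refine hx (subsingleton_of_forall_eq 0 fun v => ?_)
      obtain ⟨U, hxU, s, rfl⟩ := TopCat.Presheaf.exists_germ_eq (Formal.modPow I (n + 1) F₁).presheaf v
      let W : X₁.Opens := U ⊓ ⟨(f₁ ⁻¹' PrimeSpectrum.zeroLocus (I : Set O))ᶜ,
        ((PrimeSpectrum.isClosed_zeroLocus _).preimage f₁.continuous).isOpen_compl⟩
      have hW := Groth.L19.VanishFibre.supp0_modPow I (n + 1) F₁ W (Set.disjoint_left.2 fun z hz hz' => hz.2 hz')
        ((Formal.modPow I (n + 1) F₁).presheaf.map (homOfLE inf_le_left).op s)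
      rw [← TopCat.Presheaf.germ_res_apply (Formal.modPow I (n + 1) F₁).presheaf
        (homOfLE (inf_le_left : W ≤ U)) x ⟨hxU, hx'⟩ s, hW, map_zero]
    · haveI := Groth.L16.Existence.epi_modPowπ I (n + 1) F₁
      haveI : Subsingleton ((Groth.L21.Mod.stalkF X₁ x).obj F₁) := hs
      exact Function.Surjective.subsingleton
        ((Groth.L21.Mod.epi_iff_stalk_surjective (Formal.modPowπ I (n + 1) F₁)).1 inferInstance x)
  haveI : Subsingleton (Formal.HHlim I F₁ p) :=
    ⟨fun a b => Subtype.ext (funext fun n => (hz n).elim _ _)⟩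
  haveI := hfin
  exact Groth.L19.VanishFibre.subsingleton_of_adicCompletion e.toEquiv.subsingleton

/-- no cohomology above the dimension of the support in the fibres -/
theorem subsingleton_HH_supp {A : Type u} [CommRing A] [IsNoetherianRing A] {X : Scheme.{u}}
    (f : X ⟶ Spec (CommRingCat.of A)) [IsProper f] {d : ℕ} (F : X.Modules) (hF : Coh.IsCoh F) (S : Set X)
    (hS : IsClosed S) (hFS : CohB1.support F ⊆ S) (hd : ∀ y, topologicalKrullDim ↥(f ⁻¹' {y} ∩ S) ≤ d)
    {p : ℕ} (hp : d < p) : Subsingleton (Coh.HH X F p) := by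
  haveI : CompactSpace X := QuasiCompact.compactSpace_of_compactSpace f
  haveI : X.IsSeparated := ⟨by rw [← terminal.comp_from f]; infer_instance⟩
  haveI := Groth.L17.PushQCoh.hasInjectiveResolutions X
  haveI : Coh.IsQCoh F := hF.1
  haveI : IsNoetherianRing (CommRingCat.of A) := ‹IsNoetherianRing A›
  haveI : (moduleSpecΓFunctor (R := CommRingCat.of A)).IsRightAdjoint := tilde.adjunction.isRightAdjoint
  haveI : (moduleSpecΓFunctor (R := CommRingCat.of A)).PreservesZeroMorphisms :=
    Functor.preservesZeroMorphisms_of_isRightAdjoint _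
  obtain ⟨e⟩ := Groth.L17.ProperCoh.nonempty_Γ_Rpush_equiv f F p
  have hz : IsZero ((Coh.Rpush f p).obj F) := by
    rw [Groth.L21.Mod.isZero_iff_support_eq_empty, Set.eq_empty_iff_forall_notMem]
    exact fun y hy => hy (subsingleton_stalk_Rpush_supp f y F hF S hS hFS (hd y) hp)
  haveI := ModuleCat.subsingleton_of_isZero ((moduleSpecΓFunctor (R := CommRingCat.of A)).map_isZero hz)
  exact e.toEquiv.subsingleton

end Groth.L10.RelCan
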