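import Groth.Agent.L10.TopDual.Ev
import Groth.Agent.L29.DCoh.RpushAcyclic
import Groth.Agent.L29.DCoh.RpushAffine
import Groth.Agent.L29.BC.SupportAdj
import Groth.Agent.L29.BCAdj.AffineUnit
import Groth.Agent.L29.BC.Adj
import Groth.Agent.L16.QcqsPush
import Groth.Agent.L00.KFlatDerived
import Groth.Agent.L10.TopDual.Main

/-!
Cohomology along an affine morphism, naturally in the quasi-coherent module.
-/

set_option autoImplicit false
set_option backward.defeqAttrib.useBackward true
set_option backward.isDefEq.respectTransparency false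
set_option backward.isDefEq.respectTransparency.types false
set_option linter.style.haveILetI false
universe u

open CategoryTheory CategoryTheory.Limits CategoryTheory.Abelian AlgebraicGeometry DerivedCategory
attribute [local instance] HasDerivedCategory.standard

noncomputable section

namespace Groth.L10.RelCan

open Groth.L16.CohLinear (hmap)
open Groth.L29.BCAdj (OD)
open Groth.L29.DC
open Groth.L21.CurveDual (ev ev_natural)

/-- cohomology as maps from the structure sheaf in the derived category, naturally -/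
theorem exists_eH (X : Scheme.{u}) [HasExt.{u} X.Modules] [HasInjectiveResolutions X.Modules] (d : ℕ) :
    ∃ E : ∀ F : X.Modules, (OD X ⟶ (DCoh.inD X F)⟦(d : ℤ)⟧) ≃+ Coh.HH X F d,
      ∀ {F G : X.Modules} (g : F ⟶ G) (y : OD X ⟶ (DCoh.inD X F)⟦(d : ℤ)⟧),
        E G (y ≫ ((DerivedCategory.singleFunctor X.Modules 0).map g)⟦(d : ℤ)⟧') = hmap g d (E F y) := by
  let E : ∀ F : X.Modules, (OD X ⟶ (DCoh.inD X F)⟦(d : ℤ)⟧) → Coh.HH X F d := fun F y =>
    ev F d (Ext.homEquiv.symm y)
  have hE : ∀ F, Function.Bijective (E F) := fun F =>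
    (Groth.L10.TopDual.ev_bijective d F).comp Ext.homEquiv.symm.bijective
  refine ⟨fun F => AddEquiv.ofBijective (AddMonoidHom.mk' (E F) fun a b => ?_) (hE F), fun {F G} g y => ?_⟩
  · simp only [E]
    rw [← map_add]
    refine congrArg _ ?_
    apply Ext.homEquiv.injective
    rw [Equiv.apply_symm_apply]
    refine Eq.trans ?_ (Ext.add_hom _ _).symm
    simp only [Ext.hom, Equiv.apply_symm_apply]
  · change E G _ = hmap g d (E F y)
    simp only [E]
    rw [← ev_natural]
    refine congrArg (ev G d) ?_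
    apply Ext.homEquiv.injective
    rw [Equiv.apply_symm_apply]
    symm
    refine (Ext.comp_hom _ _ _).trans ?_
    rw [Ext.mk₀_hom]
    refine (ShiftedHom.comp_mk₀ _ _ _ _).trans ?_
    simp only [Ext.hom, Equiv.apply_symm_apply]

set_option maxHeartbeats 1600000 in
/-- cohomology along an affine morphism, naturally -/
theorem exists_push_iso {X' X : Scheme.{u}} (p : X' ⟶ X) [IsAffineHom p] (d : ℕ) :
    ∃ e : ∀ F : X'.Modules, Coh.IsQCoh F → (Coh.HH X' F d ≃+ Coh.HH X ((Coh.push p).obj F) d),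
      ∀ {F G : X'.Modules} (hF : Coh.IsQCoh F) (hG : Coh.IsQCoh G) (φ : F ⟶ G) (z : Coh.HH X' F d),
        e G hG (hmap φ d z) = hmap ((Coh.push p).map φ) d (e F hF z) := by
  haveI := fun {P Q : Scheme.{u}} (k : P ⟶ Q) => Groth.L00.KFlat.hasLpull k
  haveI := RpushQC.hasRpush p
  haveI := Groth.L00.Tensor.grothendieckAbelian_modules X'
  haveI := Groth.L00.Tensor.grothendieckAbelian_modules X
  haveI : HasExt.{u} X'.Modules := inferInstance
  haveI : HasExt.{u} X.Modules := inferInstance
  haveI := Groth.L17.PushQCoh.hasInjectiveResolutions X'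
  haveI := Groth.L17.PushQCoh.hasInjectiveResolutions X
  haveI := Groth.L17.PushQCoh.additive_push p
  haveI : (DCoh.Rpush p).Additive := RpushColim.additive_Rpush p
  letI := Gen.commShiftRpush p
  obtain ⟨E', hE'⟩ := exists_eH X' d
  obtain ⟨E, hE⟩ := exists_eH X d
  obtain ⟨o⟩ := Groth.L29.BCAdj.nonempty_Lpull_OD p
  let Θ : ∀ V : DCoh.D X', (OD X' ⟶ V) ≃+ (OD X ⟶ (DCoh.Rpush p).obj V) := fun V =>
    { toFun := fun u => (Groth.L29.BC.adj p).homEquiv _ _ (o.hom ≫ u)
      invFun := fun v => o.inv ≫ ((Groth.L29.BC.adj p).homEquiv _ _).symm v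
      left_inv := fun u => by dsimp only; rw [Equiv.symm_apply_apply, o.inv_hom_id_assoc]
      right_inv := fun v => by dsimp only; rw [o.hom_inv_id_assoc, Equiv.apply_symm_apply]
      map_add' := fun a b => by
        simp only [Adjunction.homEquiv_unit, Functor.map_add, Preadditive.comp_add] }
  have hΘ : ∀ {V V' : DCoh.D X'} (u : OD X' ⟶ V) (w : V ⟶ V'), Θ V' (u ≫ w) = Θ V u ≫ (DCoh.Rpush p).map w := by
    intro V V' u w
    change (Groth.L29.BC.adj p).homEquiv _ _ (o.hom ≫ u ≫ w) = (Groth.L29.BC.adj p).homEquiv _ _ (o.hom ≫ u) ≫ _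
    rw [← Category.assoc, Adjunction.homEquiv_naturality_right]
  let P := Scheme.Modules.pushforward p
  let S' := HomologicalComplex.single X'.Modules (ComplexShape.up ℤ) 0
  let S := HomologicalComplex.single X.Modules (ComplexShape.up ℤ) 0
  let ν : S' ⋙ Proj.pushCx p ≅ P ⋙ S := HomologicalComplex.singleMapHomologicalComplex P (ComplexShape.up ℤ) 0
  let σ' := DerivedCategory.singleFunctorIsoCompQ X'.Modules 0
  let σ := DerivedCategory.singleFunctorIsoCompQ X.Modules 0
  let κ : (P ⋙ DerivedCategory.singleFunctor X.Modules 0) ⟶ DerivedCategory.singleFunctor X'.Modules 0 ⋙ DCoh.Rpush p :=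
    { app := fun F => σ.hom.app (P.obj F) ≫ DerivedCategory.Q.map (ν.inv.app F) ≫
        Groth.L29.BC.SupportAdj.pushComp p (S'.obj F) ≫ (DCoh.Rpush p).map (σ'.inv.app F)
      naturality := fun F G φ => by
        change (DerivedCategory.singleFunctor X.Modules 0).map (P.map φ) ≫ _ = _ ≫ (DCoh.Rpush p).map _
        simp only [Category.assoc]
        rw [← Category.assoc]
        refine (congrArg (· ≫ _) (σ.hom.naturality (P.map φ))).trans ?_
        rw [Category.assoc]
        refine congrArg (σ.hom.app (P.obj F) ≫ ·) ?_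
        change DerivedCategory.Q.map (S.map (P.map φ)) ≫ _ = _
        rw [← Functor.map_comp_assoc]
        refine (congrArg (fun w => DerivedCategory.Q.map w ≫ _) (ν.inv.naturality φ)).trans ?_
        rw [Functor.map_comp_assoc]
        refine congrArg (DerivedCategory.Q.map (ν.inv.app F) ≫ ·) ?_
        rw [← Category.assoc]
        refine (congrArg (· ≫ _) (Groth.L29.BC.SupportAdj.pushComp_natural p (S'.map φ))).trans ?_
        rw [Category.assoc, ← Functor.map_comp, ← Functor.map_comp]
        exact congrArg (fun w => _ ≫ (DCoh.Rpush p).map w) (σ'.inv.naturality φ) }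
  have hκ : ∀ F : X'.Modules, Coh.IsQCoh F → IsIso (κ.app F) := by
    intro F hF
    haveI hX : ∀ n, Coh.IsQCoh ((S'.obj F).X n) := fun n => by
      rcases eq_or_ne n 0 with rfl | hn
      · exact isQCoh_of_iso' (HomologicalComplex.singleObjXSelf _ 0 F).symm hF
      · exact isQCoh_of_isZero (HomologicalComplex.isZero_single_obj_X _ _ _ _ hn)
    haveI := RpushQC.isIso_unit_of_acyclic p (S'.obj F) hX
      (fun n i hi => RpushQC.isZero_Rpush_affine p _ (hX n) i hi)
    haveI : IsIso (Groth.L29.BC.SupportAdj.pushComp p (S'.obj F)) := by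
      unfold Groth.L29.BC.SupportAdj.pushComp
      infer_instance
    dsimp only [κ]
    infer_instance
  let cs := (DCoh.Rpush p).commShiftIso (d : ℤ)
  let e : ∀ F : X'.Modules, Coh.IsQCoh F → (Coh.HH X' F d ≃+ Coh.HH X (P.obj F) d) := fun F hF =>
    haveI := hκ F hF
    let i : (DCoh.Rpush p).obj ((DCoh.inD X' F)⟦(d : ℤ)⟧) ≅ (DCoh.inD X (P.obj F))⟦(d : ℤ)⟧ :=
      cs.app _ ≪≫ ((shiftFunctor (DCoh.D X) (d : ℤ)).mapIso (asIso (κ.app F))).symm
    (E' F).symm.trans ((Θ _).trans
      ({ toFun := fun u => u ≫ i.hom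
         invFun := fun v => v ≫ i.inv
         left_inv := fun u => by simp
         right_inv := fun v => by simp
         map_add' := fun a b => Preadditive.add_comp _ _ _ _ _ _ } : _ ≃+ (OD X ⟶ _)) |>.trans (E (P.obj F)))
  refine ⟨e, fun {F G} hF hG φ z => ?_⟩
  obtain ⟨y, rfl⟩ := (E' F).surjective z
  haveI := hκ F hF
  haveI := hκ G hG
  change E _ (Θ _ ((E' G).symm (hmap φ d (E' F y))) ≫ cs.hom.app _ ≫ (inv (κ.app G))⟦(d : ℤ)⟧') =
    hmap (P.map φ) d (E _ (Θ _ ((E' F).symm (E' F y)) ≫ cs.hom.app _ ≫ (inv (κ.app F))⟦(d : ℤ)⟧'))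
  rw [← hE', AddEquiv.symm_apply_apply, AddEquiv.symm_apply_apply, hΘ, ← hE]
  refine congrArg (E _) ?_
  simp only [Category.assoc]
  refine congrArg (Θ _ y ≫ ·) ?_
  rw [← Category.assoc]
  refine (congrArg (· ≫ _) (cs.hom.naturality ((DerivedCategory.singleFunctor X'.Modules 0).map φ))).trans ?_
  rw [Category.assoc]
  refine congrArg (cs.hom.app _ ≫ ·) ?_
  change ((DCoh.Rpush p).map _)⟦(d : ℤ)⟧' ≫ _ = _ ≫ ((DerivedCategory.singleFunctor X.Modules 0).map (P.map φ))⟦(d : ℤ)⟧'
  rw [← Functor.map_comp, ← Functor.map_comp]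
  refine congrArg (fun w => w⟦(d : ℤ)⟧') ?_
  rw [IsIso.eq_inv_comp, ← Category.assoc, IsIso.comp_inv_eq]
  exact (κ.naturality φ).symm

end Groth.L10.RelCan
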