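import Groth.Agent.L10.RelCan.DepthSheaf
import Groth.Agent.L10.RelCan.SuppVanish
import Groth.Agent.L10.FMK.SuppDim
import Groth.Agent.L15.Ref.FreeLocus
import Groth.Agent.L20.ResAmple
import Groth.Agent.S0341
import Groth.Agent.L14.Quot.Lift

/-!
The dualizing sheaf of an S₂-morphism with fibres Gorenstein in codimension one is reflexive.
-/

set_option autoImplicit false
set_option linter.style.haveILetI false
set_option backward.defeqAttrib.useBackward true
set_option backward.isDefEq.respectTransparency false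
set_option backward.isDefEq.respectTransparency.types false
universe u

open CategoryTheory CategoryTheory.Limits AlgebraicGeometry TopologicalSpace IsLocalRing

attribute [local instance] HasDerivedCategory.standard

noncomputable section

namespace Groth.L10.RelCan

open Groth.L29 Groth.L29.DC Groth.L10.ShriekLoc
open Groth.L16.CohLinear (hmap hmap_comp hmap_id exact_hmap_hmap exact_delta_hmap)

/-- a closed subset of codimension `c` in a space of dimension `d` -/
theorem dim_le_of_coheight {Z : Scheme.{u}} {T : Set Z} (hT : IsClosed T) {d c : ℕ}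
    (hd : topologicalKrullDim ↥Z ≤ (d : WithBot ℕ∞))
    (hc : ∀ z ∈ T, (c : WithBot ℕ∞) ≤ ringKrullDim ↑(Z.presheaf.stalk z)) :
    topologicalKrullDim ↥T ≤ ((d - c : ℕ) : WithBot ℕ∞) := by
  haveI : QuasiSober T := hT.isClosedEmbedding_subtypeVal.quasiSober
  refine iSup_le fun l => ?_
  let g := irreducibleSetEquivPoints (α := T)
  have hmono : StrictMono fun W : IrreducibleCloseds T => ((g W).1 : Z) := fun a b h => by
    refine lt_iff_le_not_ge.2 ⟨(subtype_specializes_iff (g b) (g a)).1 ((@RelIso.map_rel_iff _ _ _ _ g _ _).2 h.le),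
      fun hb => h.not_ge ((@RelIso.map_rel_iff _ _ _ _ g _ _).1 ?_)⟩
    exact (subtype_specializes_iff (g a) (g b)).2 hb
  let z : T := g l.last
  have h1 : (l.length : ℕ∞) ≤ Order.height (z : Z) := Order.length_le_height_last (p := l.map _ hmono)
  have h2 := hc _ z.2
  rw [ringKrullDim_stalk_eq_coheight] at h2
  have h3 := (Groth.L10.FMK.height_add_coheight_le (z : Z)).trans (Groth.L10.FMK.krullDim_points.symm.trans_le hd)
  generalize Order.height (z : Z) = a at h1 h3
  generalize Order.coheight (z : Z) = b at h2 h3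
  change (((c : ℕ) : ℕ∞) : WithBot ℕ∞) ≤ (b : WithBot ℕ∞) at h2
  change ((a + b : ℕ∞) : WithBot ℕ∞) ≤ (((d : ℕ) : ℕ∞) : WithBot ℕ∞) at h3
  rw [WithBot.coe_le_coe] at h2 h3
  have h4 : (l.length : ℕ∞) + (c : ℕ∞) ≤ (d : ℕ∞) := (add_le_add h1 h2).trans h3
  norm_cast at h4 ⊢
  omega

section

variable {A : Type u} [CommRing A] [IsNoetherianRing A] {Y : Scheme.{u}} [Y.Over (Spec (CommRingCat.of A))]
  [IsProper (Y ↘ Spec (CommRingCat.of A))] {d : ℕ}

theorem isLeftAdjoint (hd : Cyc.HasRelDim (Y ↘ Spec (CommRingCat.of A)) d) :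
    (Groth.L10.TopDual.Rep.cohFunctor (X := Y) A d).IsLeftAdjoint := by
  haveI : CompactSpace Y := QuasiCompact.compactSpace_of_compactSpace (Y ↘ Spec (CommRingCat.of A))
  haveI : QuasiSeparatedSpace Y := quasiSeparatedSpace_of_quasiSeparated (Y ↘ Spec (CommRingCat.of A))
  exact isLeftAdjoint_cohFunctor (A := A) (X := Y) (d := d)
    fun M hM => subsingleton_HH_above d hd M hM (d + 1) d.lt_succ_self

theorem noTors_dualizing (hd : Cyc.HasRelDim (Y ↘ Spec (CommRingCat.of A)) d) (ω : Y.Modules)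
    (hω : RelCanon.IsDualizingSheaf A Y d ω) (x : Y)
    (hdim : (1 : WithBot ℕ∞) ≤ ringKrullDim
      (((Y ↘ Spec (CommRingCat.of A)).fiber ((Y ↘ Spec (CommRingCat.of A)) x)).presheaf.stalk
        ((Y ↘ Spec (CommRingCat.of A)).asFiber x))) :
    NoTors (Y.presheaf.stalk x) (ω.presheaf.stalk x) := by
  haveI := isLeftAdjoint hd
  let f := Y ↘ Spec (CommRingCat.of A)
  obtain ⟨e⟩ := nonempty_iso hω (isDualizingSheaf_ω₀ A Y d)
  refine NoTors.of_injective (stk e.hom x) (ConcreteCategory.bijective_of_isIso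
    ((Groth.L00.Stk.F Y x).map e.hom)).1 fun g hg => ?_
  obtain ⟨v', hv', hne⟩ : ∃ v' : f.fiber (f x), v' ⤳ f.asFiber x ∧ v' ≠ f.asFiber x := by
    by_contra! hall
    let Z := f.fiber (f x)
    let v := f.asFiber x
    haveI : Ring.KrullDimLE 0 (Z.presheaf.stalk v) := Ring.KrullDimLE.mk₀ fun I hI => by
      have := (Z.fromSpecStalk v).isEmbedding.injective
        ((hall (Z.fromSpecStalk v ⟨I, hI⟩) (Groth.L07.EquidimPoint.specializes_point v _)).trans
          Scheme.fromSpecStalk_closedPoint.symm)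
      rw [show I = maximalIdeal (Z.presheaf.stalk v) from congrArg PrimeSpectrum.asIdeal this]
      exact maximalIdeal.isMaximal _
    exact absurd (hdim.trans (Ring.krullDimLE_iff.1 ‹_›)) (by norm_num)
  exact eq_zero_of_stalk_torsion d hd x v' hv' hne _ g hg

theorem invertibleAt_of_gor [Flat (Y ↘ Spec (CommRingCat.of A))]
    (hd : Cyc.HasRelDim (Y ↘ Spec (CommRingCat.of A)) d) (ω : Y.Modules)
    (hω : RelCanon.IsDualizingSheaf A Y d ω) (y : Y)
    (hy : y ∈ RelCanon.gorLocus (Y ↘ Spec (CommRingCat.of A))) : RelCanon.InvertibleAt ω y := by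
  let f := Y ↘ Spec (CommRingCat.of A)
  haveI := fun {P Q : Scheme.{u}} (k : P ⟶ Q) => Groth.L00.KFlat.hasLpull k
  haveI := fun (R : CommRingCat.{u}) => Groth.L18.TildeF.tilde_preservesFiniteLimits (R := R)
  haveI : ∀ (U V : Scheme.{u}) (j : U ⟶ V) [IsOpenImmersion j],
      PreservesFiniteLimits (Scheme.Modules.restrictFunctor j) := fun U V j _ => inferInstance
  haveI : IsLocallyNoetherian Y := LocallyOfFiniteType.isLocallyNoetherian f
  obtain ⟨c, hR, hc, a, adj, O, hO, hiff⟩ := exists_model (Y := Y) d hd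
  haveI := hR
  obtain ⟨e₀⟩ := (hiff ω).1 hω
  have hcm : MoreMor.IsCMAt f y := ⟨hy.1, by haveI := hy.2; exact Groth.Agent.S0341.result _⟩
  haveI hnt := (isCoh_and_nontrivial d hd ω hω).2 y hcm
  let L := (Dual3.shriekC c a).obj O
  let m : ℤ := -(d : ℤ)
  obtain ⟨U, hyU, hU⟩ := exists_invertible c adj O hO y hy
  obtain ⟨V, n, hxV, ⟨eV⟩⟩ := hU ⟨y, hyU⟩
  let T : DCoh.D (V : Scheme.{u}) := DCoh.inD _ (Coh.structureModule (V : Scheme.{u}))
  let eH : (ω.restrict U.ι).restrict V.ι ≅ DCoh.HD T (n + m) :=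
    (Scheme.Modules.restrictFunctor V.ι).mapIso ((Scheme.Modules.restrictFunctor U.ι).mapIso e₀ ≪≫
      (HDResIso U.ι L m).symm) ≪≫ (HDResIso V.ι ((DCoh.restrictD U.ι).obj L) m).symm ≪≫
      (DerivedCategory.homologyFunctor _ m).mapIso eV ≪≫
      Groth.L10.hShiftIso (A := (V : Scheme.{u}).Modules) T n m (n + m) rfl
  have hn : n + m = 0 := by
    by_contra hne
    have hz' : IsZero ((ω.restrict U.ι).restrict V.ι) := by
      refine IsZero.of_iso ?_ eH
      rcases lt_or_gt_of_ne hne with h | h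
      · exact DerivedCategory.isZero_of_isGE _ 0 _ h
      · exact DerivedCategory.isZero_of_isLE _ 0 _ h
    haveI := (Groth.L21.Mod.isZero_iff_stalk_subsingleton _).1 hz' ⟨⟨y, hyU⟩, hxV⟩
    haveI : Nontrivial (ω.presheaf.stalk (U.ι ⟨y, hyU⟩)) := hnt
    exact not_subsingleton _ (((stalkEquiv V.ι _ ⟨⟨y, hyU⟩, hxV⟩).trans
      (stalkEquiv U.ι ω ⟨y, hyU⟩)).symm.toEquiv.subsingleton)
  rw [hn] at eH
  obtain ⟨e'⟩ := restrict_opensRange (V.ι ≫ U.ι) ω ((Scheme.Modules.restrictFunctorComp V.ι U.ι).app ω ≪≫ eH ≪≫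
    (DerivedCategory.singleFunctorCompHomologyFunctorIso _ 0).app _)
  exact ⟨_, (⟨(⟨⟨y, hyU⟩, hxV⟩ : (V : Scheme.{u})), rfl⟩ : y ∈ (V.ι ≫ U.ι).opensRange), ⟨e'⟩⟩

set_option maxHeartbeats 1600000 in
theorem isReflexive_dualizing (hS : RelCanon.IsSkMor (Y ↘ Spec (CommRingCat.of A)) 2)
    (hd : Cyc.HasRelDim (Y ↘ Spec (CommRingCat.of A)) d) (ω : Y.Modules)
    (hω : RelCanon.IsDualizingSheaf A Y d ω)
    (hG : ∀ y : Y, y ∉ RelCanon.gorLocus (Y ↘ Spec (CommRingCat.of A)) →
      (2 : WithBot ℕ∞) ≤ ringKrullDim (((Y ↘ Spec (CommRingCat.of A)).fiber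
        ((Y ↘ Spec (CommRingCat.of A)) y)).presheaf.stalk ((Y ↘ Spec (CommRingCat.of A)).asFiber y))) :
    RefHull.IsReflexive ω := by
  let f := Y ↘ Spec (CommRingCat.of A)
  haveI := hS.1
  haveI : IsLocallyNoetherian Y := LocallyOfFiniteType.isLocallyNoetherian f
  haveI : LocallyOfFinitePresentation f := LocallyOfFinitePresentation.iff_locallyOfFiniteType.mpr inferInstance
  have hωc : Coh.IsCoh ω := (isCoh_and_nontrivial d hd ω hω).1
  haveI : Coh.IsQCoh ω := hωc.1
  have hO : Coh.IsCoh (Coh.structureModule Y) := Groth.L16.CohClosedPush.isCoh_structure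
  haveI : Coh.IsQCoh (Coh.structureModule Y) := hO.1
  let D := RefHull.ddual ω
  have hD : Coh.IsCoh D := Groth.L15.Ref.isCoh_dual (Groth.L15.Ref.isCoh_dual hωc)
  haveI : Coh.IsQCoh D := hD.1
  let G := RelCanon.gorLocus f
  let φ : ω ⟶ D := RefHull.bidualMap ω
  have hgood : ∀ x ∈ G, Function.Bijective (stk φ x) := fun x hx => by
    obtain ⟨U, hxU, ⟨e⟩⟩ := invertibleAt_of_gor hd ω hω x hx
    have hU : PicF.IsInvertible (ω.restrict U.ι) := fun z => ⟨⊤, trivial,
      ⟨(Scheme.Modules.restrictFunctor _).mapIso e ≪≫ Scheme.Modules.restrictUnitIso _⟩⟩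
    haveI := Groth.L15.Ref.free_of_restrict ω hωc (Groth.L20.ResDescent.isFinLocFree_of_isInvertible hU) hxU
    haveI := Groth.L15.Ref.finite_stalk hωc x
    have h1 := (Groth.L15.Ref.bidualAt_bijective_iff hωc x).2
      (inferInstanceAs (Module.IsReflexive (Y.presheaf.stalk x) (ω.presheaf.stalk x)))
    rw [← Groth.L15.Ref.stalkMapₗ_bidual] at h1
    exact (Function.Bijective.of_comp_iff' (Groth.L15.Ref.evalStalk_bijective (RefHull.dual ω)
      (Coh.structureModule Y) (Groth.L15.Ref.isCoh_dual hωc) x) _).1 h1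
  have hntD : ∀ x ∉ G, NoTors (Y.presheaf.stalk x) (D.presheaf.stalk x) := fun x hx => by
    obtain ⟨b, hbm, c, -, hb, -⟩ := exists_pair_stalk f hS x (hG x hx)
    exact noTors_homSh (Groth.L15.Ref.isCoh_dual hωc) x
      (noTors_of_regular hbm (((Groth.L15.Ref.strE x).isSMulRegular_congr b).1 hb))
  haveI : Mono φ := mono_of_noTors φ fun x => (em (x ∈ G)).imp (fun hx => (hgood x hx).1)
    fun hx => noTors_dualizing hd ω hω x (le_trans (by norm_num) (hG x hx))
  let S : Set Y := Gᶜ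
  have hSc : IsClosed S := (Groth.L21.GorOpen.isOpen_gorenstein f).isClosed_compl
  rcases S.eq_empty_or_nonempty with hS0 | ⟨y₀, hy₀⟩
  · haveI : Epi φ := (Groth.L21.Mod.epi_iff_stalk_surjective φ).2 fun x =>
      (hgood x (not_not.1 fun hx => hS0.le hx)).2
    exact isIso_of_mono_of_epi φ
  have hfd : ∀ t, topologicalKrullDim ↥(f.fiber t) ≤ (d : WithBot ℕ∞) := fun t =>
    Groth.L10.TopDual.dim_le_of_components d fun Z hZ => (hd t Z hZ).le
  have hd2 : 2 ≤ d := by
    have h0 := (hG y₀ hy₀).trans ((ringKrullDim_stalk_eq_coheight _).trans_le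
      (le_trans ?_ (Groth.L10.FMK.krullDim_points.symm.trans_le (hfd (f y₀)))))
    · exact_mod_cast h0
    · exact Order.coheight_le_krullDim _
  obtain ⟨e, rfl⟩ : ∃ e, d = e + 2 := ⟨d - 2, by omega⟩
  have hdS : ∀ t, topologicalKrullDim ↥(f ⁻¹' {t} ∩ S) ≤ (e : WithBot ℕ∞) := by
    intro t
    have h1 := dim_le_of_coheight (Z := f.fiber t) (T := f.fiberι t ⁻¹' S) (c := 2)
      (hSc.preimage (f.fiberι t).continuous) (hfd t) fun z hz => by
        have key : ∀ (t' : Spec (CommRingCat.of A)) (_ : f (f.fiberι t z) = t') (z' : f.fiber t'),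
            f.fiberι t' z' = f.fiberι t z → (2 : WithBot ℕ∞) ≤ ringKrullDim ↑((f.fiber t').presheaf.stalk z') := by
          intro t' he z' hz'
          subst he
          obtain rfl : z' = f.asFiber (f.fiberι t z) :=
            (f.fiberι _).isEmbedding.injective (hz'.trans (Scheme.Hom.fiberι_asFiber f _).symm)
          exact hG _ hz
        exact key t ((f.range_fiberι t).le ⟨z, rfl⟩) z rfl
    refine le_trans ?_ (le_of_le_of_eq h1 (by simp))
    refine Topology.IsInducing.topologicalKrullDim_le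
      (f := fun w : ↥(f ⁻¹' {t} ∩ S) => (⟨(f.fiberHomeo t).symm ⟨w.1, w.2.1⟩, by
        show f.fiberι t ((f.fiberHomeo t).symm ⟨w.1, w.2.1⟩) ∈ S
        rw [Scheme.Hom.fiberι_fiberHomeo_symm]; exact w.2.2⟩ : ↥(f.fiberι t ⁻¹' S))) ?_
    exact Topology.IsInducing.codRestrict ((f.fiberHomeo t).symm.isInducing.comp
      (Topology.IsInducing.subtypeVal.codRestrict fun w => w.2.1)) _
  -- the cokernel
  have hC : Coh.IsCoh (cokernel φ) := by
    haveI := (Groth.L00.AlgQCoh.isQCoh_kernel_cokernel φ hωc.1 hD.1).2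
    exact ⟨inferInstance, Groth.L14.Quot.isFT_of_epi (cokernel.π φ) hD.2⟩
  have hCS : CohB1.support (cokernel φ) ⊆ S := fun x hx hxG => by
    haveI : Epi ((Groth.L00.Stk.F Y x).map φ) := (ModuleCat.epi_iff_surjective _).2 (hgood x hxG).2
    exact hx (ModuleCat.subsingleton_of_isZero
      ((isZero_cokernel_of_epi ((Groth.L00.Stk.F Y x).map φ)).of_iso (PreservesCokernel.iso _ φ)))
  let Sq := ShortComplex.mk φ (cokernel.π φ) (cokernel.condition φ)
  have hSq : Sq.ShortExact :=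
    { exact := ShortComplex.exact_of_g_is_cokernel _ (cokernelIsCokernel φ)
      mono_f := inferInstanceAs (Mono φ)
      epi_g := inferInstanceAs (Epi (cokernel.π φ)) }
  haveI hC1 : Subsingleton (Coh.HH Y Sq.X₃ (e + 1)) := subsingleton_HH_supp f _ hC S hSc hCS hdS (by omega)
  haveI hC2 : Subsingleton (Coh.HH Y Sq.X₃ (e + 2)) := subsingleton_HH_supp f _ hC S hSc hCS hdS (by omega)
  have hbij : Function.Bijective (Canon.HHlin A φ (e + 2)) := by
    refine ⟨(injective_iff_map_eq_zero _).2 fun z hz => ?_, fun z => ?_⟩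
    · obtain ⟨w, rfl⟩ := (exact_delta_hmap hSq (e + 1) z).1 hz
      rw [Subsingleton.elim w 0, map_zero]
    · obtain ⟨w, hw⟩ := (exact_hmap_hmap hSq (e + 2) z).1 (Subsingleton.elim _ _)
      exact ⟨w, hw⟩
  -- a retraction from the representing property
  obtain ⟨t, -, ht⟩ := (isDualizingSheaf_iff ω).1 hω
  let E := LinearEquiv.ofBijective _ hbij
  obtain ⟨ψ, hψ, -⟩ := ht D hD.1 (t ∘ₗ E.symm.toLinearMap)
  have h1 : φ ≫ ψ = 𝟙 ω := (ht ω hωc.1 t).unique (fun z => by
      rw [hmap_comp, ← hψ]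
      exact congrArg t (E.symm_apply_apply z).symm) fun z => by rw [hmap_id]
  have h2 : ψ ≫ φ = 𝟙 D := by
    refine sub_eq_zero.1 (hom_eq_zero_of_noTors _ fun x => (em (x ∈ G)).imp (fun hx => ?_) fun hx => hntD x hx)
    haveI : Epi ((Groth.L00.Stk.F Y x).map φ) := (ModuleCat.epi_iff_surjective _).2 (hgood x hx).2
    rw [← cancel_epi ((Groth.L00.Stk.F Y x).map φ), ← Functor.map_comp, Preadditive.comp_sub, reassoc_of% h1,
      Category.comp_id, sub_self, Functor.map_zero, comp_zero]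
  exact ⟨⟨ψ, h1, h2⟩⟩

end

end Groth.L10.RelCan
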