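import Groth.Agent.L10.RelCan.EW
import Groth.Agent.L10.TopDual.Repr
import Groth.Prelude.Def_Canon
import Groth.Agent.L17.BC.TensorAHom
import Groth.Agent.L17.BC.Sheaf
import Groth.Agent.L17.CohUnion.Extend
import Groth.Agent.L16.HomSh.ModPowSect
import Groth.Agent.L16.ProperFinite
import Groth.Agent.L00.AlgQCoh
import Groth.Agent.L10.TopDual.FieldDual
import Mathlib.RingTheory.Flat.EquationalCriterion

/-!
The right adjoint of top cohomology compared with tensoring the dualizing sheaf by a module.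
-/

set_option autoImplicit false
set_option linter.style.haveILetI false
set_option backward.isDefEq.respectTransparency false
set_option backward.isDefEq.respectTransparency.types false
set_option backward.defeqAttrib.useBackward true
universe u

open CategoryTheory CategoryTheory.Limits AlgebraicGeometry TopologicalSpace
open scoped TensorProduct

noncomputable section

namespace Groth.L10.RelCan

open Groth.L10.TopDual.Rep (cohFunctor)
open Groth.L16.CohLinear (hmap hmap_comp hmap_id)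
open Groth.L17.BC.TensorA (G SecFun bijective_tMap)
open Groth.L01.FlatCx (tMap tMap_tmul)
open EW (one el)

variable {A : Type u} [CommRing A] {X : Scheme.{u}} [X.Over (Spec (CommRingCat.of A))] {d : ℕ}

theorem isLeftAdjoint_cohFunctor [CompactSpace X] [QuasiSeparatedSpace X]
    (hd : ∀ M : X.Modules, Coh.IsQCoh M → Subsingleton (Coh.HH X M (d + 1))) :
    (cohFunctor (X := X) A d).IsLeftAdjoint := by
  haveI := Groth.L10.TopDual.Rep.preservesFinite (X := X) A hd
  haveI := Groth.L03.SurfDual.preservesColimits (cohFunctor (X := X) A d)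
    (fun J _ _ => Groth.L10.TopDual.Rep.preservesFiltered A d J)
  exact Groth.L17.QCohGab.isLeftAdjoint_of_preservesColimits X (cohFunctor (X := X) A d)

omit [X.Over (Spec (CommRingCat.of A))] in
theorem domLCongr_roundtrip {n : ℕ} (x : Fin n →₀ A) :
    (Finsupp.domLCongr Equiv.ulift.{u} : (ULift.{u} (Fin n) →₀ A) ≃ₗ[A] (Fin n →₀ A))
      ((Finsupp.domLCongr Equiv.ulift.{u}.symm : (Fin n →₀ A) ≃ₗ[A] (ULift.{u} (Fin n) →₀ A)) x) = x :=
  (Finsupp.domLCongr Equiv.ulift.{u} : (ULift.{u} (Fin n) →₀ A) ≃ₗ[A] (Fin n →₀ A)).apply_symm_apply x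

variable (A X d) [(cohFunctor (X := X) A d).IsLeftAdjoint]

/-- the right adjoint of top cohomology, as a functor to modules on the scheme -/
def RR : ModuleCat.{u} A ⥤ X.Modules :=
  (cohFunctor (X := X) A d).rightAdjoint ⋙ (QCohCat.isQCoh X).ι

theorem isQCoh_RR (N : ModuleCat.{u} A) : Coh.IsQCoh ((RR A X d).obj N) :=
  ((cohFunctor (X := X) A d).rightAdjoint.obj N).property

instance : (RR A X d).Additive := by
  haveI : (cohFunctor (X := X) A d).rightAdjoint.Additive :=
    (Adjunction.ofIsLeftAdjoint (cohFunctor (X := X) A d)).right_adjoint_additive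
  unfold RR; infer_instance

/-- the trace -/
def tr (N : ModuleCat.{u} A) : Coh.HH X ((RR A X d).obj N) d →ₗ[A] N :=
  ((Adjunction.ofIsLeftAdjoint (cohFunctor (X := X) A d)).counit.app N).hom

variable {A X d}

theorem tr_natural {N N' : ModuleCat.{u} A} (g : N ⟶ N') (z : Coh.HH X ((RR A X d).obj N) d) :
    tr A X d N' (hmap ((RR A X d).map g) d z) = g (tr A X d N z) :=
  by
  have h := (Adjunction.ofIsLeftAdjoint (cohFunctor (X := X) A d)).counit.naturality g
  have h' := LinearMap.congr_fun (congrArg ModuleCat.Hom.hom h) z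
  simp only [Functor.comp_map, Functor.id_map, ModuleCat.hom_comp, LinearMap.comp_apply] at h'
  exact h'


theorem tr_spec (N : ModuleCat.{u} A) (F : X.Modules) (hF : Coh.IsQCoh F) (ψ : Coh.HH X F d →ₗ[A] N) :
    ∃! φ : F ⟶ (RR A X d).obj N, ∀ z, ψ z = tr A X d N (hmap φ d z) := by
  let adj := Adjunction.ofIsLeftAdjoint (cohFunctor (X := X) A d)
  let F' : QCohCat.QCoh X := ⟨F, hF⟩
  let b := adj.homEquiv F' N
  have key : ∀ a : F' ⟶ (cohFunctor (X := X) A d).rightAdjoint.obj N, ∀ x,
      (b.symm a).hom x = tr A X d N (hmap a.hom d x) := by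
    intro a x
    show (b.symm a).hom x = _
    rw [Adjunction.homEquiv_counit]
    rfl
  refine ⟨(b (ModuleCat.ofHom ψ)).hom, fun x => ?_, fun φ hφ => ?_⟩
  · refine Eq.trans ?_ (key _ x)
    rw [Equiv.symm_apply_apply]
    rfl
  · refine congrArg (fun a : F' ⟶ _ => a.hom)
      (b.symm.injective (?_ : b.symm (ObjectProperty.homMk φ) = b.symm (b (ModuleCat.ofHom ψ))))
    rw [Equiv.symm_apply_apply]
    exact ModuleCat.hom_ext (LinearMap.ext fun x => (key (ObjectProperty.homMk φ) x).trans (hφ x).symm)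

theorem tr_ext {N : ModuleCat.{u} A} {F : X.Modules} (hF : Coh.IsQCoh F) (φ φ' : F ⟶ (RR A X d).obj N)
    (h : ∀ z, tr A X d N (hmap φ d z) = tr A X d N (hmap φ' d z)) : φ = φ' :=
  (tr_spec N F hF ((tr A X d N) ∘ₗ Canon.HHlin A φ d)).unique (fun _ => rfl) fun z => h z

omit [(cohFunctor (X := X) A d).IsLeftAdjoint] in
theorem hmap_smulMod (M : X.Modules) (a : A) (n : ℕ) (z : Coh.HH X M n) :
    hmap (Formal.smulMod A M a) n z = a • z := by
  rw [← Groth.L10.TopDual.hmap_smul_id M a n z, KLin.smul_id]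

theorem RR_smul_id (a : A) (N : ModuleCat.{u} A) :
    (RR A X d).map (a • 𝟙 N) = Formal.smulMod A ((RR A X d).obj N) a := by
  refine tr_ext (isQCoh_RR A X d N) _ _ fun z => ?_
  rw [tr_natural, hmap_smulMod, map_smul]
  rfl

variable (A X d)

/-- the dualizing sheaf over the base -/
abbrev ω₀ : X.Modules := (RR A X d).obj (one A)

instance : Coh.IsQCoh (ω₀ A X d) := isQCoh_RR A X d _

/-- `ω ⊗ A ≅ ω` -/
def e₁ : (G (A := A) (ω₀ A X d)).obj (one A) ≅ ω₀ A X d :=
  (Groth.L17.BC.TensorA.nonempty_G_one A X (ω₀ A X d)).some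

variable {A X d}

theorem exists_cmp (N : ModuleCat.{u} A) : ∃ γ : (G (A := A) (ω₀ A X d)).obj N ⟶ (RR A X d).obj N,
    ∀ n : N, (G (A := A) (ω₀ A X d)).map (el N n) ≫ γ = (e₁ A X d).hom ≫ (RR A X d).map (el N n) := by
  refine EW.exists_desc (G (A := A) (ω₀ A X d)) _ (fun m n => ?_) fun a n => ?_
  · rw [EW.el_add, Functor.map_add, Preadditive.comp_add]
  · rw [EW.el_smul, Functor.map_comp, RR_smul_id, Groth.L17.BC.TensorA.G_smul_id, ← Category.assoc,
      ← Category.assoc]
    exact congrArg (· ≫ _) (Groth.L16.Rees.smulModΓ_naturality _ _).symm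

/-- the comparison `ω ⊗ N ⟶ R N` -/
def cmp (N : ModuleCat.{u} A) : (G (A := A) (ω₀ A X d)).obj N ⟶ (RR A X d).obj N := (exists_cmp N).choose

theorem cmp_el (N : ModuleCat.{u} A) (n : N) :
    (G (A := A) (ω₀ A X d)).map (el N n) ≫ cmp N = (e₁ A X d).hom ≫ (RR A X d).map (el N n) :=
  (exists_cmp N).choose_spec n

theorem cmp_natural {N N' : ModuleCat.{u} A} (g : N ⟶ N') :
    (G (A := A) (ω₀ A X d)).map g ≫ cmp N' = cmp N ≫ (RR A X d).map g := by
  refine EW.hom_ext (G (A := A) (ω₀ A X d)) _ _ fun n => ?_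
  rw [← Category.assoc, ← Functor.map_comp, EW.el_comp, cmp_el, ← Category.assoc, cmp_el, Category.assoc,
    ← Functor.map_comp, EW.el_comp]

theorem cmp_one : cmp (one A) = (e₁ A X d).hom := by
  have h := cmp_el (X := X) (d := d) (one A) (1 : A)
  have h1 : el (one A) (1 : A) = 𝟙 (one A) := ModuleCat.hom_ext (LinearMap.ext_ring (one_smul A (1 : A)))
  rw [h1, CategoryTheory.Functor.map_id, CategoryTheory.Functor.map_id, Category.id_comp, Category.comp_id] at h
  exact h

section Sections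

variable {W : X.Opens} (hW : IsAffineOpen W)

omit [(cohFunctor (X := X) A d).IsLeftAdjoint] in
/-- sections of `F ⊗ N` come from finite free modules -/
theorem exists_finFree (F : X.Modules) [Coh.IsQCoh F] (hW : IsAffineOpen W) (N : ModuleCat.{u} A)
    (z : Γ((G (A := A) F).obj N, W)) :
    ∃ (ι : Type u) (_ : Fintype ι) (g : ModuleCat.of A (ι →₀ A) ⟶ N)
      (l : Γ((G (A := A) F).obj (ModuleCat.of A (ι →₀ A)), W)), ((G (A := A) F).map g).app W l = z := by
  obtain ⟨t, ht⟩ := (bijective_tMap (A := A) F hW N).2 z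
  obtain ⟨S, rfl⟩ := TensorProduct.exists_finset t
  let g : ModuleCat.of A ((↥S) →₀ A) ⟶ N := ModuleCat.ofHom (Finsupp.linearCombination A fun i : ↥S => i.1.2)
  refine ⟨↥S, inferInstance, g,
    ∑ i : ↥S, ((G (A := A) F).map (el _ (Finsupp.single i (1 : A)))).app W i.1.1, ?_⟩
  rw [map_sum]
  refine Eq.trans ?_ ht
  rw [map_sum, ← Finset.sum_coe_sort S]
  refine Finset.sum_congr rfl fun i _ => ?_
  rw [tMap_tmul]
  change ((G (A := A) F).map (el _ (Finsupp.single i (1 : A))) ≫ (G (A := A) F).map g).app W i.1.1 = _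
  rw [← Functor.map_comp, EW.el_comp]
  have hgi : g (Finsupp.single i (1 : A)) = i.1.2 := by simp [g]
  rw [hgi]
  rfl

omit [(cohFunctor (X := X) A d).IsLeftAdjoint] in
theorem id_eq_sum (ι : Type u) [Fintype ι] :
    𝟙 (ModuleCat.of A (ι →₀ A)) = ∑ i : ι,
      (ModuleCat.ofHom (Finsupp.lapply i) : ModuleCat.of A (ι →₀ A) ⟶ one A) ≫ el _ (Finsupp.single i (1 : A)) := by
  classical
  refine ModuleCat.hom_ext ?_
  rw [ModuleCat.hom_sum]
  refine LinearMap.ext fun x => Finsupp.ext fun j => ?_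
  simp [el, Finsupp.single_apply, Finset.sum_apply']

omit [(cohFunctor (X := X) A d).IsLeftAdjoint] in
theorem app_eq_sum (T : ModuleCat.{u} A ⥤ X.Modules) [T.Additive] (ι : Type u) [Fintype ι]
    (s : Γ(T.obj (ModuleCat.of A (ι →₀ A)), W)) :
    s = ∑ i : ι, (T.map (el _ (Finsupp.single i (1 : A)))).app W
      ((T.map (ModuleCat.ofHom (Finsupp.lapply i) : ModuleCat.of A (ι →₀ A) ⟶ one A)).app W s) := by
  have h := congrArg T.map (id_eq_sum (A := A) ι)
  rw [CategoryTheory.Functor.map_id, Functor.map_sum] at h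
  have h2 := congrArg (fun φ : T.obj (ModuleCat.of A (ι →₀ A)) ⟶ T.obj (ModuleCat.of A (ι →₀ A)) => φ.app W s) h
  refine h2.trans ?_
  let ev : (T.obj (ModuleCat.of A (ι →₀ A)) ⟶ T.obj (ModuleCat.of A (ι →₀ A))) →+
      Γ(T.obj (ModuleCat.of A (ι →₀ A)), W) :=
    AddMonoidHom.mk' (fun φ => φ.app W s) fun _ _ => rfl
  refine (map_sum ev _ _).trans (Finset.sum_congr rfl fun i _ => ?_)
  change (T.map (_ ≫ _)).app W s = _
  rw [Functor.map_comp]
  rfl

theorem bijective_cmp_finFree (hW : IsAffineOpen W) (ι : Type u) [Fintype ι] :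
    Function.Bijective ((cmp (X := X) (d := d) (ModuleCat.of A (ι →₀ A))).app W) := by
  let L := ModuleCat.of A (ι →₀ A)
  have hnat : ∀ {N N' : ModuleCat.{u} A} (g : N ⟶ N') (l : Γ((G (A := A) (ω₀ A X d)).obj N, W)),
      (cmp N').app W (((G (A := A) (ω₀ A X d)).map g).app W l) = ((RR A X d).map g).app W ((cmp N).app W l) :=
    fun g l => congr(($(cmp_natural g)).app W l)
  have hone : Function.Bijective ((cmp (X := X) (d := d) (one A)).app W) := by
    rw [cmp_one]
    exact ⟨fun a b h => (congr(($((e₁ A X d).hom_inv_id)).app W a)).symm.trans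
        ((congrArg ((e₁ A X d).inv.app W) h).trans (congr(($((e₁ A X d).hom_inv_id)).app W b))),
      fun s => ⟨(e₁ A X d).inv.app W s, congr(($((e₁ A X d).inv_hom_id)).app W s)⟩⟩
  constructor
  · refine (injective_iff_map_eq_zero _).2 fun l hl => ?_
    rw [app_eq_sum (G (A := A) (ω₀ A X d)) ι l]
    refine Finset.sum_eq_zero fun i _ => ?_
    have h0 : ((G (A := A) (ω₀ A X d)).map (ModuleCat.ofHom (Finsupp.lapply i) : L ⟶ one A)).app W l = 0 := by
      refine hone.1 ?_
      rw [hnat, map_zero]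
      exact (congrArg _ hl).trans (map_zero _)
    exact (congrArg _ h0).trans (map_zero _)
  · intro s
    choose m hm using fun i : ι =>
      hone.2 (((RR A X d).map (ModuleCat.ofHom (Finsupp.lapply i) : L ⟶ one A)).app W s)
    refine ⟨∑ i : ι, ((G (A := A) (ω₀ A X d)).map (el L (Finsupp.single i (1 : A)))).app W (m i), ?_⟩
    rw [map_sum]
    refine Eq.trans ?_ (app_eq_sum (RR A X d) ι s).symm
    exact Finset.sum_congr rfl fun i _ => (hnat _ _).trans (congrArg _ (hm i))

variable [IsNoetherianRing A] [IsProper (X ↘ Spec (CommRingCat.of A))]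

/-- for a flat module the comparison is an isomorphism -/
theorem isIso_cmp_of_flat (N : ModuleCat.{u} A) [Module.Flat A N] : IsIso (cmp (X := X) (d := d) N) := by
  haveI : IsLocallyNoetherian X := LocallyOfFiniteType.isLocallyNoetherian (X ↘ Spec (CommRingCat.of A))
  refine Groth.L17.BC.Classes.isIso_of_affine _ fun y => ⟨⊤, trivial, fun W _ hW => ?_⟩
  let T := G (A := A) (ω₀ A X d)
  have hnat : ∀ {N N' : ModuleCat.{u} A} (g : N ⟶ N') (l : Γ(T.obj N, W)),
      (cmp N').app W ((T.map g).app W l) = ((RR A X d).map g).app W ((cmp N).app W l) :=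
    fun g l => congr(($(cmp_natural g)).app W l)
  constructor
  · refine (injective_iff_map_eq_zero _).2 fun z hz => ?_
    obtain ⟨ι, _, g, l, rfl⟩ := exists_finFree (A := A) (ω₀ A X d) hW N z
    rw [hnat] at hz
    obtain ⟨k, hk⟩ := Groth.L16.HomSh.exists_kernel_lift ((RR A X d).map g) _ hz
    haveI : Coh.IsQCoh (kernel ((RR A X d).map g)) :=
      (Groth.L00.AlgQCoh.isQCoh_kernel_cokernel _ (isQCoh_RR A X d _) (isQCoh_RR A X d _)).1
    obtain ⟨E, i, -, hE, k', hk'⟩ := Groth.L17.CohUnion.exists_coh_submodule _ hW k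
    let j : E ⟶ (RR A X d).obj (ModuleCat.of A (ι →₀ A)) := i ≫ kernel.ι _
    let ψ : Coh.HH X E d →ₗ[A] (ι →₀ A) := tr A X d _ ∘ₗ Canon.HHlin A j d
    have hψ : g.hom ∘ₗ ψ = 0 := LinearMap.ext fun z => by
      refine (tr_natural g (hmap j d z)).symm.trans ?_
      rw [← hmap_comp, show j ≫ (RR A X d).map g = 0 by simp [j]]
      refine (congrArg _ ?_).trans (map_zero _)
      exact Groth.L10.TopDual.hmap_zero d z
    haveI := Groth.L16.ProperFinite.finite_HH A hE d
    obtain ⟨n, a, y, hga, haψ⟩ := Module.Flat.exists_factorization_of_comp_eq_zero_of_free hψ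
    let h : ModuleCat.of A (ι →₀ A) ⟶ ModuleCat.of A (ULift.{u} (Fin n) →₀ A) :=
      ModuleCat.ofHom ((Finsupp.domLCongr Equiv.ulift.symm).toLinearMap ∘ₗ a)
    let g' : ModuleCat.of A (ULift.{u} (Fin n) →₀ A) ⟶ N :=
      ModuleCat.ofHom (y ∘ₗ (Finsupp.domLCongr Equiv.ulift).toLinearMap)
    have hgh : g = h ≫ g' := ModuleCat.hom_ext (LinearMap.ext fun x => by
      refine (LinearMap.congr_fun hga x).trans ?_
      exact (congrArg y (domLCongr_roundtrip (a x))).symm)
    have hjh : j ≫ (RR A X d).map h = 0 := by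
      refine tr_ext hE.1 _ _ fun z => ?_
      rw [hmap_comp, tr_natural, Groth.L10.TopDual.hmap_zero, map_zero]
      change (Finsupp.domLCongr Equiv.ulift.{u}.symm : (Fin n →₀ A) ≃ₗ[A] (ULift.{u} (Fin n) →₀ A)) (a (ψ z)) = 0
      rw [show a (ψ z) = 0 from LinearMap.congr_fun haψ z, map_zero]
    have hl : (T.map h).app W l = 0 := by
      refine (bijective_cmp_finFree hW _).1 ?_
      rw [hnat, map_zero, ← hk, ← hk']
      exact congr(($hjh).app W k')
    rw [hgh, Functor.map_comp]
    exact (congrArg ((T.map g').app W).hom hl).trans (map_zero ((T.map g').app W).hom)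
  · intro s
    haveI := isQCoh_RR A X d N
    obtain ⟨E, i, -, hE, k', hk'⟩ := Groth.L17.CohUnion.exists_coh_submodule _ hW s
    haveI := Groth.L16.ProperFinite.finite_HH A hE d
    haveI : Module.FinitePresentation A (Coh.HH X E d) := Module.finitePresentation_of_finite A _
    obtain ⟨n, h₂, h₃, hψ⟩ :=
      Module.Flat.exists_factorization_of_finitePresentation (tr A X d N ∘ₗ Canon.HHlin A i d)
    let L := ModuleCat.of A (ULift.{u} (Fin n) →₀ A)
    let g : L ⟶ N := ModuleCat.ofHom (h₃ ∘ₗ (Finsupp.domLCongr Equiv.ulift).toLinearMap)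
    obtain ⟨φ, hφ, -⟩ := tr_spec L E hE.1 ((Finsupp.domLCongr Equiv.ulift.symm).toLinearMap ∘ₗ h₂)
    have hi : i = φ ≫ (RR A X d).map g := by
      refine tr_ext hE.1 _ _ fun z => ?_
      rw [hmap_comp, tr_natural, ← hφ z]
      refine (LinearMap.congr_fun hψ z).trans ?_
      exact (congrArg h₃ (domLCongr_roundtrip (h₂ z))).symm
    obtain ⟨l, hl⟩ := (bijective_cmp_finFree hW (ULift.{u} (Fin n))).2 (φ.app W k')
    refine ⟨(T.map g).app W l, ?_⟩
    rw [hnat, hl, ← hk', hi]
    rfl

end Sections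

end Groth.L10.RelCan
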