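import Groth.Agent.L16.AffineBC.Pullback
import Groth.Agent.L16.AffineBC.Local
import Groth.Agent.L16.AffineBC.OverBase
import Groth.Agent.L16.QcqsPush
import Groth.Agent.L00.AlgQCoh
import Groth.Agent.L16.Rees.SmulMod
import Groth.Agent.L29.DCoh.RpushAffine
import Groth.Agent.L17.FlatBase.CxTools

/-!
Direct images along the projection of a base change of affine bases: sections and full faithfulness.
-/

set_option autoImplicit false
set_option linter.style.haveILetI false

universe u

open CategoryTheory CategoryTheory.Limits AlgebraicGeometry TopologicalSpace Opposite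
open scoped TensorProduct

noncomputable section

namespace Groth.L10.RelCan.Sections

open Groth.L18.Frame (rs ro pull rs_self)
open Groth.L16.AffineBC (scal isBaseChange_pull hom_ext_affine)

variable {A : Type u} [CommRing A] {B : Type u} [CommRing B] [Algebra A B] {X X' : Scheme.{u}}
  [X.Over (Spec (CommRingCat.of A))] [X'.Over (Spec (CommRingCat.of B))] {p : X' ⟶ X}

/-- the unit -/
abbrev unit (p : X' ⟶ X) (F : X.Modules) : F ⟶ (Coh.push p).obj ((Scheme.Modules.pullback p).obj F) :=
  (Scheme.Modules.pullbackPushforwardAdjunction p).unit.app F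

variable (B) in
/-- multiplication by an element of the new base on a direct image -/
abbrev mul (p : X' ⟶ X) (M : X'.Modules) (b : B) : (Coh.push p).obj M ⟶ (Coh.push p).obj M :=
  (Coh.push p).map (Formal.smulMod B M b)

variable (hp : IsPullback p (X' ↘ Spec (CommRingCat.of B)) (X ↘ Spec (CommRingCat.of A))
  (Spec.map (CommRingCat.ofHom (algebraMap A B))))

include hp in
theorem isAffineHom : IsAffineHom p := MorphismProperty.of_isPullback hp.flip inferInstance

include hp in
theorem isPushout_sections {U : X.Opens} (hU : IsAffineOpen U) :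
    IsPushout (CommRingCat.ofHom (scal A X U)) (CommRingCat.ofHom (algebraMap A B))
      (p.app U) (CommRingCat.ofHom (scal B X' (p ⁻¹ᵁ U))) := by
  haveI := isAffineHom hp
  let U' := p ⁻¹ᵁ U
  haveI : IsAffine U.toScheme := hU
  have hpb : IsPullback (p ∣_ U) (U'.ι ≫ (X' ↘ Spec (CommRingCat.of B)))
      (U.ι ≫ (X ↘ Spec (CommRingCat.of A))) (Spec.map (CommRingCat.ofHom (algebraMap A B))) :=
    (isPullback_morphismRestrict p U).paste_vert hp
  refine (isPushout_appTop_of_isPullback hpb).of_iso (Scheme.ΓSpecIso (CommRingCat.of A)) U.topIso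
    (Scheme.ΓSpecIso (CommRingCat.of B)) U'.topIso ?_ ?_ ?_ ?_
  · symm
    rw [← Iso.eq_inv_comp, Scheme.Hom.comp_appTop, Scheme.Opens.ι_appTop, Scheme.Opens.topIso_hom]
    erw [Category.assoc]
    erw [← Functor.map_comp]
    rfl
  · exact Scheme.ΓSpecIso_naturality (CommRingCat.ofHom (algebraMap A B))
  · rw [Scheme.Hom.appTop, morphismRestrict_app', Scheme.Hom.app_eq_appLE, Scheme.Opens.topIso_hom,
      Scheme.Opens.topIso_hom]
    exact (Scheme.Hom.appLE_map p _ _).trans (Scheme.Hom.map_appLE p _ _).symm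
  · symm
    rw [← Iso.eq_inv_comp, Scheme.Hom.comp_appTop, Scheme.Opens.ι_appTop, Scheme.Opens.topIso_hom]
    erw [Category.assoc]
    erw [← Functor.map_comp]
    rfl

include hp in
/-- sections of `p_* p^* F` over an affine open are generated freely by the multiples of the unit -/
theorem exists_equiv (F : X.Modules) [Coh.IsQCoh F] {U : X.Opens} (hU : IsAffineOpen U) :
    letI := Module.compHom Γ(F, U) (scal A X U)
    ∃ E : B ⊗[A] Γ(F, U) ≃+ Γ((Coh.push p).obj ((Scheme.Modules.pullback p).obj F), U),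
      ∀ (b : B) (m : Γ(F, U)),
        E (b ⊗ₜ m) = (mul B p ((Scheme.Modules.pullback p).obj F) b).app U ((unit p F).app U m) := by
  haveI := isAffineHom hp
  letI : Module A Γ(F, U) := Module.compHom Γ(F, U) (scal A X U)
  let U' := p ⁻¹ᵁ U
  let P := (Scheme.Modules.pullback p).obj F
  letI : Algebra A Γ(X, U) := (scal A X U).toAlgebra
  letI : Algebra B Γ(X', U') := (scal B X' U').toAlgebra
  letI : Algebra Γ(X, U) Γ(X', U') := (p.appLE U U' le_rfl).hom.toAlgebra
  letI : Algebra A Γ(X', U') := ((scal B X' U').comp (algebraMap A B)).toAlgebra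
  haveI : IsScalarTower A B Γ(X', U') := IsScalarTower.of_algebraMap_eq fun _ => rfl
  have hpo := isPushout_sections hp hU
  haveI : IsScalarTower A Γ(X, U) Γ(X', U') := IsScalarTower.of_algebraMap_eq fun a => by
    show scal B X' U' (algebraMap A B a) = p.appLE U U' le_rfl (scal A X U a)
    rw [← Scheme.Hom.app_eq_appLE]
    exact (ConcreteCategory.congr_hom hpo.w a).symm
  haveI : IsScalarTower A Γ(X, U) Γ(F, U) := IsScalarTower.of_algebraMap_smul fun _ _ => rfl
  haveI : Algebra.IsPushout A B Γ(X, U) Γ(X', U') := by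
    refine CommRingCat.isPushout_iff_isPushout.1 ?_
    have : CommRingCat.ofHom (algebraMap Γ(X, U) Γ(X', U')) = p.app U := p.app_eq_appLE.symm
    rw [this]
    exact hpo.flip
  letI : Module Γ(X, U) Γ(P, U') := Module.compHom Γ(P, U') (p.appLE U U' le_rfl).hom
  haveI : IsScalarTower Γ(X, U) Γ(X', U') Γ(P, U') := IsScalarTower.of_algebraMap_smul fun _ _ => rfl
  have hbc := isBaseChange_pull p F hU (hU.preimage p) (le_rfl : U' ≤ p ⁻¹ᵁ U)
  let E : B ⊗[A] Γ(F, U) ≃+ Γ(P, U') :=
    (Algebra.IsPushout.cancelBaseChange A B Γ(X, U) Γ(X', U') Γ(F, U)).symm.toAddEquiv.trans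
      hbc.equiv.toAddEquiv
  refine ⟨E, fun b m => ?_⟩
  show hbc.equiv ((Algebra.IsPushout.cancelBaseChange A B Γ(X, U) Γ(X', U') Γ(F, U)).symm (b ⊗ₜ m)) = _
  rw [Algebra.IsPushout.cancelBaseChange_symm_tmul, IsBaseChange.equiv_tmul]
  show algebraMap B Γ(X', U') b • rs P le_rfl (pull p F U m) = _
  rw [rs_self]
  exact (Coh.smulAb_app P (Coh.toGlobal (X' ↘ Spec (CommRingCat.of B)) b) (op U') _).symm

/-- direct image along an affine morphism is faithful on quasi-coherent modules -/
theorem eq_zero_of_push {p : X' ⟶ X} [IsAffineHom p] {M N : X'.Modules} (hM : Coh.IsQCoh M) (hN : Coh.IsQCoh N)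
    (f : M ⟶ N) (h : ∀ U : X.Opens, IsAffineOpen U → ∀ m : Γ(M, p ⁻¹ᵁ U), f.app (p ⁻¹ᵁ U) m = 0) : f = 0 := by
  have hK := (Groth.L00.AlgQCoh.isQCoh_kernel_cokernel f hM hN).1
  have hI : Coh.IsQCoh (cokernel (kernel.ι f)) :=
    (Groth.L00.AlgQCoh.isQCoh_kernel_cokernel (kernel.ι f) hK hM).2
  haveI := hM
  haveI := hI
  let π := cokernel.π (kernel.ι f)
  let i : cokernel (kernel.ι f) ⟶ N := Abelian.factorThruCoimage f
  have hfac : π ≫ i = f := Abelian.coimage.fac f
  haveI : Mono i := inferInstanceAs (Mono (Abelian.factorThruCoimage f))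
  have hz : IsZero ((Scheme.Modules.pushforward p).obj (cokernel (kernel.ι f))) := by
    rw [IsZero.iff_id_eq_zero]
    refine hom_ext_affine _ _ fun U hU s => ?_
    obtain ⟨m, rfl⟩ := Groth.L16.AffineBC.surjective_app_of_epi π (hU.preimage p)
      (show Γ(cokernel (kernel.ι f), p ⁻¹ᵁ U) from s)
    have h1 : i.app (p ⁻¹ᵁ U) (π.app (p ⁻¹ᵁ U) m) = 0 := by
      rw [← h U hU m]
      exact congr(($hfac).app (p ⁻¹ᵁ U) m)
    have h2 : π.app (p ⁻¹ᵁ U) m = 0 :=
      Groth.L17.CxTools.injective_app i (p ⁻¹ᵁ U) (h1.trans (map_zero _).symm)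
    change π.app (p ⁻¹ᵁ U) m = 0
    exact h2
  have hzero := Groth.L29.DC.RpushQC.isZero_of_isZero_push p _ hI hz
  rw [← hfac, hzero.eq_of_src i 0, comp_zero]

theorem push_injective {p : X' ⟶ X} [IsAffineHom p] {M N : X'.Modules} (hM : Coh.IsQCoh M) (hN : Coh.IsQCoh N)
    (f g : M ⟶ N) (h : (Coh.push p).map f = (Coh.push p).map g) : f = g := by
  rw [← sub_eq_zero]
  refine eq_zero_of_push (p := p) hM hN _ fun U hU m => ?_
  change f.app (p ⁻¹ᵁ U) m - g.app (p ⁻¹ᵁ U) m = 0
  rw [sub_eq_zero]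
  exact congr(($h).app U m)

include hp in
/-- a map of direct images linear over the new base comes from upstairs -/
theorem exists_lift {F M : X'.Modules} (hF : Coh.IsQCoh F) (hM : Coh.IsQCoh M)
    (Φ : (Coh.push p).obj F ⟶ (Coh.push p).obj M) (hΦ : ∀ b : B, mul B p F b ≫ Φ = Φ ≫ mul B p M b) :
    ∃ φ : F ⟶ M, (Coh.push p).map φ = Φ := by
  haveI := isAffineHom hp
  haveI := hF
  let adj := Scheme.Modules.pullbackPushforwardAdjunction p
  haveI : Coh.IsQCoh ((Coh.push p).obj F) := Groth.L16.QcqsPush.isQCoh_push F p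
  let G := (Scheme.Modules.pullback p).obj ((Coh.push p).obj F)
  haveI hG : Coh.IsQCoh G := Groth.L16.AffineBC.isQCoh_pullback p _
  let ε : G ⟶ F := adj.counit.app F
  let φ' : G ⟶ M := (Scheme.Modules.pullback p).map Φ ≫ adj.counit.app M
  have hηε : unit p ((Coh.push p).obj F) ≫ (Coh.push p).map ε = 𝟙 _ := adj.right_triangle_components F
  have hηφ : unit p ((Coh.push p).obj F) ≫ (Coh.push p).map φ' = Φ := by
    have h1 := (adj.homEquiv_unit ((Coh.push p).obj F) M φ').symm
    refine h1.trans ?_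
    rw [show φ' = (adj.homEquiv _ _).symm Φ from (adj.homEquiv_counit _ _ _).symm, Equiv.apply_symm_apply]
  have hmul : ∀ {N N' : X'.Modules} (k : N ⟶ N') (b : B),
      mul B p N b ≫ (Coh.push p).map k = (Coh.push p).map k ≫ mul B p N' b := fun k b => by
    rw [← Functor.map_comp, ← Functor.map_comp]
    exact congrArg _ (Groth.L16.Rees.smulModΓ_naturality k _)
  -- sections over preimages of affines
  have key : ∀ (U : X.Opens), IsAffineOpen U → ∀ z : Γ((Coh.push p).obj G, U),
      ((Coh.push p).map φ').app U z = Φ.app U (((Coh.push p).map ε).app U z) := by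
    intro U hU z
    letI : Module A Γ((Coh.push p).obj F, U) := Module.compHom Γ((Coh.push p).obj F, U) (scal A X U)
    obtain ⟨E, hE⟩ := exists_equiv hp ((Coh.push p).obj F) hU
    obtain ⟨t, rfl⟩ := E.surjective z
    induction t using TensorProduct.induction_on with
    | zero => rw [map_zero, map_zero, map_zero, map_zero]
    | add a b ha hb => rw [map_add, map_add, map_add, map_add, ha, hb]
    | tmul b s =>
      rw [hE]
      have e1 : (mul B p G b ≫ (Coh.push p).map φ') = (Coh.push p).map φ' ≫ mul B p M b := hmul φ' b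
      have e2 : (mul B p G b ≫ (Coh.push p).map ε) = (Coh.push p).map ε ≫ mul B p F b := hmul ε b
      have a1 := congr(($e1).app U ((unit p ((Coh.push p).obj F)).app U s))
      have a2 := congr(($e2).app U ((unit p ((Coh.push p).obj F)).app U s))
      refine a1.trans (Eq.trans ?_ (congrArg (Φ.app U) a2).symm)
      change (mul B p M b).app U ((unit p ((Coh.push p).obj F) ≫ (Coh.push p).map φ').app U s) =
        (mul B p F b ≫ Φ).app U ((unit p ((Coh.push p).obj F) ≫ (Coh.push p).map ε).app U s)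
      rw [hηφ, hηε, hΦ b]
      rfl
  have hsec : ∀ (U : X.Opens) (s : Γ((Coh.push p).obj F, U)),
      ((Coh.push p).map ε).app U ((unit p ((Coh.push p).obj F)).app U s) = s := fun U s =>
    congr(($hηε).app U s)
  haveI : Epi ε := by
    refine Preadditive.epi_of_cokernel_zero ?_
    refine eq_zero_of_push (p := p) hF (Groth.L00.AlgQCoh.isQCoh_kernel_cokernel ε hG hF).2 _ fun U hU m => ?_
    rw [← hsec U m]
    change (ε ≫ cokernel.π ε).app (p ⁻¹ᵁ U) _ = 0
    rw [cokernel.condition]
    rfl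
  have hker : kernel.ι ε ≫ φ' = 0 := by
    refine eq_zero_of_push (p := p) (Groth.L00.AlgQCoh.isQCoh_kernel_cokernel ε hG hF).1 hM _ fun U hU m => ?_
    refine (key U hU ((kernel.ι ε).app (p ⁻¹ᵁ U) m)).trans ?_
    rw [show ((Coh.push p).map ε).app U ((kernel.ι ε).app (p ⁻¹ᵁ U) m) = 0 from
      congr(($(kernel.condition ε)).app (p ⁻¹ᵁ U) m), map_zero]
    rfl
  obtain ⟨φ, hφ⟩ := CokernelCofork.IsColimit.desc'
    (Abelian.epiIsCokernelOfKernel (Fork.ofι (kernel.ι ε) (by simp)) (kernelIsKernel ε)) φ' hker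
  change ε ≫ φ = φ' at hφ
  refine ⟨φ, ?_⟩
  rw [← hηφ, ← hφ, Functor.map_comp, ← Category.assoc, hηε, Category.id_comp]

end Groth.L10.RelCan.Sections
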