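import Groth.Agent.L10.RelCan.Basic
import Groth.Agent.L10.RelCan.Compare
import Groth.Agent.L10.RelCan.AffineCoh
import Groth.Agent.L10.RelCan.Sections

/-!
Base change of the dualizing sheaf over affine bases.
-/

set_option autoImplicit false
set_option backward.defeqAttrib.useBackward true
set_option backward.isDefEq.respectTransparency false
set_option backward.isDefEq.respectTransparency.types false
set_option linter.style.haveILetI false
universe u

open CategoryTheory CategoryTheory.Limits AlgebraicGeometry TopologicalSpace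
open scoped TensorProduct

noncomputable section

namespace Groth.L10.RelCan

open Groth.L10.TopDual.Rep (cohFunctor)
open Groth.L16.CohLinear (hmap hmap_comp hmap_id)
open Groth.L17.BC.TensorA (G SecFun bijective_tMap)
open Groth.L01.FlatCx (tMap tMap_tmul)
open EW (one el)
open Sections (unit mul)

variable {A : Type u} [CommRing A] {B : Type u} [CommRing B] [Algebra A B] {X X' : Scheme.{u}}
  [X.Over (Spec (CommRingCat.of A))] [X'.Over (Spec (CommRingCat.of B))] {p : X' ⟶ X} {d : ℕ}

variable (A X d) in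
theorem isDualizingSheaf_ω₀ [(cohFunctor (X := X) A d).IsLeftAdjoint] :
    RelCanon.IsDualizingSheaf A X d (ω₀ A X d) :=
  (isDualizingSheaf_iff _).2 ⟨tr A X d (one A), isQCoh_RR A X d _, fun F hF ψ => tr_spec (one A) F hF ψ⟩

variable (hp : IsPullback p (X' ↘ Spec (CommRingCat.of B)) (X ↘ Spec (CommRingCat.of A))
  (Spec.map (CommRingCat.ofHom (algebraMap A B))))

include hp in
theorem smulMod_push (M : X'.Modules) (a : A) :
    Formal.smulMod A ((Coh.push p).obj M) a = mul B p M (algebraMap A B a) := by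
  change Formal.smulModΓ _ _ = (Coh.push p).map (Formal.smulModΓ _ _)
  rw [Groth.L16.Rees.smulModΓ_push, ← Groth.L29.BCAdj.toGlobal_square (algebraMap A B) p hp.w a]
  rfl

theorem mul_comp (M : X'.Modules) (b c : B) : mul B p M b ≫ mul B p M c = mul B p M (c * b) := by
  rw [← Functor.map_comp]
  refine congrArg _ (Scheme.Modules.hom_ext _ _ fun U => ?_)
  ext s
  simp only [Scheme.Modules.Hom.comp_app, ConcreteCategory.comp_apply, Groth.L16.HomSh.smulMod_app, map_mul,
    mul_smul]

theorem mul_add (M : X'.Modules) (b c : B) [(Coh.push p).Additive] :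
    mul B p M (b + c) = mul B p M b + mul B p M c := by
  rw [← Functor.map_add]
  exact congrArg _ (Groth.L16.HomSh.smulMod_add M b c)

variable [(cohFunctor (X := X) A d).IsLeftAdjoint]

set_option maxHeartbeats 1600000 in
include hp in
/-- where the comparison at the new base is invertible, the dualizing sheaf commutes with the base change -/
theorem isDualizingSheaf_baseChange [IsIso (cmp (X := X) (d := d) (ModuleCat.of A B))]
    (ω : X.Modules) (hω : RelCanon.IsDualizingSheaf A X d ω) :
    RelCanon.IsDualizingSheaf B X' d ((Scheme.Modules.pullback p).obj ω) := by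
  haveI := Sections.isAffineHom hp
  obtain ⟨e₀⟩ := nonempty_iso (isDualizingSheaf_ω₀ A X d) hω
  refine isDualizingSheaf_of_iso ((Scheme.Modules.pullback p).mapIso e₀) ?_
  haveI := Groth.L17.PushQCoh.additive_push p
  let w₀ := ω₀ A X d
  let NB : ModuleCat.{u} A := ModuleCat.of A B
  let P := (Scheme.Modules.pullback p).obj w₀
  have hP : Coh.IsQCoh P := Groth.L16.AffineBC.isQCoh_pullback p w₀
  let M := (Coh.push p).obj P
  haveI := hP
  have hM : Coh.IsQCoh M := Groth.L16.QcqsPush.isQCoh_push P p
  let T := G (A := A) w₀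
  -- `ω ⊗ B ≅ p_* p^* ω`
  obtain ⟨κ, hκ⟩ : ∃ κ : T.obj NB ⟶ M, ∀ b : B, T.map (el NB b) ≫ κ = (e₁ A X d).hom ≫ unit p w₀ ≫ mul B p P b := by
    refine EW.exists_desc (N := NB) T (fun b : NB => (e₁ A X d).hom ≫ unit p w₀ ≫ mul B p P b) (fun b c => ?_) fun a b => ?_
    · rw [mul_add, Preadditive.comp_add, Preadditive.comp_add]
    · rw [Groth.L17.BC.TensorA.G_smul_id, Algebra.smul_def, ← mul_comp, ← smulMod_push hp]
      change _ = Formal.smulModΓ _ _ ≫ _
      rw [Groth.L16.Rees.smulModΓ_naturality, Category.assoc, Category.assoc]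
      rfl
  haveI : IsIso κ := by
    refine Groth.L17.BC.Classes.isIso_of_affine _ fun y => ⟨⊤, trivial, fun U _ hU => ?_⟩
    letI : Module A Γ(w₀, U) := Module.compHom Γ(w₀, U) (Groth.L16.AffineBC.scal A X U)
    obtain ⟨E, hE⟩ := Sections.exists_equiv hp w₀ hU
    let ε : (SecFun (A := A) w₀ U).obj (ModuleCat.of A A) ≃ₗ[A] Γ(w₀, U) :=
      { toFun := fun s => (e₁ A X d).hom.app U s
        invFun := fun s => (e₁ A X d).inv.app U s
        left_inv := fun s => congr(($((e₁ A X d).hom_inv_id)).app U s)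
        right_inv := fun s => congr(($((e₁ A X d).inv_hom_id)).app U s)
        map_add' := fun a b => map_add ((e₁ A X d).hom.app U).hom a b
        map_smul' := fun a s => (e₁ A X d).hom.app_smul _ s }
    let τ : (SecFun (A := A) w₀ U).obj (ModuleCat.of A A) ⊗[A] NB ≃+ B ⊗[A] Γ(w₀, U) :=
      ((TensorProduct.congr ε (LinearEquiv.refl A B)).trans (TensorProduct.comm A Γ(w₀, U) B)).toAddEquiv
    have hall : ∀ t, κ.app U (tMap (SecFun (A := A) w₀ U) NB t) = E (τ t) := by
      intro t
      induction t using TensorProduct.induction_on with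
      | zero =>
        exact ((congrArg (κ.app U) (map_zero _)).trans (map_zero (κ.app U).hom)).trans
          ((congrArg E (map_zero τ)).trans (map_zero E)).symm
      | add a b ha hb =>
        exact ((congrArg (κ.app U) (map_add _ a b)).trans (map_add (κ.app U).hom _ _)).trans
          ((congrArg₂ (· + ·) ha hb).trans ((map_add E _ _).symm.trans (congrArg E (map_add τ a b).symm)))
      | tmul y b =>
        rw [tMap_tmul]
        refine (congr(($(hκ b)).app U y)).trans ?_
        exact (hE b (ε y)).symm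
    have hb : Function.Bijective (fun t => κ.app U (tMap (SecFun (A := A) w₀ U) NB t)) := by
      simp only [hall]
      exact E.bijective.comp τ.bijective
    exact (Function.Bijective.of_comp_iff (f := κ.app U) (bijective_tMap (A := A) w₀ hU NB)).1 hb
  -- `p_* p^* ω` represents functionals with values in the new base
  let Ψ : M ≅ (RR A X d).obj NB := (asIso κ).symm ≪≫ asIso (cmp (X := X) (d := d) NB)
  let mB : B → (NB ⟶ NB) := fun c => ModuleCat.ofHom (LinearMap.mulLeft A c)
  have hΨ : ∀ c : B, mul B p P c ≫ Ψ.hom = Ψ.hom ≫ (RR A X d).map (mB c) := by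
    intro c
    rw [← cancel_epi κ]
    refine EW.hom_ext T _ _ fun b => ?_
    have h1 : ∀ b' : B, T.map (el NB b') ≫ κ ≫ Ψ.hom = (e₁ A X d).hom ≫ (RR A X d).map (el NB b') := fun b' => by
      simp [Ψ, cmp_el, T, w₀]
    have h3 : el NB b ≫ mB c = el NB (c * b : B) := EW.el_comp (N := NB) (N' := NB) b (mB c)
    calc T.map (el NB b) ≫ κ ≫ mul B p P c ≫ Ψ.hom
        = T.map (el NB (c * b : B)) ≫ κ ≫ Ψ.hom := by
          rw [← Category.assoc, hκ, ← Category.assoc (T.map (el NB (c * b : B))), hκ]
          simp only [Category.assoc]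
          rw [← Category.assoc (mul B p P b), mul_comp]
      _ = (e₁ A X d).hom ≫ (RR A X d).map (el NB (c * b : B)) := h1 _
      _ = T.map (el NB b) ≫ κ ≫ Ψ.hom ≫ (RR A X d).map (mB c) := by
          rw [← Category.assoc κ, ← Category.assoc, h1, Category.assoc, ← Functor.map_comp, h3]
  -- cohomology along the projection
  obtain ⟨e, he⟩ := exists_push_iso p d
  have hemul : ∀ (F : X'.Modules) (hF : Coh.IsQCoh F) (b : B) (z : Coh.HH X' F d),
      e F hF (b • z) = hmap (mul B p F b) d (e F hF z) := fun F hF b z => by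
    rw [← hmap_smulMod F b d z]
    exact he hF hF _ z
  let tB : Coh.HH X M d →ₗ[A] B := tr A X d NB ∘ₗ Canon.HHlin A Ψ.hom d
  have htB : ∀ (c : B) (z : Coh.HH X M d), tB (hmap (mul B p P c) d z) = c * tB z := fun c z => by
    change tr A X d NB (hmap Ψ.hom d (hmap (mul B p P c) d z)) = c * tr A X d NB (hmap Ψ.hom d z)
    rw [← hmap_comp, hΨ, hmap_comp, tr_natural]
    rfl
  let t' : Coh.HH X' P d →ₗ[B] B :=
    { toFun := fun z => tB (e P hP z)
      map_add' := fun y z => by rw [map_add, map_add]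
      map_smul' := fun c z => by rw [hemul, htB]; rfl }
  refine (isDualizingSheaf_iff _).2 ⟨t', hP, fun F hF ψ => ?_⟩
  haveI := hF
  have hpF : Coh.IsQCoh ((Coh.push p).obj F) := Groth.L16.QcqsPush.isQCoh_push F p
  have hea : ∀ (a : A) (z : Coh.HH X' F d), e F hF (algebraMap A B a • z) = a • e F hF z := fun a z => by
    rw [hemul, ← smulMod_push hp, hmap_smulMod]
  let ψA : Coh.HH X ((Coh.push p).obj F) d →ₗ[A] NB :=
    { toFun := fun z => ψ ((e F hF).symm z)
      map_add' := fun y z => by rw [map_add, map_add]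
      map_smul' := fun a z => by
        obtain ⟨z, rfl⟩ := (e F hF).surjective z
        rw [← hea, AddEquiv.symm_apply_apply, AddEquiv.symm_apply_apply, map_smul, RingHom.id_apply]
        exact (Algebra.smul_def a (ψ z)).symm }
  obtain ⟨Φ, hΦ, hΦu⟩ := tr_spec NB _ hpF ψA
  let Φ' : (Coh.push p).obj F ⟶ M := Φ ≫ Ψ.inv
  have hlin : ∀ b : B, mul B p F b ≫ Φ' = Φ' ≫ mul B p P b := by
    intro b
    rw [← cancel_mono Ψ.hom]
    simp only [Φ', Category.assoc, hΨ, Iso.inv_hom_id, Category.comp_id, Iso.inv_hom_id_assoc]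
    refine tr_ext hpF _ _ fun z => ?_
    obtain ⟨z, rfl⟩ := (e F hF).surjective z
    rw [hmap_comp, ← hΦ, hmap_comp, tr_natural, ← hΦ, ← hemul]
    change ψ _ = b * ψ _
    rw [AddEquiv.symm_apply_apply, AddEquiv.symm_apply_apply, map_smul]
    rfl
  obtain ⟨φ, hφ⟩ := Sections.exists_lift hp hF hP Φ' hlin
  have heval : ∀ (φ' : F ⟶ P) (z : Coh.HH X' F d),
      t' (hmap φ' d z) = tr A X d NB (hmap ((Coh.push p).map φ' ≫ Ψ.hom) d (e F hF z)) := fun φ' z => by
    rw [hmap_comp, ← he hF hP]
    rfl
  refine ⟨φ, fun z => ?_, fun φ' hφ' => ?_⟩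
  · rw [heval, hφ, show Φ' ≫ Ψ.hom = Φ by simp [Φ'], ← hΦ]
    change _ = ψ _
    rw [AddEquiv.symm_apply_apply]
  · refine Sections.push_injective (p := p) hF hP _ _ ?_
    rw [hφ, ← cancel_mono Ψ.hom, show Φ' ≫ Ψ.hom = Φ by simp [Φ']]
    refine hΦu _ fun z => ?_
    obtain ⟨z, rfl⟩ := (e F hF).surjective z
    rw [← heval, ← hφ' z]
    change ψ _ = _
    rw [AddEquiv.symm_apply_apply]

end Groth.L10.RelCan
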