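import Groth.Agent.L10.RelCan.StalkTensor
import Groth.Agent.L10.RelCan.BaseChange
import Groth.Agent.L22.GV.Main
import Groth.Agent.L19.SupportPullback
import Groth.Agent.L16.ProperFinite

/-!
The right adjoint of top cohomology has no sections supported at points which are not generic in their fibres.
-/

set_option autoImplicit false
set_option linter.style.haveILetI false
set_option backward.defeqAttrib.useBackward true
set_option backward.isDefEq.respectTransparency false
set_option backward.isDefEq.respectTransparency.types false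
universe u

open CategoryTheory CategoryTheory.Limits AlgebraicGeometry TopologicalSpace
open scoped TensorProduct

noncomputable section

namespace Groth.L10.RelCan

open Groth.L10.TopDual.Rep (cohFunctor)
open Groth.L16.CohLinear (hmap hmap_comp hmap_id)
open Groth.L17.BC.TensorA (G SecFun bijective_tMap)
open Groth.L01.FlatCx (tMap tMap_tmul)
open EW (one el)
open Sections (unit mul)

section Pull

variable {A : Type u} [CommRing A] {B : Type u} [CommRing B] [Algebra A B] {X X' : Scheme.{u}}
  [X.Over (Spec (CommRingCat.of A))] [X'.Over (Spec (CommRingCat.of B))] {p : X' ⟶ X}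

set_option maxHeartbeats 1600000 in
/-- tensoring with the new base is the direct image of the pullback -/
theorem exists_push_pull_iso (hp : IsPullback p (X' ↘ Spec (CommRingCat.of B)) (X ↘ Spec (CommRingCat.of A))
    (Spec.map (CommRingCat.ofHom (algebraMap A B)))) (F : X.Modules) [Coh.IsQCoh F] :
    Nonempty ((G (A := A) F).obj (ModuleCat.of A B) ≅ (Coh.push p).obj ((Scheme.Modules.pullback p).obj F)) := by
  haveI := Sections.isAffineHom hp
  haveI := Groth.L17.PushQCoh.additive_push p
  let NB : ModuleCat.{u} A := ModuleCat.of A B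
  let P := (Scheme.Modules.pullback p).obj F
  have hP : Coh.IsQCoh P := Groth.L16.AffineBC.isQCoh_pullback p F
  haveI := hP
  haveI : Coh.IsQCoh ((Coh.push p).obj P) := Groth.L16.QcqsPush.isQCoh_push P p
  let T := G (A := A) F
  haveI : Coh.IsQCoh (T.obj NB) := Groth.L17.BC.TensorA.isQCoh_G F NB
  obtain ⟨e⟩ := Groth.L17.BC.TensorA.nonempty_G_one A X F
  obtain ⟨κ, hκ⟩ : ∃ κ : T.obj NB ⟶ (Coh.push p).obj P, ∀ b : B,
      T.map (el NB b) ≫ κ = e.hom ≫ unit p F ≫ mul B p P b := by
    refine EW.exists_desc (N := NB) T (fun b : NB => e.hom ≫ unit p F ≫ mul B p P b) (fun b c => ?_) fun a b => ?_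
    · rw [mul_add, Preadditive.comp_add, Preadditive.comp_add]
    · rw [Groth.L17.BC.TensorA.G_smul_id, Algebra.smul_def, ← mul_comp, ← smulMod_push hp]
      change _ = Formal.smulModΓ _ _ ≫ _
      rw [Groth.L16.Rees.smulModΓ_naturality, Category.assoc, Category.assoc]
      rfl
  haveI : IsIso κ := by
    refine Groth.L17.BC.Classes.isIso_of_affine _ fun y => ⟨⊤, trivial, fun U _ hU => ?_⟩
    letI : Module A Γ(F, U) := Module.compHom Γ(F, U) (Groth.L16.AffineBC.scal A X U)
    obtain ⟨E, hE⟩ := Sections.exists_equiv hp F hU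
    let ε : (SecFun (A := A) F U).obj (ModuleCat.of A A) ≃ₗ[A] Γ(F, U) :=
      { toFun := fun s => e.hom.app U s
        invFun := fun s => e.inv.app U s
        left_inv := fun s => congr(($(e.hom_inv_id)).app U s)
        right_inv := fun s => congr(($(e.inv_hom_id)).app U s)
        map_add' := fun a b => map_add (e.hom.app U).hom a b
        map_smul' := fun a s => e.hom.app_smul _ s }
    let τ : (SecFun (A := A) F U).obj (ModuleCat.of A A) ⊗[A] NB ≃+ B ⊗[A] Γ(F, U) :=
      ((TensorProduct.congr ε (LinearEquiv.refl A B)).trans (TensorProduct.comm A Γ(F, U) B)).toAddEquiv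
    have hall : ∀ t, κ.app U (tMap (SecFun (A := A) F U) NB t) = E (τ t) := by
      intro t
      induction t using TensorProduct.induction_on with
      | zero =>
        exact ((congrArg (κ.app U) (map_zero _)).trans (map_zero (κ.app U).hom)).trans
          ((congrArg E (map_zero τ)).trans (map_zero E)).symm
      | add a b ha hb =>
        exact ((congrArg (κ.app U) (map_add _ a b)).trans (map_add (κ.app U).hom _ _)).trans
          ((congrArg₂ (· + ·) ha hb).trans ((map_add E _ _).symm.trans (congrArg E (map_add τ a b).symm)))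
      | tmul y b =>
        rw [tMap_tmul]
        refine (congr(($(hκ b)).app U y)).trans ?_
        exact (hE b (ε y)).symm
    have hb : Function.Bijective (fun t => κ.app U (tMap (SecFun (A := A) F U) NB t)) := by
      simp only [hall]
      exact E.bijective.comp τ.bijective
    exact (Function.Bijective.of_comp_iff (f := κ.app U) (bijective_tMap (A := A) F hU NB)).1 hb
  exact ⟨asIso κ⟩

end Pull

variable {A : Type u} [CommRing A] {X : Scheme.{u}} [X.Over (Spec (CommRingCat.of A))]

/-- classes killed in cohomology with coefficients in a module die after tensoring -/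
theorem tmul_eq_zero_of_subsingleton (d : ℕ) [(cohFunctor (X := X) A d).IsLeftAdjoint]
    (E : X.Modules) [Coh.IsQCoh E] (N : ModuleCat.{u} A)
    (hN : Subsingleton (Coh.HH X ((G (A := A) E).obj N) d)) (z : Coh.HH X E d) (n : N) :
    z ⊗ₜ[A] n = 0 := by
  let T₀ : ModuleCat.{u} A ⥤ QCohCat.QCoh X :=
    ObjectProperty.lift _ (G (A := A) E) fun M => Groth.L17.BC.TensorA.isQCoh_G E M
  haveI : PreservesColimitsOfSize.{u, u} (T₀ ⋙ (QCohCat.isQCoh X).ι) :=
    inferInstanceAs (PreservesColimitsOfSize.{u, u} (G (A := A) E))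
  haveI : ReflectsColimitsOfSize.{u, u} (QCohCat.isQCoh X).ι := fullyFaithful_reflectsColimits _
  haveI : PreservesColimitsOfSize.{u, u} T₀ :=
    preservesColimits_of_reflects_of_preserves T₀ (QCohCat.isQCoh X).ι
  haveI : T₀.Additive := ⟨fun {_ _ f g} => ObjectProperty.hom_ext _ ((G (A := A) E).map_add (f := f) (g := g))⟩
  haveI : PreservesColimitsOfSize.{u, u} (cohFunctor (X := X) A d) :=
    (Adjunction.ofIsLeftAdjoint (cohFunctor (X := X) A d)).leftAdjoint_preservesColimits
  let T := T₀ ⋙ cohFunctor (X := X) A d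
  obtain ⟨e⟩ := Groth.L17.BC.TensorA.nonempty_G_one A X E
  let r : N → (T.obj (one A) ⟶ ModuleCat.of A (Coh.HH X E d ⊗[A] N)) := fun n => ModuleCat.ofHom
    (((TensorProduct.mk A (Coh.HH X E d) N).flip n) ∘ₗ Canon.HHlin A e.hom d)
  obtain ⟨γ, hγ⟩ := EW.exists_desc T r
    (fun m n => ModuleCat.hom_ext (LinearMap.ext fun v => TensorProduct.tmul_add _ m n))
    fun a n => ModuleCat.hom_ext (LinearMap.ext fun v => by
      show (hmap e.hom d v) ⊗ₜ[A] (a • n) = (hmap e.hom d (hmap ((G (A := A) E).map (a • 𝟙 (one A))) d v)) ⊗ₜ[A] n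
      rw [Groth.L17.BC.TensorA.G_smul_id, hmap_smulMod, TensorProduct.tmul_smul, TensorProduct.smul_tmul']
      congr 1
      exact ((Canon.HHlin A e.hom d).map_smul a v).symm)
  have h1 : γ.hom ((hmap ((G (A := A) E).map (el N n)) d) (hmap e.inv d z)) = z ⊗ₜ[A] n := by
    refine (congr(($(hγ n)).hom (hmap e.inv d z))).trans ?_
    show (hmap e.hom d (hmap e.inv d z)) ⊗ₜ[A] n = _
    rw [← hmap_comp, e.inv_hom_id, hmap_id]
  rw [← h1, show (hmap ((G (A := A) E).map (el N n)) d) (hmap e.inv d z) = 0 from Subsingleton.elim _ _]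
  exact map_zero _

/-- a stalk element killed by powers of the maximal ideal comes from a coherent module supported on the closure -/
theorem exists_supported [IsLocallyNoetherian X] (P : X.Modules) [Coh.IsQCoh P] (x : X)
    (v : (Groth.L00.Stk.F X x).obj P)
    (h : ∀ a ∈ IsLocalRing.maximalIdeal (X.presheaf.stalk x), ∃ n : ℕ, a ^ n • v = 0) :
    ∃ (E : X.Modules) (j : E ⟶ P) (w : (Groth.L00.Stk.F X x).obj E), Coh.IsCoh E ∧
      (Groth.L00.Stk.F X x).map j w = v ∧ CohB1.support E ⊆ closure {x} := by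
  classical
  obtain ⟨W, hW, hxW, -⟩ := exists_isAffineOpen_mem_and_subset (TopologicalSpace.Opens.mem_top x)
  haveI : IsNoetherianRing Γ(X, W) := IsLocallyNoetherian.component_noetherian ⟨W, hW⟩
  letI := Groth.L20.ModStalk.stalkModule P hxW
  haveI := Groth.L20.ModStalk.isLocalizedModule_germ P hW hxW
  let q := (hW.primeIdealOf ⟨x, hxW⟩).asIdeal
  letI := X.presheaf.algebra_section_stalk ⟨x, hxW⟩
  haveI := hW.isLocalization_stalk ⟨x, hxW⟩
  obtain ⟨⟨s, t⟩, hst⟩ := IsLocalizedModule.surj q.primeCompl (Groth.L20.ModStalk.germₗ P hxW) v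
  obtain ⟨S, hS⟩ := IsNoetherian.noetherian q
  have hg : ∀ r : S, ∃ (n : ℕ) (c : Γ(X, W)), c ∉ q ∧ (c * r.1 ^ n) • s = 0 := by
    intro r
    have hr : algebraMap Γ(X, W) (X.presheaf.stalk x) r.1 ∈ IsLocalRing.maximalIdeal (X.presheaf.stalk x) :=
      (IsLocalization.AtPrime.to_map_mem_maximal_iff (X.presheaf.stalk x) q r.1).2
        (hS ▸ Submodule.subset_span r.2)
    obtain ⟨n, hn⟩ := h _ hr
    have h0 : Groth.L20.ModStalk.germₗ P hxW (r.1 ^ n • s) = Groth.L20.ModStalk.germₗ P hxW 0 := by
      rw [map_smul, map_zero, ← hst, smul_comm]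
      refine smul_eq_zero_of_right _ ?_
      show algebraMap Γ(X, W) (X.presheaf.stalk x) (r.1 ^ n) • v = 0
      rw [map_pow]; exact hn
    obtain ⟨⟨c, hc⟩, hcs⟩ := IsLocalizedModule.exists_of_eq (S := q.primeCompl) h0
    exact ⟨n, c, hc, by rw [mul_smul]; exact hcs.trans (smul_zero _)⟩
  choose n c hc hcs using hg
  let w : Γ(X, W) := ∏ r, c r
  let W' := X.basicOpen w
  have hW' : IsAffineOpen W' := hW.basicOpen w
  have hle : W' ≤ W := X.basicOpen_le w
  have hxW' : x ∈ W' := by
    rw [Scheme.mem_basicOpen X w x hxW]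
    have hwq : w ∉ q := fun hm => by
      obtain ⟨r, -, hr⟩ := (Ideal.IsPrime.prod_mem_iff (p := q)).1 hm
      exact hc r hr
    exact IsLocalization.map_units (X.presheaf.stalk x) (⟨w, hwq⟩ : q.primeCompl)
  let U : X.Opens := ⟨(closure {x})ᶜ, isClosed_closure.isOpen_compl⟩
  haveI : QuasiCompact U.ι := inferInstance
  let η := (Scheme.Modules.restrictAdjunction U.ι).unit.app P
  have hR : Coh.IsQCoh ((Scheme.Modules.pushforward U.ι).obj ((Scheme.Modules.restrictFunctor U.ι).obj P)) :=
    haveI : Coh.IsQCoh ((Scheme.Modules.restrictFunctor U.ι).obj P) :=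
      Scheme.Modules.isQuasicoherent_restrictFunctor _ P
    Groth.L16.QcqsPush.isQCoh_push _ U.ι
  let s' := P.presheaf.map (homOfLE hle).op s
  have hs0 : η.app W' s' = 0 := by
    rw [Scheme.Modules.restrictAdjunction_unit_app_app]
    refine TopCat.Presheaf.section_ext ⟨P.presheaf, P.isSheaf⟩ (U.ι ''ᵁ (U.ι ⁻¹ᵁ W')) _ _ fun z hz => ?_
    obtain ⟨y, hy, rfl⟩ := hz
    have hzU : U.ι y ∉ closure {x} := y.2
    have hzW : U.ι y ∈ W := hle hy
    refine (TopCat.Presheaf.germ_res_apply P.presheaf _ _ _ _).trans ?_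
    refine (TopCat.Presheaf.germ_res_apply P.presheaf _ _ _ _).trans (Eq.trans ?_ (map_zero _).symm)
    obtain ⟨r, hr⟩ : ∃ r : S, r.1 ∉ (hW.primeIdealOf ⟨U.ι y, hzW⟩).asIdeal := by
      by_contra! hall
      refine hzU (specializes_iff_mem_closure.1 ?_)
      have h1 : hW.primeIdealOf ⟨x, hxW⟩ ⤳ hW.primeIdealOf ⟨U.ι y, hzW⟩ :=
        (PrimeSpectrum.le_iff_specializes _ _).1 (show q ≤ _ by
          rw [← hS]; exact Submodule.span_le.2 fun r hr => hall ⟨r, hr⟩)
      exact (specializes_of_eq (hW.fromSpec_primeIdealOf ⟨x, hxW⟩).symm).trans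
        ((h1.map hW.fromSpec.continuous).trans (specializes_of_eq (hW.fromSpec_primeIdealOf ⟨U.ι y, hzW⟩)))
    have hwz : w ∉ (hW.primeIdealOf ⟨U.ι y, hzW⟩).asIdeal := by
      letI := X.presheaf.algebra_section_stalk ⟨U.ι y, hzW⟩
      haveI := hW.isLocalization_stalk ⟨U.ι y, hzW⟩
      refine fun hm => ?_
      have h1 := (IsLocalization.AtPrime.to_map_mem_maximal_iff (X.presheaf.stalk (U.ι y)) _ w).2 hm
      exact (IsLocalRing.mem_maximalIdeal _).1 h1 ((Scheme.mem_basicOpen X w _ hzW).1 hy)
    letI := Groth.L20.ModStalk.stalkModule P hzW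
    haveI := Groth.L20.ModStalk.isLocalizedModule_germ P hW hzW
    refine (IsLocalizedModule.eq_zero_iff (hW.primeIdealOf ⟨U.ι y, hzW⟩).asIdeal.primeCompl
      (Groth.L20.ModStalk.germₗ P hzW)).2 ⟨⟨c r * r.1 ^ n r, ?_⟩, hcs r⟩
    refine fun hm => ((Ideal.IsPrime.mem_or_mem inferInstance hm).elim (fun h1 => hwz ?_)
      fun h1 => hr (Ideal.IsPrime.mem_of_pow_mem inferInstance _ h1))
    exact Ideal.prod_mem _ (Finset.mem_univ r) h1
  obtain ⟨k, hk⟩ := Groth.L16.HomSh.exists_kernel_lift η s' hs0
  haveI : Coh.IsQCoh (kernel η) := (Groth.L00.AlgQCoh.isQCoh_kernel_cokernel η (show Coh.IsQCoh P from inferInstance) hR).1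
  obtain ⟨E, i, hi, hE, k', hk'⟩ := Groth.L17.CohUnion.exists_coh_submodule (kernel η) hW' k
  obtain ⟨u, hu⟩ : ∃ u : X.presheaf.stalk x, u • Groth.L20.ModStalk.germₗ P hxW s = v := by
    obtain ⟨u, hu⟩ := (IsLocalization.map_units (X.presheaf.stalk x) t).exists_left_inv
    refine ⟨u, ?_⟩
    rw [← hst]
    show u • (algebraMap Γ(X, W) (X.presheaf.stalk x) t • v) = v
    rw [smul_smul, hu, one_smul]
  refine ⟨E, i ≫ kernel.ι η, u • E.presheaf.germ W' x hxW' k', hE, ?_, ?_⟩
  · rw [map_smul, ← hu]
    congr 1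
    refine (Groth.L21.Mod.stalkF_map_germ (i ≫ kernel.ι η) W' x hxW' k').trans ?_
    rw [Scheme.Modules.Hom.comp_app, ConcreteCategory.comp_apply, hk', hk]
    exact TopCat.Presheaf.germ_res_apply P.presheaf (homOfLE hle) x hxW' s
  · intro z hz
    by_contra hzc
    have h0 : (Scheme.Modules.restrictFunctor U.ι).map (i ≫ kernel.ι η) = 0 := by
      have h1 : (Scheme.Modules.restrictFunctor U.ι).map η ≫
          (Scheme.Modules.restrictAdjunction U.ι).counit.app _ = 𝟙 _ :=
        (Scheme.Modules.restrictAdjunction U.ι).left_triangle_components P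
      rw [← Category.comp_id ((Scheme.Modules.restrictFunctor U.ι).map (i ≫ kernel.ι η)), ← h1, ← Category.assoc,
        ← Functor.map_comp, Category.assoc, kernel.condition, comp_zero, Functor.map_zero, zero_comp]
    haveI : Mono (i ≫ kernel.ι η) := mono_comp _ _
    have hz0 : IsZero ((Scheme.Modules.restrictFunctor U.ι).obj E) := IsZero.of_mono_eq_zero _ h0
    have : (⟨z, hzc⟩ : U.toScheme) ∈ CohB1.support ((Scheme.Modules.restrictFunctor U.ι).obj E) := by
      rw [show CohB1.support ((Scheme.Modules.restrictFunctor U.ι).obj E) = U.ι ⁻¹' CohB1.support E from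
        Groth.L21.Mod.support_restrict U.ι E]
      exact hz
    exact (Groth.L21.Mod.mem_support_iff_not_isZero _ _).1 this ((Groth.L21.Mod.stalkF _ _).map_isZero hz0)

variable [IsNoetherianRing A] [IsProper (X ↘ Spec (CommRingCat.of A))] (d : ℕ)

set_option maxHeartbeats 1600000 in
/-- cohomology of a coherent module supported at a non-generic point of a fibre vanishes after localising -/
theorem subsingleton_HH_localization [(cohFunctor (X := X) A d).IsLeftAdjoint]
    (hd : Cyc.HasRelDim (X ↘ Spec (CommRingCat.of A)) d) (x : X)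
    (v' : (X ↘ Spec (CommRingCat.of A)).fiber ((X ↘ Spec (CommRingCat.of A)) x))
    (hv' : v' ⤳ (X ↘ Spec (CommRingCat.of A)).asFiber x) (hne : v' ≠ (X ↘ Spec (CommRingCat.of A)).asFiber x)
    (E : X.Modules) (hE : Coh.IsCoh E) (hsupp : CohB1.support E ⊆ closure {x}) :
    haveI : Coh.IsQCoh E := hE.1
    Subsingleton (Coh.HH X ((G (A := A) E).obj
      (ModuleCat.of A (Localization.AtPrime ((X ↘ Spec (CommRingCat.of A)) x).asIdeal))) d) := by
  haveI : Coh.IsQCoh E := hE.1
  let f := X ↘ Spec (CommRingCat.of A)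
  let t := f x
  let B := Localization.AtPrime t.asIdeal
  let g := Spec.map (CommRingCat.ofHom (algebraMap A B))
  let X' := pullback f g
  let p : X' ⟶ X := pullback.fst f g
  let f' : X' ⟶ Spec (CommRingCat.of B) := pullback.snd f g
  letI : X'.Over (Spec (CommRingCat.of B)) := ⟨f'⟩
  have hp : IsPullback p (X' ↘ Spec (CommRingCat.of B)) f g := IsPullback.of_hasPullback f g
  haveI := Sections.isAffineHom hp
  obtain ⟨κ⟩ := exists_push_pull_iso hp E
  let P := (Scheme.Modules.pullback p).obj E
  have hP : Coh.IsQCoh P := Groth.L16.AffineBC.isQCoh_pullback p E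
  obtain ⟨e, -⟩ := exists_push_iso p d
  suffices h : Subsingleton (Coh.HH X' P d) by
    haveI := h
    haveI : Subsingleton (Coh.HH X ((Coh.push p).obj P) d) := (e P hP).symm.toEquiv.subsingleton
    refine ⟨fun a b => ?_⟩
    rw [← hmap_id d a, ← hmap_id d b, ← κ.hom_inv_id, hmap_comp, hmap_comp]
    exact congrArg _ (Subsingleton.elim _ _)
  haveI : IsPreimmersion g := IsPreimmersion.of_isLocalization (S := B) t.asIdeal.primeCompl
  haveI : IsPreimmersion p := MorphismProperty.pullback_fst f g inferInstance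
  haveI : IsLocallyNoetherian X' := LocallyOfFiniteType.isLocallyNoetherian f'
  haveI : CompactSpace X' := QuasiCompact.compactSpace_of_compactSpace f'
  haveI : AlgebraicGeometry.IsNoetherian X' := {}
  haveI : NoetherianSpace X'.toTopCat := inferInstanceAs (NoetherianSpace ↥X')
  haveI : QuasiSober X'.toTopCat := inferInstanceAs (QuasiSober ↥X')
  haveI : T0Space X'.toTopCat := inferInstanceAs (T0Space ↥X')
  have hdim : topologicalKrullDim ↥(f.fiber t) ≤ (d : WithBot ℕ∞) :=
    Groth.L10.TopDual.dim_le_of_components d fun Z hZ => (hd t Z hZ).le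
  let v := f.asFiber x
  haveI : QuasiSober (f.fiber t).toTopCat := inferInstanceAs (QuasiSober ↥(f.fiber t))
  haveI : T0Space (f.fiber t).toTopCat := inferInstanceAs (T0Space ↥(f.fiber t))
  have hcv : Groth.L22.GV.cdim (X := (f.fiber t).toTopCat) v + 1 ≤ (d : WithBot ℕ∞) :=
    (Groth.L22.GV.cdim_add_one_le (X := (f.fiber t).toTopCat) hv' hne).trans
      (((Topology.IsInducing.subtypeVal).topologicalKrullDim_le).trans hdim)
  have key : ∀ z : X', z ∈ CohB1.support P →
      Groth.L22.GV.cdim (X := X'.toTopCat) z ≤ Groth.L22.GV.cdim (X := (f.fiber t).toTopCat) v := by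
    intro z hz
    have hzE : p z ∈ closure {x} := hsupp (by
      have := (Groth.L19.SupportPullback.support_pullback p E hE.2).le hz
      exact this)
    have hfw : ∀ w : X', z ⤳ w → p w ∈ closure {x} ∧ f (p w) = t := fun w hw => by
      have h1 : x ⤳ p w := (specializes_iff_mem_closure.2 hzE).trans (hw.map p.continuous)
      refine ⟨specializes_iff_mem_closure.1 h1, ?_⟩
      have h2 : t ⤳ f (p w) := h1.map f.continuous
      refine (Specializes.antisymm h2 ?_).eq.symm
      have h3 : f (p w) = g (f' w) := by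
        rw [← Scheme.Hom.comp_apply, ← Scheme.Hom.comp_apply]
        exact congr(($(pullback.condition (f := f) (g := g))) w)
      rw [h3]
      refine (PrimeSpectrum.le_iff_specializes _ _).1 ?_
      show (f' w).asIdeal.comap (algebraMap A B) ≤ t.asIdeal
      conv_rhs => rw [← IsLocalization.AtPrime.under_maximalIdeal B t.asIdeal]
      exact Ideal.comap_mono (IsLocalRing.le_maximalIdeal (f' w).isPrime.ne_top)
    let Cz := closure ({z} : Set ↥X')
    let φ : Cz → closure ({v} : Set ↥(f.fiber t)) := fun w =>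
      ⟨(f.fiberHomeo t).symm ⟨p w.1, (hfw w.1 (specializes_iff_mem_closure.2 w.2)).2⟩, by
        rw [(f.fiberι t).isEmbedding.isInducing.closure_eq_preimage_closure_image, Set.mem_preimage,
          Scheme.Hom.fiberι_fiberHomeo_symm, Set.image_singleton, show f.fiberι t v = x from Scheme.Hom.fiberι_asFiber f x]
        exact (hfw w.1 (specializes_iff_mem_closure.2 w.2)).1⟩
    have hφ : Topology.IsInducing φ := by
      refine Topology.IsInducing.of_comp (g := fun w : closure ({v} : Set ↥(f.fiber t)) => f.fiberι t w.1) ?_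
        ((f.fiberι t).continuous.comp continuous_subtype_val) ?_
      · refine Continuous.subtype_mk ((f.fiberHomeo t).symm.continuous.comp
          (Continuous.subtype_mk (p.continuous.comp continuous_subtype_val) _)) _
      · have : ((fun w => f.fiberι t w.1) ∘ φ) = p ∘ Subtype.val := funext fun w => by
          simp only [Function.comp_apply, φ, Scheme.Hom.fiberι_fiberHomeo_symm]
        rw [this]
        exact p.isEmbedding.isInducing.comp Topology.IsInducing.subtypeVal
    exact hφ.topologicalKrullDim_le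
  refine Groth.L22.GV.subsingleton_H_of_dimLE (d - 1) (Coh.toAb P) (fun z hz => ?_) d ?_
  · by_contra hne'
    have h1 := key z hne'
    have h2 := hz.trans_le h1
    have h3 := Groth.L22.GV.cdim_nonneg (X := (f.fiber t).toTopCat) v
    generalize Groth.L22.GV.cdim (X := (f.fiber t).toTopCat) v = a at h2 h3 hcv
    induction a using WithBot.recBotCoe with
    | bot => exact absurd h2 (by simp)
    | coe a =>
      change ((a + 1 : ℕ∞) : WithBot ℕ∞) ≤ (((d : ℕ) : ℕ∞) : WithBot ℕ∞) at hcv
      change ((((d - 1 : ℕ) : ℕ∞)) : WithBot ℕ∞) < (a : WithBot ℕ∞) at h2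
      rw [WithBot.coe_le_coe] at hcv
      rw [WithBot.coe_lt_coe] at h2
      have h4 := (Order.add_one_le_of_lt h2)
      have h5 := (add_le_add_left h4 1).trans hcv
      norm_cast at h5
      omega
  · have h3 := (Groth.L22.GV.cdim_nonneg (X := (f.fiber t).toTopCat) v)
    have : (1 : WithBot ℕ∞) ≤ (d : WithBot ℕ∞) := le_trans (le_add_of_nonneg_left h3) hcv
    have h1 : 1 ≤ d := by exact_mod_cast this
    omega

/-- the right adjoint of top cohomology has no torsion at non-generic points of fibres -/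
theorem eq_zero_of_stalk_torsion [(cohFunctor (X := X) A d).IsLeftAdjoint]
    (hd : Cyc.HasRelDim (X ↘ Spec (CommRingCat.of A)) d) (x : X)
    (v' : (X ↘ Spec (CommRingCat.of A)).fiber ((X ↘ Spec (CommRingCat.of A)) x))
    (hv' : v' ⤳ (X ↘ Spec (CommRingCat.of A)).asFiber x) (hne : v' ≠ (X ↘ Spec (CommRingCat.of A)).asFiber x)
    (M : ModuleCat.{u} A) (g : (Groth.L00.Stk.F X x).obj ((RR A X d).obj M))
    (hg : ∀ a ∈ IsLocalRing.maximalIdeal (X.presheaf.stalk x), ∃ n : ℕ, a ^ n • g = 0) : g = 0 := by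
  let f := X ↘ Spec (CommRingCat.of A)
  haveI : IsLocallyNoetherian X := LocallyOfFiniteType.isLocallyNoetherian f
  haveI := isQCoh_RR A X d M
  obtain ⟨E, j, w, hE, hw, hsupp⟩ := exists_supported _ x g hg
  haveI : Coh.IsQCoh E := hE.1
  have hz := subsingleton_HH_localization d hd x v' hv' hne E hE hsupp
  haveI : Module.Finite A (Coh.HH X E d) := Groth.L16.ProperFinite.finite_HH A hE d
  let p := (f x).asIdeal
  have hall : ∀ z : Coh.HH X E d, ∃ a ∉ p, a • z = 0 := fun z => by
    have h0 := tmul_eq_zero_of_subsingleton d E _ hz z (1 : Localization.AtPrime p)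
    have h1 : (TensorProduct.mk A (Localization.AtPrime p) (Coh.HH X E d) 1) z = 0 :=
      (TensorProduct.comm A (Coh.HH X E d) (Localization.AtPrime p)).map_eq_zero_iff.2 h0
    haveI : IsLocalizedModule p.primeCompl (TensorProduct.mk A (Localization.AtPrime p) (Coh.HH X E d) 1) :=
      (isLocalizedModule_iff_isBaseChange p.primeCompl (Localization.AtPrime p) _).2 (TensorProduct.isBaseChange A _ _)
    obtain ⟨⟨a, ha⟩, haz⟩ := (IsLocalizedModule.eq_zero_iff p.primeCompl _).1 h1
    exact ⟨a, ha, haz⟩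
  obtain ⟨S, hS⟩ := Module.Finite.fg_top (R := A) (M := Coh.HH X E d)
  choose c hc hcz using hall
  let a := ∏ z ∈ S, c z
  have ha : a ∉ p := fun hm => by
    obtain ⟨z, -, hz⟩ := (Ideal.IsPrime.prod_mem_iff (p := p)).1 hm
    exact hc z hz
  have hkill : ∀ z : Coh.HH X E d, a • z = 0 := by
    have : (⊤ : Submodule A (Coh.HH X E d)) ≤ LinearMap.ker (LinearMap.lsmul A (Coh.HH X E d) a) := by
      rw [← hS, Submodule.span_le]
      intro z hz'
      obtain ⟨b, hb⟩ := Finset.dvd_prod_of_mem c hz'
      show a • z = 0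
      rw [show a = b * c z by rw [mul_comm]; exact hb, mul_smul, hcz, smul_zero]
    exact fun z => this Submodule.mem_top
  have hj : j ≫ Formal.smulMod A ((RR A X d).obj M) a = 0 := by
    refine tr_ext hE.1 _ _ fun z => ?_
    rw [hmap_comp, hmap_smulMod, Groth.L10.TopDual.hmap_zero, map_zero]
    show tr A X d M (a • (Canon.HHlin A j d z)) = 0
    rw [← (Canon.HHlin A j d).map_smul, hkill, map_zero, map_zero]
  have h1 : stalkScal A X x a • g = 0 := by
    rw [← stalk_smulMod, ← hw]
    haveI : (Groth.L00.Stk.F X x).Additive := Functor.additive_of_preserves_binary_products _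
    have h2 : (Groth.L00.Stk.F X x).map j ≫ (Groth.L00.Stk.F X x).map (Formal.smulMod A ((RR A X d).obj M) a) = 0 := by
      rw [← Functor.map_comp, hj, Functor.map_zero]
    exact congr(($h2).hom w)
  refine (IsUnit.smul_eq_zero ?_).1 h1
  have hb : x ∈ X.basicOpen (Coh.toGlobal f a) := by
    have h : f ⁻¹ᵁ (Spec (CommRingCat.of A)).basicOpen
        ((Scheme.ΓSpecIso (CommRingCat.of A)).inv a) = X.basicOpen (Coh.toGlobal f a) :=
      Scheme.preimage_basicOpen_top _ _
    rw [← h, basicOpen_eq_of_affine]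
    exact ha
  exact (Scheme.mem_basicOpen X (U := ⊤) _ x trivial).1 hb

end Groth.L10.RelCan
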