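import Groth.Agent.L10.RelCan.BaseChange
import Groth.Agent.L10.RelCan.Torsion
import Groth.Agent.L10.RelCan.Reflexive

/-!
The base change morphism of dualizing sheaves over affine bases; it is invertible over the Cohen–Macaulay locus.
-/

set_option autoImplicit false
set_option linter.style.haveILetI false
set_option backward.defeqAttrib.useBackward true
set_option backward.isDefEq.respectTransparency false
set_option backward.isDefEq.respectTransparency.types false
universe u

open CategoryTheory CategoryTheory.Limits AlgebraicGeometry TopologicalSpace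
open scoped TensorProduct

noncomputable section

namespace Groth.L10.RelCan

open Groth.L10.TopDual.Rep (cohFunctor)
open Groth.L16.CohLinear (hmap hmap_comp hmap_id)
open Groth.L17.BC.TensorA (G SecFun bijective_tMap)
open Groth.L01.FlatCx (tMap tMap_tmul)
open EW (one el)
open Sections (unit mul)

variable {A : Type u} [CommRing A] {B : Type u} [CommRing B] [Algebra A B] {X X' : Scheme.{u}}
  [X.Over (Spec (CommRingCat.of A))] [X'.Over (Spec (CommRingCat.of B))] {p : X' ⟶ X}

set_option maxHeartbeats 1600000 in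
/-- tensoring with the new base is the direct image of the pullback, with its defining equation -/
theorem exists_push_pull (hp : IsPullback p (X' ↘ Spec (CommRingCat.of B)) (X ↘ Spec (CommRingCat.of A))
    (Spec.map (CommRingCat.ofHom (algebraMap A B)))) (F : X.Modules) [Coh.IsQCoh F] :
    ∃ (e : (G (A := A) F).obj (one A) ≅ F)
      (κ : (G (A := A) F).obj (ModuleCat.of A B) ≅ (Coh.push p).obj ((Scheme.Modules.pullback p).obj F)),
      ∀ b : B, (G (A := A) F).map (el (ModuleCat.of A B) b) ≫ κ.hom = e.hom ≫ unit p F ≫ mul B p _ b := by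
  haveI := Sections.isAffineHom hp
  haveI := Groth.L17.PushQCoh.additive_push p
  let NB : ModuleCat.{u} A := ModuleCat.of A B
  let P := (Scheme.Modules.pullback p).obj F
  have hP : Coh.IsQCoh P := Groth.L16.AffineBC.isQCoh_pullback p F
  haveI := hP
  haveI : Coh.IsQCoh ((Coh.push p).obj P) := Groth.L16.QcqsPush.isQCoh_push P p
  let T := G (A := A) F
  haveI : Coh.IsQCoh (T.obj NB) := Groth.L17.BC.TensorA.isQCoh_G F NB
  obtain ⟨e⟩ := Groth.L17.BC.TensorA.nonempty_G_one A X F
  obtain ⟨κ, hκ⟩ : ∃ κ : T.obj NB ⟶ (Coh.push p).obj P, ∀ b : B,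
      T.map (el NB b) ≫ κ = e.hom ≫ unit p F ≫ mul B p P b := by
    refine EW.exists_desc (N := NB) T (fun b : NB => e.hom ≫ unit p F ≫ mul B p P b) (fun b c => ?_) fun a b => ?_
    · rw [mul_add, Preadditive.comp_add, Preadditive.comp_add]
    · rw [Groth.L17.BC.TensorA.G_smul_id, Algebra.smul_def, ← mul_comp, ← smulMod_push hp]
      change _ = Formal.smulModΓ _ _ ≫ _
      rw [Groth.L16.Rees.smulModΓ_naturality, Category.assoc, Category.assoc]
      rfl
  haveI : IsIso κ := by
    refine Groth.L17.BC.Classes.isIso_of_affine _ fun y => ⟨⊤, trivial, fun U _ hU => ?_⟩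
    letI : Module A Γ(F, U) := Module.compHom Γ(F, U) (Groth.L16.AffineBC.scal A X U)
    obtain ⟨E, hE⟩ := Sections.exists_equiv hp F hU
    let ε : (SecFun (A := A) F U).obj (ModuleCat.of A A) ≃ₗ[A] Γ(F, U) :=
      { toFun := fun s => e.hom.app U s
        invFun := fun s => e.inv.app U s
        left_inv := fun s => congr(($(e.hom_inv_id)).app U s)
        right_inv := fun s => congr(($(e.inv_hom_id)).app U s)
        map_add' := fun a b => map_add (e.hom.app U).hom a b
        map_smul' := fun a s => e.hom.app_smul _ s }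
    let τ : (SecFun (A := A) F U).obj (ModuleCat.of A A) ⊗[A] NB ≃+ B ⊗[A] Γ(F, U) :=
      ((TensorProduct.congr ε (LinearEquiv.refl A B)).trans (TensorProduct.comm A Γ(F, U) B)).toAddEquiv
    have hall : ∀ t, κ.app U (tMap (SecFun (A := A) F U) NB t) = E (τ t) := by
      intro t
      induction t using TensorProduct.induction_on with
      | zero =>
        exact ((congrArg (κ.app U) (map_zero _)).trans (map_zero (κ.app U).hom)).trans
          ((congrArg E (map_zero τ)).trans (map_zero E)).symm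
      | add a b ha hb =>
        exact ((congrArg (κ.app U) (map_add _ a b)).trans (map_add (κ.app U).hom _ _)).trans
          ((congrArg₂ (· + ·) ha hb).trans ((map_add E _ _).symm.trans (congrArg E (map_add τ a b).symm)))
      | tmul y b =>
        rw [tMap_tmul]
        refine (congr(($(hκ b)).app U y)).trans ?_
        exact (hE b (ε y)).symm
    have hb : Function.Bijective (fun t => κ.app U (tMap (SecFun (A := A) F U) NB t)) := by
      simp only [hall]
      exact E.bijective.comp τ.bijective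
    exact (Function.Bijective.of_comp_iff (f := κ.app U) (bijective_tMap (A := A) F hU NB)).1 hb
  exact ⟨e, asIso κ, hκ⟩

variable {d : ℕ} (hp : IsPullback p (X' ↘ Spec (CommRingCat.of B)) (X ↘ Spec (CommRingCat.of A))
  (Spec.map (CommRingCat.ofHom (algebraMap A B))))
  [(cohFunctor (X := X) A d).IsLeftAdjoint]

variable (A B d X) in
/-- functionals with values in the new base -/
abbrev RB : X.Modules := (RR A X d).obj (ModuleCat.of A B)

variable (A d X) in
/-- the action of the new base on the representing sheaf -/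
abbrev act (b : B) : RB A B X d ⟶ RB A B X d :=
  (RR A X d).map (ModuleCat.ofHom (LinearMap.mulLeft A b) : ModuleCat.of A B ⟶ ModuleCat.of A B)

/-- an equivariant map to the representing sheaf gives a functional linear over the new base -/
theorem exists_functional (F' : X'.Modules)
    (e : Coh.HH X' F' d ≃+ Coh.HH X ((Coh.push p).obj F') d)
    (he : ∀ (b : B) (z : Coh.HH X' F' d), e (b • z) = hmap (mul B p F' b) d (e z))
    (q : (Coh.push p).obj F' ⟶ RB A B X d) (hq : ∀ b : B, mul B p F' b ≫ q = q ≫ act A X d b) :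
    ∃ t : Coh.HH X' F' d →ₗ[B] B, ∀ z, t z = tr A X d (ModuleCat.of A B) (hmap q d (e z)) := by
  refine ⟨{ toFun := fun z => (tr A X d (ModuleCat.of A B) (hmap q d (e z)) : B)
            map_add' := fun y z => by rw [map_add, map_add, map_add]
            map_smul' := fun c z => ?_ }, fun z => rfl⟩
  rw [he, ← hmap_comp, hq, hmap_comp, tr_natural]
  rfl

set_option maxHeartbeats 1600000 in
include hp in
/-- the direct image of the new dualizing sheaf represents functionals with values in the new base, and the old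
dualizing sheaf maps to it -/
theorem exists_bcMap (ω' : X'.Modules) (hω' : RelCanon.IsDualizingSheaf B X' d ω') :
    ∃ (lam : (Scheme.Modules.pullback p).obj (ω₀ A X d) ⟶ ω') (Φ : (Coh.push p).obj ω' ≅ RB A B X d)
      (κ : (G (A := A) (ω₀ A X d)).obj (ModuleCat.of A B) ≅
        (Coh.push p).obj ((Scheme.Modules.pullback p).obj (ω₀ A X d))),
      κ.hom ≫ (Coh.push p).map lam ≫ Φ.hom = cmp (ModuleCat.of A B) := by
  haveI := Sections.isAffineHom hp
  haveI := Groth.L17.PushQCoh.additive_push p
  let NB : ModuleCat.{u} A := ModuleCat.of A B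
  obtain ⟨e, he⟩ := exists_push_iso p d
  have hemul : ∀ (F : X'.Modules) (hF : Coh.IsQCoh F) (b : B) (z : Coh.HH X' F d),
      e F hF (b • z) = hmap (mul B p F b) d (e F hF z) := fun F hF b z => by
    rw [← hmap_smulMod F b d z]
    exact he hF hF _ z
  obtain ⟨tw, hq', htw⟩ := (isDualizingSheaf_iff ω').1 hω'
  haveI := hq'
  have hpω : Coh.IsQCoh ((Coh.push p).obj ω') := Groth.L16.QcqsPush.isQCoh_push ω' p
  let ψA : Coh.HH X ((Coh.push p).obj ω') d →ₗ[A] NB :=
    { toFun := fun z => tw ((e ω' hq').symm z)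
      map_add' := fun y z => by rw [map_add, map_add]
      map_smul' := fun a z => by
        obtain ⟨z, rfl⟩ := (e ω' hq').surjective z
        have hea : e ω' hq' (algebraMap A B a • z) = a • e ω' hq' z := by
          rw [hemul, ← smulMod_push hp, hmap_smulMod]
        rw [← hea, AddEquiv.symm_apply_apply, AddEquiv.symm_apply_apply, map_smul, RingHom.id_apply]
        exact (Algebra.smul_def a (tw z)).symm }
  obtain ⟨Φ, hΦ, -⟩ := tr_spec NB _ hpω ψA
  have hΦmul : ∀ b : B, mul B p ω' b ≫ Φ = Φ ≫ act A X d b := fun b => by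
    refine tr_ext hpω _ _ fun z => ?_
    obtain ⟨z, rfl⟩ := (e ω' hq').surjective z
    rw [hmap_comp, hmap_comp, tr_natural, ← hΦ, ← hΦ, ← hemul]
    change tw _ = b * tw _
    rw [AddEquiv.symm_apply_apply, AddEquiv.symm_apply_apply, map_smul]
    rfl
  -- equivariant maps factor through `Φ`
  have hfac : ∀ (F' : X'.Modules) (hF : Coh.IsQCoh F') (q : (Coh.push p).obj F' ⟶ RB A B X d),
      (∀ b : B, mul B p F' b ≫ q = q ≫ act A X d b) → ∃ φ : F' ⟶ ω', (Coh.push p).map φ ≫ Φ = q := by
    intro F' hF q hq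
    obtain ⟨t, ht⟩ := exists_functional F' (e F' hF) (fun b z => hemul F' hF b z) q hq
    obtain ⟨φ, hφ, -⟩ := htw F' hF t
    haveI := hF
    refine ⟨φ, tr_ext (Groth.L16.QcqsPush.isQCoh_push F' p) _ _ fun z => ?_⟩
    obtain ⟨z, rfl⟩ := (e F' hF).surjective z
    rw [← ht, hφ, hmap_comp, ← hΦ, ← he hF hq']
    change tw _ = _
    rw [AddEquiv.symm_apply_apply]
  haveI := isQCoh_RR A X d NB
  -- a section of `Φ`
  obtain ⟨eR, κR, hκR⟩ := exists_push_pull hp (RB A B X d)
  let TR := G (A := A) (RB A B X d)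
  have hTR : ∀ (a : A), eR.inv ≫ TR.map (a • 𝟙 (one A)) ≫ eR.hom = Formal.smulMod A (RB A B X d) a := fun a => by
    rw [Groth.L17.BC.TensorA.G_smul_id]
    change eR.inv ≫ Formal.smulModΓ _ _ ≫ eR.hom = Formal.smulModΓ _ _
    rw [Groth.L16.Rees.smulModΓ_naturality, Iso.inv_hom_id_assoc]
  obtain ⟨mR, hmR⟩ : ∃ mR : TR.obj NB ⟶ RB A B X d, ∀ b : B, TR.map (el NB b) ≫ mR = eR.hom ≫ act A X d b := by
    refine EW.exists_desc (N := NB) TR (fun b : NB => eR.hom ≫ act A X d b) (fun b c => ?_) fun a b => ?_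
    · rw [← Preadditive.comp_add, ← Functor.map_add]
      exact congrArg (fun g => eR.hom ≫ (RR A X d).map g) (ModuleCat.hom_ext (LinearMap.ext fun x => add_mul _ _ _))
    · have h : TR.map (a • 𝟙 (one A)) ≫ eR.hom = eR.hom ≫ Formal.smulMod A (RB A B X d) a :=
        (Iso.inv_comp_eq eR).1 (hTR a)
      rw [reassoc_of% h, ← RR_smul_id, ← Functor.map_comp]
      refine congrArg (fun g => eR.hom ≫ (RR A X d).map g) (ModuleCat.hom_ext (LinearMap.ext fun x => ?_))
      show (a • (b : B)) * x = (b : B) * (a • x)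
      rw [smul_mul_assoc, mul_smul_comm]
  let P_R := (Scheme.Modules.pullback p).obj (RB A B X d)
  have hPR : Coh.IsQCoh P_R := Groth.L16.AffineBC.isQCoh_pullback p _
  let q : (Coh.push p).obj P_R ⟶ RB A B X d := κR.inv ≫ mR
  have hq : ∀ b : B, mul B p P_R b ≫ q = q ≫ act A X d b := fun c => by
    rw [← cancel_epi κR.hom]
    refine EW.hom_ext TR _ _ fun b => ?_
    have h1 : TR.map (el NB b) ≫ κR.hom ≫ mul B p P_R c = TR.map (el NB (c * b : B)) ≫ κR.hom := by
      rw [← Category.assoc, hκR, hκR]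
      simp only [Category.assoc]
      rw [mul_comp]
    calc TR.map (el NB b) ≫ κR.hom ≫ mul B p P_R c ≫ q
        = (TR.map (el NB b) ≫ κR.hom ≫ mul B p P_R c) ≫ q := by simp only [Category.assoc]
      _ = eR.hom ≫ act A X d (c * b : B) := by simp [h1, q, hmR]
      _ = TR.map (el NB b) ≫ κR.hom ≫ q ≫ act A X d c := by
          simp only [q, Iso.hom_inv_id_assoc, Category.assoc, reassoc_of% hmR]
          rw [← Functor.map_comp]
          exact congrArg (fun g => eR.hom ≫ (RR A X d).map g)
            (ModuleCat.hom_ext (LinearMap.ext fun x => mul_assoc c b x))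
  obtain ⟨φR, hφR⟩ := hfac P_R hPR q hq
  let s : RB A B X d ⟶ (Coh.push p).obj ω' := unit p _ ≫ (Coh.push p).map φR
  have hs : s ≫ Φ = 𝟙 _ := by
    have h1 := hκR 1
    have h2 : mul B p P_R (1 : B) = 𝟙 _ := by
      rw [← CategoryTheory.Functor.map_id]
      refine congrArg _ (Scheme.Modules.hom_ext _ _ fun U => ?_)
      ext x
      rw [Groth.L16.HomSh.smulMod_app, map_one, one_smul]
      rfl
    rw [h2, Category.comp_id] at h1
    rw [← cancel_epi eR.hom, Category.assoc, hφR, ← Category.assoc eR.hom, ← h1]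
    simp only [q, Category.assoc, Iso.hom_inv_id_assoc]
    refine (hmR 1).trans ?_
    refine (congrArg (fun g => eR.hom ≫ (RR A X d).map g)
      (ModuleCat.hom_ext (LinearMap.ext fun x => one_mul x) :
        (ModuleCat.ofHom (LinearMap.mulLeft A (1 : B)) : NB ⟶ NB) = 𝟙 NB)).trans ?_
    rw [CategoryTheory.Functor.map_id]
  haveI : Mono Φ := by
    refine Preadditive.mono_of_isZero_kernel _ ((IsZero.iff_id_eq_zero _).2 ?_)
    haveI hK : Coh.IsQCoh (kernel Φ) := (Groth.L00.AlgQCoh.isQCoh_kernel_cokernel Φ hpω (isQCoh_RR A X d NB)).1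
    rw [← cancel_mono (kernel.ι Φ), zero_comp, Category.id_comp]
    let v := kernel.ι Φ
    let adj := Scheme.Modules.pullbackPushforwardAdjunction p
    let φv := (adj.homEquiv (kernel Φ) ω').symm v
    obtain ⟨eK, κK, hκK⟩ := exists_push_pull hp (kernel Φ)
    have hv : unit p (kernel Φ) ≫ (Coh.push p).map φv = v :=
      (adj.homEquiv_unit _ _ φv).symm.trans (Equiv.apply_symm_apply _ v)
    have h0 : (Coh.push p).map φv ≫ Φ = 0 := by
      rw [← cancel_epi κK.hom, comp_zero]
      refine EW.hom_ext (G (A := A) (kernel Φ)) _ _ fun b => ?_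
      rw [comp_zero, ← Category.assoc, hκK]
      simp only [Category.assoc]
      have hnat : mul B p _ b ≫ (Coh.push p).map φv = (Coh.push p).map φv ≫ mul B p ω' b := by
        rw [← Functor.map_comp, ← Functor.map_comp]
        exact congrArg _ (Groth.L16.Rees.smulModΓ_naturality _ _)
      rw [reassoc_of% hnat, hΦmul, reassoc_of% hv, kernel.condition_assoc]
      simp
    have hφv : φv = 0 := by
      haveI : Coh.IsQCoh (kernel Φ) := hK
      have hP := Groth.L16.AffineBC.isQCoh_pullback p (kernel Φ)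
      refine (htw _ hP 0).unique (fun z => ?_) fun z => ?_
      · have h := congrArg (fun g => tr A X d NB (hmap g d (e _ hP z))) h0
        simp only [hmap_comp, ← he hP hq', ← hΦ, Groth.L10.TopDual.hmap_zero, map_zero] at h
        change tw _ = _ at h
        rw [AddEquiv.symm_apply_apply] at h
        exact h.symm
      · rw [Groth.L10.TopDual.hmap_zero, map_zero]
        rfl
    show v = 0
    rw [← hv, hφv, Functor.map_zero, comp_zero]
  haveI : IsIso Φ := ⟨s, by rw [← cancel_mono Φ, Category.assoc, hs, Category.comp_id, Category.id_comp], hs⟩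
  -- the old sheaf
  obtain ⟨e₀, κ₀, hκ₀⟩ := exists_push_pull hp (ω₀ A X d)
  let T := G (A := A) (ω₀ A X d)
  let P := (Scheme.Modules.pullback p).obj (ω₀ A X d)
  have hP : Coh.IsQCoh P := Groth.L16.AffineBC.isQCoh_pullback p _
  -- normalise the identification
  let cor : ω₀ A X d ≅ ω₀ A X d := e₀.symm ≪≫ e₁ A X d
  let κ₁ : T.obj NB ≅ (Coh.push p).obj P := κ₀ ≪≫ (Coh.push p).mapIso ((Scheme.Modules.pullback p).mapIso cor)
  have hκ₁ : ∀ b : B, T.map (el NB b) ≫ κ₁.hom = (e₁ A X d).hom ≫ unit p _ ≫ mul B p P b := fun b => by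
    have hu : unit p (ω₀ A X d) ≫ (Coh.push p).map ((Scheme.Modules.pullback p).map cor.hom) =
        cor.hom ≫ unit p (ω₀ A X d) :=
      ((Scheme.Modules.pullbackPushforwardAdjunction p).unit.naturality cor.hom).symm
    have hm : mul B p ((Scheme.Modules.pullback p).obj (ω₀ A X d)) b ≫
          (Coh.push p).map ((Scheme.Modules.pullback p).map cor.hom) =
        (Coh.push p).map ((Scheme.Modules.pullback p).map cor.hom) ≫ mul B p P b := by
      rw [← Functor.map_comp, ← Functor.map_comp]
      exact congrArg _ (Groth.L16.Rees.smulModΓ_naturality _ _)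
    show T.map (el NB b) ≫ κ₀.hom ≫ (Coh.push p).map ((Scheme.Modules.pullback p).map cor.hom) = _
    rw [reassoc_of% (hκ₀ b), hm, reassoc_of% hu]
    simp [cor]
  have hΨ : ∀ c : B, mul B p P c ≫ κ₁.inv ≫ cmp NB = (κ₁.inv ≫ cmp NB) ≫ act A X d c := fun c => by
    rw [← cancel_epi κ₁.hom]
    refine EW.hom_ext T _ _ fun b => ?_
    have h1 : T.map (el NB b) ≫ κ₁.hom ≫ mul B p P c = T.map (el NB (c * b : B)) ≫ κ₁.hom := by
      rw [← Category.assoc, hκ₁, hκ₁]
      simp only [Category.assoc]
      rw [mul_comp]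
    simp only [Iso.hom_inv_id_assoc, Category.assoc]
    rw [reassoc_of% h1, Iso.hom_inv_id_assoc, ← Category.assoc, cmp_el, cmp_el, Category.assoc, ← Functor.map_comp]
    exact congrArg (fun g => (e₁ A X d).hom ≫ (RR A X d).map g) (EW.el_comp (N := NB) (N' := NB) b (ModuleCat.ofHom (LinearMap.mulLeft A c) : NB ⟶ NB)).symm
  obtain ⟨lam, hlam⟩ := hfac P hP _ hΨ
  exact ⟨lam, asIso Φ, κ₁, by rw [asIso_hom, hlam, Iso.hom_inv_id_assoc]⟩

set_option maxHeartbeats 1600000 in
include hp in
/-- the base change map is invertible over the Cohen–Macaulay points -/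
theorem exists_bcMap_bijective [IsNoetherianRing A] [IsProper (X ↘ Spec (CommRingCat.of A))]
    [Flat (X ↘ Spec (CommRingCat.of A))] (hd : Cyc.HasRelDim (X ↘ Spec (CommRingCat.of A)) d)
    (U : X.Opens) (hU : ∀ x ∈ U, MoreMor.IsCMAt (X ↘ Spec (CommRingCat.of A)) x)
    (ω : X.Modules) (hω : RelCanon.IsDualizingSheaf A X d ω)
    (ω' : X'.Modules) (hω' : RelCanon.IsDualizingSheaf B X' d ω') :
    ∃ lam : (Scheme.Modules.pullback p).obj ω ⟶ ω', ∀ x' : X', p x' ∈ U →
      Function.Bijective ((Groth.L00.Stk.F X' x').map lam) := by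
  haveI := Sections.isAffineHom hp
  haveI : IsLocallyNoetherian X := LocallyOfFiniteType.isLocallyNoetherian (X ↘ Spec (CommRingCat.of A))
  let NB : ModuleCat.{u} A := ModuleCat.of A B
  obtain ⟨lam, Φ, κ, hc⟩ := exists_bcMap hp ω' hω'
  obtain ⟨e₀⟩ := nonempty_iso hω (isDualizingSheaf_ω₀ A X d)
  refine ⟨(Scheme.Modules.pullback p).map e₀.hom ≫ lam, fun x' hx' => ?_⟩
  rw [Functor.map_comp]
  refine (show Function.Bijective ((Groth.L00.Stk.F X' x').map lam) from ?_).comp
    (ConcreteCategory.bijective_of_isIso ((Groth.L00.Stk.F X' x').map ((Scheme.Modules.pullback p).map e₀.hom)))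
  -- the comparison is invertible on `U`
  have hiso : ∀ z ∈ U, IsIso ((Groth.L00.Stk.F X z).map (cmp (X := X) (d := d) NB)) := by
    intro z hz
    have hepi : ∀ M : ModuleCat.{u} A, Epi ((Groth.L00.Stk.F X z).map (cmp (X := X) (d := d) M)) := fun M => by
      let π : ModuleCat.of A (M →₀ A) ⟶ M := ModuleCat.ofHom (Finsupp.linearCombination A id)
      haveI : Epi π := (ModuleCat.epi_iff_surjective _).2 fun x => ⟨Finsupp.single x 1, by simp [π]⟩
      haveI := epi_stalk_RR_map d z (hU z hz) hd π
      haveI : IsIso (cmp (X := X) (d := d) (ModuleCat.of A (M →₀ A))) := isIso_cmp_of_flat _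
      let Sz := Groth.L00.Stk.F X z
      haveI : Epi (Sz.map ((G (A := A) (ω₀ A X d)).map π) ≫ Sz.map (cmp (X := X) (d := d) M)) := by
        rw [← Functor.map_comp, cmp_natural, Functor.map_comp]
        infer_instance
      exact epi_of_epi (Sz.map ((G (A := A) (ω₀ A X d)).map π)) _
    haveI := hepi NB
    haveI := mono_stalk_cmp z hepi (fun ι => isIso_cmp_of_flat _) NB
    exact isIso_of_mono_of_epi _
  -- an affine neighbourhood
  obtain ⟨W, hW, hxW, hWU⟩ := exists_isAffineOpen_mem_and_subset hx'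
  have hb : Function.Bijective (lam.app (p ⁻¹ᵁ W)) := by
    have h1 : Function.Bijective ((κ.hom ≫ (Coh.push p).map lam ≫ Φ.hom).app W) := by
      rw [hc]
      exact Groth.L15.Ref.app_bijective_of_stalk _ fun z hz =>
        haveI := hiso z (hWU hz)
        ConcreteCategory.bijective_of_isIso ((Groth.L00.Stk.F X z).map (cmp (X := X) (d := d) NB))
    simp only [Scheme.Modules.Hom.comp_app] at h1
    change Function.Bijective (Φ.hom.app W ∘ (lam.app (p ⁻¹ᵁ W)) ∘ κ.hom.app W) at h1
    rw [Function.Bijective.of_comp_iff' (ConcreteCategory.bijective_of_isIso (Φ.hom.app W)),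
      Function.Bijective.of_comp_iff _ (ConcreteCategory.bijective_of_isIso (κ.hom.app W))] at h1
    exact h1
  have hW' : IsAffineOpen (p ⁻¹ᵁ W) := hW.preimage p
  let P := (Scheme.Modules.pullback p).obj (ω₀ A X d)
  haveI : Coh.IsQCoh P := Groth.L16.AffineBC.isQCoh_pullback p _
  haveI : Coh.IsQCoh ω' := by obtain ⟨_, h, -⟩ := (isDualizingSheaf_iff ω').1 hω'; exact h
  have hxW' : x' ∈ p ⁻¹ᵁ W := hxW
  have hgerm : ∀ s, (Groth.L00.Stk.F X' x').map lam (P.presheaf.germ _ x' hxW' s) =
      ω'.presheaf.germ _ x' hxW' (lam.app _ s) := fun s => Groth.L21.Mod.stalkF_map_germ lam _ x' hxW' s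
  letI := Groth.L20.ModStalk.stalkModule P hxW'
  letI := Groth.L20.ModStalk.stalkModule ω' hxW'
  haveI := Groth.L20.ModStalk.isLocalizedModule_germ P hW' hxW'
  haveI := Groth.L20.ModStalk.isLocalizedModule_germ ω' hW' hxW'
  let S := (hW'.primeIdealOf ⟨x', hxW'⟩).asIdeal.primeCompl
  let g : P.presheaf.stalk x' →ₗ[Γ(X', p ⁻¹ᵁ W)] ω'.presheaf.stalk x' :=
    { toFun := fun v => (Groth.L00.Stk.F X' x').map lam v
      map_add' := map_add _
      map_smul' := fun r v => map_smul ((Groth.L00.Stk.F X' x').map lam).hom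
        (X'.presheaf.germ _ x' hxW' r) v }
  let l : Γ(P, p ⁻¹ᵁ W) ≃ₗ[Γ(X', p ⁻¹ᵁ W)] Γ(ω', p ⁻¹ᵁ W) :=
    LinearEquiv.ofBijective
      { toFun := fun s => lam.app _ s, map_add' := map_add _, map_smul' := fun r s => lam.app_smul r s } hb
  haveI : IsLocalizedModule S (Groth.L20.ModStalk.germₗ ω' hxW' ∘ₗ l.toLinearMap) :=
    IsLocalizedModule.of_linearEquiv_right S _ l
  have hg : g = (IsLocalizedModule.linearEquiv S (Groth.L20.ModStalk.germₗ P hxW')
      (Groth.L20.ModStalk.germₗ ω' hxW' ∘ₗ l.toLinearMap)).toLinearMap := by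
    refine IsLocalizedModule.ext S (Groth.L20.ModStalk.germₗ P hxW')
      (IsLocalizedModule.map_units (Groth.L20.ModStalk.germₗ ω' hxW')) (LinearMap.ext fun s => ?_)
    exact (hgerm s).trans (IsLocalizedModule.linearEquiv_apply S (Groth.L20.ModStalk.germₗ P hxW')
      (Groth.L20.ModStalk.germₗ ω' hxW' ∘ₗ l.toLinearMap) s).symm
  show Function.Bijective g
  rw [hg]
  exact LinearEquiv.bijective _

end Groth.L10.RelCan
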