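import Groth.Agent.L10.RelCan.CMCase
import Groth.Agent.L02.CMMor.Groupoid
import Groth.Agent.Lead.RelTorStalk

/-!
The relative dualizing sheaf is flat at Cohen–Macaulay points.
-/

set_option autoImplicit false
set_option linter.style.haveILetI false
set_option backward.defeqAttrib.useBackward true
set_option backward.isDefEq.respectTransparency false
set_option backward.isDefEq.respectTransparency.types false
universe u

open CategoryTheory CategoryTheory.Limits AlgebraicGeometry

attribute [local instance] HasDerivedCategory.standard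

noncomputable section

namespace Groth.L10.RelCan

open Groth.L29 Groth.L29.DC Groth.L10.ShriekLoc

variable {A : Type u} [CommRing A] [IsNoetherianRing A] {Y : Scheme.{u}} [Y.Over (Spec (CommRingCat.of A))]

set_option maxHeartbeats 1600000 in
/-- flat at Cohen–Macaulay points -/
theorem isFlatOverAt_of_cm [IsProper (Y ↘ Spec (CommRingCat.of A))] [Flat (Y ↘ Spec (CommRingCat.of A))] {d : ℕ}
    (hd : Cyc.HasRelDim (Y ↘ Spec (CommRingCat.of A)) d) (ω : Y.Modules)
    (hω : RelCanon.IsDualizingSheaf A Y d ω) (x : Y) (hx : MoreMor.IsCMAt (Y ↘ Spec (CommRingCat.of A)) x) :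
    FlatMod.IsFlatOverAt (Y ↘ Spec (CommRingCat.of A)) ω x := by
  let f := Y ↘ Spec (CommRingCat.of A)
  haveI := fun {P Q : Scheme.{u}} (k : P ⟶ Q) => Groth.L00.KFlat.hasLpull k
  haveI := fun (R : CommRingCat.{u}) => Groth.L18.TildeF.tilde_preservesFiniteLimits (R := R)
  haveI : ∀ (U V : Scheme.{u}) (j : U ⟶ V) [IsOpenImmersion j],
      PreservesFiniteLimits (Scheme.Modules.restrictFunctor j) := fun U V j _ => inferInstance
  haveI : IsLocallyNoetherian Y := LocallyOfFiniteType.isLocallyNoetherian f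
  haveI : LocallyOfFinitePresentation f := LocallyOfFinitePresentation.iff_locallyOfFiniteType.mpr inferInstance
  obtain ⟨c, hR, hc, a, adj, O, hO, hiff⟩ := exists_model (Y := Y) d hd
  haveI := hR
  obtain ⟨e₀⟩ := (hiff ω).1 hω
  let L := (Dual3.shriekC c a).obj O
  let m : ℤ := -(d : ℤ)
  let V : Y.Opens := ⟨{z | MoreMor.IsCMAt f z}, _root_.L02.CMMor.isOpen_cmLocus f⟩
  obtain ⟨G, ⟨eG⟩⟩ : ∃ G : CochainComplex Y.Modules ℤ, Nonempty (DCoh.toD Y G ≅ L) :=
    ⟨_, ⟨DerivedCategory.Q.objObjPreimageIso _⟩⟩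
  have hchart : ∀ z : (V : Scheme.{u}), DerSch.HasTorAmplitudeAt f m m G (V.ι z) := by
    intro z
    obtain ⟨d', C, ⟨w, hw⟩, hC⟩ := exists_chart_single c adj O hO (V.ι z) z.2
    obtain ⟨hfd, -, -, hamp⟩ := hC w
    have hle := localFibreDim_le_of_components hd (C.jU w)
    have hge := le_localFibreDim hd (C.jU w)
    rw [hfd] at hle hge
    obtain rfl : d = d' := le_antisymm (by exact_mod_cast hge) (by exact_mod_cast hle)
    rw [← hw]
    exact hamp G ⟨eG⟩
  let G' := ((Scheme.Modules.restrictFunctor V.ι).mapHomologicalComplex (ComplexShape.up ℤ)).obj G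
  let eG' : DCoh.toD (V : Scheme.{u}) G' ≅ (DCoh.restrictD V.ι).obj L :=
    ((Scheme.Modules.restrictFunctor V.ι).mapDerivedCategoryFactors.app G).symm ≪≫ (DCoh.restrictD V.ι).mapIso eG
  obtain ⟨-, hfl⟩ := isFlatOver_of_ampAt (f := V.ι ≫ f) G' eG' m fun z =>
    (Groth.Lead.SmoothStalk.amp_restrict_iff f V.ι z G m m).2 (hchart z)
  have hfl' : FlatMod.IsFlatOver (V.ι ≫ f) (ω.restrict V.ι) := RelBC.isFlatOver_of_iso (V.ι ≫ f)
    (HDResIso V.ι L m ≪≫ (Scheme.Modules.restrictFunctor V.ι).mapIso e₀.symm) hfl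
  let z : (V : Scheme.{u}) := ⟨x, hx⟩
  haveI : Module.Flat ((Spec (CommRingCat.of A)).presheaf.stalk (f x))
      ((Scheme.Modules.restrictFunctor V.ι ⋙ DerSch.stalkOver (V.ι ≫ f) z).obj ω) := hfl' z
  exact (Module.Flat.of_linearEquiv ((Groth.Lead.SmoothStalk.stalkResIso f V.ι z).app ω).toLinearEquiv :
    Module.Flat ((Spec (CommRingCat.of A)).presheaf.stalk (f x)) ((DerSch.stalkOver f (V.ι z)).obj ω))

end Groth.L10.RelCan
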