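import Groth.Agent.L10.RelCan.CoreAlg
import Groth.Agent.L01.FlatCx.Seq

/-!
A flat deformation of a module without self-extensions is unique.
-/

set_option autoImplicit false
set_option maxSynthPendingDepth 4
set_option linter.style.haveILetI false
set_option linter.unusedSectionVars false
universe u

open IsLocalRing
open scoped TensorProduct

noncomputable section

namespace Groth.L10.RelCan.Core

variable {A O : Type u} [CommRing A] [IsLocalRing A] [IsNoetherianRing A] [CommRing O] [IsLocalRing O] [IsNoetherianRing O]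
  [Algebra A O] [IsLocalHom (algebraMap A O)]
  {L W : Type u} [AddCommGroup L] [Module A L] [Module O L] [IsScalarTower A O L] [Module.Finite O L] [Module.Flat A L]
  [AddCommGroup W] [Module A W] [Module O W] [IsScalarTower A O W] [Module.Finite O W] [Module.Flat A W]

theorem mem_smul_of_tmul_one {X : Type u} [AddCommGroup X] [Module A X] [Module O X] [IsScalarTower A O X]
    (J : Ideal A) (x : X) (h : x ⊗ₜ[A] (1 : A ⧸ J) = 0) : x ∈ J.map (algebraMap A O) • (⊤ : Submodule O X) := by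
  have h2 := congrArg (TensorProduct.tensorQuotEquivQuotSMul X J) h
  rw [map_zero, show (1 : A ⧸ J) = Ideal.Quotient.mk _ 1 from rfl] at h2
  have h3 : x ∈ (J • ⊤ : Submodule A X) := by
    rw [← Submodule.Quotient.mk_eq_zero, ← h2]
    simp [TensorProduct.tensorQuotEquivQuotSMul]
  refine Submodule.smul_induction_on h3 (fun a ha m _ => ?_) (fun y y' hy hy' => add_mem hy hy')
  rw [← algebraMap_smul O a]
  exact Submodule.smul_mem_smul (Ideal.mem_map_of_mem _ ha) trivial

variable (θ : L ⊗[A] (A ⧸ maximalIdeal A) ≃ₗ[O] W ⊗[A] (A ⧸ maximalIdeal A))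
  (hext : ∀ (a : ℕ) (π : (Fin a → O) →ₗ[O] W ⊗[A] (A ⧸ maximalIdeal A)), Function.Surjective π →
    ∀ g : LinearMap.ker π →ₗ[O] W ⊗[A] (A ⧸ maximalIdeal A),
      (∀ k : LinearMap.ker π, (k : Fin a → O) ∈ (maximalIdeal A).map (algebraMap A O) • (⊤ : Submodule O (Fin a → O)) → g k = 0) →
      ∃ h : (Fin a → O) →ₗ[O] W ⊗[A] (A ⧸ maximalIdeal A), ∀ k : LinearMap.ker π, h k = g k)

include θ hext in
theorem extend_to_residue {a : ℕ} (π : (Fin a → O) →ₗ[O] L) (hπ : Function.Surjective π)
    (g : LinearMap.ker π →ₗ[O] W ⊗[A] (A ⧸ maximalIdeal A)) :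
    ∃ h : (Fin a → O) →ₗ[O] W ⊗[A] (A ⧸ maximalIdeal A), ∀ k : LinearMap.ker π, h k = g k := by
  let κ := A ⧸ maximalIdeal A
  let F := Fin a → O
  let K := LinearMap.ker π
  let ι : K ⊗[A] κ →ₗ[O] F ⊗[A] κ := TensorProduct.AlgebraTensorModule.map K.subtype LinearMap.id
  have hιr : ∀ z, ι z = (K.subtype.restrictScalars A).rTensor κ z := fun z => rfl
  have hι : Function.Injective ι := fun z w h =>
    Groth.L01.FlatCx.rTensor_injective_of_flat_quot (f := K.subtype.restrictScalars A) (g := π.restrictScalars A)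
      K.injective_subtype hπ (LinearMap.exact_subtype_ker_map π) κ h
  -- maps from the kernel factor through its reduction
  let m : W ⊗[A] κ →ₗ[O] W ⊗[A] κ := LinearMap.id
  let Φ : K ⊗[A] κ →ₗ[O] W ⊗[A] κ :=
    (TensorProduct.AlgebraTensorModule.map LinearMap.id (LinearMap.mul' A κ)).comp
      ((TensorProduct.AlgebraTensorModule.assoc A A O W κ κ).toLinearMap.comp
        (TensorProduct.AlgebraTensorModule.map g LinearMap.id))
  have hΦ : ∀ k : K, Φ (k ⊗ₜ 1) = g k := fun k => by
    show TensorProduct.AlgebraTensorModule.map LinearMap.id (LinearMap.mul' A κ)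
      (TensorProduct.AlgebraTensorModule.assoc A A O W κ κ (g k ⊗ₜ 1)) = g k
    induction g k using TensorProduct.induction_on with
    | zero => simp
    | tmul w c => simp
    | add x y hx hy => rw [TensorProduct.add_tmul, map_add, map_add, hx, hy]
  -- the presentation of the reduction
  let mkF : F →ₗ[O] F ⊗[A] κ := (TensorProduct.AlgebraTensorModule.mk A O F κ).flip 1
  let π' : F →ₗ[O] W ⊗[A] κ := θ.toLinearMap.comp (((TensorProduct.AlgebraTensorModule.mk A O L κ).flip 1).comp π)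
  have hπ' : Function.Surjective π' := fun w => by
    obtain ⟨l, hl⟩ := exists_tmul_one (maximalIdeal A) (θ.symm w)
    obtain ⟨x, rfl⟩ := hπ l
    exact ⟨x, by show θ (π x ⊗ₜ 1) = w; rw [hl, θ.apply_symm_apply]⟩
  have hrange : ∀ x : LinearMap.ker π', mkF (x : F) ∈ LinearMap.range ι := fun x => by
    have h1 : π (x : F) ⊗ₜ[A] (1 : κ) = 0 := θ.injective (by rw [map_zero]; exact LinearMap.mem_ker.1 x.2)
    obtain ⟨z, hz⟩ := (rTensor_exact κ (f := K.subtype.restrictScalars A) (g := π.restrictScalars A)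
      (LinearMap.exact_subtype_ker_map π) hπ ((x : F) ⊗ₜ 1)).1 h1
    exact ⟨z, (hιr z).trans hz⟩
  let g' : LinearMap.ker π' →ₗ[O] W ⊗[A] κ :=
    Φ.comp ((LinearEquiv.ofInjective ι hι).symm.toLinearMap.comp
      ((mkF.comp (LinearMap.ker π').subtype).codRestrict _ hrange))
  have hg' : ∀ (x : LinearMap.ker π') (z : K ⊗[A] κ), ι z = mkF (x : F) → g' x = Φ z := fun x z hz => by
    refine congrArg Φ ((LinearEquiv.symm_apply_eq _).2 (Subtype.ext ?_))
    exact hz.symm
  obtain ⟨h, hh⟩ := hext a π' hπ' g' fun x hx => by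
    rw [hg' x 0 ?_, map_zero]
    rw [map_zero]
    refine (Submodule.smul_induction_on hx (fun r hr n _ => ?_) fun y y' hy hy' => ?_ : mkF (x : F) = 0).symm
    · rw [map_smul]
      exact Module.mem_annihilator.1 (map_le_annihilator F hr) _
    · rw [map_add, hy, hy', add_zero]
  refine ⟨h, fun k => ?_⟩
  have hk : (k : F) ∈ LinearMap.ker π' := LinearMap.mem_ker.2 (by
    show θ (π k ⊗ₜ 1) = 0
    rw [LinearMap.mem_ker.1 k.2, TensorProduct.zero_tmul, map_zero])
  exact (hh ⟨k, hk⟩).trans ((hg' ⟨k, hk⟩ (k ⊗ₜ 1) rfl).trans (hΦ k))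

include θ hext in
theorem extend_finiteLength {a : ℕ} (π : (Fin a → O) →ₗ[O] L) (hπ : Function.Surjective π)
    (N : Type u) [AddCommGroup N] [Module A N] (hN : IsFiniteLength A N)
    (g : LinearMap.ker π →ₗ[O] W ⊗[A] N) :
    ∃ h : (Fin a → O) →ₗ[O] W ⊗[A] N, ∀ k : LinearMap.ker π, h k = g k := by
  induction hN with
  | @of_subsingleton N _ _ _ =>
    haveI : Subsingleton (W ⊗[A] N) := inferInstance
    exact ⟨0, fun k => Subsingleton.elim _ _⟩
  | @of_simple_quotient N _ _ p _ _ ih =>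
    obtain ⟨e⟩ := exists_equiv_of_isSimple (A := A) (N ⧸ p)
    let q : W ⊗[A] N →ₗ[O] W ⊗[A] (A ⧸ maximalIdeal A) :=
      TensorProduct.AlgebraTensorModule.map LinearMap.id (e.symm.toLinearMap.comp p.mkQ)
    have hq : Function.Surjective q := LinearMap.lTensor_surjective W (e.symm.surjective.comp p.mkQ_surjective)
    obtain ⟨h₁, hh₁⟩ := extend_to_residue θ hext π hπ (q.comp g)
    choose x hx using fun j => hq (h₁ (Pi.basisFun O (Fin a) j))
    let h₂ : (Fin a → O) →ₗ[O] W ⊗[A] N := (Pi.basisFun O (Fin a)).constr O x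
    have hh₂ : q.comp h₂ = h₁ := (Pi.basisFun O (Fin a)).ext fun j => by
      simp only [LinearMap.comp_apply, h₂, Module.Basis.constr_basis, hx]
    let i : W ⊗[A] p →ₗ[O] W ⊗[A] N := TensorProduct.AlgebraTensorModule.map LinearMap.id p.subtype
    have hi : Function.Injective i := Module.Flat.lTensor_preserves_injective_linearMap _ p.injective_subtype
    have hmem : ∀ k : LinearMap.ker π, g k - h₂ k ∈ LinearMap.range i := fun k => by
      refine (lTensor_exact W (f := p.subtype) (g := e.symm.toLinearMap.comp p.mkQ) ?_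
        (e.symm.surjective.comp p.mkQ_surjective) _).1 ?_
      · intro y
        simp only [LinearMap.comp_apply, LinearEquiv.coe_coe, EmbeddingLike.map_eq_zero_iff, Submodule.mkQ_apply,
          Submodule.Quotient.mk_eq_zero]
        exact ⟨fun hy => ⟨⟨y, hy⟩, rfl⟩, fun ⟨⟨z, hz⟩, hzy⟩ => hzy ▸ hz⟩
      · show q (g k - h₂ k) = 0
        rw [map_sub, sub_eq_zero]
        exact ((LinearMap.congr_fun hh₂ (k : Fin a → O)).trans (hh₁ k)).symm
    obtain ⟨h₃, hh₃⟩ := ih ((LinearEquiv.ofInjective i hi).symm.toLinearMap.comp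
      ((g - h₂.comp (LinearMap.ker π).subtype).codRestrict _ hmem))
    refine ⟨h₂ + i.comp h₃, fun k => ?_⟩
    have h4 : i (h₃ k) = g k - h₂ k := by
      rw [hh₃ k]
      exact congrArg Subtype.val ((LinearEquiv.ofInjective i hi).apply_symm_apply ⟨g k - h₂ k, hmem k⟩)
    rw [LinearMap.add_apply, LinearMap.comp_apply, h4, add_sub_cancel]

include θ hext in
/-- a flat deformation of a module without self-extensions is unique -/
theorem nonempty_equiv_of_residue : Nonempty (L ≃ₗ[O] W) := by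
  obtain ⟨a, π, hπ⟩ := Module.Finite.exists_fin' O L
  let F := Fin a → O
  obtain ⟨b, r, hr⟩ := Submodule.fg_iff_exists_fin_generating_family.1 (IsNoetherian.noetherian (LinearMap.ker π))
  let κ := A ⧸ maximalIdeal A
  let I := (maximalIdeal A).map (algebraMap A O)
  let B := Pi.basisFun O (Fin a)
  let T : (F →ₗ[O] W) →ₗ[O] (Fin b → W) := LinearMap.pi fun i => LinearMap.applyₗ (r i)
  obtain ⟨c, hc⟩ := I.exists_pow_inf_eq_pow_smul (LinearMap.range T)
  let N := A ⧸ maximalIdeal A ^ (c + 1)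
  let fac : N →ₗ[A] κ := Submodule.factor (Ideal.pow_le_self c.succ_ne_zero)
  let Q : W ⊗[A] N →ₗ[O] W ⊗[A] κ := TensorProduct.AlgebraTensorModule.map LinearMap.id fac
  let g₀ : F →ₗ[O] W ⊗[A] κ := θ.toLinearMap.comp (((TensorProduct.AlgebraTensorModule.mk A O L κ).flip 1).comp π)
  -- lift to a deep level
  have hQ : Function.Surjective Q := LinearMap.lTensor_surjective W (Submodule.factor_surjective _)
  choose x hx using fun j => hQ (g₀ (B j))
  let h₁ : F →ₗ[O] W ⊗[A] N := B.constr O x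
  have hh₁ : Q.comp h₁ = g₀ := B.ext fun j => by simp only [LinearMap.comp_apply, h₁, Module.Basis.constr_basis, hx]
  let p := LinearMap.ker fac
  let i : W ⊗[A] p →ₗ[O] W ⊗[A] N := TensorProduct.AlgebraTensorModule.map LinearMap.id p.subtype
  have hi : Function.Injective i := Module.Flat.lTensor_preserves_injective_linearMap _ p.injective_subtype
  have hmem : ∀ k : LinearMap.ker π, h₁ k ∈ LinearMap.range i := fun k => by
    refine (lTensor_exact W (f := p.subtype) (g := fac) (LinearMap.exact_subtype_ker_map fac)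
      (Submodule.factor_surjective _) _).1 ?_
    show Q (h₁ k) = 0
    rw [← LinearMap.comp_apply, hh₁]
    show θ (π k ⊗ₜ 1) = 0
    rw [LinearMap.mem_ker.1 k.2, TensorProduct.zero_tmul, map_zero]
  obtain ⟨hn, ha⟩ := isFiniteLength_iff_isNoetherian_isArtinian.1 (isFiniteLength_quotient_pow (A := A) c)
  haveI := hn
  haveI := ha
  obtain ⟨h₂, hh₂⟩ := extend_finiteLength θ hext π hπ p (isFiniteLength_iff_isNoetherian_isArtinian.2
    ⟨inferInstance, inferInstance⟩) ((LinearEquiv.ofInjective i hi).symm.toLinearMap.comp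
      ((h₁.comp (LinearMap.ker π).subtype).codRestrict _ hmem))
  let h₃ : F →ₗ[O] W ⊗[A] N := h₁ - i.comp h₂
  choose y hy using fun j => exists_tmul_one (maximalIdeal A ^ (c + 1)) (h₃ (B j))
  let φ : F →ₗ[O] W := B.constr O y
  have hφ : ∀ v, φ v ⊗ₜ[A] (1 : N) = h₃ v := fun v =>
    LinearMap.congr_fun (B.ext (f₁ := ((TensorProduct.AlgebraTensorModule.mk A O W N).flip 1).comp φ)
      (f₂ := h₃) fun j => by
        simp only [LinearMap.comp_apply, φ, Module.Basis.constr_basis]
        exact hy j) v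
  have hker : ∀ k : LinearMap.ker π, h₃ k = 0 := fun k => by
    show h₁ k - i (h₂ k) = 0
    rw [hh₂ k, sub_eq_zero]
    exact (congrArg Subtype.val ((LinearEquiv.ofInjective i hi).apply_symm_apply ⟨h₁ k, hmem k⟩)).symm
  have hrmem : ∀ j, r j ∈ LinearMap.ker π := fun j => hr ▸ Submodule.subset_span ⟨j, rfl⟩
  have hTφ : T φ ∈ I ^ (c + 1) • (⊤ : Submodule O (Fin b → W)) := by
    rw [show T φ = ∑ j, (LinearMap.single O (fun _ : Fin b => W) j) (φ (r j)) from
      (Finset.univ_sum_single (T φ)).symm]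
    refine Submodule.sum_mem _ fun j _ => ?_
    have h5 : φ (r j) ∈ (maximalIdeal A ^ (c + 1)).map (algebraMap A O) • (⊤ : Submodule O W) :=
      mem_smul_of_tmul_one _ _ ((hφ _).trans (hker ⟨r j, hrmem j⟩))
    rw [Ideal.map_pow] at h5
    refine Submodule.smul_induction_on h5 (fun s hs n _ => ?_) (fun z z' hz hz' => by rw [map_add]; exact add_mem hz hz')
    rw [map_smul]
    exact Submodule.smul_mem_smul hs trivial
  have hmem' : T φ ∈ I ^ 1 • LinearMap.range T := by
    refine Submodule.smul_mono le_rfl inf_le_right (?_ : T φ ∈ I ^ 1 • (I ^ c • ⊤ ⊓ LinearMap.range T))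
    have := hc (c + 1) (Nat.le_succ c)
    rw [Nat.add_sub_cancel_left] at this
    exact this ▸ ⟨hTφ, φ, rfl⟩
  rw [LinearMap.range_eq_map, ← Submodule.map_smul'', pow_one] at hmem'
  obtain ⟨ψ, hψ, hψT⟩ := hmem'
  have hψI : ∀ v, ψ v ⊗ₜ[A] (1 : κ) = 0 := fun v => by
    refine Submodule.smul_induction_on hψ (fun s hs n _ => ?_) (fun z z' hz hz' => ?_)
    · rw [LinearMap.smul_apply, ← TensorProduct.smul_tmul']
      exact Module.mem_annihilator.1 (map_le_annihilator W hs) _
    · rw [LinearMap.add_apply, TensorProduct.add_tmul, hz, hz', add_zero]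
  have hle : LinearMap.ker π ≤ LinearMap.ker (φ - ψ) := by
    rw [← hr, Submodule.span_le]
    rintro _ ⟨j, rfl⟩
    show φ (r j) - ψ (r j) = 0
    rw [sub_eq_zero]
    exact (congrFun hψT j).symm
  let f : L →ₗ[O] W := ((LinearMap.ker π).liftQ (φ - ψ) hle).comp (π.quotKerEquivOfSurjective hπ).symm.toLinearMap
  have hf : ∀ v, f (π v) ⊗ₜ[A] (1 : κ) = θ (π v ⊗ₜ 1) := fun v => by
    have h6 : f (π v) = φ v - ψ v := by
      show (LinearMap.ker π).liftQ (φ - ψ) hle ((π.quotKerEquivOfSurjective hπ).symm (π v)) = _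
      rw [show π v = π.quotKerEquivOfSurjective hπ (Submodule.Quotient.mk v) from rfl, LinearEquiv.symm_apply_apply]
      rfl
    rw [h6, TensorProduct.sub_tmul, hψI, sub_zero]
    have h7 : Q (φ v ⊗ₜ[A] (1 : N)) = φ v ⊗ₜ[A] (1 : κ) := rfl
    rw [← h7, hφ]
    show Q (h₁ v - i (h₂ v)) = g₀ v
    rw [map_sub, ← LinearMap.comp_apply, hh₁, show Q (i (h₂ v)) = 0 from ?_, sub_zero]
    exact (lTensor_exact W (f := p.subtype) (g := fac) (LinearMap.exact_subtype_ker_map fac)
      (Submodule.factor_surjective _) _).2 ⟨h₂ v, rfl⟩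
  have hsurj : Function.Surjective f := by
    rw [← LinearMap.range_eq_top, eq_top_iff]
    refine Submodule.le_of_le_smul_of_le_jacobson_bot (Module.Finite.fg_top)
      ((map_maximalIdeal_le (A := A)).trans (maximalIdeal_le_jacobson _)) fun w _ => ?_
    obtain ⟨l, hl⟩ := exists_tmul_one (maximalIdeal A) (θ.symm (w ⊗ₜ 1))
    obtain ⟨v, rfl⟩ := hπ l
    have h8 : (w - f (π v)) ⊗ₜ[A] (1 : κ) = 0 := by
      rw [TensorProduct.sub_tmul, hf, hl, θ.apply_symm_apply, sub_self]
    rw [show w = f (π v) + (w - f (π v)) from (add_sub_cancel _ _).symm]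
    exact Submodule.add_mem_sup ⟨_, rfl⟩ (mem_smul_of_tmul_one _ _ h8)
  refine ⟨LinearEquiv.ofBijective f ⟨?_, hsurj⟩⟩
  rw [← LinearMap.ker_eq_bot]
  let K' := LinearMap.ker f
  refine Submodule.eq_bot_of_le_smul_of_le_jacobson_bot I K' (IsNoetherian.noetherian K')
    (fun z hz => ?_) ((map_maximalIdeal_le (A := A)).trans (maximalIdeal_le_jacobson _))
  have h9 : (z : L) ⊗ₜ[A] (1 : κ) = 0 := θ.injective (by
    obtain ⟨v, rfl⟩ := hπ z
    rw [map_zero, ← hf, LinearMap.mem_ker.1 hz, TensorProduct.zero_tmul])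
  have h10 : (⟨z, hz⟩ : K') ⊗ₜ[A] (1 : κ) = 0 :=
    Groth.L01.FlatCx.rTensor_injective_of_flat_quot (f := K'.subtype.restrictScalars A) (g := f.restrictScalars A)
      K'.injective_subtype hsurj (LinearMap.exact_subtype_ker_map f) κ (h9.trans (map_zero _).symm)
  have h11 := Submodule.mem_map_of_mem (f := K'.subtype) (mem_smul_of_tmul_one _ _ h10)
  rwa [Submodule.map_smul'', Submodule.map_top, Submodule.range_subtype] at h11

end Groth.L10.RelCan.Core
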