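import Groth.Agent.L10.RelCan.RightExactLoc
import Groth.Agent.L20.ModStalk

/-!
Stalks of the comparison between tensoring the dualizing sheaf and the right adjoint of top cohomology.
-/

set_option autoImplicit false
set_option linter.style.haveILetI false
set_option backward.defeqAttrib.useBackward true
set_option backward.isDefEq.respectTransparency false
set_option backward.isDefEq.respectTransparency.types false
universe u

open CategoryTheory CategoryTheory.Limits AlgebraicGeometry TopologicalSpace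
open scoped TensorProduct

noncomputable section

namespace Groth.L10.RelCan

open Groth.L10.TopDual.Rep (cohFunctor)
open Groth.L16.CohLinear (hmap hmap_comp hmap_id)
open EW (one el)

variable {A : Type u} [CommRing A] {X : Scheme.{u}} [X.Over (Spec (CommRingCat.of A))]

variable (A X) in
/-- the base ring in a local ring of the scheme -/
def stalkScal (x : X) : A →+* X.presheaf.stalk x :=
  (X.presheaf.germ ⊤ x trivial).hom.comp (Coh.toGlobal (X ↘ Spec (CommRingCat.of A)))

theorem germ_scal (U : X.Opens) {x : X} (hx : x ∈ U) (a : A) :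
    X.presheaf.germ U x hx (Groth.L16.AffineBC.scal A X U a) = stalkScal A X x a := by
  exact TopCat.Presheaf.germ_res_apply X.presheaf (homOfLE le_top : U ⟶ ⊤) x hx _

theorem stalk_smulMod (F : X.Modules) (a : A) (x : X) (v : (Groth.L00.Stk.F X x).obj F) :
    (Groth.L00.Stk.F X x).map (Formal.smulMod A F a) v = stalkScal A X x a • v := by
  obtain ⟨U, hx, s, rfl⟩ := TopCat.Presheaf.exists_germ_eq F.presheaf v
  refine (Groth.L21.Mod.stalkF_map_germ (Formal.smulMod A F a) _ x hx s).trans ?_
  rw [Groth.L16.HomSh.smulMod_app]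
  refine (Groth.L20.ModStalk.germ_smul F hx _ s).trans ?_
  rw [germ_scal]

/-- stalks of `F ⊗ N` are tensor products -/
theorem exists_tensor_stalk (F : X.Modules) (x : X) :
    letI : Module A ((Groth.L00.Stk.F X x).obj F) := Module.compHom _ (stalkScal A X x)
    letI : Algebra A (X.presheaf.stalk x) := (stalkScal A X x).toAlgebra
    haveI : IsScalarTower A (X.presheaf.stalk x) ((Groth.L00.Stk.F X x).obj F) :=
      IsScalarTower.of_algebraMap_smul fun _ _ => rfl
    ∀ (e : (Groth.L17.BC.TensorA.G (A := A) F).obj (one A) ≅ F) (N : ModuleCat.{u} A),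
      ∃ Θ : ((Groth.L00.Stk.F X x).obj F ⊗[A] N) ≃ₗ[X.presheaf.stalk x]
          (Groth.L00.Stk.F X x).obj ((Groth.L17.BC.TensorA.G (A := A) F).obj N),
        ∀ v (n : N), Θ (v ⊗ₜ n) =
          (Groth.L00.Stk.F X x).map (e.inv ≫ (Groth.L17.BC.TensorA.G (A := A) F).map (el N n)) v := by
  letI : Module A ((Groth.L00.Stk.F X x).obj F) := Module.compHom _ (stalkScal A X x)
  letI : Algebra A (X.presheaf.stalk x) := (stalkScal A X x).toAlgebra
  haveI : IsScalarTower A (X.presheaf.stalk x) ((Groth.L00.Stk.F X x).obj F) :=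
    IsScalarTower.of_algebraMap_smul fun _ _ => rfl
  intro e N
  let T := Groth.L17.BC.TensorA.G (A := A) F
  let Sx := Groth.L00.Stk.F X x
  let O := X.presheaf.stalk x
  haveI : T.Additive := inferInstance
  haveI : Sx.Additive := Functor.additive_of_preserves_binary_products _
  have hT : ∀ (a : A) (v : Sx.obj (T.obj (one A))),
      Sx.map (T.map (a • 𝟙 (one A))) v = stalkScal A X x a • v := fun a v => by
    rw [Groth.L17.BC.TensorA.G_smul_id]
    exact stalk_smulMod _ a x v
  let Φ : ModuleCat.{u} A ⥤ ModuleCat.{u} O := T ⋙ Sx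
  haveI : PreservesColimitsOfSize.{u, u} Φ := inferInstanceAs (PreservesColimitsOfSize.{u, u} (T ⋙ Sx))
  haveI : Φ.Additive := inferInstanceAs (T ⋙ Sx).Additive
  -- forwards
  let g : N → (Sx.obj F ⟶ Sx.obj (T.obj N)) := fun n => Sx.map (e.inv ≫ T.map (el N n))
  have gadd : ∀ m n, g (m + n) = g m + g n := fun m n => by
    simp only [g, EW.el_add, Functor.map_add, Preadditive.comp_add]
  have gsmul : ∀ (a : A) (n : N) (v : Sx.obj F), g (a • n) v = g n (stalkScal A X x a • v) := fun a n v => by
    have h : g (a • n) v = Sx.map (T.map (el N n)) (Sx.map (T.map (a • 𝟙 (one A))) (Sx.map e.inv v)) := by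
      simp only [g, EW.el_smul, Functor.map_comp, ModuleCat.hom_comp, LinearMap.comp_apply]
      rfl
    rw [h, hT, ← map_smul]
    simp only [g, Functor.map_comp, ModuleCat.hom_comp, LinearMap.comp_apply]
    rfl
  letI : Module A (Sx.obj (T.obj N)) := Module.compHom _ (stalkScal A X x)
  haveI : IsScalarTower A O (Sx.obj (T.obj N)) := IsScalarTower.of_algebraMap_smul fun _ _ => rfl
  let θ : Sx.obj F ⊗[A] N →ₗ[O] Sx.obj (T.obj N) :=
    TensorProduct.AlgebraTensorModule.lift
      { toFun := fun v =>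
          { toFun := fun n => g n v
            map_add' := fun m n => by rw [gadd]; rfl
            map_smul' := fun a n => by
              rw [gsmul, map_smul]
              rfl }
        map_add' := fun v w => LinearMap.ext fun n => map_add (g n).hom v w
        map_smul' := fun r v => LinearMap.ext fun n => map_smul (g n).hom r v }
  -- backwards
  let r : N → (Φ.obj (one A) ⟶ ModuleCat.of O (Sx.obj F ⊗[A] N)) := fun n =>
    Sx.map e.hom ≫ ModuleCat.ofHom ((TensorProduct.AlgebraTensorModule.mk A O (Sx.obj F) N).flip n)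
  obtain ⟨γ, hγ⟩ := EW.exists_desc Φ r (fun m n => ModuleCat.hom_ext (LinearMap.ext fun v => TensorProduct.tmul_add _ m n))
    fun a n => ModuleCat.hom_ext (LinearMap.ext fun v => by
      show (Sx.map e.hom v) ⊗ₜ[A] (a • n) = (Sx.map e.hom (Sx.map (T.map (a • 𝟙 (one A))) v)) ⊗ₜ[A] n
      rw [hT, map_smul, TensorProduct.tmul_smul, TensorProduct.smul_tmul']
      rfl)
  have h1 : ∀ t, γ.hom (θ t) = t := fun t => by
    induction t using TensorProduct.induction_on with
    | zero => simp only [map_zero]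
    | add a b ha hb => rw [map_add, map_add, ha, hb]
    | tmul v n =>
      show γ.hom (g n v) = _
      have := congr(($(hγ n)).hom (Sx.map e.inv v))
      simp only [g, Functor.map_comp, ModuleCat.hom_comp, LinearMap.comp_apply]
      refine this.trans ?_
      show (Sx.map e.hom (Sx.map e.inv v)) ⊗ₜ[A] n = _
      rw [show Sx.map e.hom (Sx.map e.inv v) = v from congr(($((Sx.mapIso e).inv_hom_id)).hom v)]
  have h2 : γ ≫ ModuleCat.ofHom θ = 𝟙 _ := by
    refine EW.hom_ext Φ _ _ fun n => ?_
    rw [← Category.assoc, hγ, Category.comp_id]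
    refine ModuleCat.hom_ext (LinearMap.ext fun v => ?_)
    show g n (Sx.map e.hom v) = Sx.map (T.map (el N n)) v
    simp only [g, Functor.map_comp, ModuleCat.hom_comp, LinearMap.comp_apply]
    rw [show Sx.map e.inv (Sx.map e.hom v) = v from congr(($((Sx.mapIso e).hom_inv_id)).hom v)]
  exact ⟨{ θ with invFun := γ.hom, left_inv := h1, right_inv := fun w => congr(($h2).hom w) }, fun v n => rfl⟩

/-- a stalk element which dies at all proper generizations is killed by powers of the maximal ideal -/
theorem torsion_of_generizations (P : X.Modules) [Coh.IsQCoh P] [IsLocallyNoetherian X] (x : X)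
    (h : ∀ z : X, z ⤳ x → z ≠ x → IsZero ((Groth.L00.Stk.F X z).obj P)) (v : P.presheaf.stalk x)
    (a : X.presheaf.stalk x) (ha : a ∈ IsLocalRing.maximalIdeal (X.presheaf.stalk x)) :
    ∃ n : ℕ, a ^ n • v = 0 := by
  obtain ⟨W, hW, hxW, -⟩ := exists_isAffineOpen_mem_and_subset (TopologicalSpace.Opens.mem_top x)
  letI := Groth.L20.ModStalk.stalkModule P hxW
  haveI := Groth.L20.ModStalk.isLocalizedModule_germ P hW hxW
  let q := (hW.primeIdealOf ⟨x, hxW⟩).asIdeal
  letI := X.presheaf.algebra_section_stalk ⟨x, hxW⟩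
  haveI := hW.isLocalization_stalk ⟨x, hxW⟩
  obtain ⟨⟨s, t⟩, hst⟩ := IsLocalizedModule.surj q.primeCompl (Groth.L20.ModStalk.germₗ P hxW) v
  obtain ⟨⟨r, u⟩, hru⟩ := IsLocalization.surj q.primeCompl a
  let J : Ideal Γ(X, W) := LinearMap.ker (LinearMap.toSpanSingleton Γ(X, W) Γ(P, W) s)
  have hr : r ∈ q := by
    refine (IsLocalization.AtPrime.to_map_mem_maximal_iff (X.presheaf.stalk x) q r).1 ?_
    exact hru ▸ Ideal.mul_mem_right _ _ ha
  obtain ⟨n, w, hw, hJ⟩ : ∃ (n : ℕ), ∃ w ∉ q, r ^ n * w ∈ J := by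
    by_contra! hne
    obtain ⟨Q, hQ, hJQ, hdisj⟩ := Ideal.exists_le_prime_disjoint J (Submonoid.powers r ⊔ q.primeCompl) (by
      rw [Set.disjoint_left]
      intro y hyJ hy
      obtain ⟨_, ⟨n, rfl⟩, w, hw, rfl⟩ := Submonoid.mem_sup.1 hy
      exact hne n w hw hyJ)
    have hQq : Q ≤ q := fun y hy => by
      by_contra hyq
      exact Set.disjoint_left.1 hdisj hy (Submonoid.mem_sup_right hyq)
    have hrQ : r ∉ Q := fun hy => Set.disjoint_left.1 hdisj hy (Submonoid.mem_sup_left ⟨1, pow_one r⟩)
    let z := hW.fromSpec ⟨Q, hQ⟩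
    have hzx : z ⤳ x := by
      refine (?_ : z ⤳ hW.fromSpec (hW.primeIdealOf ⟨x, hxW⟩)).trans (specializes_of_eq (hW.fromSpec_primeIdealOf ⟨x, hxW⟩))
      exact ((PrimeSpectrum.le_iff_specializes (⟨Q, hQ⟩ : PrimeSpectrum Γ(X, W)) _).1 hQq).map hW.fromSpec.continuous
    have hzW : z ∈ W := hW.range_fromSpec.le ⟨_, rfl⟩
    have hzp : hW.primeIdealOf ⟨z, hzW⟩ = ⟨Q, hQ⟩ :=
      hW.fromSpec.isOpenEmbedding.injective (hW.fromSpec_primeIdealOf ⟨z, hzW⟩)
    have hne' : z ≠ x := fun he => by
      have hq : hW.primeIdealOf ⟨z, hzW⟩ = hW.primeIdealOf ⟨x, hxW⟩ := congrArg _ (Subtype.ext he)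
      rw [hzp] at hq
      exact hrQ (show r ∈ Q by rw [show Q = q from congrArg PrimeSpectrum.asIdeal hq]; exact hr)
    haveI := ModuleCat.subsingleton_of_isZero (h z hzx hne')
    letI := Groth.L20.ModStalk.stalkModule P hzW
    haveI := Groth.L20.ModStalk.isLocalizedModule_germ P hW hzW
    have h0 : Groth.L20.ModStalk.germₗ P hzW s = Groth.L20.ModStalk.germₗ P hzW 0 :=
      Subsingleton.elim (α := (Groth.L00.Stk.F X z).obj P) _ _
    obtain ⟨⟨c, hc⟩, hcs⟩ := IsLocalizedModule.exists_of_eq (S := (hW.primeIdealOf ⟨z, hzW⟩).asIdeal.primeCompl) h0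
    have hcQ : c ∉ Q := fun hh => hc (show c ∈ (hW.primeIdealOf ⟨z, hzW⟩).asIdeal by rw [hzp]; exact hh)
    refine hcQ (hJQ ?_)
    exact LinearMap.mem_ker.2 (hcs.trans (smul_zero _))
  refine ⟨n, ?_⟩
  have h1 : (r ^ n * w) • s = 0 := LinearMap.mem_ker.1 hJ
  have h2 : algebraMap Γ(X, W) (X.presheaf.stalk x) (r ^ n * w) •
      (algebraMap Γ(X, W) (X.presheaf.stalk x) t • v) = 0 := by
    have := congrArg (Groth.L20.ModStalk.germₗ P hxW) h1
    rw [map_smul, map_zero, ← hst] at this
    exact this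
  rw [map_mul, map_pow, ← hru, mul_pow, smul_smul] at h2
  have hunit : IsUnit ((algebraMap Γ(X, W) (X.presheaf.stalk x) u) ^ n *
      algebraMap Γ(X, W) (X.presheaf.stalk x) w * algebraMap Γ(X, W) (X.presheaf.stalk x) t) :=
    ((IsUnit.pow n (IsLocalization.map_units _ u)).mul (IsLocalization.map_units _ (⟨w, hw⟩ : q.primeCompl))).mul
      (IsLocalization.map_units _ t)
  refine hunit.smul_eq_zero.1 ?_
  rw [smul_smul]
  refine Eq.trans ?_ h2
  congr 1
  ring

variable {d : ℕ} [(cohFunctor (X := X) A d).IsLeftAdjoint]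

/-- surjectivity of all comparisons at a point gives their injectivity there -/
theorem mono_stalk_cmp (x : X)
    (h : ∀ M : ModuleCat.{u} A, Epi ((Groth.L00.Stk.F X x).map (cmp (X := X) (d := d) M)))
    (hfree : ∀ ι : Type u, IsIso (cmp (X := X) (d := d) (ModuleCat.of A (ι →₀ A)))) (M : ModuleCat.{u} A) :
    Mono ((Groth.L00.Stk.F X x).map (cmp (X := X) (d := d) M)) := by
  let T := Groth.L17.BC.TensorA.G (A := A) (ω₀ A X d)
  let Sx := Groth.L00.Stk.F X x
  haveI : Sx.Additive := Functor.additive_of_preserves_binary_products _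
  let π : ModuleCat.of A (M →₀ A) ⟶ M := ModuleCat.ofHom (Finsupp.linearCombination A id)
  haveI : Epi π := (ModuleCat.epi_iff_surjective _).2 fun x => ⟨Finsupp.single x 1, by simp [π]⟩
  haveI : PreservesFiniteColimits T := EW.preservesFiniteColimits T
  haveI := hfree M
  refine (ModuleCat.mono_iff_injective _).2 ((injective_iff_map_eq_zero _).2 fun z hz => ?_)
  haveI : Epi (Sx.map (T.map π)) := inferInstance
  obtain ⟨l, rfl⟩ := (ModuleCat.epi_iff_surjective (Sx.map (T.map π))).1 inferInstance z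
  have hl : Sx.map ((RR A X d).map π) (Sx.map (cmp (ModuleCat.of A (M →₀ A))) l) = 0 := by
    refine Eq.trans ?_ hz
    exact congr(($((Sx.map_comp _ _).symm.trans ((congrArg Sx.map (cmp_natural (X := X) (d := d) π).symm).trans
      (Sx.map_comp _ _)))).hom l)
  obtain ⟨k, hk⟩ : ∃ k, Sx.map ((RR A X d).map (kernel.ι π)) k = Sx.map (cmp (ModuleCat.of A (M →₀ A))) l := by
    haveI : PreservesFiniteLimits (RR A X d) := by
      haveI : PreservesFiniteLimits (cohFunctor (X := X) A d).rightAdjoint :=
        haveI := (Adjunction.ofIsLeftAdjoint (cohFunctor (X := X) A d)).rightAdjoint_preservesLimits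
        inferInstance
      haveI : PreservesFiniteLimits (QCohCat.isQCoh X).ι := inferInstance
      unfold RR; infer_instance
    let S : ShortComplex (ModuleCat.{u} A) := ShortComplex.mk (kernel.ι π) π (kernel.condition π)
    have hS : S.Exact := ShortComplex.exact_of_f_is_kernel _ (kernelIsKernel π)
    haveI : Mono S.f := inferInstanceAs (Mono (kernel.ι π))
    haveI : PreservesFiniteLimits (RR A X d ⋙ Sx) := comp_preservesFiniteLimits _ _
    have := (hS.map_of_mono_of_preservesKernel (RR A X d ⋙ Sx) inferInstance inferInstance).moduleCat_range_eq_ker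
    exact this.ge (LinearMap.mem_ker.2 hl)
  obtain ⟨w, rfl⟩ := (ModuleCat.epi_iff_surjective _).1 (h (kernel π)) k
  have hl' : l = Sx.map (T.map (kernel.ι π)) w := by
    refine (ModuleCat.mono_iff_injective (Sx.map (cmp (ModuleCat.of A (M →₀ A))))).1 inferInstance ?_
    rw [← hk]
    exact congr(($((Sx.map_comp _ _).symm.trans ((congrArg Sx.map (cmp_natural (X := X) (d := d) (kernel.ι π)).symm).trans
      (Sx.map_comp _ _)))).hom w)
  rw [hl']
  have h0 : Sx.map (T.map (kernel.ι π)) ≫ Sx.map (T.map π) = 0 := by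
    rw [← Functor.map_comp, ← Functor.map_comp, kernel.condition, Functor.map_zero, Functor.map_zero]
  exact congr(($h0).hom w)

end Groth.L10.RelCan
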