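import Groth.Agent.L10.RelCan.DepthSheaf
import Groth.Agent.L10.RelCan.Sections
import Groth.Agent.L10.RelCan.StalkTensor
import Mathlib.RingTheory.Localization.BaseChange

/-!
Regular pairs on stalks of pullbacks along base changes of affine bases.
-/

set_option autoImplicit false
set_option linter.style.haveILetI false
set_option backward.defeqAttrib.useBackward true
set_option backward.isDefEq.respectTransparency false
set_option backward.isDefEq.respectTransparency.types false
universe u

open CategoryTheory CategoryTheory.Limits AlgebraicGeometry TopologicalSpace IsLocalRing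
open scoped TensorProduct Pointwise

noncomputable section

namespace Groth.L10.RelCan

section Algebra

variable {R R' : Type u} [CommRing R] [CommRing R'] [Algebra R R'] {M' N' M'' : Type u}
  [AddCommGroup M'] [Module R' M'] [Module R M'] [IsScalarTower R R' M'] [AddCommGroup N'] [Module R' N']
  [AddCommGroup M''] [Module R M'']

/-- regular pairs pass to localizations that factor through a smaller one -/
theorem regular_pair_localized (S : Submonoid R') (g : M' →ₗ[R'] N') [IsLocalizedModule S g]
    (T : Submonoid R) (hT : ∀ t ∈ T, algebraMap R R' t ∈ S) (h : M' →ₗ[R] M'') [IsLocalizedModule T h]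
    {β γ : R} (hb : IsSMulRegular M'' β) (hc : IsSMulRegular (QuotSMulTop β M'') γ) :
    IsSMulRegular N' (algebraMap R R' β) ∧
      IsSMulRegular (QuotSMulTop (algebraMap R R' β) N') (algebraMap R R' γ) := by
  have hker : ∀ z : M', h z = 0 → ∃ t ∈ T, t • z = 0 := fun z hz => by
    obtain ⟨⟨t, ht⟩, e⟩ := IsLocalizedModule.exists_of_eq (S := T) (hz.trans (map_zero h).symm)
    exact ⟨t, ht, e.trans (smul_zero _)⟩
  have hunit : ∀ (s : R') (_ : s ∈ S) (v : N'), s • v = 0 → v = 0 := fun s hs v hv =>
    ((Module.End.isUnit_iff _).1 (IsLocalizedModule.map_units g ⟨s, hs⟩)).1 (hv.trans (smul_zero s).symm)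
  refine ⟨isSMulRegular_iff_right_eq_zero_of_smul.mpr fun v hv => ?_,
    isSMulRegular_iff_right_eq_zero_of_smul.mpr fun q hq => ?_⟩
  · obtain ⟨⟨z, s, hs⟩, e⟩ := IsLocalizedModule.surj S g v
    change s • v = g z at e
    have h1 : g (algebraMap R R' β • z) = 0 := by
      rw [map_smul, ← e, smul_comm, hv, smul_zero]
    obtain ⟨⟨s', hs'⟩, e'⟩ := IsLocalizedModule.exists_of_eq (S := S) (h1.trans (map_zero g).symm)
    change s' • algebraMap R R' β • z = s' • 0 at e'
    rw [smul_zero, smul_comm, algebraMap_smul] at e'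
    have h2 : h (s' • z) = 0 := isSMulRegular_iff_right_eq_zero_of_smul.mp hb _ (by rw [← map_smul, e', map_zero])
    obtain ⟨t, ht, e''⟩ := hker _ h2
    rw [← algebraMap_smul R' t, smul_smul] at e''
    refine hunit s hs v (hunit _ (S.mul_mem (hT t ht) hs') _ ?_)
    rw [e, ← map_smul, e'', map_zero]
  · obtain ⟨v, rfl⟩ := Submodule.mkQ_surjective _ q
    rw [← map_smul] at hq
    obtain ⟨w, -, hw⟩ := (Submodule.mem_smul_pointwise_iff_exists _ _ _).1 ((Submodule.Quotient.mk_eq_zero _).1 hq)
    change algebraMap R R' β • w = algebraMap R R' γ • v at hw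
    obtain ⟨⟨z, s, hs⟩, e⟩ := IsLocalizedModule.surj S g v
    obtain ⟨⟨y, r, hr⟩, e₂⟩ := IsLocalizedModule.surj S g w
    change s • v = g z at e
    change r • w = g y at e₂
    have h1 : g (algebraMap R R' γ • r • z) = g (algebraMap R R' β • s • y) := by
      rw [map_smul, map_smul, map_smul, map_smul, ← e, ← e₂, smul_comm r s v, smul_comm s r w,
        smul_comm (algebraMap R R' γ) s, smul_comm (algebraMap R R' γ) r, ← hw,
        smul_comm (algebraMap R R' β) r, smul_comm (algebraMap R R' β) s, smul_comm r s]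
    obtain ⟨⟨s', hs'⟩, e'⟩ := IsLocalizedModule.exists_of_eq (S := S) h1
    change s' • algebraMap R R' γ • r • z = s' • algebraMap R R' β • s • y at e'
    rw [smul_comm s', smul_comm s' (algebraMap R R' β), algebraMap_smul, algebraMap_smul] at e'
    have h2 : γ • Submodule.Quotient.mk (p := β • (⊤ : Submodule R M'')) (h (s' • r • z)) = 0 := by
      rw [← Submodule.Quotient.mk_smul, ← map_smul, e', map_smul]
      exact (Submodule.Quotient.mk_eq_zero _).2 (Submodule.smul_mem_pointwise_smul _ _ _ trivial)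
    obtain ⟨m, -, hm⟩ := (Submodule.mem_smul_pointwise_iff_exists _ _ _).1
      ((Submodule.Quotient.mk_eq_zero _).1 (isSMulRegular_iff_right_eq_zero_of_smul.mp hc _ h2))
    obtain ⟨⟨y₀, t, ht⟩, e₃⟩ := IsLocalizedModule.surj T h m
    change t • m = h y₀ at e₃
    obtain ⟨t', ht', e₄⟩ := hker (t • (s' • r • z) - β • y₀) (by
      rw [map_sub, map_smul h t, map_smul h β, ← hm, ← e₃, smul_comm t β, sub_self])
    rw [smul_sub, sub_eq_zero, ← algebraMap_smul R' t', ← algebraMap_smul R' t' (β • y₀), ← algebraMap_smul R' t,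
      ← algebraMap_smul R' β] at e₄
    have e₅ := congrArg g e₄
    simp only [map_smul, ← e] at e₅
    -- the numerator is divisible by `β`
    let σ := algebraMap R R' t' * algebraMap R R' t * s' * r * s
    have hσ : σ ∈ S := S.mul_mem (S.mul_mem (S.mul_mem (S.mul_mem (hT t' ht') (hT t ht)) hs') hr) hs
    obtain ⟨k, hk⟩ := ((Module.End.isUnit_iff _).1 (IsLocalizedModule.map_units g ⟨σ, hσ⟩)).2
      (algebraMap R R' t' • g y₀)
    change σ • k = algebraMap R R' t' • g y₀ at hk
    refine (Submodule.Quotient.mk_eq_zero _).2 ((Submodule.mem_smul_pointwise_iff_exists _ _ _).2 ⟨k, trivial, ?_⟩)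
    refine ((Module.End.isUnit_iff _).1 (IsLocalizedModule.map_units g ⟨σ, hσ⟩)).1 ?_
    show σ • algebraMap R R' β • k = σ • v
    rw [smul_comm, hk, smul_comm, ← e₅]
    simp only [σ, mul_smul]

end Algebra

section Stalk

variable {A : Type u} [CommRing A] {B : Type u} [CommRing B] [Algebra A B] {X X' : Scheme.{u}}
  [X.Over (Spec (CommRingCat.of A))] [X'.Over (Spec (CommRingCat.of B))] {p : X' ⟶ X}

set_option maxHeartbeats 1600000 in
/-- regular pairs on the tensor product with the new base stay regular on stalks of the pullback -/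
theorem regular_pair_pullback (hp : IsPullback p (X' ↘ Spec (CommRingCat.of B)) (X ↘ Spec (CommRingCat.of A))
    (Spec.map (CommRingCat.ofHom (algebraMap A B)))) (G : X.Modules) [Coh.IsQCoh G] (x' : X')
    {b c : X.presheaf.stalk (p x')} :
    letI : Module A (G.presheaf.stalk (p x')) := Module.compHom _ (stalkScal A X (p x'))
    letI : Algebra A (X.presheaf.stalk (p x')) := (stalkScal A X (p x')).toAlgebra
    haveI : IsScalarTower A (X.presheaf.stalk (p x')) (G.presheaf.stalk (p x')) :=
      IsScalarTower.of_algebraMap_smul fun _ _ => rfl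
    IsSMulRegular (G.presheaf.stalk (p x') ⊗[A] B) b →
    IsSMulRegular (QuotSMulTop b (G.presheaf.stalk (p x') ⊗[A] B)) c →
    IsSMulRegular (((Scheme.Modules.pullback p).obj G).presheaf.stalk x') ((p.stalkMap x').hom b) ∧
      IsSMulRegular (QuotSMulTop ((p.stalkMap x').hom b) (((Scheme.Modules.pullback p).obj G).presheaf.stalk x'))
        ((p.stalkMap x').hom c) := by
  letI : Module A (G.presheaf.stalk (p x')) := Module.compHom _ (stalkScal A X (p x'))
  letI : Algebra A (X.presheaf.stalk (p x')) := (stalkScal A X (p x')).toAlgebra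
  haveI : IsScalarTower A (X.presheaf.stalk (p x')) (G.presheaf.stalk (p x')) :=
    IsScalarTower.of_algebraMap_smul fun _ _ => rfl
  intro hb hc
  haveI := Sections.isAffineHom hp
  let x := p x'
  obtain ⟨V, hV, hxV, -⟩ := exists_isAffineOpen_mem_and_subset (x := x) (U := ⊤) trivial
  let V' := p ⁻¹ᵁ V
  have hV' : IsAffineOpen V' := hV.preimage p
  let R := Γ(X, V)
  let R' := Γ(X', V')
  let P := (Scheme.Modules.pullback p).obj G
  haveI : Coh.IsQCoh P := Groth.L16.AffineBC.isQCoh_pullback p G
  -- rings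
  letI : Algebra A R := (Groth.L16.AffineBC.scal A X V).toAlgebra
  letI : Algebra B R' := (Groth.L16.AffineBC.scal B X' V').toAlgebra
  letI : Algebra R R' := (p.appLE V V' le_rfl).hom.toAlgebra
  letI : Algebra A R' := ((Groth.L16.AffineBC.scal B X' V').comp (algebraMap A B)).toAlgebra
  haveI : IsScalarTower A B R' := IsScalarTower.of_algebraMap_eq fun _ => rfl
  have hpo := Sections.isPushout_sections hp hV
  haveI : IsScalarTower A R R' := IsScalarTower.of_algebraMap_eq fun a => by
    show Groth.L16.AffineBC.scal B X' V' (algebraMap A B a) = p.appLE V V' le_rfl (Groth.L16.AffineBC.scal A X V a)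
    rw [← Scheme.Hom.app_eq_appLE]
    exact (ConcreteCategory.congr_hom hpo.w a).symm
  haveI : Algebra.IsPushout A B R R' := by
    refine CommRingCat.isPushout_iff_isPushout.1 ?_
    have : CommRingCat.ofHom (algebraMap R R') = p.app V := p.app_eq_appLE.symm
    rw [this]
    exact hpo.flip
  haveI : Algebra.IsPushout A R B R' := Algebra.IsPushout.symm ‹_›
  let eR : R ⊗[A] B ≃ₗ[R] R' := (Algebra.IsPushout.out (R := A) (S := R) (R' := B) (S' := R')).equiv
  letI := X.presheaf.algebra_section_stalk ⟨x, hxV⟩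
  haveI := hV.isLocalization_stalk ⟨x, hxV⟩
  letI := X'.presheaf.algebra_section_stalk (⟨x', hxV⟩ : V')
  haveI := hV'.isLocalization_stalk ⟨x', hxV⟩
  let q := (hV.primeIdealOf ⟨x, hxV⟩).asIdeal
  let q' := (hV'.primeIdealOf ⟨x', hxV⟩).asIdeal
  -- modules
  let M := Γ(G, V)
  letI : Module A M := Module.compHom _ (Groth.L16.AffineBC.scal A X V)
  haveI : IsScalarTower A R M := IsScalarTower.of_algebraMap_smul fun _ _ => rfl
  letI := Groth.L20.ModStalk.stalkModule G hxV
  haveI := Groth.L20.ModStalk.isLocalizedModule_germ G hV hxV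
  haveI : IsScalarTower R (X.presheaf.stalk x) (G.presheaf.stalk x) :=
    IsScalarTower.of_algebraMap_smul fun _ _ => rfl
  haveI : IsScalarTower A R (G.presheaf.stalk x) := IsScalarTower.of_algebraMap_smul fun a v => by
    exact congrArg (· • v) (germ_scal V hxV a)
  letI : Algebra R (X'.presheaf.stalk x') :=
    ((X'.presheaf.germ V' x' hxV).hom.comp (p.appLE V V' le_rfl).hom).toAlgebra
  letI : Module R (P.presheaf.stalk x') :=
    Module.compHom _ ((X'.presheaf.germ V' x' hxV).hom.comp (p.appLE V V' le_rfl).hom)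
  haveI : IsScalarTower R (X'.presheaf.stalk x') (P.presheaf.stalk x') :=
    IsScalarTower.of_algebraMap_smul fun _ _ => rfl
  haveI : IsScalarTower R R' (X'.presheaf.stalk x') := IsScalarTower.of_algebraMap_eq fun _ => rfl
  letI : Module R Γ(P, V') := Module.compHom Γ(P, V') (p.appLE V V' le_rfl).hom
  let g₀ : M →ₗ[R] P.presheaf.stalk x' :=
    { toFun := fun m => P.presheaf.germ V' x' hxV (Groth.L16.AffineBC.pullRes p G (le_rfl : V' ≤ p ⁻¹ᵁ V) m)
      map_add' := fun m n => by rw [map_add, map_add]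
      map_smul' := fun r m => by
        rw [map_smul]
        exact Groth.L20.ModStalk.germ_smul P hxV _ _ }
  have hbc : IsBaseChange (X'.presheaf.stalk x') g₀ :=
    Groth.L16.AffineBC.isBaseChange_germ_pull p G hV le_rfl hxV g₀ fun m => rfl
  letI := Groth.L20.ModStalk.stalkModule P (show x' ∈ V' from hxV)
  haveI : IsScalarTower R' (X'.presheaf.stalk x') (P.presheaf.stalk x') :=
    IsScalarTower.of_algebraMap_smul fun _ _ => rfl
  let g : R' ⊗[R] M →ₗ[R'] P.presheaf.stalk x' :=
    (hbc.equiv.toLinearMap.restrictScalars R') ∘ₗ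
      TensorProduct.AlgebraTensorModule.rTensor R M (Algebra.linearMap R' (X'.presheaf.stalk x'))
  haveI : IsLocalizedModule q'.primeCompl (Algebra.linearMap R' (X'.presheaf.stalk x')) :=
    (isLocalizedModule_iff_isLocalization' _ _).2 inferInstance
  haveI : IsLocalizedModule q'.primeCompl g :=
    IsLocalizedModule.of_linearEquiv _ _ (hbc.equiv.restrictScalars R')
  let h : R' ⊗[R] M →ₗ[R] G.presheaf.stalk x ⊗[A] B :=
    (TensorProduct.AlgebraTensorModule.rTensor A B (Groth.L20.ModStalk.germₗ G hxV)) ∘ₗ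
      (((TensorProduct.comm R R' M).trans (TensorProduct.congr (LinearEquiv.refl R M) eR.symm)).trans
        (TensorProduct.AlgebraTensorModule.cancelBaseChange A R R M B)).toLinearMap
  haveI : IsLocalizedModule q.primeCompl h := IsLocalizedModule.of_linearEquiv_right _ _ _
  -- numerators
  obtain ⟨⟨β, s⟩, hβ⟩ := IsLocalization.surj q.primeCompl b
  obtain ⟨⟨γ, r⟩, hγ⟩ := IsLocalization.surj q.primeCompl c
  change b * algebraMap R _ (s : R) = algebraMap R _ β at hβ
  change c * algebraMap R _ (r : R) = algebraMap R _ γ at hγ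
  have hs := IsLocalization.map_units (X.presheaf.stalk x) s
  have hr := IsLocalization.map_units (X.presheaf.stalk x) r
  let N := G.presheaf.stalk x ⊗[A] B
  have hbβ : IsSMulRegular N (algebraMap R (X.presheaf.stalk x) β) := by
    rw [← hβ]; exact hb.mul (hs.isSMulRegular N)
  have hq : b • (⊤ : Submodule (X.presheaf.stalk x) N) = algebraMap R (X.presheaf.stalk x) β • ⊤ := by
    rw [← hβ, mul_smul]
    congr 1
    refine le_antisymm ?_ le_top
    intro n _
    obtain ⟨u, hu⟩ := hs
    exact (Submodule.mem_smul_pointwise_iff_exists _ _ _).2 ⟨(↑u⁻¹ : X.presheaf.stalk x) • n, trivial,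
      by rw [← hu, smul_smul, u.mul_inv, one_smul]⟩
  have hcγ : IsSMulRegular (QuotSMulTop (algebraMap R (X.presheaf.stalk x) β) N) (algebraMap R (X.presheaf.stalk x) γ) := by
    rw [← hγ]
    exact (((Submodule.quotEquivOfEq _ _ hq).isSMulRegular_congr c).1 hc).mul (hr.isSMulRegular _)
  have hT : ∀ t ∈ q.primeCompl, algebraMap R R' t ∈ q'.primeCompl := fun t ht ht' => ht
    ((congr($(IsAffineOpen.comap_primeIdealOf_appLE V hV V' hV' le_rfl (show x' ∈ V' from hxV)).1)).le ht')
  have hbR : IsSMulRegular N β := isSMulRegular_iff_right_eq_zero_of_smul.mpr fun n hn =>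
    isSMulRegular_iff_right_eq_zero_of_smul.mp hbβ n ((algebraMap_smul _ β n).trans hn)
  have hcR : IsSMulRegular (QuotSMulTop β N) γ := isSMulRegular_iff_right_eq_zero_of_smul.mpr fun n hn => by
    obtain ⟨n, rfl⟩ := Submodule.mkQ_surjective _ n
    rw [← map_smul] at hn
    obtain ⟨m, -, hm⟩ := (Submodule.mem_smul_pointwise_iff_exists _ _ _).1 ((Submodule.Quotient.mk_eq_zero _).1 hn)
    have h0 : algebraMap R (X.presheaf.stalk x) γ • Submodule.Quotient.mk
        (p := algebraMap R (X.presheaf.stalk x) β • (⊤ : Submodule (X.presheaf.stalk x) N)) n = 0 := by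
      rw [← Submodule.Quotient.mk_smul, algebraMap_smul, ← hm, ← algebraMap_smul (X.presheaf.stalk x) β m]
      exact (Submodule.Quotient.mk_eq_zero _).2 (Submodule.smul_mem_pointwise_smul _ _ _ trivial)
    obtain ⟨m', -, hm'⟩ := (Submodule.mem_smul_pointwise_iff_exists _ _ _).1
      ((Submodule.Quotient.mk_eq_zero _).1 (isSMulRegular_iff_right_eq_zero_of_smul.mp hcγ _ h0))
    exact (Submodule.Quotient.mk_eq_zero _).2 ((Submodule.mem_smul_pointwise_iff_exists _ _ _).2
      ⟨m', trivial, (algebraMap_smul _ β m').symm.trans hm'⟩)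
  obtain ⟨k1, k2⟩ := regular_pair_localized q'.primeCompl g q.primeCompl hT h hbR hcR
  -- back to `b` and `c`
  have key : ∀ (d : X.presheaf.stalk x) (u : R) (δ : R), d * algebraMap R _ u = algebraMap R _ δ →
      algebraMap R' (X'.presheaf.stalk x') (algebraMap R R' δ) =
        (p.stalkMap x').hom d * (p.stalkMap x').hom (algebraMap R (X.presheaf.stalk x) u) := fun d u δ hd => by
    rw [← map_mul, hd]
    exact (Groth.L20.ModStalk.stalkMap_germ (le_rfl : V' ≤ p ⁻¹ᵁ V) (show x' ∈ V' from hxV) hxV δ).symm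
  let P₀ := P.presheaf.stalk x'
  have e₁ : ∀ (a : R') (v : P₀), algebraMap R' (X'.presheaf.stalk x') a • v = a • v := fun a v =>
    algebraMap_smul _ a v
  have hu₁ := hs.map (p.stalkMap x').hom
  have hu₂ := hr.map (p.stalkMap x').hom
  have hb' : IsSMulRegular P₀ ((p.stalkMap x').hom b) := isSMulRegular_iff_right_eq_zero_of_smul.mpr fun v hv => by
    refine isSMulRegular_iff_right_eq_zero_of_smul.mp k1 v ?_
    rw [← e₁, key b s β hβ, mul_comm, mul_smul, hv, smul_zero]
  refine ⟨hb', isSMulRegular_iff_right_eq_zero_of_smul.mpr fun q hq => ?_⟩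
  obtain ⟨v, rfl⟩ := Submodule.mkQ_surjective _ q
  rw [← map_smul] at hq
  obtain ⟨w, -, hw⟩ := (Submodule.mem_smul_pointwise_iff_exists _ _ _).1 ((Submodule.Quotient.mk_eq_zero _).1 hq)
  obtain ⟨u, hu⟩ := hu₁
  have h0 : algebraMap R R' γ • Submodule.Quotient.mk (p := algebraMap R R' β • (⊤ : Submodule R' P₀)) v = 0 := by
    rw [← Submodule.Quotient.mk_smul]
    refine (Submodule.Quotient.mk_eq_zero _).2 ((Submodule.mem_smul_pointwise_iff_exists _ _ _).2
      ⟨(↑u⁻¹ * (p.stalkMap x').hom (algebraMap R (X.presheaf.stalk x) r)) • w, trivial, ?_⟩)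
    rw [← e₁, ← e₁ (algebraMap R R' γ), key b s β hβ, key c r γ hγ, ← hu, smul_smul,
      mul_comm ((p.stalkMap x').hom c), mul_smul _ ((p.stalkMap x').hom c), ← hw, smul_smul]
    congr 1
    rw [show ∀ a b d : X'.presheaf.stalk x', a * b * (↑u⁻¹ * d) = (b * ↑u⁻¹) * (d * a) by intros; ring,
      u.mul_inv, one_mul]
  obtain ⟨k, -, hk⟩ := (Submodule.mem_smul_pointwise_iff_exists _ _ _).1
    ((Submodule.Quotient.mk_eq_zero _).1 (isSMulRegular_iff_right_eq_zero_of_smul.mp k2 _ h0))
  refine (Submodule.Quotient.mk_eq_zero _).2 ((Submodule.mem_smul_pointwise_iff_exists _ _ _).2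
    ⟨(↑u : X'.presheaf.stalk x') • k, trivial, ?_⟩)
  rw [← hk, ← e₁, key b s β hβ, smul_smul, hu]

end Stalk

end Groth.L10.RelCan
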