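import Groth.Agent.L10.RelCan.Invert
import Groth.Agent.L15.Ref.Reflexive
import Groth.Agent.L15.Ref.Tensor
import Mathlib.RingTheory.QuotSMulTop

/-!
Extension of morphisms over closed subsets where the fibres have depth two.
-/

set_option autoImplicit false
set_option linter.style.haveILetI false
set_option backward.defeqAttrib.useBackward true
set_option backward.isDefEq.respectTransparency false
set_option backward.isDefEq.respectTransparency.types false
universe u

open CategoryTheory CategoryTheory.Limits AlgebraicGeometry TopologicalSpace IsLocalRing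
open scoped TensorProduct Pointwise

noncomputable section

namespace Groth.L10.RelCan

/-- no element is killed by powers of the maximal ideal -/
def NoTors (R : Type u) [CommRing R] [IsLocalRing R] (M : Type u) [AddCommGroup M] [Module R M] : Prop :=
  ∀ v : M, (∀ a ∈ maximalIdeal R, ∃ n : ℕ, a ^ n • v = 0) → v = 0

section Algebra

variable {R : Type u} [CommRing R] [IsLocalRing R] {M N : Type u} [AddCommGroup M] [Module R M] [AddCommGroup N]
  [Module R N]

theorem NoTors.of_injective (φ : M →ₗ[R] N) (hφ : Function.Injective φ) (h : NoTors R N) : NoTors R M :=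
  fun v hv => hφ ((h (φ v) fun a ha => by
    obtain ⟨n, hn⟩ := hv a ha
    exact ⟨n, by rw [← map_smul, hn, map_zero]⟩).trans (map_zero φ).symm)

theorem NoTors.hom (h : NoTors R N) : NoTors R (M →ₗ[R] N) := fun v hv => LinearMap.ext fun m =>
  h (v m) fun a ha => by
    obtain ⟨n, hn⟩ := hv a ha
    exact ⟨n, by rw [← LinearMap.smul_apply, hn]; rfl⟩

theorem noTors_of_regular {b : R} (hb : b ∈ maximalIdeal R) (h : IsSMulRegular M b) : NoTors R M := fun v hv => by
  obtain ⟨n, hn⟩ := hv b hb
  exact isSMulRegular_iff_right_eq_zero_of_smul.mp (h.pow n) v hn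

omit [IsLocalRing R] in
/-- a regular pair on a module gives one on a module of maps into it -/
theorem regular_pair_hom {b c : R} (hb : IsSMulRegular N b) (hc : IsSMulRegular (QuotSMulTop b N) c) :
    IsSMulRegular (M →ₗ[R] N) b ∧ IsSMulRegular (QuotSMulTop b (M →ₗ[R] N)) c := by
  refine ⟨fun φ ψ h => LinearMap.ext fun m => hb congr($h m),
    (isSMulRegular_quotient_iff_mem_of_smul_mem _ _).2 fun φ hφ => ?_⟩
  have h1 : ∀ m, φ m ∈ b • (⊤ : Submodule R N) := fun m => by
    refine (isSMulRegular_quotient_iff_mem_of_smul_mem _ _).1 hc _ ?_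
    obtain ⟨χ, -, hχ⟩ := (Submodule.mem_smul_pointwise_iff_exists _ _ _).1 hφ
    exact (Submodule.mem_smul_pointwise_iff_exists _ _ _).2 ⟨χ m, trivial, congr($hχ m)⟩
  choose χ _ hχ using fun m => (Submodule.mem_smul_pointwise_iff_exists _ _ _).1 (h1 m)
  refine (Submodule.mem_smul_pointwise_iff_exists _ _ _).2
    ⟨{ toFun := χ, map_add' := fun m m' => hb ?_, map_smul' := fun r m => hb ?_ }, trivial, LinearMap.ext hχ⟩
  · show b • χ (m + m') = b • (χ m + χ m')
    rw [smul_add, hχ, hχ, hχ, map_add]
  · show b • χ (r • m) = b • ((RingHom.id R) r • χ m)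
    rw [RingHom.id_apply, smul_comm, hχ, hχ, map_smul]

/-- a map surjective up to torsion out of a module with a regular pair is surjective -/
theorem surjective_of_pair {b c : R} (hbm : b ∈ maximalIdeal R) (hcm : c ∈ maximalIdeal R) (hb : IsSMulRegular M b)
    (hc : IsSMulRegular (QuotSMulTop b M) c) (φ : M →ₗ[R] N) (hinj : Function.Injective φ) (hN : NoTors R N)
    (hcoker : ∀ r : N, ∀ a ∈ maximalIdeal R, ∃ n : ℕ, a ^ n • r ∈ LinearMap.range φ) : Function.Surjective φ := by
  have step : ∀ r : N, b • r ∈ LinearMap.range φ → r ∈ LinearMap.range φ := by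
    rintro r ⟨f, hf⟩
    obtain ⟨n, g, hg⟩ := hcoker r c hcm
    have h0 : c ^ n • f ∈ b • (⊤ : Submodule R M) :=
      (Submodule.mem_smul_pointwise_iff_exists _ _ _).2 ⟨g, trivial, hinj (by
        rw [map_smul, map_smul, hg, hf, smul_comm])⟩
    obtain ⟨f', -, hf'⟩ := (Submodule.mem_smul_pointwise_iff_exists _ _ _).1
      ((isSMulRegular_quotient_iff_mem_of_smul_mem _ _).1 (hc.pow n) f h0)
    refine ⟨f', (sub_eq_zero.1 (hN (r - φ f') fun a ha => ?_)).symm⟩
    obtain ⟨m, w, hw⟩ := hcoker r a ha
    refine ⟨m, ?_⟩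
    have hw' : w = a ^ m • f' := hb (hinj (by
      show φ (b • w) = φ (b • a ^ m • f')
      rw [map_smul, hw, smul_comm, ← hf, ← hf', ← map_smul, smul_comm]))
    rw [smul_sub, ← hw, ← map_smul, hw', sub_self]
  intro r
  obtain ⟨n, hn⟩ := hcoker r b hbm
  induction n generalizing r with
  | zero => obtain ⟨z, hz⟩ := hn; exact ⟨z, hz.trans (by rw [pow_zero, one_smul])⟩
  | succ n ih => exact ih r (step _ (by rwa [smul_smul, ← pow_succ']))

end Algebra

section Sheaf

variable {X : Scheme.{u}} [IsLocallyNoetherian X]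

/-- induction along generizations -/
theorem generization_induction {P : X → Prop} (h : ∀ x, (∀ z, z ⤳ x → z ≠ x → P z) → P x) (x : X) : P x := by
  haveI hwf : WellFoundedLT (PrimeSpectrum (X.presheaf.stalk x)) :=
    StrictMono.wellFoundedLT (f := fun Q : PrimeSpectrum (X.presheaf.stalk x) => Q.asIdeal.height)
      fun Q R hlt => Ideal.height_strict_mono_of_isPrime hlt
  have key : ∀ Q : PrimeSpectrum (X.presheaf.stalk x), P (X.fromSpecStalk x Q) := by
    intro Q
    induction Q using hwf.induction with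
    | _ Q ih =>
      refine h _ fun y hy hne => ?_
      obtain ⟨R, hR⟩ : y ∈ Set.range (X.fromSpecStalk x) := by
        rw [Scheme.range_fromSpecStalk]
        exact hy.trans (Groth.L07.EquidimPoint.specializes_point x Q)
      let R' : PrimeSpectrum (X.presheaf.stalk x) := R
      have hle : R' ≤ Q := (PrimeSpectrum.le_iff_specializes R' Q).2
        ((X.fromSpecStalk x).isEmbedding.isInducing.specializes_iff.1 ((specializes_of_eq hR).trans hy))
      rw [← hR]
      exact ih R' (lt_of_le_of_ne hle fun he => hne (hR.symm.trans (congrArg (X.fromSpecStalk x) he)))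
  have := key (IsLocalRing.closedPoint (X.presheaf.stalk x))
  rwa [Scheme.fromSpecStalk_closedPoint] at this

/-- a quasi-coherent module which vanishes on a set and has no torsion off it vanishes -/
theorem isZero_of_noTors (P : X.Modules) [Coh.IsQCoh P]
    (h : ∀ x : X, IsZero ((Groth.L00.Stk.F X x).obj P) ∨ NoTors (X.presheaf.stalk x) (P.presheaf.stalk x)) :
    IsZero P := by
  refine (Groth.L00.Stk.isZero_iff P).2 (generization_induction fun x hx => ?_)
  rcases h x with h0 | h0
  · exact h0
  · haveI : Subsingleton ((Groth.L00.Stk.F X x).obj P) :=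
      subsingleton_of_forall_eq 0 fun v => h0 v fun a ha => torsion_of_generizations P x hx v a ha
    exact ModuleCat.isZero_of_subsingleton _

/-- the map on stalks -/
abbrev stk {F G : X.Modules} (φ : F ⟶ G) (x : X) : F.presheaf.stalk x →ₗ[X.presheaf.stalk x] G.presheaf.stalk x :=
  ((Groth.L00.Stk.F X x).map φ).hom

theorem mono_of_noTors {F G : X.Modules} [Coh.IsQCoh F] [Coh.IsQCoh G] (φ : F ⟶ G)
    (h : ∀ x : X, Function.Injective (stk φ x) ∨ NoTors (X.presheaf.stalk x) (F.presheaf.stalk x)) : Mono φ := by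
  haveI := (Groth.L00.AlgQCoh.isQCoh_kernel_cokernel φ (show Coh.IsQCoh F from inferInstance)
    (show Coh.IsQCoh G from inferInstance)).1
  refine Preadditive.mono_of_isZero_kernel _ (isZero_of_noTors _ fun x => ?_)
  rcases h x with hi | ht
  · left
    haveI : Mono ((Groth.L00.Stk.F X x).map φ) := (ModuleCat.mono_iff_injective _).2 hi
    exact (isZero_kernel_of_mono ((Groth.L00.Stk.F X x).map φ)).of_iso (PreservesKernel.iso _ φ)
  · exact .inr (ht.of_injective (stk (kernel.ι φ) x) ((ModuleCat.mono_iff_injective _).1 inferInstance))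

theorem hom_eq_zero_of_noTors {F G : X.Modules} [Coh.IsQCoh F] [Coh.IsQCoh G] (δ : F ⟶ G)
    (h : ∀ x : X, (Groth.L00.Stk.F X x).map δ = 0 ∨ NoTors (X.presheaf.stalk x) (G.presheaf.stalk x)) : δ = 0 := by
  have hK := Groth.L00.AlgQCoh.isQCoh_kernel_cokernel δ (show Coh.IsQCoh F from inferInstance)
    (show Coh.IsQCoh G from inferInstance)
  haveI := hK.2
  haveI : Coh.IsQCoh (Abelian.image δ) :=
    (Groth.L00.AlgQCoh.isQCoh_kernel_cokernel (cokernel.π δ) (show Coh.IsQCoh G from inferInstance) hK.2).1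
  have h0 : IsZero (Abelian.image δ) := isZero_of_noTors _ fun x => by
    rcases h x with hz | ht
    · left
      haveI : Epi ((Groth.L00.Stk.F X x).map (Abelian.factorThruImage δ)) := inferInstance
      have h1 : (Groth.L00.Stk.F X x).map (Abelian.image.ι δ) = 0 := by
        rw [← cancel_epi ((Groth.L00.Stk.F X x).map (Abelian.factorThruImage δ)), ← Functor.map_comp,
          Abelian.image.fac, hz, comp_zero]
      haveI : Mono ((Groth.L00.Stk.F X x).map (Abelian.image.ι δ)) := inferInstance
      exact IsZero.of_mono_eq_zero _ h1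
    · exact .inr (ht.of_injective (stk (Abelian.image.ι δ) x) ((ModuleCat.mono_iff_injective _).1 inferInstance))
  rw [← Abelian.image.fac δ, h0.eq_of_src (Abelian.image.ι δ) 0, comp_zero]

/-- epimorphism from a module with regular pairs off the good set -/
theorem epi_of_pairs {F G : X.Modules} [Coh.IsQCoh F] [Coh.IsQCoh G] (φ : F ⟶ G) [Mono φ]
    (h : ∀ x : X, Function.Surjective (stk φ x) ∨ (NoTors (X.presheaf.stalk x) (G.presheaf.stalk x) ∧
      ∃ b ∈ maximalIdeal (X.presheaf.stalk x), ∃ c ∈ maximalIdeal (X.presheaf.stalk x),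
        IsSMulRegular (F.presheaf.stalk x) b ∧ IsSMulRegular (QuotSMulTop b (F.presheaf.stalk x)) c)) :
    Epi φ := by
  haveI := (Groth.L00.AlgQCoh.isQCoh_kernel_cokernel φ (show Coh.IsQCoh F from inferInstance)
    (show Coh.IsQCoh G from inferInstance)).2
  refine Preadditive.epi_of_isZero_cokernel _ ((Groth.L00.Stk.isZero_iff _).2 (generization_induction fun x hx => ?_))
  suffices hs : Function.Surjective (stk φ x) by
    haveI : Epi ((Groth.L00.Stk.F X x).map φ) := (ModuleCat.epi_iff_surjective _).2 hs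
    exact (isZero_cokernel_of_epi ((Groth.L00.Stk.F X x).map φ)).of_iso (PreservesCokernel.iso _ φ)
  rcases h x with hs | ⟨hN, b, hbm, c, hcm, hb, hc⟩
  · exact hs
  refine surjective_of_pair hbm hcm hb hc _ ((ModuleCat.mono_iff_injective _).1 inferInstance) hN fun r a ha => ?_
  obtain ⟨n, hn⟩ := torsion_of_generizations (cokernel φ) x hx ((Groth.L00.Stk.F X x).map (cokernel.π φ) r) a ha
  refine ⟨n, ?_⟩
  replace hn : (Groth.L00.Stk.F X x).map (cokernel.π φ) (a ^ n • r) = 0 := (map_smul _ _ _).trans hn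
  exact ((ShortComplex.exact_of_g_is_cokernel (ShortComplex.mk φ (cokernel.π φ) (cokernel.condition φ))
    (cokernelIsCokernel φ)).map (Groth.L00.Stk.F X x)).moduleCat_range_eq_ker.ge (LinearMap.mem_ker.2 hn)

/-- a direct image from an open has no sections supported outside it -/
theorem noTors_push_open (U : X.Opens) (N : (U : Scheme.{u}).Modules)
    [Coh.IsQCoh ((Scheme.Modules.pushforward U.ι).obj N)] (x : X) (hx : x ∉ U) :
    NoTors (X.presheaf.stalk x) (((Scheme.Modules.pushforward U.ι).obj N).presheaf.stalk x) := by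
  intro v hv
  obtain ⟨E, j, w, -, hw, hsupp⟩ := exists_supported _ x v hv
  have hz : IsZero ((Scheme.Modules.restrictFunctor U.ι).obj E) := by
    rw [Groth.L21.Mod.isZero_iff_support_eq_empty, Set.eq_empty_iff_forall_notMem]
    intro z hz
    rw [show CohB1.support ((Scheme.Modules.restrictFunctor U.ι).obj E) = U.ι ⁻¹' CohB1.support E from
      Groth.L21.Mod.support_restrict U.ι E] at hz
    exact hx ((specializes_iff_mem_closure.2 (hsupp hz)).mem_open U.2 z.2)
  have hj : j = 0 := ((Scheme.Modules.restrictAdjunction U.ι).homEquiv E N).symm.injective (hz.eq_of_src _ _)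
  rw [← hw, hj, Functor.map_zero]
  rfl

/-- the stalk of a sheaf of maps -/
def homE {F G : X.Modules} (hF : Coh.IsCoh F) [Coh.IsQCoh G] (x : X) :
    (RefHull.homSh F G).presheaf.stalk x ≃ₗ[X.presheaf.stalk x] (F.presheaf.stalk x →ₗ[X.presheaf.stalk x] G.presheaf.stalk x) :=
  LinearEquiv.ofBijective _ (Groth.L15.Ref.evalStalk_bijective F G hF x)

theorem noTors_homSh {F G : X.Modules} (hF : Coh.IsCoh F) [Coh.IsQCoh G] (x : X)
    (h : NoTors (X.presheaf.stalk x) (G.presheaf.stalk x)) :
    NoTors (X.presheaf.stalk x) ((RefHull.homSh F G).presheaf.stalk x) :=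
  (h.hom).of_injective (homE hF x).toLinearMap (homE hF x).injective

theorem regular_pair_homSh {F G : X.Modules} (hF : Coh.IsCoh F) [Coh.IsQCoh G] (x : X) {b c : X.presheaf.stalk x}
    (hb : IsSMulRegular (G.presheaf.stalk x) b) (hc : IsSMulRegular (QuotSMulTop b (G.presheaf.stalk x)) c) :
    IsSMulRegular ((RefHull.homSh F G).presheaf.stalk x) b ∧
      IsSMulRegular (QuotSMulTop b ((RefHull.homSh F G).presheaf.stalk x)) c := by
  obtain ⟨h1, h2⟩ := regular_pair_hom (M := F.presheaf.stalk x) hb hc
  exact ⟨((homE hF x).isSMulRegular_congr b).2 h1, ((QuotSMulTop.congr b (homE hF x)).isSMulRegular_congr c).2 h2⟩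

/-- a module with regular pairs off an open is the direct image of its restriction -/
theorem isIso_unit_of_pairs (U : X.Opens) (G : X.Modules) [Coh.IsQCoh G] [QuasiCompact U.ι]
    (h : ∀ x : X, x ∉ U → ∃ b ∈ maximalIdeal (X.presheaf.stalk x), ∃ c ∈ maximalIdeal (X.presheaf.stalk x),
      IsSMulRegular (G.presheaf.stalk x) b ∧ IsSMulRegular (QuotSMulTop b (G.presheaf.stalk x)) c) :
    IsIso ((Scheme.Modules.restrictAdjunction U.ι).unit.app G) := by
  let η : G ⟶ (Scheme.Modules.pushforward U.ι).obj ((Scheme.Modules.restrictFunctor U.ι).obj G) :=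
    (Scheme.Modules.restrictAdjunction U.ι).unit.app G
  haveI : Coh.IsQCoh ((Scheme.Modules.pushforward U.ι).obj ((Scheme.Modules.restrictFunctor U.ι).obj G)) :=
    haveI : Coh.IsQCoh ((Scheme.Modules.restrictFunctor U.ι).obj G) := Scheme.Modules.isQuasicoherent_restrictFunctor _ G
    Groth.L16.QcqsPush.isQCoh_push _ U.ι
  have hgood : ∀ x : X, x ∈ U → Function.Bijective (stk η x) := fun x hx => by
    have h1 : (Scheme.Modules.restrictFunctor U.ι).map η ≫
        (Scheme.Modules.restrictAdjunction U.ι).counit.app _ = 𝟙 _ :=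
      (Scheme.Modules.restrictAdjunction U.ι).left_triangle_components G
    haveI : IsIso ((Scheme.Modules.restrictAdjunction U.ι).counit.app ((Scheme.Modules.restrictFunctor U.ι).obj G)) :=
      inferInstance
    haveI : IsIso ((Scheme.Modules.restrictFunctor U.ι).map η) := IsIso.of_isIso_fac_right h1
    haveI : IsIso ((Groth.L21.Mod.stalkF X (U.ι ⟨x, hx⟩)).map η) :=
      (NatIso.isIso_map_iff (Groth.L21.Mod.restrictStalkF U.ι ⟨x, hx⟩) η).1
        (inferInstanceAs (IsIso ((Groth.L21.Mod.stalkF _ _).map ((Scheme.Modules.restrictFunctor U.ι).map η))))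
    exact (ConcreteCategory.bijective_of_isIso _ :
      Function.Bijective ((Groth.L21.Mod.stalkF X (U.ι ⟨x, hx⟩)).map η))
  haveI : Mono η := mono_of_noTors η fun x => by
    by_cases hx : x ∈ U
    · exact .inl (hgood x hx).1
    · obtain ⟨b, hbm, c, -, hb, -⟩ := h x hx
      exact .inr (noTors_of_regular hbm hb)
  haveI : Epi η := epi_of_pairs η fun x => by
    by_cases hx : x ∈ U
    · exact .inl (hgood x hx).2
    · exact .inr ⟨noTors_push_open U _ x hx, h x hx⟩
  exact isIso_of_mono_of_epi η

end Sheaf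

section Fibre

variable {X S : Scheme.{u}} (f : X ⟶ S) [IsLocallyNoetherian X]

set_option maxHeartbeats 1600000 in
/-- local rings have regular pairs where the fibres have dimension two -/
theorem exists_pair_stalk [LocallyOfFiniteType f] [IsLocallyNoetherian S] (hS : RelCanon.IsSkMor f 2) (x : X)
    (hdim : (2 : WithBot ℕ∞) ≤ ringKrullDim ((f.fiber (f x)).presheaf.stalk (f.asFiber x))) :
    ∃ b ∈ maximalIdeal (X.presheaf.stalk x), ∃ c ∈ maximalIdeal (X.presheaf.stalk x),
      IsSMulRegular (X.presheaf.stalk x) b ∧ IsSMulRegular (QuotSMulTop b (X.presheaf.stalk x)) c := by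
  haveI := hS.1
  let Z := f.fiber (f x)
  let v := f.asFiber x
  haveI : LocallyOfFiniteType (f.fiberToSpecResidueField (f x)) :=
    MorphismProperty.pullback_snd f (S.fromSpecResidueField (f x)) inferInstance
  haveI : IsLocallyNoetherian Z := LocallyOfFiniteType.isLocallyNoetherian (f.fiberToSpecResidueField (f x))
  let F := Coh.structureModule X
  have hL : PicF.IsInvertible F := Groth.L18.Ample.isInvertible_tensorPow (L := F)
    (RelCanon.isInvertible_iff_invertibleAt F |>.2 fun y => ⟨⊤, trivial, ⟨Scheme.Modules.restrictUnitIso _⟩⟩) 0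
  let Fv := ((Scheme.Modules.pullback (f.fiberι (f x))).obj F).presheaf.stalk v
  obtain ⟨eFv⟩ := Groth.L18.KernelTensorGG.exists_stalk_equiv
    (Groth.L18.Ample.isInvertible_pullback (f.fiberι (f x)) hL) v
  have hsupp : Module.support (Z.presheaf.stalk v) Fv = Set.univ := by
    refine eFv.support_eq.symm.trans (Set.eq_univ_of_forall fun q => ?_)
    exact Module.mem_support_iff_of_finite.2 (by rw [Module.annihilator_eq_bot.mpr inferInstance]; exact bot_le)
  have hfin : ∀ w : Z, Module.Finite (Z.presheaf.stalk w)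
      (((Scheme.Modules.pullback (f.fiberι (f x))).obj F).presheaf.stalk w) := fun w => by
    obtain ⟨e⟩ := Groth.L18.KernelTensorGG.exists_stalk_equiv
      (Groth.L18.Ample.isInvertible_pullback (f.fiberι (f x)) hL) w
    exact Module.Finite.equiv e
  haveI := hfin v
  obtain ⟨b, c, hbm, hcm, hb, hc⟩ := exists_regular_pair f F x hfin
    eFv.symm.toEquiv.nontrivial (two_le_depth (relSkAt_of_isInvertible f 2 hS hL x).2 hsupp hdim)
  let A' := S.presheaf.stalk (f x)
  let Ox := X.presheaf.stalk x
  let Fx := (Groth.L00.Stk.F X x).obj F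
  letI : Algebra A' Ox := (f.stalkMap x).hom.toAlgebra
  haveI : IsLocalHom (algebraMap A' Ox) := inferInstanceAs (IsLocalHom (f.stalkMap x).hom)
  letI : Module A' Fx := Module.compHom _ (f.stalkMap x).hom
  haveI : IsScalarTower A' Ox Fx := IsScalarTower.of_algebraMap_smul fun _ _ => rfl
  let σ : Ox ≃ₗ[Ox] Fx := Groth.L15.Ref.strE x
  haveI : Module.Finite Ox Fx := Module.Finite.equiv σ
  haveI : Module.Flat A' Fx := (relSkAt_of_isInvertible f 2 hS hL x).1
  haveI : Module.Flat A' (QuotSMulTop b Fx) := Groth.L01.ArtinianFlatRegular.flat_quotSMulTop fun L _ _ => Hartogs.regular_tensor hb L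
  obtain ⟨e⟩ := Groth.L01.ArtinianFlatRegular.nonempty_quotSMulTop_tensor (A := A') (M := Fx) b (A' ⧸ maximalIdeal A')
  have hc' : IsSMulRegular (QuotSMulTop b Fx ⊗[A'] (A' ⧸ maximalIdeal A')) c := (e.isSMulRegular_congr c).1 hc
  let r : Fx ⊗[A'] A' ≃ₗ[Ox] Fx := TensorProduct.AlgebraTensorModule.rid A' Ox Fx
  let r' : QuotSMulTop b Fx ⊗[A'] A' ≃ₗ[Ox] QuotSMulTop b Fx :=
    TensorProduct.AlgebraTensorModule.rid A' Ox (QuotSMulTop b Fx)
  exact ⟨b, hbm, c, hcm, ((r.trans σ.symm).isSMulRegular_congr b).1 (Hartogs.regular_tensor hb A'),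
    ((r'.trans (QuotSMulTop.congr b σ.symm)).isSMulRegular_congr c).1 (Hartogs.regular_tensor hc' A')⟩

end Fibre

end Groth.L10.RelCan
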