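import Groth.Agent.L10.RelCan.CommuteS2
import Groth.Agent.L10.RelCan.DepthSheaf

/-!
Regular pairs on stalks of modules satisfying relative Serre condition two, after tensoring with any base module.
-/

set_option autoImplicit false
set_option linter.style.haveILetI false
set_option backward.defeqAttrib.useBackward true
set_option backward.isDefEq.respectTransparency false
set_option backward.isDefEq.respectTransparency.types false
universe u

open CategoryTheory CategoryTheory.Limits AlgebraicGeometry TopologicalSpace IsLocalRing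
open scoped TensorProduct Pointwise

noncomputable section

namespace Groth.L10.RelCan

open Groth.L29 Groth.L29.DC Groth.L10.ShriekLoc

variable {A : Type u} [CommRing A] [IsNoetherianRing A] {X : Scheme.{u}} [X.Over (Spec (CommRingCat.of A))]
  [LocallyOfFiniteType (X ↘ Spec (CommRingCat.of A))]

set_option maxHeartbeats 1600000 in
/-- a relative `S₂` module has regular pairs where the fibres have dimension two, after any tensoring with the base -/
theorem exists_pair_tensor (G : X.Modules) (hG : Coh.IsCoh G) (U : X.Opens)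
    (hcod : ∀ y : X, y ∉ U → (2 : WithBot ℕ∞) ≤ ringKrullDim
      (((X ↘ Spec (CommRingCat.of A)).fiber ((X ↘ Spec (CommRingCat.of A)) y)).presheaf.stalk
        ((X ↘ Spec (CommRingCat.of A)).asFiber y)))
    (hnt : ∀ y ∈ U, Nontrivial (G.presheaf.stalk y))
    (x : X) (hx : x ∉ U) (h2 : RelCanon.RelSkAt (X ↘ Spec (CommRingCat.of A)) 2 G x) :
    letI : Module A (G.presheaf.stalk x) := Module.compHom _ (stalkScal A X x)
    letI : Algebra A (X.presheaf.stalk x) := (stalkScal A X x).toAlgebra
    haveI : IsScalarTower A (X.presheaf.stalk x) (G.presheaf.stalk x) :=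
      IsScalarTower.of_algebraMap_smul fun _ _ => rfl
    ∃ b ∈ maximalIdeal (X.presheaf.stalk x), ∃ c ∈ maximalIdeal (X.presheaf.stalk x),
      ∀ (L : Type u) [AddCommGroup L] [Module A L], IsSMulRegular (G.presheaf.stalk x ⊗[A] L) b ∧
        IsSMulRegular (QuotSMulTop b (G.presheaf.stalk x ⊗[A] L)) c := by
  let f := X ↘ Spec (CommRingCat.of A)
  haveI : IsLocallyNoetherian X := LocallyOfFiniteType.isLocallyNoetherian f
  let t := f x
  let v := f.asFiber x
  let Z := f.fiber t
  haveI : LocallyOfFiniteType (f.fiberToSpecResidueField t) :=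
    MorphismProperty.pullback_snd f ((Spec (CommRingCat.of A)).fromSpecResidueField t) inferInstance
  haveI : IsLocallyNoetherian Z := LocallyOfFiniteType.isLocallyNoetherian (f.fiberToSpecResidueField t)
  let Gt := (Scheme.Modules.pullback (f.fiberι t)).obj G
  have hGt : Coh.IsCoh Gt := Groth.L16.AffineBC.isCoh_pullback _ hG
  let Ov := Z.presheaf.stalk v
  haveI : Module.Finite Ov (Gt.presheaf.stalk v) := Groth.L06.SupportStalk.finite_stalk Gt hGt v
  -- every point of the fibre is in the support
  have hall : ∀ w : Z, w ∈ CohB1.support Gt := by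
    intro w
    obtain ⟨P, hP⟩ : ∃ P : PrimeSpectrum (Z.presheaf.stalk w), IsMin P := by
      obtain ⟨p, hp⟩ := Ideal.nonempty_minimalPrimes (I := (⊥ : Ideal (Z.presheaf.stalk w))) bot_ne_top
      exact ⟨⟨p, hp.1.1⟩, fun q hq => hp.2 ⟨q.isPrime, bot_le⟩ hq⟩
    let g : Z := Z.fromSpecStalk w P
    have hgw : g ⤳ w := Groth.L07.EquidimPoint.specializes_point w P
    have hdim0 : ringKrullDim (Z.presheaf.stalk g) ≤ 0 := by
      haveI : Ring.KrullDimLE 0 (Z.presheaf.stalk g) := Ring.KrullDimLE.mk₀ fun I hI => by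
        let y : Z := Z.fromSpecStalk g ⟨I, hI⟩
        have hyg : y ⤳ g := Groth.L07.EquidimPoint.specializes_point g _
        obtain ⟨Q, hQ⟩ : y ∈ Set.range (Z.fromSpecStalk w) := by
          rw [Scheme.range_fromSpecStalk]; exact hyg.trans hgw
        let Q' : PrimeSpectrum (Z.presheaf.stalk w) := Q
        have hQP : Q' ≤ P :=
          (PrimeSpectrum.le_iff_specializes Q' P).2
            ((Z.fromSpecStalk w).isEmbedding.isInducing.specializes_iff.1 ((specializes_of_eq hQ).trans hyg))
        have hQP' : Q' = P := le_antisymm hQP (hP hQP)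
        have hyg' : y = g := hQ.symm.trans (congrArg (Z.fromSpecStalk w) hQP')
        have h1 := (Z.fromSpecStalk g).isEmbedding.injective (hyg'.trans Scheme.fromSpecStalk_closedPoint.symm)
        rw [show I = maximalIdeal (Z.presheaf.stalk g) from congrArg PrimeSpectrum.asIdeal h1]
        exact maximalIdeal.isMaximal _
      exact Ring.krullDimLE_iff.1 ‹_›
    have hgU : f.fiberι t g ∈ U := by
      by_contra hgU
      have key : ∀ (t' : Spec (CommRingCat.of A)) (he : f (f.fiberι t g) = t') (g' : f.fiber t'),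
          f.fiberι t' g' = f.fiberι t g → (2 : WithBot ℕ∞) ≤ ringKrullDim ((f.fiber t').presheaf.stalk g') := by
        intro t' he g' hg'
        subst he
        obtain rfl : g' = f.asFiber (f.fiberι t g) :=
          (f.fiberι _).isEmbedding.injective (hg'.trans (Scheme.Hom.fiberι_asFiber f _).symm)
        exact hcod _ hgU
      exact absurd ((key t ((f.range_fiberι t).le ⟨g, rfl⟩) g rfl).trans hdim0) (by norm_num)
    have hgs : g ∈ CohB1.support Gt := not_subsingleton_iff_nontrivial.2
      ((Groth.L11.LenSpec.fibre_stalk f G (fun y => Groth.L06.SupportStalk.finite_stalk G hG y) t g).1.2 (hnt _ hgU))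
    exact hgw.mem_closed (Groth.L16.CohSupport.isClosed_support Gt hGt.2) hgs
  have hsuppv : Module.support Ov (Gt.presheaf.stalk v) = Set.univ := Set.eq_univ_of_forall fun Q =>
    (Groth.L06.SupportStalk.mem_support_iff Gt hGt v Q).2 (hall _)
  let A' := (Spec (CommRingCat.of A)).presheaf.stalk t
  let Ox := X.presheaf.stalk x
  let φ : A' →+* Ox := (f.stalkMap x).hom
  letI : Algebra A' Ox := φ.toAlgebra
  haveI : IsLocalHom (algebraMap A' Ox) := inferInstanceAs (IsLocalHom (f.stalkMap x).hom)
  letI : Algebra A Ox := (stalkScal A X x).toAlgebra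
  letI : Algebra A A' := (((Spec (CommRingCat.of A)).presheaf.germ ⊤ t trivial).hom.comp
    (Scheme.ΓSpecIso (CommRingCat.of A)).inv.hom).toAlgebra
  haveI : IsScalarTower A A' Ox := IsScalarTower.of_algebraMap_eq fun a => by
    symm
    exact Scheme.Hom.germ_stalkMap_apply f ⊤ x trivial _
  let Fx := (Groth.L00.Stk.F X x).obj G
  letI : Module A Fx := Module.compHom _ (stalkScal A X x)
  haveI : IsScalarTower A Ox Fx := IsScalarTower.of_algebraMap_smul fun _ _ => rfl
  letI : Module A' Fx := Module.compHom _ φ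
  haveI : IsScalarTower A' Ox Fx := IsScalarTower.of_algebraMap_smul fun _ _ => rfl
  haveI : IsScalarTower A A' Fx := IsScalarTower.of_algebraMap_smul fun a m => by
    show φ (algebraMap A A' a) • m = algebraMap A Ox a • m
    exact congrArg (· • m) (IsScalarTower.algebraMap_apply A A' Ox a).symm
  haveI : Module.Finite Ox Fx := Groth.L06.SupportStalk.finite_stalk G hG x
  haveI : Module.Flat A' Fx := h2.1
  obtain ⟨b, c, hbm, hcm, hb, hc⟩ := exists_regular_pair f G x
    (fun w => Groth.L06.SupportStalk.finite_stalk Gt hGt w) (not_subsingleton_iff_nontrivial.1 (hall v))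
    (two_le_depth h2.2 hsuppv (hcod x hx))
  refine ⟨b, hbm, c, hcm, fun L _ _ => ?_⟩
  let ι : Fx ⊗[A'] (A' ⊗[A] L) ≃ₗ[Ox] Fx ⊗[A] L :=
    TensorProduct.AlgebraTensorModule.cancelBaseChange A A' Ox Fx L
  haveI : Module.Flat A' (QuotSMulTop b Fx) :=
    Groth.L01.ArtinianFlatRegular.flat_quotSMulTop fun P _ _ => Hartogs.regular_tensor hb P
  obtain ⟨e⟩ := Groth.L01.ArtinianFlatRegular.nonempty_quotSMulTop_tensor (A := A') (M := Fx) b (A' ⧸ maximalIdeal A')
  have hc' : IsSMulRegular (QuotSMulTop b Fx ⊗[A'] (A' ⧸ maximalIdeal A')) c := (e.isSMulRegular_congr c).1 hc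
  obtain ⟨e'⟩ := Groth.L01.ArtinianFlatRegular.nonempty_quotSMulTop_tensor (A := A') (M := Fx) b (A' ⊗[A] L)
  exact ⟨(ι.isSMulRegular_congr b).1 (Hartogs.regular_tensor hb _),
    ((QuotSMulTop.congr b ι).isSMulRegular_congr c).1 ((e'.isSMulRegular_congr c).2 (Hartogs.regular_tensor hc' _))⟩

end Groth.L10.RelCan
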