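import Groth.Agent.L10.RelCan.Invert
import Groth.Agent.L22.ExtSh.RestrictHom
import Groth.Agent.L00.TensorRestrict
import Groth.Prelude.Def_RefFun

/-!
Reflexive powers: restriction to opens, pullback of invertible modules.
-/

set_option autoImplicit false
set_option linter.style.haveILetI false
set_option backward.defeqAttrib.useBackward true
set_option backward.isDefEq.respectTransparency false
set_option backward.isDefEq.respectTransparency.types false
universe u

open CategoryTheory CategoryTheory.Limits AlgebraicGeometry TopologicalSpace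

noncomputable section

namespace Groth.L10.RelCan

variable {X Z : Scheme.{u}}

/-- the dual commutes with restriction -/
def dualRestrict (j : Z ⟶ X) [IsOpenImmersion j] (F : X.Modules) :
    RefHull.dual (F.restrict j) ≅ (RefHull.dual F).restrict j :=
  asIso (Groth.L15.Ref.toHomMod (F.restrict j) (Coh.structureModule Z)) ≪≫
    (Groth.L16.HomSh.homModF (F.restrict j)).mapIso (Scheme.Modules.restrictUnitIso j).symm ≪≫
    (@asIso _ _ _ _ (Groth.L22.ExtSh.homRes j (M := F) (N := Coh.structureModule X))
      (Groth.L22.ExtSh.isIso_homRes j)).symm ≪≫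
    (Scheme.Modules.restrictFunctor j).mapIso (asIso (Groth.L15.Ref.toHomMod F (Coh.structureModule X))).symm

/-- the double dual commutes with restriction -/
def ddualRestrict (j : Z ⟶ X) [IsOpenImmersion j] (F : X.Modules) :
    RefHull.ddual (F.restrict j) ≅ (RefHull.ddual F).restrict j :=
  RefFun.dualIso (dualRestrict j F) ≪≫ dualRestrict j (RefHull.dual F)

theorem nonempty_refPowZ_congr {F G : X.Modules} (e : F ≅ G) (m : ℤ) :
    Nonempty (RelCanon.refPowZ F m ≅ RelCanon.refPowZ G m) := by
  cases m with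
  | ofNat n => exact ⟨RefFun.ddualIso (Groth.L00.Tensor.tensorPowIso e n)⟩
  | negSucc n => exact ⟨RefFun.ddualIso (Groth.L00.Tensor.tensorPowIso (RefFun.dualIso e) (n + 1))⟩

/-- reflexive powers commute with restriction -/
theorem nonempty_refPowZ_restrict (j : Z ⟶ X) [IsOpenImmersion j] (F : X.Modules) (m : ℤ) :
    Nonempty (RelCanon.refPowZ (F.restrict j) m ≅ (RelCanon.refPowZ F m).restrict j) := by
  cases m with
  | ofNat n => exact ⟨RefFun.ddualIso (Groth.L00.Tensor.tensorPowRestrict j F n) ≪≫ ddualRestrict j _⟩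
  | negSucc n => exact ⟨RefFun.ddualIso (Groth.L00.Tensor.tensorPowIso (dualRestrict j F) (n + 1) ≪≫
      Groth.L00.Tensor.tensorPowRestrict j (RefHull.dual F) (n + 1)) ≪≫ ddualRestrict j _⟩

theorem nonempty_ddual_pullback (f : Z ⟶ X) {L : X.Modules} (hL : PicF.IsInvertible L) :
    Nonempty (RefHull.ddual ((Scheme.Modules.pullback f).obj L) ≅
      (Scheme.Modules.pullback f).obj (RefHull.ddual L)) := by
  obtain ⟨e1⟩ := Groth.L22.Adjunction.nonempty_dual_pullback f hL
  obtain ⟨e2⟩ := Groth.L22.Adjunction.nonempty_dual_pullback f (isInvertible_dual hL)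
  exact ⟨RefFun.dualIso e1 ≪≫ e2⟩

/-- reflexive powers of invertible modules commute with pullback -/
theorem nonempty_refPowZ_pullback (f : Z ⟶ X) {L : X.Modules} (hL : PicF.IsInvertible L) (m : ℤ) :
    Nonempty (RelCanon.refPowZ ((Scheme.Modules.pullback f).obj L) m ≅
      (Scheme.Modules.pullback f).obj (RelCanon.refPowZ L m)) := by
  cases m with
  | ofNat n =>
    obtain ⟨d⟩ := nonempty_ddual_pullback f (Groth.L18.Ample.isInvertible_tensorPow hL n)
    exact ⟨RefFun.ddualIso (Groth.L18.Ample.pullPow f L n).symm ≪≫ d⟩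
  | negSucc n =>
    obtain ⟨e⟩ := Groth.L22.Adjunction.nonempty_dual_pullback f hL
    obtain ⟨d⟩ := nonempty_ddual_pullback f (Groth.L18.Ample.isInvertible_tensorPow (isInvertible_dual hL) (n + 1))
    exact ⟨RefFun.ddualIso (Groth.L00.Tensor.tensorPowIso e (n + 1) ≪≫
      (Groth.L18.Ample.pullPow f _ (n + 1)).symm) ≪≫ d⟩

end Groth.L10.RelCan
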