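import Groth.Agent.L10.RelCan.BCMap
import Groth.Agent.L10.RelCan.Reflexive
import Groth.Agent.L10.RelCan.PowPull
import Groth.Agent.L10.RelCan.PairBC
import Groth.Agent.L10.RelCan.PairCoh
import Groth.Agent.L18.AmpleOps
import Groth.Agent.L17.Approx.Extend
import Groth.Agent.L22.Cyc.BaseChange

/-!
Reflexive powers of the relative canonical sheaf and base change.
-/

set_option autoImplicit false
set_option linter.style.haveILetI false
set_option backward.defeqAttrib.useBackward true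
set_option backward.isDefEq.respectTransparency false
set_option backward.isDefEq.respectTransparency.types false
set_option linter.unusedSectionVars false
universe u

open CategoryTheory CategoryTheory.Limits AlgebraicGeometry TopologicalSpace IsLocalRing

noncomputable section

namespace Groth.L10.RelCan

open Groth.L29 Groth.L29.DC Groth.L10.ShriekLoc

section Generic

variable {X Z : Scheme.{u}}

/-- restriction of a pullback to the preimage of an open -/
def restrictPull (q : Z ⟶ X) (W : X.Opens) (F : X.Modules) :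
    ((Scheme.Modules.pullback q).obj F).restrict (q ⁻¹ᵁ W).ι ≅
      (Scheme.Modules.pullback (q ∣_ W)).obj (F.restrict W.ι) :=
  (Scheme.Modules.restrictFunctorIsoPullback (q ⁻¹ᵁ W).ι).app _ ≪≫
    (Scheme.Modules.pullbackComp (q ⁻¹ᵁ W).ι q).app F ≪≫
    (Scheme.Modules.pullbackCongr (morphismRestrict_ι q W).symm).app F ≪≫
    ((Scheme.Modules.pullbackComp (q ∣_ W) W.ι).app F).symm ≪≫
    (Scheme.Modules.pullback (q ∣_ W)).mapIso ((Scheme.Modules.restrictFunctorIsoPullback W.ι).app F).symm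

/-- invertibility at the points of an open -/
theorem isInvertible_restrict_of_invertibleAt (F : X.Modules) (U : X.Opens)
    (h : ∀ y ∈ U, RelCanon.InvertibleAt F y) : PicF.IsInvertible (F.restrict U.ι) := fun u => by
  obtain ⟨W, hW, ⟨e⟩⟩ := h u.1 u.2
  exact ⟨U.ι ⁻¹ᵁ W, hW, ⟨(Scheme.Modules.restrictFunctor _).mapIso
    ((Scheme.Modules.restrictFunctorIsoPullback U.ι).app F) ≪≫ restrictPull U.ι W F ≪≫
    (Scheme.Modules.pullback _).mapIso e ≪≫ Groth.L29.LocFree.pullbackUnitIso _⟩⟩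

theorem nonempty_ddual_invertible {M : X.Modules} (hM : PicF.IsInvertible M) :
    Nonempty (RefHull.ddual M ≅ M) := by
  obtain ⟨N, hN, ⟨e⟩⟩ := Groth.L08.Cube.exists_inverse hM
  obtain ⟨d⟩ := Groth.L22.Adjunction.nonempty_dual_iso hM e
  obtain ⟨d'⟩ := Groth.L22.Adjunction.nonempty_dual_iso hN (Groth.L00.Tensor.tensorComm N M ≪≫ e)
  exact ⟨RefFun.dualIso d ≪≫ d'⟩

/-- two sheaves with regular pairs off an open are isomorphic when they are on the open -/
theorem nonempty_iso_of_pairs [IsNoetherian X] (U : X.Opens) (G H : X.Modules) [Coh.IsQCoh G] [Coh.IsQCoh H]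
    (hG : ∀ x : X, x ∉ U → ∃ b ∈ maximalIdeal (X.presheaf.stalk x), ∃ c ∈ maximalIdeal (X.presheaf.stalk x),
      IsSMulRegular (G.presheaf.stalk x) b ∧ IsSMulRegular (QuotSMulTop b (G.presheaf.stalk x)) c)
    (hH : ∀ x : X, x ∉ U → ∃ b ∈ maximalIdeal (X.presheaf.stalk x), ∃ c ∈ maximalIdeal (X.presheaf.stalk x),
      IsSMulRegular (H.presheaf.stalk x) b ∧ IsSMulRegular (QuotSMulTop b (H.presheaf.stalk x)) c)
    (e : G.restrict U.ι ≅ H.restrict U.ι) : Nonempty (G ≅ H) := by
  haveI := isIso_unit_of_pairs U G hG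
  haveI := isIso_unit_of_pairs U H hH
  exact ⟨asIso ((Scheme.Modules.restrictAdjunction U.ι).unit.app G) ≪≫
    (Scheme.Modules.pushforward U.ι).mapIso e ≪≫
    (asIso ((Scheme.Modules.restrictAdjunction U.ι).unit.app H)).symm⟩

/-- double duals inherit regular pairs from the local rings -/
theorem pairs_ddual [IsLocallyNoetherian X] (P : X.Modules) (hP : Coh.IsCoh P) (x : X)
    (h : ∃ b ∈ maximalIdeal (X.presheaf.stalk x), ∃ c ∈ maximalIdeal (X.presheaf.stalk x),
      IsSMulRegular (X.presheaf.stalk x) b ∧ IsSMulRegular (QuotSMulTop b (X.presheaf.stalk x)) c) :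
    ∃ b ∈ maximalIdeal (X.presheaf.stalk x), ∃ c ∈ maximalIdeal (X.presheaf.stalk x),
      IsSMulRegular ((RefHull.ddual P).presheaf.stalk x) b ∧
        IsSMulRegular (QuotSMulTop b ((RefHull.ddual P).presheaf.stalk x)) c := by
  obtain ⟨b, hbm, c, hcm, hb, hc⟩ := h
  haveI : Coh.IsQCoh (Coh.structureModule X) := (Groth.L16.CohClosedPush.isCoh_structure (X := X)).1
  let σ := Groth.L15.Ref.strE (X := X) x
  obtain ⟨h1, h2⟩ := regular_pair_homSh (F := RefHull.dual P) (G := Coh.structureModule X)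
    (Groth.L15.Ref.isCoh_dual hP) x ((σ.isSMulRegular_congr b).1 hb)
    (((QuotSMulTop.congr b σ).isSMulRegular_congr c).1 hc)
  exact ⟨b, hbm, c, hcm, h1, h2⟩

theorem isCoh_refPowZ [IsLocallyNoetherian X] {F : X.Modules} (hF : Coh.IsCoh F) (m : ℤ) :
    Coh.IsCoh (RelCanon.refPowZ F m) := by
  have hpow : ∀ (G : X.Modules), Coh.IsCoh G → ∀ n, Coh.IsCoh (CohB1.tensorPow G n) := fun G hG n => by
    induction n with
    | zero => exact Groth.L16.CohClosedPush.isCoh_structure
    | succ n ih => exact Groth.L15.Ref.isCoh_tensorMod ih hG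
  cases m with
  | ofNat n => exact Groth.L15.Ref.isCoh_dual (Groth.L15.Ref.isCoh_dual (hpow F hF n))
  | negSucc n => exact Groth.L15.Ref.isCoh_dual (Groth.L15.Ref.isCoh_dual (hpow _ (Groth.L15.Ref.isCoh_dual hF) (n + 1)))

theorem pairs_refPowZ [IsLocallyNoetherian X] {F : X.Modules} (hF : Coh.IsCoh F) (m : ℤ) (x : X)
    (h : ∃ b ∈ maximalIdeal (X.presheaf.stalk x), ∃ c ∈ maximalIdeal (X.presheaf.stalk x),
      IsSMulRegular (X.presheaf.stalk x) b ∧ IsSMulRegular (QuotSMulTop b (X.presheaf.stalk x)) c) :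
    ∃ b ∈ maximalIdeal (X.presheaf.stalk x), ∃ c ∈ maximalIdeal (X.presheaf.stalk x),
      IsSMulRegular ((RelCanon.refPowZ F m).presheaf.stalk x) b ∧
        IsSMulRegular (QuotSMulTop b ((RelCanon.refPowZ F m).presheaf.stalk x)) c := by
  have hpow : ∀ (G : X.Modules), Coh.IsCoh G → ∀ n, Coh.IsCoh (CohB1.tensorPow G n) := fun G hG n => by
    induction n with
    | zero => exact Groth.L16.CohClosedPush.isCoh_structure
    | succ n ih => exact Groth.L15.Ref.isCoh_tensorMod ih hG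
  cases m with
  | ofNat n => exact pairs_ddual _ (hpow F hF n) x h
  | negSucc n => exact pairs_ddual _ (hpow _ (Groth.L15.Ref.isCoh_dual hF) (n + 1)) x h

end Generic

section Family

variable {A : Type u} [CommRing A] [IsNoetherianRing A] {Y : Scheme.{u}} [Y.Over (Spec (CommRingCat.of A))]
  [IsProper (Y ↘ Spec (CommRingCat.of A))] {d : ℕ}

variable (Y A) in
/-- the relative Gorenstein locus as an open -/
def gorOpen [Flat (Y ↘ Spec (CommRingCat.of A))] : Y.Opens :=
  haveI : LocallyOfFinitePresentation (Y ↘ Spec (CommRingCat.of A)) :=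
    LocallyOfFinitePresentation.iff_locallyOfFiniteType.mpr inferInstance
  ⟨RelCanon.gorLocus (Y ↘ Spec (CommRingCat.of A)), Groth.L21.GorOpen.isOpen_gorenstein _⟩

variable (hS : RelCanon.IsSkMor (Y ↘ Spec (CommRingCat.of A)) 2)
  (hd : Cyc.HasRelDim (Y ↘ Spec (CommRingCat.of A)) d) (ω : Y.Modules)
  (hω : RelCanon.IsDualizingSheaf A Y d ω)
  (hG : ∀ y : Y, y ∉ RelCanon.gorLocus (Y ↘ Spec (CommRingCat.of A)) →
    (2 : WithBot ℕ∞) ≤ ringKrullDim (((Y ↘ Spec (CommRingCat.of A)).fiber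
      ((Y ↘ Spec (CommRingCat.of A)) y)).presheaf.stalk ((Y ↘ Spec (CommRingCat.of A)).asFiber y)))
  {B : Type u} [CommRing B] [IsNoetherianRing B] [Algebra A B] {Y' : Scheme.{u}}
  [Y'.Over (Spec (CommRingCat.of B))] {p : Y' ⟶ Y}
  (hp : IsPullback p (Y' ↘ Spec (CommRingCat.of B)) (Y ↘ Spec (CommRingCat.of A))
    (Spec.map (CommRingCat.ofHom (algebraMap A B))))

include hd hω in
theorem isInvertible_omega_gorOpen [Flat (Y ↘ Spec (CommRingCat.of A))] :
    PicF.IsInvertible (ω.restrict (gorOpen A Y).ι) :=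
  isInvertible_restrict_of_invertibleAt ω _ fun y hy => invertibleAt_of_gor hd ω hω y hy

include hd hω in
theorem nontrivial_refPowZ_gor [Flat (Y ↘ Spec (CommRingCat.of A))] (m : ℤ) (y : Y) (hy : y ∈ gorOpen A Y) :
    Nontrivial ((RelCanon.refPowZ ω m).presheaf.stalk y) := by
  obtain ⟨e⟩ := nonempty_refPowZ_restrict (gorOpen A Y).ι ω m
  have hinv := Groth.L18.Ample.isInvertible_of_iso e (isInvertible_refPowZ (isInvertible_omega_gorOpen hd ω hω) m)
  obtain ⟨s⟩ := Groth.L18.KernelTensorGG.exists_stalk_equiv hinv ⟨y, hy⟩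
  haveI hn : Nontrivial (((RelCanon.refPowZ ω m).restrict (gorOpen A Y).ι).presheaf.stalk ⟨y, hy⟩) :=
    s.symm.toEquiv.nontrivial
  exact @Equiv.nontrivial _ _ (stalkEquiv (gorOpen A Y).ι (RelCanon.refPowZ ω m) ⟨y, hy⟩).symm.toEquiv hn

include hS hG hp in
theorem pairs_pullback (G : Y.Modules) (hGc : Coh.IsCoh G)
    (hnt : ∀ y ∈ RelCanon.gorLocus (Y ↘ Spec (CommRingCat.of A)), Nontrivial (G.presheaf.stalk y))
    (h2 : ∀ y, y ∉ RelCanon.gorLocus (Y ↘ Spec (CommRingCat.of A)) → RelCanon.RelSkAt (Y ↘ Spec (CommRingCat.of A)) 2 G y)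
    (x' : Y') (hx' : p x' ∉ RelCanon.gorLocus (Y ↘ Spec (CommRingCat.of A))) :
    ∃ b ∈ maximalIdeal (Y'.presheaf.stalk x'), ∃ c ∈ maximalIdeal (Y'.presheaf.stalk x'),
      IsSMulRegular (((Scheme.Modules.pullback p).obj G).presheaf.stalk x') b ∧
        IsSMulRegular (QuotSMulTop b (((Scheme.Modules.pullback p).obj G).presheaf.stalk x')) c := by
  haveI := hS.1
  haveI := hGc.1
  obtain ⟨b, hbm, c, hcm, h⟩ := exists_pair_tensor G hGc (gorOpen A Y) hG hnt (p x') hx' (h2 _ hx')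
  letI : Module A (G.presheaf.stalk (p x')) := Module.compHom _ (stalkScal A Y (p x'))
  obtain ⟨h1, h3⟩ := regular_pair_pullback hp G x' (h B).1 (h B).2
  exact ⟨_, map_nonunit (p.stalkMap x').hom b hbm, _, map_nonunit (p.stalkMap x').hom c hcm, h1, h3⟩

include hS hG hp in
theorem pairs_structure (x' : Y') (hx' : p x' ∉ RelCanon.gorLocus (Y ↘ Spec (CommRingCat.of A))) :
    ∃ b ∈ maximalIdeal (Y'.presheaf.stalk x'), ∃ c ∈ maximalIdeal (Y'.presheaf.stalk x'),
      IsSMulRegular (Y'.presheaf.stalk x') b ∧ IsSMulRegular (QuotSMulTop b (Y'.presheaf.stalk x')) c := by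
  haveI : IsLocallyNoetherian Y := LocallyOfFiniteType.isLocallyNoetherian (Y ↘ Spec (CommRingCat.of A))
  have hO : PicF.IsInvertible (Coh.structureModule Y) := fun y => ⟨⊤, trivial, ⟨Scheme.Modules.restrictUnitIso _⟩⟩
  obtain ⟨b, hb, c, hc, h1, h2⟩ := pairs_pullback hS hG hp (Coh.structureModule Y)
    Groth.L16.CohClosedPush.isCoh_structure
    (fun y _ => (Groth.L15.Ref.strE (X := Y) y).symm.toEquiv.nontrivial)
    (fun y _ => relSkAt_of_isInvertible _ 2 hS hO y) x' hx'
  let E := ((Groth.L00.Stk.F Y' x').mapIso (Groth.L29.LocFree.pullbackUnitIso p)).toLinearEquiv.trans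
    (Groth.L15.Ref.strE (X := Y') x').symm
  exact ⟨b, hb, c, hc, (E.isSMulRegular_congr b).1 h1, ((QuotSMulTop.congr b E).isSMulRegular_congr c).1 h2⟩

variable (ω' : Y'.Modules) (hω' : RelCanon.IsDualizingSheaf B Y' d ω')

set_option maxHeartbeats 1600000 in
include hS hd hω hG hp hω' in
/-- reflexive powers of the relative canonical sheaf and base change -/
theorem nonempty_pullback_refPowZ (m : ℤ) :
    Nonempty (RefHull.ddual ((Scheme.Modules.pullback p).obj (RelCanon.refPowZ ω m)) ≅ RelCanon.refPowZ ω' m) ∧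
    (RelCanon.RelSk (Y ↘ Spec (CommRingCat.of A)) 2 (RelCanon.refPowZ ω m) →
      Nonempty ((Scheme.Modules.pullback p).obj (RelCanon.refPowZ ω m) ≅ RelCanon.refPowZ ω' m)) := by
  let f := Y ↘ Spec (CommRingCat.of A)
  let f' := Y' ↘ Spec (CommRingCat.of B)
  haveI := hS.1
  haveI : IsProper f' := MorphismProperty.of_isPullback hp (inferInstanceAs (IsProper f))
  haveI : IsLocallyNoetherian Y := LocallyOfFiniteType.isLocallyNoetherian f
  haveI : Flat f' := MorphismProperty.of_isPullback hp (inferInstanceAs (Flat f))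
  haveI : IsLocallyNoetherian Y' := LocallyOfFiniteType.isLocallyNoetherian f'
  haveI : CompactSpace Y' := QuasiCompact.compactSpace_of_compactSpace f'
  haveI : IsNoetherian Y' := {}
  haveI := isLeftAdjoint (A := A) (Y := Y) (d := d) hd
  let U : Y.Opens := gorOpen A Y
  let U' : Y'.Opens := p ⁻¹ᵁ U
  let q := p ∣_ U
  let L := ω.restrict U.ι
  have hL : PicF.IsInvertible L := isInvertible_omega_gorOpen hd ω hω
  have hωc : Coh.IsCoh ω := (isCoh_and_nontrivial d hd ω hω).1
  haveI := hωc.1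
  let W := RelCanon.refPowZ ω m
  have hWc : Coh.IsCoh W := isCoh_refPowZ hωc m
  haveI := hWc.1
  let P := (Scheme.Modules.pullback p).obj W
  have hPc : Coh.IsCoh P := Groth.L16.AffineBC.isCoh_pullback p hWc
  haveI := hPc.1
  -- the base change map on the open
  obtain ⟨lam, hlam⟩ := exists_bcMap_bijective hp hd U (fun x hx => ⟨hx.1, by haveI := hx.2; exact Groth.Agent.S0341.result _⟩)
    ω hω ω' hω'
  have hω'q : Coh.IsQCoh ω' := by obtain ⟨_, h, -⟩ := (isDualizingSheaf_iff ω').1 hω'; exact h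
  have hω'c : Coh.IsCoh ω' :=
    (isCoh_and_nontrivial d (Groth.L22.Cyc.hasRelDim_baseChange hp hd) ω' hω').1
  haveI := hω'q
  haveI : IsIso ((Scheme.Modules.restrictFunctor U'.ι).map lam) :=
    Groth.L17.Approx.isIso_restrict_of_bijective lam U' fun O hO =>
      Groth.L15.Ref.app_bijective_of_stalk lam fun z hz => hlam z (hO hz)
  let eω : ω'.restrict U'.ι ≅ (Scheme.Modules.pullback q).obj L :=
    (asIso ((Scheme.Modules.restrictFunctor U'.ι).map lam)).symm ≪≫ restrictPull p U ω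
  obtain ⟨eL⟩ := nonempty_refPowZ_restrict U.ι ω m
  obtain ⟨eR⟩ := nonempty_refPowZ_restrict U'.ι ω' m
  obtain ⟨eC⟩ := nonempty_refPowZ_congr eω m
  obtain ⟨eP⟩ := nonempty_refPowZ_pullback q hL m
  let eU : P.restrict U'.ι ≅ (RelCanon.refPowZ ω' m).restrict U'.ι :=
    restrictPull p U W ≪≫ (Scheme.Modules.pullback q).mapIso eL.symm ≪≫ eP.symm ≪≫ eC.symm ≪≫ eR
  haveI : Coh.IsQCoh (RelCanon.refPowZ ω' m) := (isCoh_refPowZ hω'c m).1
  have hR : ∀ x : Y', x ∉ U' → _ := fun x hx =>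
    pairs_refPowZ (F := ω') hω'c m x (pairs_structure hS hG hp x hx)
  refine ⟨?_, fun h2 => nonempty_iso_of_pairs U' P _ (fun x hx =>
    pairs_pullback hS hG hp W hWc (fun y hy => nontrivial_refPowZ_gor hd ω hω m y hy) (fun y _ => h2 y) x hx) hR eU⟩
  have hinv : PicF.IsInvertible (P.restrict U'.ι) :=
    Groth.L18.Ample.isInvertible_of_iso ((Scheme.Modules.pullback q).mapIso eL ≪≫ (restrictPull p U W).symm)
      (Groth.L18.Ample.isInvertible_pullback q (isInvertible_refPowZ hL m))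
  obtain ⟨eD⟩ := nonempty_ddual_invertible hinv
  haveI : Coh.IsQCoh (RefHull.ddual P) := (Groth.L15.Ref.isCoh_dual (Groth.L15.Ref.isCoh_dual hPc)).1
  exact nonempty_iso_of_pairs U' _ _ (fun x hx => pairs_ddual P hPc x (pairs_structure hS hG hp x hx)) hR
    ((ddualRestrict U'.ι P).symm ≪≫ eD ≪≫ eU)

end Family

end Groth.L10.RelCan
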