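import Groth.Agent.L10.RelCan.QGorBC
import Groth.Agent.L09.ModStack.Descent
import Groth.Agent.L20.FibreFree
import Groth.Agent.L17.FinLocBases
import Groth.Agent.L17.PullBasis
import Groth.Agent.L00.StalkTensor

/-!
Descent of invertibility, relative Serre conditions and ℚ-Gorenstein conditions along flat surjective base changes.
-/

set_option autoImplicit false
set_option linter.style.haveILetI false
set_option linter.unusedSectionVars false
set_option backward.defeqAttrib.useBackward true
set_option backward.isDefEq.respectTransparency false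
set_option backward.isDefEq.respectTransparency.types false
universe u

open CategoryTheory CategoryTheory.Limits AlgebraicGeometry TopologicalSpace IsLocalRing
open scoped TensorProduct Pointwise

noncomputable section

namespace Groth.L10.RelCan

/-- a coherent module with stalk free of rank one is invertible there -/
theorem invertibleAt_of_stalk {X : Scheme.{u}} [IsLocallyNoetherian X] {F : X.Modules} (hF : Coh.IsCoh F) (y : X)
    (θy : F.presheaf.stalk y ≃ₗ[X.presheaf.stalk y] X.presheaf.stalk y) : RelCanon.InvertibleAt F y := by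
  haveI : Module.Flat (X.presheaf.stalk y) (F.presheaf.stalk y) := Module.Flat.of_linearEquiv θy
  obtain ⟨U, n, hyU, ⟨e⟩⟩ := Groth.L20.FibreFree.exists_free_nhd F (Groth.L15.Ref.isFP_of_isCoh hF) y inferInstance
  have hU : U.ι ''ᵁ ⊤ = U := (Scheme.Hom.image_top_eq_opensRange U.ι).trans U.opensRange_ι
  obtain ⟨s, hs⟩ := Groth.L17.FinLocBases.exists_isBasis F e
  have hb := Groth.L17.PullBasis.bijective_stalk F s hs y (hU.symm ▸ hyU)
  let θn := LinearEquiv.ofBijective (Fintype.linearCombination (X.presheaf.stalk y)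
    fun j => Groth.L00.StalkTensor.germ (Groth.L00.Tensor.pre F) y (hU.symm ▸ hyU) (s j)) hb
  have hn : n = 1 := by simpa using (θn.trans θy).finrank_eq
  subst hn
  exact ⟨U, hyU, ⟨e ≪≫ coproductUniqueIso (fun _ : Fin 1 => Coh.structureModule (↑U : Scheme.{u}))⟩⟩

/-- invertibility at a point descends along flat maps -/
theorem invertibleAt_of_pullback {Z Z' : Scheme.{u}} [IsLocallyNoetherian Z] (m : Z' ⟶ Z) [Flat m] {M : Z.Modules}
    (hM : Coh.IsCoh M) (z' : Z') (h : RelCanon.InvertibleAt ((Scheme.Modules.pullback m).obj M) z') :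
    RelCanon.InvertibleAt M (m z') := by
  obtain ⟨V, hzV, ⟨e⟩⟩ := h
  let q := V.ι ≫ m
  let v : (V : Scheme.{u}) := ⟨z', hzV⟩
  let e' : (Scheme.Modules.pullback q).obj M ≅ Coh.structureModule (V : Scheme.{u}) :=
    ((Scheme.Modules.pullbackComp V.ι m).app M).symm ≪≫
      ((Scheme.Modules.restrictFunctorIsoPullback V.ι).app _).symm ≪≫ e
  let O := Z.presheaf.stalk (q v)
  let O' := (V : Scheme.{u}).presheaf.stalk v
  letI : Algebra O O' := (q.stalkMap v).hom.toAlgebra
  haveI : IsLocalHom (algebraMap O O') := inferInstanceAs (IsLocalHom (q.stalkMap v).hom)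
  haveI : Module.Flat O O' := Flat.stalkMap q v
  haveI : Module.FaithfullyFlat O O' := Module.FaithfullyFlat.of_flat_of_isLocalHom
  let N := (Groth.L00.Stk.F Z (q v)).obj M
  haveI : Module.Finite O N := Groth.L06.SupportStalk.finite_stalk M hM _
  let θ : O' ⊗[O] N ≃ₗ[O'] O' :=
    (((Groth.L00.PullStalk.stalkIso q v).app M).toLinearEquiv.symm.trans
      ((Groth.L00.Stk.F (V : Scheme.{u}) v).mapIso e').toLinearEquiv).trans (Groth.L15.Ref.strE v).symm
  haveI : Module.Flat O' (O' ⊗[O] N) := Module.Flat.of_linearEquiv θ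
  haveI : Module.Flat O (O' ⊗[O] N) := Module.Flat.trans O O' _
  haveI : Module.Flat O N := Groth.L09.ModStack.flat_of_faithfullyFlat (A := O) (B := O')
  haveI : Module.Free O N := Module.free_of_flat_of_isLocalRing
  have h1 : Module.finrank O N = 1 := by
    rw [← Module.finrank_baseChange (R := O') (S := O) (M' := N), θ.finrank_eq, Module.finrank_self]
  exact invertibleAt_of_stalk hM (q v) (LinearEquiv.ofFinrankEq (R := O) N O (h1.trans (Module.finrank_self O).symm))

namespace SkPull

/-- Serre conditions descend along flat morphisms with Cohen–Macaulay fibres -/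
theorem skAt_of_pullback {Z Z' : Scheme.{u}} [IsLocallyNoetherian Z] [IsLocallyNoetherian Z'] (m : Z' ⟶ Z) [Flat m]
    (hm : ∀ z' : Z', MoreMor.IsCMAt m z') (M : Z.Modules) (hM : Coh.IsCoh M) (k : ℕ) (z' : Z')
    (h : RelCanon.SkAt k ((Scheme.Modules.pullback m).obj M) z') : RelCanon.SkAt k M (m z') := by
  rw [skAt_iff_gen _ hM]
  rw [skAt_iff_gen _ (Groth.L16.AffineBC.isCoh_pullback m hM)] at h
  intro w hw
  obtain ⟨u, hu, rfl⟩ := Flat.generalizingMap m hw
  -- a generic point of the fibre above `u`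
  let F := m.fiber (m u)
  let v := m.asFiber u
  obtain ⟨P, hP⟩ : ∃ P : PrimeSpectrum (F.presheaf.stalk v), IsMin P := by
    obtain ⟨p, hp⟩ := Ideal.nonempty_minimalPrimes (I := (⊥ : Ideal (F.presheaf.stalk v))) bot_ne_top
    exact ⟨⟨p, hp.1.1⟩, fun q hq => hp.2 ⟨q.isPrime, bot_le⟩ hq⟩
  let g : F := F.fromSpecStalk v P
  have hgv : g ⤳ v := Groth.L07.EquidimPoint.specializes_point v P
  have hdim0 : ringKrullDim (F.presheaf.stalk g) ≤ 0 := by
    haveI : Ring.KrullDimLE 0 (F.presheaf.stalk g) := Ring.KrullDimLE.mk₀ fun I hI => by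
      let y : F := F.fromSpecStalk g ⟨I, hI⟩
      have hyg : y ⤳ g := Groth.L07.EquidimPoint.specializes_point g _
      obtain ⟨Q, hQ⟩ : y ∈ Set.range (F.fromSpecStalk v) := by
        rw [Scheme.range_fromSpecStalk]; exact hyg.trans hgv
      let Q' : PrimeSpectrum (F.presheaf.stalk v) := Q
      have hQP : Q' ≤ P :=
        (PrimeSpectrum.le_iff_specializes Q' P).2
          ((F.fromSpecStalk v).isEmbedding.isInducing.specializes_iff.1 ((specializes_of_eq hQ).trans hyg))
      have hQP' : Q' = P := le_antisymm hQP (hP hQP)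
      have hyg' : y = g := hQ.symm.trans (congrArg (F.fromSpecStalk v) hQP')
      have h1 := (F.fromSpecStalk g).isEmbedding.injective (hyg'.trans Scheme.fromSpecStalk_closedPoint.symm)
      rw [show I = maximalIdeal (F.presheaf.stalk g) from congrArg PrimeSpectrum.asIdeal h1]
      exact maximalIdeal.isMaximal _
    exact Ring.krullDimLE_iff.1 ‹_›
  let w' : Z' := m.fiberι (m u) g
  have hmw : m w' = m u := (m.range_fiberι (m u)).le ⟨g, rfl⟩
  have hw'z : w' ⤳ z' := by
    refine ((hgv.map (m.fiberι (m u)).continuous).trans ?_).trans hu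
    exact specializes_of_eq (m.fiberι_asFiber u)
  have hzero : ringKrullDim ((m.fiber (m w')).presheaf.stalk (m.asFiber w')) ≤ 0 := by
    have key : ∀ (t : Z) (_ : m w' = t) (g' : m.fiber t), m.fiberι t g' = w' →
        ringKrullDim ((m.fiber t).presheaf.stalk g') ≤ 0 →
        ringKrullDim ((m.fiber (m w')).presheaf.stalk (m.asFiber w')) ≤ 0 := by
      intro t ht g' hg' hd
      subst ht
      obtain rfl : g' = m.asFiber w' :=
        (m.fiberι _).isEmbedding.injective (hg'.trans (Scheme.Hom.fiberι_asFiber m _).symm)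
      exact hd
    exact key _ hmw g rfl hdim0
  have main : Good k (Z.presheaf.stalk (m w')) (M.presheaf.stalk (m w')) := by
    let O := Z.presheaf.stalk (m w')
    let O' := Z'.presheaf.stalk w'
    letI : Algebra O O' := (m.stalkMap w').hom.toAlgebra
    haveI : IsLocalHom (algebraMap O O') := inferInstanceAs (IsLocalHom (m.stalkMap w').hom)
    haveI : Module.Flat O O' := (hm w').1
    let N := (Groth.L00.Stk.F Z (m w')).obj M
    haveI : Module.Finite O N := Groth.L06.SupportStalk.finite_stalk M hM _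
    let ε : ((Scheme.Modules.pullback m).obj M).presheaf.stalk w' ≃ₗ[O'] O' ⊗[O] N :=
      ((Groth.L00.PullStalk.stalkIso m w').app M).toLinearEquiv
    haveI : Module.Finite O' (O' ⊗[O] N) := inferInstance
    have hg : Good k O' (O' ⊗[O] N) := (good_iff_of_semi (R := O') (M := O' ⊗[O] N)
      { φ := RingHom.id O', surj := Function.surjective_id, e := ε.symm.toAddEquiv,
        map_smul := fun r v => ε.symm.map_smul r v }).2 (h w' hw'z)
    rcases subsingleton_or_nontrivial N with hN | hN
    · show min _ (Module.supportDim O N) ≤ _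
      rw [(Module.supportDim_eq_bot_iff_subsingleton O N).2 inferInstance, min_eq_right bot_le]
      exact bot_le
    obtain ⟨eF⟩ := Groth.L07.CIScheme.exists_fiberStalkEquiv m (m w') (m.asFiber w') w' (m.fiberι_asFiber w')
    have hcm := (L02.CMMor.cm_fibre_iff m w').2 (hm w').2
    haveI := hcm
    have hF0 : ringKrullDim (EGA4.FibRing O O') = 0 :=
      le_antisymm ((ringKrullDim_eq_of_ringEquiv eF).trans_le hzero)
        ringKrullDim_nonneg_of_nontrivial
    let e : EGA4.FibMod O O' O' ≃ₗ[O'] EGA4.FibRing O O' :=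
      Submodule.quotEquivOfEq _ _ (by rw [smul_eq_mul, Ideal.mul_top])
    have h1 : LocCoh.depth O' (EGA4.FibMod O O' O') = LocCoh.depth (EGA4.FibRing O O') (EGA4.FibRing O O') :=
      (Groth.L04.idealDepth_congr e).trans (Groth.L06.FlatFibre.depth_fibRing_eq O O')
    have h2 : Module.supportDim O' (EGA4.FibMod O O' O') = 0 := by
      rw [Module.supportDim_eq_of_equiv e, ← hF0]
      exact Module.supportDim_quotient_eq_ringKrullDim _
    have h3 : LocCoh.depth (EGA4.FibRing O O') (EGA4.FibRing O O') = 0 := by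
      have := hcm.supportDim_eq_depth
      rw [Module.supportDim_self_eq_ringKrullDim, hF0] at this
      exact (WithBot.coe_eq_coe.1 this).symm
    have hg' : min (k : WithBot ℕ∞) (Module.supportDim O' (O' ⊗[O] N)) ≤
      ((LocCoh.depth O' (O' ⊗[O] N) : ℕ∞) : WithBot ℕ∞) := hg
    rw [L02.CMMor.depth_tensor (N := O') N, L02.CMMor.supportDim_tensor (N := O') N, h2, h1, h3, add_zero, add_zero] at hg'
    exact hg'
  rwa [hmw] at main

end SkPull

/-- relative Serre conditions descend along flat base changes -/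
theorem relSkAt_of_baseChange {X Y X' Y' : Scheme.{u}} {f : X ⟶ Y} [LocallyOfFiniteType f] {g : Y' ⟶ Y} [Flat g]
    {f' : X' ⟶ Y'} {g' : X' ⟶ X} (hsq : IsPullback g' f' f g) (G : X.Modules) (hG : Coh.IsCoh G) (k : ℕ) (x' : X')
    (h : RelCanon.RelSkAt f' k ((Scheme.Modules.pullback g').obj G) x') :
    RelCanon.RelSkAt f k G (g' x') := by
  haveI : LocallyOfFiniteType f' := MorphismProperty.of_isPullback hsq inferInstance
  haveI : Flat g' := MorphismProperty.of_isPullback hsq.flip inferInstance
  refine ⟨Groth.L09.ModStack.isFlatOverAt_of_flat hsq.w G x' h.1, ?_⟩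
  let y' := f' x'
  letI : Algebra (Y.residueField (g y')) (Y'.residueField y') := (g.residueFieldMap y').hom.toAlgebra
  haveI : LocallyOfFiniteType (f.fiberToSpecResidueField (g y')) :=
    MorphismProperty.pullback_snd f (Y.fromSpecResidueField (g y')) inferInstance
  haveI : LocallyOfFiniteType (f'.fiberToSpecResidueField y') :=
    MorphismProperty.pullback_snd f' (Y'.fromSpecResidueField y') inferInstance
  haveI := LocallyOfFiniteType.isLocallyNoetherian (f.fiberToSpecResidueField (g y'))
  haveI := LocallyOfFiniteType.isLocallyNoetherian (f'.fiberToSpecResidueField y')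
  have sq := isPullback_fiberToSpecResidueField_of_isPullback hsq y'
  let m : f'.fiber y' ⟶ f.fiber (g y') := pullback.map f' (Y'.fromSpecResidueField y') f
    (Y.fromSpecResidueField (g y')) g' (Spec.map (g.residueFieldMap y')) g hsq.w.symm (by simp)
  have hmc : m ≫ f.fiberι (g y') = f'.fiberι y' ≫ g' := pullback.lift_fst _ _ _
  have hm : f.fiberι (g y') (m (f'.asFiber x')) = g' x' :=
    ((congrArg (fun t : f'.fiber y' ⟶ X => t (f'.asFiber x')) hmc).trans
      (congrArg g' (f'.fiberι_asFiber x')))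
  haveI : Flat (Spec.map (g.residueFieldMap y')) := by
    rw [HasRingHomProperty.Spec_iff (P := @Flat)]
    exact RingHom.flat_algebraMap_iff.mpr (inferInstanceAs (Module.Flat (Y.residueField (g y')) (Y'.residueField y')))
  haveI : Flat m := MorphismProperty.of_isPullback sq.flip inferInstance
  have key : ∀ (t : Y) (_ : f (g' x') = t) (v : f.fiber t), f.fiberι t v = g' x' →
      RelCanon.SkAt k ((Scheme.Modules.pullback (f.fiberι t)).obj G) v →
      RelCanon.SkAt k ((Scheme.Modules.pullback (f.fiberι (f (g' x')))).obj G) (f.asFiber (g' x')) := by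
    intro t ht v hv hsk
    subst ht
    obtain rfl : v = f.asFiber (g' x') :=
      (f.fiberι _).isEmbedding.injective (hv.trans (Scheme.Hom.fiberι_asFiber f _).symm)
    exact hsk
  refine key _ (congrArg (fun t : X' ⟶ Y => t x') hsq.w) _ hm ?_
  exact SkPull.skAt_of_pullback m (fun z' => SkPull.isCMAt_fieldExt (k := Y.residueField (g y'))
    (k' := Y'.residueField y') (f.fiberToSpecResidueField (g y')) sq z')
    _ (Groth.L16.AffineBC.isCoh_pullback _ hG) k (f'.asFiber x')
    (skAt_of_iso ((Scheme.Modules.pullbackComp (f'.fiberι y') g').app G ≪≫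
      (Scheme.Modules.pullbackCongr hmc.symm).app G ≪≫ ((Scheme.Modules.pullbackComp m (f.fiberι (g y'))).app G).symm) h.2)

section Family

variable {A : Type u} [CommRing A] [IsNoetherianRing A] {Y : Scheme.{u}} [Y.Over (Spec (CommRingCat.of A))]
  [IsProper (Y ↘ Spec (CommRingCat.of A))] {d : ℕ}

variable (hS : RelCanon.IsSkMor (Y ↘ Spec (CommRingCat.of A)) 2)
  (hd : Cyc.HasRelDim (Y ↘ Spec (CommRingCat.of A)) d) (ω : Y.Modules)
  (hω : RelCanon.IsDualizingSheaf A Y d ω)
  (hG : GorCodim (Y ↘ Spec (CommRingCat.of A)))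
  {B : Type u} [CommRing B] [IsNoetherianRing B] [Algebra A B] {Y' : Scheme.{u}}
  [Y'.Over (Spec (CommRingCat.of B))] {p : Y' ⟶ Y}
  (hp : IsPullback p (Y' ↘ Spec (CommRingCat.of B)) (Y ↘ Spec (CommRingCat.of A))
    (Spec.map (CommRingCat.ofHom (algebraMap A B))))
  (ω' : Y'.Modules) (hω' : RelCanon.IsDualizingSheaf B Y' d ω')

set_option maxHeartbeats 1600000 in
include hS hd hω hG hp hω' in
/-- along flat base changes the reflexive powers pull back to the reflexive powers -/
theorem nonempty_pullback_iso_of_flat [Module.Flat A B] (m : ℤ) :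
    Nonempty ((Scheme.Modules.pullback p).obj (RelCanon.refPowZ ω m) ≅ RelCanon.refPowZ ω' m) := by
  let f := Y ↘ Spec (CommRingCat.of A)
  let f' := Y' ↘ Spec (CommRingCat.of B)
  haveI := hS.1
  haveI : IsProper f' := MorphismProperty.of_isPullback hp (inferInstanceAs (IsProper f))
  haveI : IsLocallyNoetherian Y := LocallyOfFiniteType.isLocallyNoetherian f
  haveI : IsLocallyNoetherian Y' := LocallyOfFiniteType.isLocallyNoetherian f'
  haveI : CompactSpace Y' := QuasiCompact.compactSpace_of_compactSpace f'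
  haveI : IsNoetherian Y' := {}
  haveI : Flat f' := MorphismProperty.of_isPullback hp (inferInstanceAs (Flat f))
  obtain ⟨⟨E⟩, -⟩ := nonempty_pullback_refPowZ hS hd ω hω hG hp ω' hω' m
  let U : Y.Opens := gorOpen A Y
  have hωc : Coh.IsCoh ω := (isCoh_and_nontrivial d hd ω hω).1
  have hω'c : Coh.IsCoh ω' :=
    (isCoh_and_nontrivial d (Groth.L22.Cyc.hasRelDim_baseChange hp hd) ω' hω').1
  let W := RelCanon.refPowZ ω m
  haveI : Coh.IsQCoh W := (isCoh_refPowZ hωc m).1
  let P := (Scheme.Modules.pullback p).obj W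
  haveI : Coh.IsQCoh P := Groth.L16.AffineBC.isQCoh_pullback p W
  haveI : Coh.IsQCoh (RelCanon.refPowZ ω' m) := (isCoh_refPowZ hω'c m).1
  obtain ⟨eL⟩ := nonempty_refPowZ_restrict U.ι ω m
  refine nonempty_iso_of_pairs (p ⁻¹ᵁ U) P _ (fun x hx => ?_)
    (fun x hx => pairs_refPowZ (F := ω') hω'c m x (pairs_structure hS hG hp x hx)) ?_
  · obtain ⟨b, hbm, c, hcm, hb, hc⟩ := pairs_refPowZ hωc m (p x) (exists_pair_stalk f hS (p x) (hG _ hx))
    letI : Module A (W.presheaf.stalk (p x)) := Module.compHom _ (stalkScal A Y (p x))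
    letI : Algebra A (Y.presheaf.stalk (p x)) := (stalkScal A Y (p x)).toAlgebra
    haveI : IsScalarTower A (Y.presheaf.stalk (p x)) (W.presheaf.stalk (p x)) :=
      IsScalarTower.of_algebraMap_smul fun _ _ => rfl
    have reg : ∀ (N : Type u) [AddCommGroup N] [Module (Y.presheaf.stalk (p x)) N] [Module A N]
        [IsScalarTower A (Y.presheaf.stalk (p x)) N] (a : Y.presheaf.stalk (p x)),
        IsSMulRegular N a → IsSMulRegular (N ⊗[A] B) a := by
      intro N _ _ _ _ a ha
      let φ : N →ₗ[A] N := (LinearMap.lsmul (Y.presheaf.stalk (p x)) N a).restrictScalars A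
      have hφ : Function.Injective (φ.rTensor B) := Module.Flat.rTensor_preserves_injective_linearMap φ ha
      have he : ∀ z, φ.rTensor B z = a • z := fun z => by
        induction z using TensorProduct.induction_on with
        | zero => simp
        | tmul n y => rfl
        | add y y' hy hy' => rw [map_add, hy, hy', smul_add]
      intro y y' hy
      exact hφ (by rw [he, he]; exact hy)
    obtain ⟨e⟩ := Groth.L01.ArtinianFlatRegular.nonempty_quotSMulTop_tensor (A := A)
      (M := W.presheaf.stalk (p x)) b B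
    obtain ⟨h1, h3⟩ := regular_pair_pullback hp W x (reg _ b hb) ((e.isSMulRegular_congr c).2 (reg _ c hc))
    exact ⟨_, map_nonunit (p.stalkMap x).hom b hbm, _, map_nonunit (p.stalkMap x).hom c hcm, h1, h3⟩
  · have hinv : PicF.IsInvertible (P.restrict (p ⁻¹ᵁ U).ι) :=
      Groth.L18.Ample.isInvertible_of_iso ((Scheme.Modules.pullback (p ∣_ U)).mapIso eL ≪≫ (restrictPull p U W).symm)
        (Groth.L18.Ample.isInvertible_pullback _ (isInvertible_refPowZ (isInvertible_omega_gorOpen hd ω hω) m))
    let eD := Classical.choice (nonempty_ddual_invertible hinv)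
    exact eD.symm ≪≫ ddualRestrict _ P ≪≫ (Scheme.Modules.restrictFunctor _).mapIso E

include hS hd hω hG hp hω' in
theorem isQGorWith_descent [Module.Flat A B] [Surjective p] [Flat p] (h : RelCanon.IsQGorWith ω') :
    RelCanon.IsQGorWith ω := fun y => by
  haveI : IsLocallyNoetherian Y := LocallyOfFiniteType.isLocallyNoetherian (Y ↘ Spec (CommRingCat.of A))
  haveI := hS.1
  obtain ⟨x', rfl⟩ := p.surjective y
  obtain ⟨r, hr, V, hxV, ⟨e⟩⟩ := h x'
  obtain ⟨E⟩ := nonempty_pullback_iso_of_flat hS hd ω hω hG hp ω' hω' r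
  exact ⟨r, hr, invertibleAt_of_pullback p (isCoh_refPowZ (isCoh_and_nontrivial d hd ω hω).1 r) x'
    ⟨V, hxV, ⟨(Scheme.Modules.restrictFunctor _).mapIso E ≪≫ e⟩⟩⟩

include hS hd hω hG hp hω' in
theorem isQGorMorWith_descent [Module.Flat A B] [Surjective p] [Flat (Spec.map (CommRingCat.ofHom (algebraMap A B)))]
    (h : RelCanon.IsQGorMorWith (Y' ↘ Spec (CommRingCat.of B)) ω') :
    RelCanon.IsQGorMorWith (Y ↘ Spec (CommRingCat.of A)) ω := fun m y => by
  haveI : IsLocallyNoetherian Y := LocallyOfFiniteType.isLocallyNoetherian (Y ↘ Spec (CommRingCat.of A))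
  haveI := hS.1
  obtain ⟨x', rfl⟩ := p.surjective y
  obtain ⟨E⟩ := nonempty_pullback_iso_of_flat hS hd ω hω hG hp ω' hω' m
  exact relSkAt_of_baseChange hp _ (isCoh_refPowZ (isCoh_and_nontrivial d hd ω hω).1 m) 2 x'
    (relSkAt_of_iso _ E.symm (h m x'))

end Family

end Groth.L10.RelCan
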