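import Groth.Agent.L10.RelCan.FibreHartogs
import Groth.Agent.L10.RelCan.DDualBC
import Groth.Agent.L10.RelCan.QGorDescent
import Groth.Agent.L22.Cyc.OrdGen
import Groth.Agent.L15.SecOrd
import Groth.Agent.L18.FiberStalk

/-!
Stalks of maps, closed fibres and the fibre data of a relative S₂ morphism.
-/

set_option autoImplicit false
set_option maxSynthPendingDepth 4
set_option linter.style.haveILetI false
set_option linter.unusedSectionVars false
set_option backward.defeqAttrib.useBackward true
set_option backward.isDefEq.respectTransparency false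
set_option backward.isDefEq.respectTransparency.types false
universe u

open CategoryTheory CategoryTheory.Limits AlgebraicGeometry TopologicalSpace IsLocalRing
open scoped TensorProduct

noncomputable section

namespace Groth.L10.RelCan

variable {X S : Scheme.{u}}

/-- a local ring over the local ring of its image -/
@[reducible] def algStalk (f : X ⟶ S) (x : X) : Algebra (S.presheaf.stalk (f x)) (X.presheaf.stalk x) :=
  (f.stalkMap x).hom.toAlgebra

theorem isLocalHom_algStalk (f : X ⟶ S) (x : X) :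
    letI := algStalk f x
    IsLocalHom (algebraMap (S.presheaf.stalk (f x)) (X.presheaf.stalk x)) :=
  inferInstanceAs (IsLocalHom (f.stalkMap x).hom)

theorem flat_algStalk (f : X ⟶ S) [Flat f] (x : X) :
    letI := algStalk f x
    Module.Flat (S.presheaf.stalk (f x)) (X.presheaf.stalk x) :=
  Flat.stalkMap f x

/-- stalks of a dual -/
def dualStalk [IsLocallyNoetherian X] {G : X.Modules} (hG : Coh.IsCoh G) (x : X) :
    (Groth.L00.Stk.F X x).obj (RefHull.dual G) ≃ₗ[X.presheaf.stalk x]
      ((Groth.L00.Stk.F X x).obj G →ₗ[X.presheaf.stalk x] X.presheaf.stalk x) :=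
  haveI : Coh.IsQCoh (Coh.structureModule X) := (Groth.L16.CohClosedPush.isCoh_structure (X := X)).1
  (homE (G := Coh.structureModule X) hG x).trans (LinearEquiv.congrRight (Groth.L15.Ref.strE x).symm)

/-- the map to the base change of the local ring by a cyclic module is onto with the extended ideal as kernel -/
theorem nonempty_quot_equiv {A O : Type u} [CommRing A] [CommRing O] [Algebra A O] (J : Ideal A) {O' : Type u}
    [CommRing O'] [Algebra O O'] (hs : Function.Surjective (algebraMap O O'))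
    (hk : RingHom.ker (algebraMap O O') = J.map (algebraMap A O)) :
    ∃ T : O' ≃ₗ[O] O ⊗[A] (A ⧸ J), T 1 = 1 ⊗ₜ 1 := by
  let φ : O →ₗ[O] O ⊗[A] (A ⧸ J) := (TensorProduct.AlgebraTensorModule.mk A O O (A ⧸ J)).flip 1
  have hφ : Function.Surjective φ := fun z => by
    induction z using TensorProduct.induction_on with
    | zero => exact ⟨0, map_zero _⟩
    | tmul x k =>
      obtain ⟨b, rfl⟩ := Ideal.Quotient.mk_surjective k
      exact ⟨b • x, by
        show (b • x) ⊗ₜ[A] (1 : A ⧸ J) = _
        rw [TensorProduct.smul_tmul, Algebra.smul_def, mul_one]; rfl⟩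
    | add z z' hz hz' =>
      obtain ⟨x, rfl⟩ := hz
      obtain ⟨x', rfl⟩ := hz'
      exact ⟨x + x', map_add _ _ _⟩
  have hker : LinearMap.ker φ = LinearMap.ker (Algebra.linearMap O O') := by
    ext o
    show o ⊗ₜ[A] (1 : A ⧸ J) = 0 ↔ algebraMap O O' o = 0
    rw [← RingHom.mem_ker, hk]
    refine ⟨fun h => ?_, fun ho => ?_⟩
    · have h1 := congrArg (TensorProduct.tensorQuotEquivQuotSMul O J) h
      rw [map_zero, show (1 : A ⧸ J) = Ideal.Quotient.mk J 1 from rfl] at h1
      have h2 : o ∈ (J • ⊤ : Submodule A O) := by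
        rw [← Submodule.Quotient.mk_eq_zero, ← h1]
        simp [TensorProduct.tensorQuotEquivQuotSMul]
      rwa [Ideal.smul_top_eq_map, Submodule.restrictScalars_mem] at h2
    have : J.map (algebraMap A O) ≤ LinearMap.ker φ := by
      refine Ideal.map_le_iff_le_comap.2 fun a ha => ?_
      show algebraMap A O a ⊗ₜ[A] (1 : A ⧸ J) = 0
      rw [Algebra.algebraMap_eq_smul_one, TensorProduct.smul_tmul, Algebra.smul_def, mul_one,
        show algebraMap A (A ⧸ J) a = 0 from Ideal.Quotient.eq_zero_iff_mem.2 ha, TensorProduct.tmul_zero]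
    exact this ho
  let e1 := φ.quotKerEquivOfSurjective hφ
  let e2 := (Algebra.linearMap O O').quotKerEquivOfSurjective hs
  refine ⟨e2.symm.trans ((Submodule.quotEquivOfEq _ _ hker.symm).trans e1), ?_⟩
  have h1 : e2.symm 1 = Submodule.Quotient.mk 1 := e2.symm_apply_eq.2 (map_one (algebraMap O O')).symm
  simp only [LinearEquiv.trans_apply, h1, Submodule.quotEquivOfEq_mk]
  rfl

set_option maxHeartbeats 1600000 in
/-- Serre conditions on the fibre in terms of the reduction of the stalk -/
theorem skAt_fibre_iff (f : X ⟶ S) [IsLocallyNoetherian X] (F : X.Modules) (hF : Coh.IsCoh F) (k : ℕ) (x : X)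
    (M : Type u) [AddCommGroup M] [Module (X.presheaf.stalk x) M] [Module (S.presheaf.stalk (f x)) M]
    (hM : ∀ (a : S.presheaf.stalk (f x)) (m : M), a • m = (f.stalkMap x).hom a • m)
    (e : (Groth.L00.Stk.F X x).obj F ≃ₗ[X.presheaf.stalk x] M) :
    letI := algStalk f x
    haveI : IsScalarTower (S.presheaf.stalk (f x)) (X.presheaf.stalk x) M :=
      IsScalarTower.of_algebraMap_smul fun a m => (hM a m).symm
    RelCanon.SkAt k ((Scheme.Modules.pullback (f.fiberι (f x))).obj F) (f.asFiber x) ↔
      LocCoh.HasSk k (X.presheaf.stalk x) (M ⊗[S.presheaf.stalk (f x)]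
        (S.presheaf.stalk (f x) ⧸ maximalIdeal (S.presheaf.stalk (f x)))) := by
  suffices key : ∀ (s : S) (v : f.fiber s), f.fiberι s v = x →
      letI := algStalk f x
      haveI : IsScalarTower (S.presheaf.stalk (f x)) (X.presheaf.stalk x) M :=
        IsScalarTower.of_algebraMap_smul fun a m => (hM a m).symm
      RelCanon.SkAt k ((Scheme.Modules.pullback (f.fiberι s)).obj F) v ↔
        LocCoh.HasSk k (X.presheaf.stalk x) (M ⊗[S.presheaf.stalk (f x)]
          (S.presheaf.stalk (f x) ⧸ maximalIdeal (S.presheaf.stalk (f x)))) from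
    key (f x) (f.asFiber x) (Scheme.Hom.fiberι_asFiber f x)
  intro s v hvx
  subst hvx
  let x := f.fiberι s v
  let A' := S.presheaf.stalk (f x)
  let Ox := X.presheaf.stalk x
  let Ov := (f.fiber s).presheaf.stalk v
  let Fv := ((Scheme.Modules.pullback (f.fiberι s)).obj F).presheaf.stalk v
  let Fx := (Groth.L00.Stk.F X x).obj F
  letI : Algebra A' Ox := (f.stalkMap x).hom.toAlgebra
  haveI : IsScalarTower A' Ox M := IsScalarTower.of_algebraMap_smul fun a m => (hM a m).symm
  letI : Module A' Fx := Module.compHom _ (f.stalkMap x).hom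
  haveI : IsScalarTower A' Ox Fx := IsScalarTower.of_algebraMap_smul fun _ _ => rfl
  letI : Algebra Ox Ov := ((f.fiberι s).stalkMap v).hom.toAlgebra
  letI : Module Ox Fv := Module.compHom Fv (algebraMap Ox Ov)
  haveI : IsScalarTower Ox Ov Fv := IsScalarTower.of_algebraMap_smul fun _ _ => rfl
  obtain ⟨hsurj, hker⟩ := Groth.L18.stalkMap_fiberι f s v
  have hker' : RingHom.ker (Algebra.ofId Ox Ov) = (maximalIdeal A').map (algebraMap A' Ox) := hker
  let e₁ : (Ox ⧸ (maximalIdeal A').map (algebraMap A' Ox)) ≃ₐ[Ox] Ov :=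
    (Ideal.quotientEquivAlgOfEq Ox hker'.symm).trans
      (Ideal.quotientKerAlgEquivOfSurjective (f := Algebra.ofId Ox Ov) hsurj)
  let e₀ : Fv ≃ₗ[Ov] Ov ⊗[Ox] Fx :=
    ((Groth.L00.PullStalk.stalkIso (f.fiberι s) v).app F).toLinearEquiv
  obtain ⟨e₂⟩ := Groth.L04.FibFlat.nonempty_tensor_quotient_equiv (A := A') (B := Ox) Fx (maximalIdeal A')
  let E : (Fx ⊗[A'] (A' ⧸ maximalIdeal A')) ≃ₗ[Ox] Fv :=
    e₂.symm.trans (((e₀.restrictScalars Ox).trans ((TensorProduct.congr e₁.toLinearEquiv.symm
      (LinearEquiv.refl Ox Fx)).trans (TensorProduct.quotTensorEquivQuotSMul Fx _))).symm)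
  let E' : (M ⊗[A'] (A' ⧸ maximalIdeal A')) ≃ₗ[Ox] Fv :=
    (TensorProduct.AlgebraTensorModule.congr e.symm (LinearEquiv.refl A' _)).trans E
  haveI : Module.Finite Ox Fx := Groth.L06.SupportStalk.finite_stalk F hF x
  haveI : Module.Finite Ox M := Module.Finite.equiv e
  haveI : Module.Finite Ox (M ⊗[A'] (A' ⧸ maximalIdeal A')) :=
    Module.Finite.of_surjective ((TensorProduct.AlgebraTensorModule.mk A' Ox M (A' ⧸ maximalIdeal A')).flip 1)
      (Core.exists_tmul_one _)
  let SE : L02.FibDepth.Semi Ox (M ⊗[A'] (A' ⧸ maximalIdeal A')) Ov Fv :=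
    { φ := algebraMap Ox Ov, surj := hsurj, e := E'.toAddEquiv,
      map_smul := fun r m => (E'.map_smul r m).trans rfl }
  exact (SE.hasSk_iff k).symm

/-- specialisation maps of stalks -/
def spMap (F : X.Modules) {x z : X} (h : z ⤳ x) :
    letI : Module (X.presheaf.stalk x) ((Groth.L00.Stk.F X z).obj F) :=
      Module.compHom _ (X.presheaf.stalkSpecializes h).hom
    (Groth.L00.Stk.F X x).obj F →ₗ[X.presheaf.stalk x] (Groth.L00.Stk.F X z).obj F :=
  letI : Module (X.presheaf.stalk x) ((Groth.L00.Stk.F X z).obj F) :=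
    Module.compHom _ (X.presheaf.stalkSpecializes h).hom
  { toFun := fun v => F.presheaf.stalkSpecializes h v
    map_add' := map_add _
    map_smul' := fun r v => Groth.L15.SecOrd.stalkSpecializes_smul F h r v }

theorem comap_eq_ker {x z : X} (h : z ⤳ x) :
    (maximalIdeal (X.presheaf.stalk z)).comap (X.presheaf.stalkSpecializes h).hom =
      RingHom.ker (Cyc.specMap x z h) := by
  ext a
  rw [Ideal.mem_comap, RingHom.mem_ker, Groth.L22.Cyc.specMap_eq_residue]
  exact (IsLocalRing.residue_eq_zero_iff _).symm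

theorem isLocalization_spec {x z : X} (h : z ⤳ x) (P : Ideal (X.presheaf.stalk x)) [P.IsPrime]
    (hP : (maximalIdeal (X.presheaf.stalk z)).comap (X.presheaf.stalkSpecializes h).hom = P) :
    letI := (X.presheaf.stalkSpecializes h).hom.toAlgebra
    IsLocalization P.primeCompl (X.presheaf.stalk z) := by
  haveI : (RingHom.ker (Cyc.specMap x z h)).IsPrime := RingHom.ker_isPrime _
  letI := (X.presheaf.stalkSpecializes h).hom.toAlgebra
  have h1 := Groth.L22.Cyc.isLocalization_stalkSpecializes h
  have hS : P.primeCompl = (RingHom.ker (Cyc.specMap x z h)).primeCompl :=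
    Submonoid.ext fun a => by
      show a ∉ P ↔ a ∉ RingHom.ker (Cyc.specMap x z h)
      rw [← hP, comap_eq_ker h]
  rw [hS]
  exact h1

set_option maxHeartbeats 1000000 in
theorem isLocalizedModule_spMap [IsLocallyNoetherian X] (F : X.Modules) [Coh.IsQCoh F] {x z : X} (h : z ⤳ x)
    (P : Ideal (X.presheaf.stalk x)) [P.IsPrime]
    (hP : (maximalIdeal (X.presheaf.stalk z)).comap (X.presheaf.stalkSpecializes h).hom = P) :
    letI : Module (X.presheaf.stalk x) ((Groth.L00.Stk.F X z).obj F) :=
      Module.compHom _ (X.presheaf.stalkSpecializes h).hom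
    IsLocalizedModule P.primeCompl (spMap F h) := by
  obtain ⟨V, hV, hxV, -⟩ := exists_isAffineOpen_mem_and_subset (x := x) (U := ⊤) trivial
  have hzV : z ∈ V := h.mem_open V.2 hxV
  letI := (X.presheaf.stalkSpecializes h).hom.toAlgebra
  letI : Module (X.presheaf.stalk x) ((Groth.L00.Stk.F X z).obj F) :=
    Module.compHom _ (X.presheaf.stalkSpecializes h).hom
  letI := X.presheaf.algebra_section_stalk (⟨x, hxV⟩ : V)
  letI : Algebra Γ(X, V) (X.presheaf.stalk z) := X.presheaf.algebra_section_stalk (⟨z, hzV⟩ : V)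
  haveI : IsScalarTower Γ(X, V) (X.presheaf.stalk x) (X.presheaf.stalk z) :=
    IsScalarTower.of_algebraMap_eq' (congrArg CommRingCat.Hom.hom
      (X.presheaf.germ_stalkSpecializes (hy := hxV) h)).symm
  letI : Module Γ(X, V) ((Groth.L00.Stk.F X x).obj F) := Groth.L20.ModStalk.stalkModule F hxV
  letI : Module Γ(X, V) ((Groth.L00.Stk.F X z).obj F) := Groth.L20.ModStalk.stalkModule F hzV
  haveI : IsScalarTower (X.presheaf.stalk x) (X.presheaf.stalk z) ((Groth.L00.Stk.F X z).obj F) :=
    .of_algebraMap_smul fun _ _ => rfl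
  haveI : IsScalarTower Γ(X, V) (X.presheaf.stalk x) ((Groth.L00.Stk.F X x).obj F) := .of_algebraMap_smul fun _ _ => rfl
  haveI : IsScalarTower Γ(X, V) (X.presheaf.stalk z) ((Groth.L00.Stk.F X z).obj F) := .of_algebraMap_smul fun _ _ => rfl
  haveI : IsScalarTower Γ(X, V) (X.presheaf.stalk x) ((Groth.L00.Stk.F X z).obj F) := .of_algebraMap_smul fun r v => by
    show X.presheaf.stalkSpecializes h (X.presheaf.germ V x hxV r) • v = X.presheaf.germ V z hzV r • v
    rw [TopCat.Presheaf.germ_stalkSpecializes_apply]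
  haveI := hV.isLocalization_stalk ⟨x, hxV⟩
  haveI : IsLocalization.AtPrime (X.presheaf.stalk z) (hV.primeIdealOf ⟨z, hzV⟩).asIdeal :=
    hV.isLocalization_stalk ⟨z, hzV⟩
  let gx : Γ(F, V) →ₗ[Γ(X, V)] (Groth.L00.Stk.F X x).obj F := Groth.L20.ModStalk.germₗ F hxV
  let gz : Γ(F, V) →ₗ[Γ(X, V)] (Groth.L00.Stk.F X z).obj F := Groth.L20.ModStalk.germₗ F hzV
  haveI : IsLocalizedModule (hV.primeIdealOf ⟨x, hxV⟩).asIdeal.primeCompl gx :=
    Groth.L20.ModStalk.isLocalizedModule_germ F hV hxV
  haveI : IsLocalizedModule (hV.primeIdealOf ⟨z, hzV⟩).asIdeal.primeCompl gz :=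
    Groth.L20.ModStalk.isLocalizedModule_germ F hV hzV
  have bx : IsBaseChange (X.presheaf.stalk x) gx :=
    IsLocalizedModule.isBaseChange (hV.primeIdealOf ⟨x, hxV⟩).asIdeal.primeCompl _ _
  have bz : IsBaseChange (X.presheaf.stalk z) gz :=
    IsLocalizedModule.isBaseChange (hV.primeIdealOf ⟨z, hzV⟩).asIdeal.primeCompl _ _
  have hsp : IsBaseChange (X.presheaf.stalk z) (spMap F h) := by
    refine IsBaseChange.of_comp bx ?_
    rw [show ((spMap F h).restrictScalars Γ(X, V)) ∘ₗ gx = gz from
      LinearMap.ext fun m => TopCat.Presheaf.germ_stalkSpecializes_apply _ hxV h m]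
    exact bz
  haveI := isLocalization_spec h P hP
  exact (isLocalizedModule_iff_isBaseChange P.primeCompl (X.presheaf.stalk z) (spMap F h)).2 hsp

set_option maxHeartbeats 1000000 in
/-- invertible stalks at a generisation give free points -/
theorem triv_of_invertibleAt [IsLocallyNoetherian X] {G : X.Modules} (hG : Coh.IsCoh G) {x z : X} (h : z ⤳ x)
    (hz : RelCanon.InvertibleAt G z) (P : Ideal (X.presheaf.stalk x)) [P.IsPrime]
    (hP : (maximalIdeal (X.presheaf.stalk z)).comap (X.presheaf.stalkSpecializes h).hom = P) :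
    Core.Triv (Q := (Groth.L00.Stk.F X x).obj G) P := by
  haveI := hG.1
  let O := X.presheaf.stalk x
  let Oz := X.presheaf.stalk z
  let Q := (Groth.L00.Stk.F X x).obj G
  letI : Algebra O Oz := (X.presheaf.stalkSpecializes h).hom.toAlgebra
  letI : Module O ((Groth.L00.Stk.F X z).obj G) := Module.compHom _ (X.presheaf.stalkSpecializes h).hom
  haveI : IsScalarTower O Oz ((Groth.L00.Stk.F X z).obj G) := .of_algebraMap_smul fun _ _ => rfl
  haveI : IsLocalization P.primeCompl Oz := isLocalization_spec h P hP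
  haveI := isLocalizedModule_spMap G h P hP
  obtain ⟨V, hzV, ⟨eV⟩⟩ := hz
  let v : (V : Scheme.{u}) := ⟨z, hzV⟩
  -- the stalk at the generisation
  obtain ⟨e⟩ : Nonempty ((Groth.L00.Stk.F X z).obj G ≃ₗ[Oz] Oz) := by
    let ι := V.ι
    let Ov := (V : Scheme.{u}).presheaf.stalk v
    letI : Algebra Oz Ov := (ι.stalkMap v).hom.toAlgebra
    haveI : IsIso (ι.stalkMap v) := inferInstance
    have hb : Function.Bijective (algebraMap Oz Ov) := ConcreteCategory.bijective_of_isIso (ι.stalkMap v)
    let E : Ov ⊗[Oz] (Groth.L00.Stk.F X z).obj G ≃ₗ[Ov] Ov :=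
      (((Groth.L00.PullStalk.stalkIso ι v).app G).toLinearEquiv.symm.trans
        ((Groth.L00.Stk.F (V : Scheme.{u}) v).mapIso
          (((Scheme.Modules.restrictFunctorIsoPullback ι).app G).symm ≪≫ eV)).toLinearEquiv).trans
        (Groth.L15.Ref.strE v).symm
    let a : Oz ≃ₗ[Oz] Ov := LinearEquiv.ofBijective (Algebra.linearMap Oz Ov) hb
    exact ⟨(((TensorProduct.lid Oz _).symm.trans (TensorProduct.congr a (LinearEquiv.refl Oz _))).trans
      (E.restrictScalars Oz)).trans a.symm⟩
  let ψ : Q →ₗ[O] Oz := (e.toLinearMap.restrictScalars O).comp (spMap G h)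
  haveI : Module.Finite O Q := Groth.L06.SupportStalk.finite_stalk G hG x
  haveI : Module.FinitePresentation O Q := Module.finitePresentation_of_finite O Q
  haveI : IsLocalizedModule P.primeCompl (Algebra.linearMap O Oz) :=
    (isLocalizedModule_iff_isLocalization' _ _).2 inferInstance
  obtain ⟨ε, s, hε⟩ := Module.FinitePresentation.exists_lift_of_isLocalizedModule P.primeCompl
    (Algebra.linearMap O Oz) ψ
  obtain ⟨⟨q0, u⟩, hu⟩ := IsLocalizedModule.surj P.primeCompl (spMap G h) (e.symm 1)
  have hεq : ∀ q, algebraMap O Oz (ε q) = algebraMap O Oz s * ψ q := fun q => by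
    have := LinearMap.congr_fun hε q
    rw [LinearMap.smul_apply, Submonoid.smul_def, Algebra.smul_def] at this
    exact this
  have hψ0 : ψ q0 = algebraMap O Oz u := by
    show e (spMap G h q0) = _
    rw [← hu, Submonoid.smul_def, ← algebraMap_smul Oz (u : O) (e.symm 1), map_smul, e.apply_symm_apply, smul_eq_mul,
      mul_one]
  have hε0 : ε q0 ∉ P := fun hmem => by
    have h1 := (IsLocalization.map_units Oz (s * u : P.primeCompl))
    rw [Submonoid.coe_mul, map_mul, ← hψ0, ← hεq] at h1
    have h2 : algebraMap O Oz (ε q0) ∈ maximalIdeal Oz := by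
      rw [← hP] at hmem; exact hmem
    exact (IsLocalRing.mem_maximalIdeal _).1 h2 h1
  have hrel : ∀ q, ∃ t ∉ P, t • (ε q0 • q - ε q • q0) = 0 := fun q => by
    have h0 : spMap G h (ε q0 • q - ε q • q0) = spMap G h 0 := by
      rw [map_zero]
      refine e.injective ?_
      rw [map_sub, map_smul, map_smul, ← algebraMap_smul Oz (ε q0), ← algebraMap_smul Oz (ε q), map_sub, map_smul,
        map_smul, map_zero, hεq, hεq]
      show algebraMap O Oz s * ψ q0 * ψ q - algebraMap O Oz s * ψ q * ψ q0 = 0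
      ring
    obtain ⟨⟨t, ht⟩, hc⟩ := IsLocalizedModule.exists_of_eq (S := P.primeCompl) h0
    exact ⟨t, ht, by simpa only [Submonoid.smul_def, smul_zero] using hc⟩
  obtain ⟨n, w, hw⟩ := Submodule.fg_iff_exists_fin_generating_family.1 (Module.Finite.fg_top (R := O) (M := Q))
  choose t ht h0 using fun i => hrel (w i)
  let T := ∏ i, t i
  have hT : T ∉ P := prod_mem (S := P.primeCompl) fun i _ => ht i
  refine ⟨q0, T • ε, fun hm => ?_, ?_⟩
  · rw [LinearMap.smul_apply, smul_eq_mul] at hm
    exact ((‹P.IsPrime›).mem_or_mem hm).elim hT hε0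
  intro q
  let L : Q →ₗ[O] Q := LinearMap.lsmul O Q ((T • ε) q0) - (T • ε).smulRight q0
  suffices hL : L = 0 by exact sub_eq_zero.1 (LinearMap.congr_fun hL q)
  refine LinearMap.ext_on_range hw fun i => ?_
  show (T • ε q0) • w i - (T • ε (w i)) • q0 = 0
  rw [smul_assoc, smul_assoc, ← smul_sub, show T = (∏ j ∈ Finset.univ.erase i, t j) * t i from
    (Finset.prod_erase_mul _ _ (Finset.mem_univ i)).symm, mul_smul, h0, smul_zero]

set_option maxHeartbeats 1600000 in
/-- the dimension of the closed fibre at a prime is that of the fibre at the point -/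
theorem fibreDim (f : X ⟶ S) [LocallyOfFiniteType f] [IsLocallyNoetherian X] (y : X)
    (P : Ideal (X.presheaf.stalk y)) [hP : P.IsPrime]
    (hI : (maximalIdeal (S.presheaf.stalk (f y))).map (f.stalkMap y).hom ≤ P) :
    letI := algStalk f y
    X.fromSpecStalk y (⟨P, hP⟩ : PrimeSpectrum (X.presheaf.stalk y)) ⤳ y ∧
    f (X.fromSpecStalk y (⟨P, hP⟩ : PrimeSpectrum (X.presheaf.stalk y))) = f y ∧
    (∀ h : X.fromSpecStalk y (⟨P, hP⟩ : PrimeSpectrum (X.presheaf.stalk y)) ⤳ y,
      (maximalIdeal (X.presheaf.stalk _)).comap (X.presheaf.stalkSpecializes h).hom = P) ∧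
    ringKrullDim ((f.fiber (f (X.fromSpecStalk y (⟨P, hP⟩ : PrimeSpectrum (X.presheaf.stalk y))))).presheaf.stalk
        (f.asFiber (X.fromSpecStalk y (⟨P, hP⟩ : PrimeSpectrum (X.presheaf.stalk y))))) =
      ringKrullDim (Localization.AtPrime P ⧸ ((maximalIdeal (S.presheaf.stalk (f y))).map
        (algebraMap (S.presheaf.stalk (f y)) (X.presheaf.stalk y))).map
          (algebraMap (X.presheaf.stalk y) (Localization.AtPrime P))) := by
  let O := X.presheaf.stalk y
  let At := S.presheaf.stalk (f y)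
  letI := algStalk f y
  let p : PrimeSpectrum O := ⟨P, hP⟩
  let z : X := X.fromSpecStalk y p
  have hzy : z ⤳ y := by
    rw [← Set.mem_ofPred_eq (p := fun w => w ⤳ y), ← X.range_fromSpecStalk]
    exact ⟨p, rfl⟩
  have hPz : (maximalIdeal (X.presheaf.stalk z)).comap (X.presheaf.stalkSpecializes hzy).hom = P := by
    have e := congrArg (fun φ : Spec (X.presheaf.stalk z) ⟶ X => φ (closedPoint (X.presheaf.stalk z)))
      (Scheme.SpecMap_stalkSpecializes_fromSpecStalk (X := X) hzy)
    have h2 : X.fromSpecStalk y (PrimeSpectrum.comap (X.presheaf.stalkSpecializes hzy).hom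
        (closedPoint (X.presheaf.stalk z))) = X.fromSpecStalk y p :=
      e.trans Scheme.fromSpecStalk_closedPoint
    exact congrArg PrimeSpectrum.asIdeal ((X.fromSpecStalk y).isEmbedding.injective h2)
  have hft : f z = f y := by
    have e := congrArg (fun φ : Spec (X.presheaf.stalk y) ⟶ S => φ p) (Scheme.SpecMap_stalkMap_fromSpecStalk (f := f) (x := y))
    refine e.symm.trans ((congrArg (S.fromSpecStalk (f y)) ?_).trans Scheme.fromSpecStalk_closedPoint)
    refine PrimeSpectrum.ext ((IsLocalRing.maximalIdeal.isMaximal At).eq_of_le ?_ (Ideal.map_le_iff_le_comap.1 hI)).symm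
    exact Ideal.IsPrime.ne_top inferInstance
  refine ⟨hzy, hft, fun _ => hPz, ?_⟩
  letI : Algebra O (X.presheaf.stalk z) := (X.presheaf.stalkSpecializes hzy).hom.toAlgebra
  haveI : IsLocalization P.primeCompl (X.presheaf.stalk z) := isLocalization_spec hzy P hPz
  let ε : Localization.AtPrime P ≃ₐ[O] X.presheaf.stalk z := IsLocalization.algEquiv P.primeCompl _ _
  have hker : ((maximalIdeal At).map (algebraMap At O)).map (algebraMap O (X.presheaf.stalk z)) =
      (maximalIdeal (S.presheaf.stalk (f z))).map (f.stalkMap z).hom := by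
    let σ : At ⟶ S.presheaf.stalk (f z) := S.presheaf.stalkSpecializes (f.continuous.specialization_monotone hzy :)
    have hσ : f.stalkMap y ≫ X.presheaf.stalkSpecializes hzy = σ ≫ f.stalkMap z :=
      (f.stalkSpecializes_stalkMap z y hzy).symm
    haveI : IsIso σ := by
      have : ∀ (t : S) (ht : t = f y) (hs : t ⤳ f y), IsIso (S.presheaf.stalkSpecializes hs) := by
        rintro t rfl hs
        rw [show S.presheaf.stalkSpecializes hs = 𝟙 _ from TopCat.Presheaf.stalkSpecializes_refl _ _]
        infer_instance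
      exact this _ hft _
    have hmax : (maximalIdeal At).map σ.hom = maximalIdeal (S.presheaf.stalk (f z)) :=
      IsLocalRing.map_maximalIdeal_of_surjective σ.hom (ConcreteCategory.bijective_of_isIso σ).2
    rw [← hmax, Ideal.map_map, Ideal.map_map]
    exact congrArg (fun g => Ideal.map g (maximalIdeal At)) (congrArg CommRingCat.Hom.hom hσ)
  have key : ∀ (s : S) (v : f.fiber s), f.fiberι s v = z →
      ringKrullDim ((f.fiber s).presheaf.stalk v) =
        ringKrullDim (X.presheaf.stalk z ⧸ (maximalIdeal (S.presheaf.stalk (f z))).map (f.stalkMap z).hom) := by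
    intro s v hvz
    clear_value z
    subst hvz
    obtain ⟨hsurj, hk⟩ := Groth.L18.stalkMap_fiberι f s v
    exact (ringKrullDim_eq_of_ringEquiv ((Ideal.quotEquivOfEq hk.symm).trans
      (RingHom.quotientKerEquivOfSurjective hsurj))).symm
  rw [key (f z) (f.asFiber z) (Scheme.Hom.fiberι_asFiber f z)]
  refine ringKrullDim_eq_of_ringEquiv (Ideal.quotientEquiv _ _ ε.toRingEquiv.symm ?_)
  rw [← hker, Ideal.map_map]
  have hcomm : algebraMap O (Localization.AtPrime P) =
      (ε.toRingEquiv.symm : X.presheaf.stalk z →+* Localization.AtPrime P).comp (algebraMap O (X.presheaf.stalk z)) :=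
    RingHom.ext fun r => (ε.symm.commutes r).symm
  rw [hcomm]
  simp only [Ideal.map_map]
  rfl

set_option maxHeartbeats 1600000 in
/-- primes of the local ring in the closed fibre are free points or as large as the non-Gorenstein points -/
theorem fibreDich (f : X ⟶ S) [LocallyOfFiniteType f] [IsLocallyNoetherian X] {G : X.Modules} (hG : Coh.IsCoh G) (y : X)
    (hinv : ∀ z, z ∈ RelCanon.gorLocus f → RelCanon.InvertibleAt G z) (n : WithBot ℕ∞)
    (hcod : ∀ z, z ⤳ y → f z = f y → z ∉ RelCanon.gorLocus f →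
      n ≤ ringKrullDim ((f.fiber (f z)).presheaf.stalk (f.asFiber z))) :
    letI := algStalk f y
    ∀ (P : Ideal (X.presheaf.stalk y)) [P.IsPrime],
      (maximalIdeal (S.presheaf.stalk (f y))).map (algebraMap (S.presheaf.stalk (f y)) (X.presheaf.stalk y)) ≤ P →
      Core.Triv (Q := (Groth.L00.Stk.F X y).obj G) P ∨
        n ≤ ringKrullDim (Localization.AtPrime P ⧸ ((maximalIdeal (S.presheaf.stalk (f y))).map
          (algebraMap (S.presheaf.stalk (f y)) (X.presheaf.stalk y))).map
            (algebraMap (X.presheaf.stalk y) (Localization.AtPrime P))) := by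
  letI := algStalk f y
  intro P hP hI
  obtain ⟨hzy, hft, hPz, hdim⟩ := fibreDim f y P hI
  by_cases hz : X.fromSpecStalk y (⟨P, hP⟩ : PrimeSpectrum (X.presheaf.stalk y)) ∈ RelCanon.gorLocus f
  · exact .inl (triv_of_invertibleAt hG hzy (hinv _ hz) P (hPz hzy))
  · exact .inr ((hcod _ hzy hft hz).trans_eq hdim)

set_option maxHeartbeats 1600000 in
/-- the fibre data at a point -/
theorem fibreData (f : X ⟶ S) [LocallyOfFiniteType f] [IsLocallyNoetherian X] [IsLocallyNoetherian S]
    (hS : RelCanon.IsSkMor f 2) {G : X.Modules} (hG : Coh.IsCoh G) (y : X)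
    (hinv : ∀ z, z ∈ RelCanon.gorLocus f → RelCanon.InvertibleAt G z)
    (hcod : ∀ z, z ⤳ y → f z = f y → z ∉ RelCanon.gorLocus f →
      (2 : WithBot ℕ∞) ≤ ringKrullDim ((f.fiber (f z)).presheaf.stalk (f.asFiber z))) :
    letI := algStalk f y
    Core.FibreData (S.presheaf.stalk (f y)) (X.presheaf.stalk y) ((Groth.L00.Stk.F X y).obj G) := by
  let O := X.presheaf.stalk y
  let At := S.presheaf.stalk (f y)
  letI := algStalk f y
  refine ⟨fun P _ hI => fibreDich f hG y hinv 2 hcod P hI, ?_⟩
  exact (skAt_fibre_iff f (Coh.structureModule X) Groth.L16.CohClosedPush.isCoh_structure 2 y O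
      (fun a m => Algebra.smul_def a m) (Groth.L15.Ref.strE y).symm).1
      (skAt_of_iso (Groth.L29.LocFree.pullbackUnitIso _).symm (hS.2.2 y))

end Groth.L10.RelCan
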