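import Groth.Agent.L10.RelCan.CMExt
import Groth.Agent.L10.RelCan.CMFlat
import Groth.Agent.L10.RelCan.DefLift
import Groth.Agent.L10.RelCan.BCMap
import Groth.Agent.L10.RelCan.FibreGlue
import Groth.Agent.L21.CurvFib.EtaleField
import Groth.Agent.L22.Cyc.BaseChange

/-!
At Cohen–Macaulay points a flat deformation of the canonical sheaf of the fibre is the relative dualizing sheaf.
-/

set_option autoImplicit false
set_option maxSynthPendingDepth 4
set_option linter.style.haveILetI false
set_option linter.unusedSectionVars false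
set_option backward.defeqAttrib.useBackward true
set_option backward.isDefEq.respectTransparency false
set_option backward.isDefEq.respectTransparency.types false
universe u

open CategoryTheory CategoryTheory.Limits AlgebraicGeometry TopologicalSpace IsLocalRing
open scoped TensorProduct

noncomputable section

namespace Groth.L10.RelCan

open _root_.L02.FibDepth (Semi)

/-- the reduction of the stalk is the stalk of the pullback to the fibre -/
theorem exists_semi_fibre {X S : Scheme.{u}} (f : X ⟶ S) (F : X.Modules) (s : S) (v : f.fiber s) :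
    letI := algStalk f (f.fiberι s v)
    letI : Module (S.presheaf.stalk (f (f.fiberι s v))) ((Groth.L00.Stk.F X (f.fiberι s v)).obj F) :=
      Module.compHom _ (f.stalkMap (f.fiberι s v)).hom
    haveI : IsScalarTower (S.presheaf.stalk (f (f.fiberι s v))) (X.presheaf.stalk (f.fiberι s v))
      ((Groth.L00.Stk.F X (f.fiberι s v)).obj F) := IsScalarTower.of_algebraMap_smul fun _ _ => rfl
    ∃ E : Semi (X.presheaf.stalk (f.fiberι s v))
        ((Groth.L00.Stk.F X (f.fiberι s v)).obj F ⊗[S.presheaf.stalk (f (f.fiberι s v))]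
          (S.presheaf.stalk (f (f.fiberι s v)) ⧸ maximalIdeal (S.presheaf.stalk (f (f.fiberι s v)))))
        ((f.fiber s).presheaf.stalk v) (((Scheme.Modules.pullback (f.fiberι s)).obj F).presheaf.stalk v),
      E.φ = ((f.fiberι s).stalkMap v).hom := by
  let x := f.fiberι s v
  let A' := S.presheaf.stalk (f x)
  let Ox := X.presheaf.stalk x
  let Ov := (f.fiber s).presheaf.stalk v
  let Fv := ((Scheme.Modules.pullback (f.fiberι s)).obj F).presheaf.stalk v
  let Fx := (Groth.L00.Stk.F X x).obj F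
  letI : Algebra A' Ox := (f.stalkMap x).hom.toAlgebra
  letI : Module A' Fx := Module.compHom _ (f.stalkMap x).hom
  haveI : IsScalarTower A' Ox Fx := IsScalarTower.of_algebraMap_smul fun _ _ => rfl
  letI : Algebra Ox Ov := ((f.fiberι s).stalkMap v).hom.toAlgebra
  letI : Module Ox Fv := Module.compHom Fv (algebraMap Ox Ov)
  haveI : IsScalarTower Ox Ov Fv := IsScalarTower.of_algebraMap_smul fun _ _ => rfl
  obtain ⟨hsurj, hker⟩ := Groth.L18.stalkMap_fiberι f s v
  have hker' : RingHom.ker (Algebra.ofId Ox Ov) = (maximalIdeal A').map (algebraMap A' Ox) := hker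
  let e₁ : (Ox ⧸ (maximalIdeal A').map (algebraMap A' Ox)) ≃ₐ[Ox] Ov :=
    (Ideal.quotientEquivAlgOfEq Ox hker'.symm).trans
      (Ideal.quotientKerAlgEquivOfSurjective (f := Algebra.ofId Ox Ov) hsurj)
  let e₀ : Fv ≃ₗ[Ov] Ov ⊗[Ox] Fx :=
    ((Groth.L00.PullStalk.stalkIso (f.fiberι s) v).app F).toLinearEquiv
  obtain ⟨e₂⟩ := Groth.L04.FibFlat.nonempty_tensor_quotient_equiv (A := A') (B := Ox) Fx (maximalIdeal A')
  let E : (Fx ⊗[A'] (A' ⧸ maximalIdeal A')) ≃ₗ[Ox] Fv :=
    e₂.symm.trans (((e₀.restrictScalars Ox).trans ((TensorProduct.congr e₁.toLinearEquiv.symm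
      (LinearEquiv.refl Ox Fx)).trans (TensorProduct.quotTensorEquivQuotSMul Fx _))).symm)
  exact ⟨
    { φ := algebraMap Ox Ov, surj := hsurj, e := E.toAddEquiv,
      map_smul := fun r m => (E.map_smul r m).trans rfl }, rfl⟩

/-- over a field a point of a fibre is Cohen–Macaulay when it is one of the morphism -/
theorem isCMAt_fibre {X S : Scheme.{u}} (f : X ⟶ S) (s : S) (v : f.fiber s)
    (h : MoreMor.IsCMAt f (f.fiberι s v)) : MoreMor.IsCMAt (f.fiberToSpecResidueField s) v := by
  have key : ∀ (x : X) (s' : S) (v' : f.fiber s'), f.fiberι s' v' = x → MoreMor.IsCMAt f x →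
      LocCoh.IsCohenMacaulayLocalRing ((f.fiber s').presheaf.stalk v') := by
    intro x s' v' hv hx
    obtain rfl : f x = s' := by
      have h1 : f.fiberι s' v' ∈ Set.range (f.fiberι s') := ⟨v', rfl⟩
      rw [f.range_fiberι, hv] at h1
      exact h1
    obtain rfl : v' = f.asFiber x :=
      (f.fiberι (f x)).isEmbedding.injective (hv.trans (Scheme.Hom.fiberι_asFiber f x).symm)
    exact hx.2
  have hm : maximalIdeal ((Spec (S.residueField s)).presheaf.stalk (f.fiberToSpecResidueField s v)) = ⊥ :=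
    Groth.L21.CurvFib.maximalIdeal_stalk_spec_field (K := S.residueField s) _
  obtain ⟨e⟩ := Groth.L21.CurvFib.nonempty_fibre_stalk_equiv (f.fiberToSpecResidueField s) v hm
  exact ⟨Groth.L21.CurvFib.flat_stalkMap_of_maximalIdeal_eq_bot _ v hm,
    _root_.L02.CMMor.cm_of_ringEquiv e (key _ s v rfl h)⟩

variable {A : Type u} [CommRing A] [IsNoetherianRing A] {Y : Scheme.{u}} [Y.Over (Spec (CommRingCat.of A))]
  [IsProper (Y ↘ Spec (CommRingCat.of A))] {d : ℕ}

set_option maxHeartbeats 1600000 in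
theorem nonempty_stalkEquiv_of_cm [Flat (Y ↘ Spec (CommRingCat.of A))]
    (hd : Cyc.HasRelDim (Y ↘ Spec (CommRingCat.of A)) d) (ω : Y.Modules)
    (hω : RelCanon.IsDualizingSheaf A Y d ω) (L : Y.Modules) (hL : Coh.IsCoh L)
    (t : Spec (CommRingCat.of A)) (v : (Y ↘ Spec (CommRingCat.of A)).fiber t)
    (hLf : FlatMod.IsFlatOverAt (Y ↘ Spec (CommRingCat.of A)) L ((Y ↘ Spec (CommRingCat.of A)).fiberι t v))
    (hLt : RelCanon.IsDualizingSheafFib (Y ↘ Spec (CommRingCat.of A)) d L t)
    (hv : MoreMor.IsCMAt (Y ↘ Spec (CommRingCat.of A)) ((Y ↘ Spec (CommRingCat.of A)).fiberι t v)) :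
    Nonempty ((Groth.L00.Stk.F Y ((Y ↘ Spec (CommRingCat.of A)).fiberι t v)).obj L
      ≃ₗ[Y.presheaf.stalk ((Y ↘ Spec (CommRingCat.of A)).fiberι t v)]
      (Groth.L00.Stk.F Y ((Y ↘ Spec (CommRingCat.of A)).fiberι t v)).obj ω) := by
  let f := Y ↘ Spec (CommRingCat.of A)
  haveI : IsLocallyNoetherian Y := LocallyOfFiniteType.isLocallyNoetherian f
  haveI : LocallyOfFinitePresentation f := LocallyOfFinitePresentation.iff_locallyOfFiniteType.mpr inferInstance
  let k := (Spec (CommRingCat.of A)).residueField t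
  letI : Algebra A k := (Spec.preimage ((Spec (CommRingCat.of A)).fromSpecResidueField t)).hom.toAlgebra
  let Z := f.fiber t
  letI : Z.Over (Spec (CommRingCat.of k)) := ⟨f.fiberToSpecResidueField t⟩
  let p : Z ⟶ Y := f.fiberι t
  have hp : IsPullback p (Z ↘ Spec (CommRingCat.of k)) f (Spec.map (CommRingCat.ofHom (algebraMap A k))) := by
    rw [show Spec.map (CommRingCat.ofHom (algebraMap A k)) = (Spec (CommRingCat.of A)).fromSpecResidueField t from
      Spec.map_preimage _]
    exact IsPullback.of_hasPullback _ _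
  haveI : IsProper (Z ↘ Spec (CommRingCat.of k)) := MorphismProperty.of_isPullback hp (inferInstanceAs (IsProper f))
  haveI : Flat (Z ↘ Spec (CommRingCat.of k)) := MorphismProperty.of_isPullback hp (inferInstanceAs (Flat f))
  have hdk := Groth.L22.Cyc.hasRelDim_baseChange hp hd
  let ωt := (Scheme.Modules.pullback p).obj L
  have hωt : RelCanon.IsDualizingSheaf k Z d ωt := hLt
  haveI := isLeftAdjoint (A := A) (Y := Y) (d := d) hd
  let V : Y.Opens := ⟨{z | MoreMor.IsCMAt f z}, _root_.L02.CMMor.isOpen_cmLocus f⟩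
  obtain ⟨lam, hlam⟩ := exists_bcMap_bijective hp hd V (fun z hz => hz) ω hω ωt hωt
  let y := p v
  let O := Y.presheaf.stalk y
  let A' := (Spec (CommRingCat.of A)).presheaf.stalk (f y)
  letI := algStalk f y
  haveI := isLocalHom_algStalk f y
  let Ly := (Groth.L00.Stk.F Y y).obj L
  let Wy := (Groth.L00.Stk.F Y y).obj ω
  letI : Module A' Ly := Module.compHom _ (f.stalkMap y).hom
  haveI : IsScalarTower A' O Ly := IsScalarTower.of_algebraMap_smul fun _ _ => rfl
  letI : Module A' Wy := Module.compHom _ (f.stalkMap y).hom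
  haveI : IsScalarTower A' O Wy := IsScalarTower.of_algebraMap_smul fun _ _ => rfl
  haveI : Module.Flat A' Ly := hLf
  haveI : Module.Flat A' Wy := isFlatOverAt_of_cm hd ω hω y hv
  haveI : Module.Finite O Ly := Groth.L06.SupportStalk.finite_stalk L hL y
  haveI : Module.Finite O Wy := Groth.L06.SupportStalk.finite_stalk ω (isCoh_and_nontrivial d hd ω hω).1 y
  obtain ⟨EL, hEL⟩ := exists_semi_fibre f L t v
  obtain ⟨EW, hEW⟩ := exists_semi_fibre f ω t v
  let Wv := (Groth.L00.Stk.F Z v).obj ((Scheme.Modules.pullback p).obj ω)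
  let Lv := (Groth.L00.Stk.F Z v).obj ωt
  let lv : Wv ≃ₗ[Z.presheaf.stalk v] Lv := LinearEquiv.ofBijective ((Groth.L00.Stk.F Z v).map lam).hom (hlam v hv)
  let θ : Ly ⊗[A'] (A' ⧸ maximalIdeal A') ≃ₗ[O] Wy ⊗[A'] (A' ⧸ maximalIdeal A') :=
    { (EL.e.trans lv.symm.toAddEquiv).trans EW.e.symm with
      map_smul' := fun r z => EW.e.injective (by
        show EW.e (EW.e.symm (lv.symm (EL.e (r • z)))) = EW.e (r • EW.e.symm (lv.symm (EL.e z)))
        rw [AddEquiv.apply_symm_apply, EW.map_smul, AddEquiv.apply_symm_apply, EL.map_smul, hEL, hEW]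
        exact map_smul lv.symm _ _) }
  refine Core.nonempty_equiv_of_residue θ fun a π hπ g hg => ?_
  let EW' : Semi O (Wy ⊗[A'] (A' ⧸ maximalIdeal A')) (Z.presheaf.stalk v) Lv :=
    { φ := EW.φ, surj := EW.surj, e := EW.e.trans lv.toAddEquiv,
      map_smul := fun r m => (congrArg lv (EW.map_smul r m)).trans (map_smul lv _ _) }
  have hext : Ext1Zero (Z.presheaf.stalk v) Lv :=
    ext1Zero_stalk_of_cm hdk ωt hωt v (isCMAt_fibre f t v hv)
  refine hext.extend_of_semi EW' _ ?_ a π hπ g hg
  show RingHom.ker EW.φ ≤ _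
  rw [hEW]
  exact (Groth.L18.stalkMap_fiberι f t v).2.le

end Groth.L10.RelCan
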