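import Groth.Agent.L10.RelCan.Ext1
import Mathlib.RingTheory.Regular.LinearMap

/-!
Regular pairs of the ring are regular on modules with scalar endomorphisms and no self-extensions.
-/

set_option autoImplicit false
set_option linter.style.haveILetI false
set_option maxSynthPendingDepth 4
universe u

open scoped Pointwise

noncomputable section

namespace Groth.L10.RelCan

variable {R M : Type u} [CommRing R] [IsNoetherianRing R] [AddCommGroup M] [Module R M] [Module.Finite R M]

theorem annihilator_eq_bot_of_endIsScalar (h : EndIsScalar R M) : Module.annihilator R M = ⊥ := by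
  refine (Submodule.eq_bot_iff _).2 fun r hr => h.1 (LinearMap.ext fun x => ?_)
  show r • x = (0 : R) • x
  rw [Module.mem_annihilator.1 hr x, zero_smul]

theorem subsingleton_of_hom_eq_zero (h : EndIsScalar R M) (K : Type u) [AddCommGroup K] [Module R K] [Module.Finite R K]
    (hK : ∀ g : M →ₗ[R] K, g = 0) : Subsingleton K := by
  haveI : Subsingleton (M →ₗ[R] K) := subsingleton_of_forall_eq 0 hK
  obtain ⟨r, hr, hreg⟩ := (IsSMulRegular.subsingleton_linearMap_iff (R := R) (M := K) (N := M)).1 inferInstance
  rw [annihilator_eq_bot_of_endIsScalar h, Submodule.mem_bot] at hr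
  subst hr
  exact subsingleton_of_forall_eq 0 fun x => hreg.right_eq_zero_of_smul (zero_smul R x)

/-- regular pairs -/
theorem regular_pair_of_endIsScalar (h : EndIsScalar R M) (hx : Ext1Zero R M) {b c : R} (hb : IsSMulRegular R b)
    (hc : IsSMulRegular (QuotSMulTop b R) c) : IsSMulRegular M b ∧ IsSMulRegular (QuotSMulTop b M) c := by
  have hbM : IsSMulRegular M b := by
    let K := LinearMap.ker (LinearMap.lsmul R M b)
    haveI : Subsingleton K := subsingleton_of_hom_eq_zero h K fun g => by
      obtain ⟨a, ha⟩ := h.2 (K.subtype.comp g)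
      have ha' : b * a = 0 := h.1 (LinearMap.ext fun x => by
        show (b * a) • x = (0 : R) • x
        rw [mul_smul, zero_smul, show a • x = (g x : M) from LinearMap.congr_fun ha x]
        exact (g x).2)
      obtain rfl : a = 0 := hb.right_eq_zero_of_smul ha'
      refine LinearMap.ext fun x => Subtype.ext ?_
      exact (LinearMap.congr_fun ha x).symm.trans (zero_smul R x)
    refine IsSMulRegular.of_right_eq_zero_of_smul fun x hxb => ?_
    exact congrArg Subtype.val (Subsingleton.elim (α := K) ⟨x, hxb⟩ 0)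
  refine ⟨hbM, ?_⟩
  let Q := QuotSMulTop b M
  let mk : M →ₗ[R] Q := Submodule.mkQ _
  let K := LinearMap.ker (LinearMap.lsmul R Q c)
  haveI : Subsingleton K := subsingleton_of_hom_eq_zero h K fun g => by
    obtain ⟨n, π, hπ⟩ := Module.Finite.exists_fin' R M
    let eF := Pi.basisFun R (Fin n)
    choose y hy using fun i => (Submodule.mkQ_surjective (b • (⊤ : Submodule R M))) (g (π (eF i)) : Q)
    let φ : (Fin n → R) →ₗ[R] M := eF.constr R y
    have hφ : ∀ v, mk (φ v) = (g (π v) : Q) := fun v =>
      LinearMap.congr_fun (eF.ext (f₁ := mk.comp φ) (f₂ := (K.subtype.comp g).comp π) fun i => by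
        simp only [LinearMap.comp_apply, φ, Module.Basis.constr_basis]
        exact hy i) v
    -- the obstruction
    have hdiv : ∀ k : LinearMap.ker π, φ k ∈ LinearMap.range (LinearMap.lsmul R M b) := fun k => by
      have h0 : mk (φ k) = 0 := by rw [hφ, LinearMap.mem_ker.1 k.2, map_zero, ZeroMemClass.coe_zero]
      obtain ⟨m, -, hm⟩ := (Submodule.mem_smul_pointwise_iff_exists _ _ _).1 ((Submodule.Quotient.mk_eq_zero _).1 h0)
      exact ⟨m, hm⟩
    obtain ⟨ξ, hξ⟩ := hx n π hπ
      ((LinearEquiv.ofInjective (LinearMap.lsmul R M b) hbM).symm.toLinearMap.comp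
        ((φ.comp (LinearMap.ker π).subtype).codRestrict _ hdiv))
    have hle : LinearMap.ker π ≤ LinearMap.ker (φ - b • ξ) := fun k hk => by
      rw [LinearMap.mem_ker, LinearMap.sub_apply, LinearMap.smul_apply, hξ ⟨k, hk⟩, sub_eq_zero]
      exact (congrArg Subtype.val ((LinearEquiv.ofInjective (LinearMap.lsmul R M b) hbM).apply_symm_apply
        ⟨φ k, hdiv ⟨k, hk⟩⟩)).symm
    let f : M →ₗ[R] M := ((LinearMap.ker π).liftQ (φ - b • ξ) hle).comp
      (π.quotKerEquivOfSurjective hπ).symm.toLinearMap
    have hf : ∀ m, mk (f m) = (g m : Q) := fun m => by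
      obtain ⟨v, rfl⟩ := hπ m
      have h6 : f (π v) = φ v - b • ξ v := by
        show (LinearMap.ker π).liftQ (φ - b • ξ) hle ((π.quotKerEquivOfSurjective hπ).symm (π v)) = _
        rw [show π v = π.quotKerEquivOfSurjective hπ (Submodule.Quotient.mk v) from rfl, LinearEquiv.symm_apply_apply]
        rfl
      rw [h6, map_sub, hφ, show mk (b • ξ v) = 0 from
        (Submodule.Quotient.mk_eq_zero _).2 (Submodule.smul_mem_pointwise_smul _ _ _ trivial), sub_zero]
    obtain ⟨a, ha⟩ := h.2 f
    have ha' : ∀ m, mk (a • m) = (g m : Q) := fun m => by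
      rw [show a • m = f m from LinearMap.congr_fun ha m, hf]
    have hmul : ∀ m, (c * a) • m ∈ LinearMap.range (LinearMap.lsmul R M b) := fun m => by
      have h0 : mk ((c * a) • m) = 0 := by
        rw [mul_smul, map_smul, ha']
        exact (g m).2
      obtain ⟨m', -, hm⟩ := (Submodule.mem_smul_pointwise_iff_exists _ _ _).1 ((Submodule.Quotient.mk_eq_zero _).1 h0)
      exact ⟨m', hm⟩
    obtain ⟨a', ha''⟩ := h.2 ((LinearEquiv.ofInjective (LinearMap.lsmul R M b) hbM).symm.toLinearMap.comp
      (((c * a) • (LinearMap.id : M →ₗ[R] M)).codRestrict _ hmul))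
    have hca : c * a = b * a' := h.1 (LinearMap.ext fun m => by
      show (c * a) • m = (b * a') • m
      have h7 : a' • m = (LinearEquiv.ofInjective (LinearMap.lsmul R M b) hbM).symm ⟨(c * a) • m, hmul m⟩ :=
        LinearMap.congr_fun ha'' m
      rw [mul_smul b a', h7]
      exact (congrArg Subtype.val
        ((LinearEquiv.ofInjective (LinearMap.lsmul R M b) hbM).apply_symm_apply ⟨(c * a) • m, hmul m⟩)).symm)
    have hab : a ∈ (b • ⊤ : Submodule R R) := (isSMulRegular_quotient_iff_mem_of_smul_mem _ _).1 hc a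
      ((Submodule.mem_smul_pointwise_iff_exists _ _ _).2 ⟨a', trivial, hca.symm⟩)
    obtain ⟨a'', -, rfl⟩ := (Submodule.mem_smul_pointwise_iff_exists _ _ _).1 hab
    refine LinearMap.ext fun m => Subtype.ext ?_
    rw [← ha', smul_assoc]
    exact (Submodule.Quotient.mk_eq_zero _).2 (Submodule.smul_mem_pointwise_smul _ _ _ trivial)
  refine IsSMulRegular.of_right_eq_zero_of_smul fun x hxc => ?_
  exact congrArg Subtype.val (Subsingleton.elim (α := K) ⟨x, hxc⟩ 0)

end Groth.L10.RelCan
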