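import Groth.Agent.L10.RelCan.IndexLift

/-!
The fibre data and the lifting of invertibility with respect to an open subset.
-/

set_option autoImplicit false
set_option maxSynthPendingDepth 4
set_option linter.style.haveILetI false
set_option linter.unusedSectionVars false
set_option linter.unusedVariables false
set_option backward.defeqAttrib.useBackward true
set_option backward.isDefEq.respectTransparency false
set_option backward.isDefEq.respectTransparency.types false
universe u

open CategoryTheory CategoryTheory.Limits AlgebraicGeometry TopologicalSpace IsLocalRing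
open scoped TensorProduct

noncomputable section

namespace Groth.L10.RelCan

variable {X S : Scheme.{u}}

set_option maxHeartbeats 1600000 in
/-- primes of the local ring in the closed fibre are free points or as large as the points outside an open -/
theorem fibreDichOn (f : X ⟶ S) [LocallyOfFiniteType f] [IsLocallyNoetherian X] {G : X.Modules} (hG : Coh.IsCoh G) (U : X.Opens) (y : X)
    (hinv : ∀ z, z ∈ U → RelCanon.InvertibleAt G z) (n : WithBot ℕ∞)
    (hcod : ∀ z, z ⤳ y → f z = f y → z ∉ U →
      n ≤ ringKrullDim ((f.fiber (f z)).presheaf.stalk (f.asFiber z))) :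
    letI := algStalk f y
    ∀ (P : Ideal (X.presheaf.stalk y)) [P.IsPrime],
      (maximalIdeal (S.presheaf.stalk (f y))).map (algebraMap (S.presheaf.stalk (f y)) (X.presheaf.stalk y)) ≤ P →
      Core.Triv (Q := (Groth.L00.Stk.F X y).obj G) P ∨
        n ≤ ringKrullDim (Localization.AtPrime P ⧸ ((maximalIdeal (S.presheaf.stalk (f y))).map
          (algebraMap (S.presheaf.stalk (f y)) (X.presheaf.stalk y))).map
            (algebraMap (X.presheaf.stalk y) (Localization.AtPrime P))) := by
  letI := algStalk f y
  intro P hP hI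
  obtain ⟨hzy, hft, hPz, hdim⟩ := fibreDim f y P hI
  by_cases hz : X.fromSpecStalk y (⟨P, hP⟩ : PrimeSpectrum (X.presheaf.stalk y)) ∈ U
  · exact .inl (triv_of_invertibleAt hG hzy (hinv _ hz) P (hPz hzy))
  · exact .inr ((hcod _ hzy hft hz).trans_eq hdim)

set_option maxHeartbeats 1600000 in
/-- the fibre data at a point, for an open -/
theorem fibreDataOn (f : X ⟶ S) [LocallyOfFiniteType f] [IsLocallyNoetherian X] [IsLocallyNoetherian S]
    (hS : RelCanon.IsSkMor f 2) {G : X.Modules} (hG : Coh.IsCoh G) (U : X.Opens) (y : X)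
    (hinv : ∀ z, z ∈ U → RelCanon.InvertibleAt G z)
    (hcod : ∀ z, z ⤳ y → f z = f y → z ∉ U →
      (2 : WithBot ℕ∞) ≤ ringKrullDim ((f.fiber (f z)).presheaf.stalk (f.asFiber z))) :
    letI := algStalk f y
    Core.FibreData (S.presheaf.stalk (f y)) (X.presheaf.stalk y) ((Groth.L00.Stk.F X y).obj G) := by
  let O := X.presheaf.stalk y
  let At := S.presheaf.stalk (f y)
  letI := algStalk f y
  refine ⟨fun P _ hI => fibreDichOn f hG U y hinv 2 hcod P hI, ?_⟩
  exact (skAt_fibre_iff f (Coh.structureModule X) Groth.L16.CohClosedPush.isCoh_structure 2 y O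
      (fun a m => Algebra.smul_def a m) (Groth.L15.Ref.strE y).symm).1
      (skAt_of_iso (Groth.L29.LocFree.pullbackUnitIso _).symm (hS.2.2 y))

set_option maxHeartbeats 1600000 in
/-- invertibility lifts from the fibre along powers prime to the residue characteristic -/
theorem invertibleAt_dual_of_powerOn [IsLocallyNoetherian X] [IsLocallyNoetherian S] (f : X ⟶ S) [Flat f]
    [LocallyOfFiniteType f] (hS : RelCanon.IsSkMor f 2) {G : X.Modules} (hG : Coh.IsCoh G) (U : X.Opens) (y : X)
    (hinv : ∀ z, z ∈ U → RelCanon.InvertibleAt G z)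
    (hcod : ∀ z, z ⤳ y → f z = f y → z ∉ U →
      (2 : WithBot ℕ∞) ≤ ringKrullDim ((f.fiber (f z)).presheaf.stalk (f.asFiber z)))
    (s : ℕ) (hs : s ≠ 0) (hsk : (s : S.residueField (f y)) ≠ 0)
    (hpow : RelCanon.InvertibleAt (RelCanon.refPowZ (RefHull.dual G) (s : ℤ)) y)
    (hfree : letI := algStalk f y
      Nonempty (Core.Fn (S.presheaf.stalk (f y)) (X.presheaf.stalk y) ((Groth.L00.Stk.F X y).obj G)
        (S.presheaf.stalk (f y) ⧸ maximalIdeal (S.presheaf.stalk (f y))) ≃ₗ[X.presheaf.stalk y]
        X.presheaf.stalk y ⊗[S.presheaf.stalk (f y)]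
          (S.presheaf.stalk (f y) ⧸ maximalIdeal (S.presheaf.stalk (f y))))) :
    RelCanon.InvertibleAt (RefHull.dual G) y := by
  let At := S.presheaf.stalk (f y)
  let O := X.presheaf.stalk y
  letI := algStalk f y
  haveI := isLocalHom_algStalk f y
  haveI := flat_algStalk f y
  let Q := (Groth.L00.Stk.F X y).obj G
  haveI : Module.Finite O Q := Groth.L06.SupportStalk.finite_stalk G hG y
  have hD := fibreDataOn f hS hG U y hinv hcod
  have hu : IsUnit (s : O) := by
    have h1 : IsUnit (s : At) := by
      refine IsLocalRing.notMem_maximalIdeal.1 fun h => hsk ?_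
      show (s : IsLocalRing.ResidueField At) = 0
      rw [← map_natCast (IsLocalRing.residue At)]
      exact (IsLocalRing.residue_eq_zero_iff _).2 h
    have := h1.map (algebraMap At O)
    rwa [map_natCast] at this
  have hc : Coh.IsCoh (RefHull.dual G) := Groth.L15.Ref.isCoh_dual hG
  have hpc : ∀ n, Coh.IsCoh (CohB1.tensorPow (RefHull.dual G) n) := fun n => by
    induction n with
    | zero => exact Groth.L16.CohClosedPush.isCoh_structure
    | succ n ih => exact Groth.L15.Ref.isCoh_tensorMod ih hc
  obtain ⟨eγ⟩ := exists_stalk_equiv_of_invertibleAt hpow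
  obtain ⟨τ, hhom, hnv⟩ := Core.exists_form (Q := Q) (W := (Groth.L00.Stk.F X y).obj (RefHull.dual G)) (dualStalk hG y)
    (fun n => (Groth.L00.Stk.F X y).obj (CohB1.tensorPow (RefHull.dual G) n)) (Groth.L15.Ref.strE y).symm
    (fun n => (Groth.L00.Stk.τ y (CohB1.tensorPow (RefHull.dual G) n) (RefHull.dual G)).toLinearEquiv.symm) s
    (dualStalk (hpc s) y) ((dualStalk (Groth.L15.Ref.isCoh_dual (hpc s)) y).symm.trans eγ)
  obtain ⟨θ⟩ := hfree
  have hev := Core.ev_surjective_of_root hD s τ hs hu hhom (fun P _ _ q0 ε he _ => hnv P q0 ε he) θ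
  exact invertibleAt_of_fibre f hG y ⟨Core.ev_residue_injective hev, hev⟩ ⟨θ⟩

end Groth.L10.RelCan
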