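import Groth.Agent.L10.RelCan.IndexLift

/-!
Reflexive powers on fibres near a point with codimension two on the fibres, and divisibility of indices.
-/

set_option autoImplicit false
set_option maxSynthPendingDepth 4
set_option linter.style.haveILetI false
set_option linter.unusedSectionVars false
set_option linter.unusedVariables false
set_option backward.defeqAttrib.useBackward true
set_option backward.isDefEq.respectTransparency false
set_option backward.isDefEq.respectTransparency.types false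
universe u

open CategoryTheory CategoryTheory.Limits AlgebraicGeometry TopologicalSpace IsLocalRing
open scoped TensorProduct

noncomputable section

namespace Groth.L10.RelCan

variable {X : Scheme.{u}}

/-- invertibility at a point pulls back -/
theorem invertibleAt_pullback {Z : Scheme.{u}} (p : Z ⟶ X) {F : X.Modules} (x : Z)
    (h : RelCanon.InvertibleAt F (p x)) : RelCanon.InvertibleAt ((Scheme.Modules.pullback p).obj F) x := by
  obtain ⟨V, hxV, ⟨e⟩⟩ := h
  exact ⟨p ⁻¹ᵁ V, hxV, ⟨restrictPull p V _ ≪≫ (Scheme.Modules.pullback _).mapIso e ≪≫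
    Groth.L29.LocFree.pullbackUnitIso _⟩⟩

theorem invertibleAt_iso {F F' : X.Modules} (e : F ≅ F') {x : X} (h : RelCanon.InvertibleAt F x) :
    RelCanon.InvertibleAt F' x := by
  obtain ⟨V, hV, ⟨a⟩⟩ := h
  exact ⟨V, hV, ⟨(Scheme.Modules.restrictFunctor V.ι).mapIso e.symm ≪≫ a⟩⟩

theorem invertibleAt_restrict (V : X.Opens) {F : X.Modules} {x : X} (hx : x ∈ V) (h : RelCanon.InvertibleAt F x) :
    RelCanon.InvertibleAt (F.restrict V.ι) ⟨x, hx⟩ :=
  invertibleAt_iso ((Scheme.Modules.restrictFunctorIsoPullback V.ι).app F).symm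
    (invertibleAt_pullback V.ι ⟨x, hx⟩ h)

theorem invertibleAt_of_restrict [IsLocallyNoetherian X] (V : X.Opens) {F : X.Modules} (hF : Coh.IsCoh F) {x : X}
    (hx : x ∈ V) (h : RelCanon.InvertibleAt (F.restrict V.ι) ⟨x, hx⟩) : RelCanon.InvertibleAt F x :=
  invertibleAt_of_pullback V.ι hF ⟨x, hx⟩
    (invertibleAt_iso ((Scheme.Modules.restrictFunctorIsoPullback V.ι).app F) h)

variable [IsNoetherian X] (U : X.Opens) (v : X)
  (hpair : ∀ x : X, x ⤳ v → x ∉ U → ∃ b ∈ maximalIdeal (X.presheaf.stalk x), ∃ c ∈ maximalIdeal (X.presheaf.stalk x),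
    IsSMulRegular (X.presheaf.stalk x) b ∧ IsSMulRegular (QuotSMulTop b (X.presheaf.stalk x)) c)

include hpair in
theorem invertibleAt_ddual_of_pairs {P P' : X.Modules} (hP : Coh.IsCoh P) (hP' : Coh.IsCoh P')
    (e : (RefHull.ddual P').restrict U.ι ≅ (RefHull.ddual P).restrict U.ι)
    (h : RelCanon.InvertibleAt (RefHull.ddual P) v) : RelCanon.InvertibleAt (RefHull.ddual P') v := by
  have hc := Groth.L15.Ref.isCoh_dual (Groth.L15.Ref.isCoh_dual hP)
  have hc' := Groth.L15.Ref.isCoh_dual (Groth.L15.Ref.isCoh_dual hP')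
  haveI : Coh.IsQCoh (RefHull.ddual P) := hc.1
  haveI : Coh.IsQCoh (RefHull.ddual P') := hc'.1
  obtain ⟨σ⟩ := nonempty_stalkEquiv_of_pairs U (RefHull.ddual P') (RefHull.ddual P) v
    (fun x hx hxU => pairs_ddual P' hP' x (hpair x hx hxU))
    (fun x hx hxU => pairs_ddual P hP x (hpair x hx hxU)) e
  obtain ⟨τ⟩ := exists_stalk_equiv_of_invertibleAt h
  exact invertibleAt_of_stalk hc' v (σ.trans τ)

set_option maxHeartbeats 1600000 in
include hpair in
/-- the exponents with invertible reflexive power are closed under remainders -/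
theorem invertibleAt_refPowZ_mod {F : X.Modules} (hF : Coh.IsCoh F) (hU : PicF.IsInvertible (F.restrict U.ι))
    {s r : ℕ} (hs : RelCanon.InvertibleAt (RelCanon.refPowZ F (s : ℤ)) v)
    (hr : RelCanon.InvertibleAt (RelCanon.refPowZ F (r : ℤ)) v) :
    RelCanon.InvertibleAt (RelCanon.refPowZ F ((r % s : ℕ) : ℤ)) v := by
  have hpow : ∀ (G : X.Modules), Coh.IsCoh G → ∀ n, Coh.IsCoh (CohB1.tensorPow G n) := fun G hG n => by
    induction n with
    | zero => exact Groth.L16.CohClosedPush.isCoh_structure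
    | succ n ih => exact Groth.L15.Ref.isCoh_tensorMod ih hG
  let W := RelCanon.refPowZ F ((r % s : ℕ) : ℤ)
  let Ws := RelCanon.refPowZ F (s : ℤ)
  have hW : Coh.IsCoh W := isCoh_refPowZ hF _
  have hWs : Coh.IsCoh Ws := isCoh_refPowZ hF _
  let T := CohB1.tensorMod (CohB1.tensorPow Ws (r / s)) W
  have hT : Coh.IsCoh T := Groth.L15.Ref.isCoh_tensorMod (hpow Ws hWs _) hW
  obtain ⟨a1⟩ := nonempty_refPowZ_restrict U.ι F (s : ℤ)
  obtain ⟨a2⟩ := nonempty_refPowZ_tensorPow hU s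
  obtain ⟨b1⟩ := nonempty_refPowZ_restrict U.ι F ((r % s : ℕ) : ℤ)
  obtain ⟨b2⟩ := nonempty_refPowZ_tensorPow hU (r % s)
  let eT : T.restrict U.ι ≅ CohB1.tensorPow (F.restrict U.ι) r :=
    (Groth.L00.Tensor.tensorRestrict U.ι _ _).symm ≪≫
      Groth.L00.Tensor.tensorIso ((Groth.L00.Tensor.tensorPowRestrict U.ι Ws (r / s)).symm ≪≫
        Groth.L00.Tensor.tensorPowIso (a1.symm ≪≫ a2) (r / s) ≪≫
        Groth.L00.Tensor.tensorPowMul (F.restrict U.ι) s (r / s)) (b1.symm ≪≫ b2) ≪≫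
      Groth.L00.Tensor.tensorPowAdd (F.restrict U.ι) _ _ ≪≫ eqToIso (by rw [Nat.div_add_mod])
  have h1 : RelCanon.InvertibleAt (RefHull.ddual T) v :=
    invertibleAt_ddual_of_pairs U v hpair (hpow F hF r) hT
      ((ddualRestrict U.ι T).symm ≪≫ RefFun.ddualIso (eT ≪≫ Groth.L00.Tensor.tensorPowRestrict U.ι F r) ≪≫
        ddualRestrict U.ι _) hr
  obtain ⟨V, hV, ⟨eV⟩⟩ := hs
  let eTV : T.restrict V.ι ≅ W.restrict V.ι :=
    (Groth.L00.Tensor.tensorRestrict V.ι _ _).symm ≪≫
      Groth.L00.Tensor.tensorIso ((Groth.L00.Tensor.tensorPowRestrict V.ι Ws (r / s)).symm ≪≫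
        Groth.L00.Tensor.tensorPowIso eV (r / s) ≪≫ Groth.L00.Tensor.tensorPowUnit _ _) (Iso.refl _) ≪≫
      Groth.L00.Tensor.tensorUnitLeft _
  have h2 : RelCanon.InvertibleAt (RefHull.ddual W) v :=
    invertibleAt_of_restrict V (Groth.L15.Ref.isCoh_dual (Groth.L15.Ref.isCoh_dual hW)) hV
      (invertibleAt_iso ((ddualRestrict V.ι T).symm ≪≫ RefFun.ddualIso eTV ≪≫ ddualRestrict V.ι W)
        (invertibleAt_restrict V hV h1))
  obtain ⟨c⟩ := nonempty_ddual_invertible (M := W.restrict U.ι)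
    (Groth.L18.Ample.isInvertible_of_iso (b2.symm ≪≫ b1) (Groth.L18.Ample.isInvertible_tensorPow hU _))
  exact invertibleAt_ddual_of_pairs U v hpair hW (hpow F hF (r % s))
    (c.symm ≪≫ ddualRestrict U.ι W) h2

end Groth.L10.RelCan

namespace Groth.L10.RelCan

variable {A : Type u} [CommRing A] [IsNoetherianRing A] {Y : Scheme.{u}} [Y.Over (Spec (CommRingCat.of A))]
  [IsProper (Y ↘ Spec (CommRingCat.of A))] {d : ℕ}

/-- regular pairs in a fibre where its local rings have dimension two -/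
theorem exists_pair_fibre (hS : RelCanon.IsSkMor (Y ↘ Spec (CommRingCat.of A)) 2) (s : Spec (CommRingCat.of A))
    (w : (Y ↘ Spec (CommRingCat.of A)).fiber s)
    (hdim : ∀ z : Y, z = (Y ↘ Spec (CommRingCat.of A)).fiberι s w →
      (2 : WithBot ℕ∞) ≤ ringKrullDim (((Y ↘ Spec (CommRingCat.of A)).fiber ((Y ↘ Spec (CommRingCat.of A)) z)).presheaf.stalk
        ((Y ↘ Spec (CommRingCat.of A)).asFiber z))) :
    ∃ b ∈ maximalIdeal (((Y ↘ Spec (CommRingCat.of A)).fiber s).presheaf.stalk w),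
      ∃ c ∈ maximalIdeal (((Y ↘ Spec (CommRingCat.of A)).fiber s).presheaf.stalk w),
      IsSMulRegular (((Y ↘ Spec (CommRingCat.of A)).fiber s).presheaf.stalk w) b ∧
        IsSMulRegular (QuotSMulTop b (((Y ↘ Spec (CommRingCat.of A)).fiber s).presheaf.stalk w)) c := by
  let f := Y ↘ Spec (CommRingCat.of A)
  have hmem : f.fiberι s w ∈ f ⁻¹' {s} := f.range_fiberι s ▸ ⟨w, rfl⟩
  have key : ∀ (s : Spec (CommRingCat.of A)) (w' : f.fiber s) (z : Y), f.fiberι s w' = z → f z = s →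
      (2 : WithBot ℕ∞) ≤ ringKrullDim ((f.fiber (f z)).presheaf.stalk (f.asFiber z)) →
      ∃ b ∈ maximalIdeal ((f.fiber s).presheaf.stalk w'), ∃ c ∈ maximalIdeal ((f.fiber s).presheaf.stalk w'),
        IsSMulRegular ((f.fiber s).presheaf.stalk w') b ∧
          IsSMulRegular (QuotSMulTop b ((f.fiber s).presheaf.stalk w')) c := by
    intro s w' z hwz hzs hz
    subst hzs
    obtain rfl : w' = f.asFiber z :=
      (f.fiberι (f z)).isEmbedding.injective (hwz.trans (Scheme.Hom.fiberι_asFiber f z).symm)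
    haveI : LocallyOfFiniteType (f.fiberToSpecResidueField (f z)) :=
      MorphismProperty.pullback_snd f ((Spec (CommRingCat.of A)).fromSpecResidueField (f z)) inferInstance
    haveI : IsLocallyNoetherian (f.fiber (f z)) :=
      LocallyOfFiniteType.isLocallyNoetherian (f.fiberToSpecResidueField (f z))
    let R := (f.fiber (f z)).presheaf.stalk (f.asFiber z)
    let σ := Groth.L15.Ref.strE (X := f.fiber (f z)) (f.asFiber z)
    haveI : Module.Finite R ((Groth.L00.Stk.F _ (f.asFiber z)).obj (Coh.structureModule (f.fiber (f z)))) :=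
      Module.Finite.equiv σ
    have h2 : LocCoh.HasSk 2 R R :=
      hasSk_congr (M := (Groth.L00.Stk.F _ (f.asFiber z)).obj (Coh.structureModule (f.fiber (f z)))) σ.symm (hS.2.2 z)
    exact Hartogs.exists_pair (two_le_depth h2 (Set.eq_univ_of_forall fun P =>
      Module.mem_support_iff_of_finite.2 (by rw [Module.annihilator_eq_bot.mpr inferInstance]; exact bot_le)) hz)
  exact key s w (f.fiberι s w) rfl hmem (hdim _ rfl)

set_option maxHeartbeats 1600000 in
/-- invertible reflexive powers restrict to fibres of codimension two, near a point -/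
theorem invertibleAt_refPowZ_fibre_of_local (hS : RelCanon.IsSkMor (Y ↘ Spec (CommRingCat.of A)) 2)
    (hd : Cyc.HasRelDim (Y ↘ Spec (CommRingCat.of A)) d) (ω : Y.Modules)
    (hω : RelCanon.IsDualizingSheaf A Y d ω) (t : Spec (CommRingCat.of A))
    (ωt : ((Y ↘ Spec (CommRingCat.of A)).fiber t).Modules)
    (hωt : @RelCanon.IsDualizingSheaf ((Spec (CommRingCat.of A)).residueField t) _ ((Y ↘ Spec (CommRingCat.of A)).fiber t)
      ⟨(Y ↘ Spec (CommRingCat.of A)).fiberToSpecResidueField t⟩ d ωt)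
    (v : (Y ↘ Spec (CommRingCat.of A)).fiber t)
    (hdim : ∀ z, z ⤳ (Y ↘ Spec (CommRingCat.of A)).fiberι t v → z ∉ RelCanon.gorLocus (Y ↘ Spec (CommRingCat.of A)) →
      (2 : WithBot ℕ∞) ≤ ringKrullDim (((Y ↘ Spec (CommRingCat.of A)).fiber ((Y ↘ Spec (CommRingCat.of A)) z)).presheaf.stalk
        ((Y ↘ Spec (CommRingCat.of A)).asFiber z))) :
    (∀ w, w ⤳ v → (Y ↘ Spec (CommRingCat.of A)).fiberι t w ∉ RelCanon.gorLocus (Y ↘ Spec (CommRingCat.of A)) →
      ∃ b ∈ maximalIdeal (((Y ↘ Spec (CommRingCat.of A)).fiber t).presheaf.stalk w),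
        ∃ c ∈ maximalIdeal (((Y ↘ Spec (CommRingCat.of A)).fiber t).presheaf.stalk w),
        IsSMulRegular (((Y ↘ Spec (CommRingCat.of A)).fiber t).presheaf.stalk w) b ∧
          IsSMulRegular (QuotSMulTop b (((Y ↘ Spec (CommRingCat.of A)).fiber t).presheaf.stalk w)) c) ∧
    ∃ U' : ((Y ↘ Spec (CommRingCat.of A)).fiber t).Opens,
      (U' : Set ((Y ↘ Spec (CommRingCat.of A)).fiber t)) =
        ((Y ↘ Spec (CommRingCat.of A)).fiberι t) ⁻¹' RelCanon.gorLocus (Y ↘ Spec (CommRingCat.of A)) ∧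
      Coh.IsCoh ωt ∧ PicF.IsInvertible (ωt.restrict U'.ι) ∧
      ∀ r : ℕ, RelCanon.InvertibleAt (RelCanon.refPowZ ω (r : ℤ)) ((Y ↘ Spec (CommRingCat.of A)).fiberι t v) →
        RelCanon.InvertibleAt (RelCanon.refPowZ ωt (r : ℤ)) v := by
  let f := Y ↘ Spec (CommRingCat.of A)
  haveI := hS.1
  haveI : IsLocallyNoetherian Y := LocallyOfFiniteType.isLocallyNoetherian f
  let k := (Spec (CommRingCat.of A)).residueField t
  letI : Algebra A k := (Spec.preimage ((Spec (CommRingCat.of A)).fromSpecResidueField t)).hom.toAlgebra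
  let Z := f.fiber t
  letI : Z.Over (Spec (CommRingCat.of k)) := ⟨f.fiberToSpecResidueField t⟩
  let p : Z ⟶ Y := f.fiberι t
  have hp : IsPullback p (Z ↘ Spec (CommRingCat.of k)) f (Spec.map (CommRingCat.ofHom (algebraMap A k))) := by
    rw [show Spec.map (CommRingCat.ofHom (algebraMap A k)) = (Spec (CommRingCat.of A)).fromSpecResidueField t from
      Spec.map_preimage _]
    exact IsPullback.of_hasPullback _ _
  haveI : IsProper (Z ↘ Spec (CommRingCat.of k)) := MorphismProperty.of_isPullback hp (inferInstanceAs (IsProper f))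
  haveI : IsLocallyNoetherian Z := LocallyOfFiniteType.isLocallyNoetherian (Z ↘ Spec (CommRingCat.of k))
  haveI : CompactSpace Z := QuasiCompact.compactSpace_of_compactSpace (Z ↘ Spec (CommRingCat.of k))
  haveI : IsNoetherian Z := {}
  haveI := isLeftAdjoint (A := A) (Y := Y) (d := d) hd
  have hpair : ∀ w, w ⤳ v → p w ∉ RelCanon.gorLocus f → _ := fun w hw hwg =>
    exists_pair_fibre hS t w fun z hz => hdim z (hz ▸ hw.map p.continuous) (hz ▸ hwg)
  let U := gorOpen A Y
  let U' : Z.Opens := p ⁻¹ᵁ U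
  let q := p ∣_ U
  let L := ω.restrict U.ι
  have hL : PicF.IsInvertible L := isInvertible_omega_gorOpen hd ω hω
  have hωc : Coh.IsCoh ω := (isCoh_and_nontrivial d hd ω hω).1
  haveI := hωc.1
  have hωtc : Coh.IsCoh ωt := (isCoh_and_nontrivial d (Groth.L22.Cyc.hasRelDim_baseChange hp hd) ωt hωt).1
  haveI := hωtc.1
  obtain ⟨lam, hlam⟩ := exists_bcMap_bijective hp hd U (fun x hx => ⟨hx.1, by haveI := hx.2; exact Groth.Agent.S0341.result _⟩)
    ω hω ωt hωt
  haveI : IsIso ((Scheme.Modules.restrictFunctor U'.ι).map lam) :=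
    Groth.L17.Approx.isIso_restrict_of_bijective lam U' fun O hO =>
      Groth.L15.Ref.app_bijective_of_stalk lam fun z hz => hlam z (hO hz)
  let eω : ωt.restrict U'.ι ≅ (Scheme.Modules.pullback q).obj L :=
    (asIso ((Scheme.Modules.restrictFunctor U'.ι).map lam)).symm ≪≫ restrictPull p U ω
  have hωtU : PicF.IsInvertible (ωt.restrict U'.ι) :=
    Groth.L18.Ample.isInvertible_of_iso eω.symm (Groth.L18.Ample.isInvertible_pullback q hL)
  refine ⟨hpair, U', rfl, hωtc, hωtU, fun r hr => ?_⟩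
  let W := RelCanon.refPowZ ω (r : ℤ)
  have hWc : Coh.IsCoh W := isCoh_refPowZ hωc _
  let P := (Scheme.Modules.pullback p).obj W
  have hPc : Coh.IsCoh P := Groth.L16.AffineBC.isCoh_pullback p hWc
  have hP : RelCanon.InvertibleAt P v := invertibleAt_pullback p v hr
  obtain ⟨V, hV, ⟨eV⟩⟩ := hP
  have hPD : RelCanon.InvertibleAt (RefHull.ddual P) v := by
    obtain ⟨e0⟩ := nonempty_ddual_invertible (M := Coh.structureModule (V : Scheme.{u}))
      (fun z => ⟨⊤, trivial, ⟨Scheme.Modules.restrictUnitIso _⟩⟩)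
    exact ⟨V, hV, ⟨(ddualRestrict V.ι P).symm ≪≫ RefFun.ddualIso eV ≪≫ e0⟩⟩
  obtain ⟨eL⟩ := nonempty_refPowZ_restrict U.ι ω (r : ℤ)
  obtain ⟨eR⟩ := nonempty_refPowZ_restrict U'.ι ωt (r : ℤ)
  obtain ⟨eC⟩ := nonempty_refPowZ_congr eω (r : ℤ)
  obtain ⟨eP⟩ := nonempty_refPowZ_pullback q hL (r : ℤ)
  let eU : P.restrict U'.ι ≅ (RelCanon.refPowZ ωt (r : ℤ)).restrict U'.ι :=
    restrictPull p U W ≪≫ (Scheme.Modules.pullback q).mapIso eL.symm ≪≫ eP.symm ≪≫ eC.symm ≪≫ eR
  obtain ⟨eD⟩ := nonempty_ddual_invertible (M := P.restrict U'.ι)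
    (Groth.L18.Ample.isInvertible_of_iso (eR.symm ≪≫ eC ≪≫ eP ≪≫ (Scheme.Modules.pullback q).mapIso eL ≪≫
      (restrictPull p U W).symm).symm.symm (Groth.L18.Ample.isInvertible_of_iso eR (isInvertible_refPowZ hωtU _)))
  have hpow : ∀ n, Coh.IsCoh (CohB1.tensorPow ωt n) := fun n => by
    induction n with
    | zero => exact Groth.L16.CohClosedPush.isCoh_structure
    | succ n ih => exact Groth.L15.Ref.isCoh_tensorMod ih hωtc
  exact invertibleAt_ddual_of_pairs U' v (fun w hw hwU => hpair w hw hwU) hPc (hpow r)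
    (eU.symm ≪≫ eD.symm ≪≫ ddualRestrict U'.ι P) hPD

end Groth.L10.RelCan
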