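import Groth.Agent.L10.RelCan.Basic
import Groth.Agent.L10.RelCan.CMPoint
import Groth.Agent.L10.ShriekLoc.CM
import Groth.Agent.L23.SpaceTrdeg
import Groth.Agent.S3671

/-!
Serre's condition two of the dualizing sheaf of a proper scheme of pure dimension over a field.
-/

set_option autoImplicit false
set_option maxSynthPendingDepth 4
set_option linter.style.haveILetI false
set_option backward.defeqAttrib.useBackward true
set_option backward.isDefEq.respectTransparency false
set_option backward.isDefEq.respectTransparency.types false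
universe u

open CategoryTheory CategoryTheory.Limits AlgebraicGeometry TopologicalSpace IsLocalRing

attribute [local instance] HasDerivedCategory.standard

noncomputable section

namespace Groth.L10.RelCan

open Groth.L29 Groth.L29.DC Groth.L10.ShriekLoc

variable {A : Type u} [CommRing A] [IsNoetherianRing A] {Y : Scheme.{u}} [Y.Over (Spec (CommRingCat.of A))]
  [IsProper (Y ↘ Spec (CommRingCat.of A))] [Flat (Y ↘ Spec (CommRingCat.of A))] {d : ℕ}

set_option maxHeartbeats 1600000 in
/-- over Cohen–Macaulay points of the base the dualizing sheaf has Serre's condition two -/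
theorem skAt_two_dualizing (hd : Cyc.HasRelDim (Y ↘ Spec (CommRingCat.of A)) d) (ω : Y.Modules)
    (hω : RelCanon.IsDualizingSheaf A Y d ω) (x : Y)
    (hx : LocCoh.IsCohenMacaulayLocalRing
      ((Spec (CommRingCat.of A)).presheaf.stalk ((Y ↘ Spec (CommRingCat.of A)) x))) :
    RelCanon.SkAt 2 ω x := by
  let f := Y ↘ Spec (CommRingCat.of A)
  haveI := fun {P Q : Scheme.{u}} (k : P ⟶ Q) => Groth.L00.KFlat.hasLpull k
  haveI := fun (R : CommRingCat.{u}) => Groth.L18.TildeF.tilde_preservesFiniteLimits (R := R)
  haveI : ∀ (U V : Scheme.{u}) (j : U ⟶ V) [IsOpenImmersion j],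
      PreservesFiniteLimits (Scheme.Modules.restrictFunctor j) := fun U V j _ => inferInstance
  haveI : IsLocallyNoetherian Y := LocallyOfFiniteType.isLocallyNoetherian f
  obtain ⟨c, hR, hc, a, adj, O, hO, hiff⟩ := exists_model (Y := Y) d hd
  haveI := hR
  obtain ⟨e₀⟩ := (hiff ω).1 hω
  haveI : Dual3.IsSepFT f := ⟨inferInstance, inferInstance, inferInstance⟩
  haveI : Dual3.IsSepFT (𝟙 (Spec (CommRingCat.of A))) := ⟨inferInstance, inferInstance, inferInstance⟩
  have h := (Groth.Agent.S3671.result (Spec (CommRingCat.of A)) Y (Spec (CommRingCat.of A)) f (𝟙 _) f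
    (Category.comp_id _) c hc a adj O hO x d hx fun Z _ _ ξ _ => by
      have h1 := localFibreDim_le_of_components (f := f) hd ξ
      rw [localFibreDim_eq, Groth.L23.Trdeg.fibreDimAt_eq_add] at h1
      have h2 : ((Cardinal.toENat (Dual3.resTrdeg f ξ) : ℕ∞) : WithBot ℕ∞) ≤ ((d : ℕ∞) : WithBot ℕ∞) :=
        le_trans (le_add_of_nonneg_left ringKrullDim_nonneg_of_nontrivial) h1
      exact Cardinal.toENat_le_natCast.1 (WithBot.coe_le_coe.1 h2)).2
  exact Groth.L29.SchStalk.hasSk_congr (k := 2) ((Groth.L00.Stk.F Y x).mapIso e₀.symm).toLinearEquiv h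

/-- Serre's condition two of the dualizing sheaf over a field -/
theorem skAt_two_of_field {K : Type u} [Field K] {Z : Scheme.{u}} [Z.Over (Spec (CommRingCat.of K))]
    [IsProper (Z ↘ Spec (CommRingCat.of K))] [Flat (Z ↘ Spec (CommRingCat.of K))] {d : ℕ}
    (hd : Cyc.HasRelDim (Z ↘ Spec (CommRingCat.of K)) d) (ω : Z.Modules)
    (hω : RelCanon.IsDualizingSheaf K Z d ω) (z : Z) : RelCanon.SkAt 2 ω z := by
  refine skAt_two_dualizing hd ω hω z ?_
  let R := (Spec (CommRingCat.of K)).presheaf.stalk ((Z ↘ Spec (CommRingCat.of K)) z)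
  have hm : maximalIdeal R = ⊥ := Groth.L21.CurvFib.maximalIdeal_stalk_spec_field (K := K) _
  have hR : IsField R := IsLocalRing.isField_iff_maximalIdeal_eq.2 hm
  haveI : IsLocallyNoetherian (Spec (CommRingCat.of K)) := inferInstance
  refine { supportDim_eq_depth := le_antisymm ?_ Groth.L04.depth_le_supportDim }
  rw [Module.supportDim_self_eq_ringKrullDim, ringKrullDim_eq_zero_of_isField hR]
  exact WithBot.coe_le_coe.2 bot_le

end Groth.L10.RelCan
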