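import Groth.Agent.L10.RelCan.GenPairs
import Groth.Agent.L10.RelCan.PairBC

/-!
Regular pairs on the stalks at generisations of a module with relative Serre condition two at a point.
-/

set_option autoImplicit false
set_option maxSynthPendingDepth 4
set_option linter.style.haveILetI false
set_option linter.unusedSectionVars false
set_option linter.unusedVariables false
set_option backward.defeqAttrib.useBackward true
set_option backward.isDefEq.respectTransparency false
set_option backward.isDefEq.respectTransparency.types false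
universe u

open CategoryTheory CategoryTheory.Limits AlgebraicGeometry TopologicalSpace IsLocalRing
open scoped TensorProduct Pointwise

noncomputable section

namespace Groth.L10.RelCan

variable {X S : Scheme.{u}}

/-- the ring map between two stalks, on regular pairs -/
theorem regular_pair_gen [IsLocallyNoetherian X] {L : X.Modules} [Coh.IsQCoh L] {x y : X} (hxy : x ⤳ y)
    {b c : X.presheaf.stalk y} (hb : IsSMulRegular ((Groth.L00.Stk.F X y).obj L) b)
    (hc : IsSMulRegular (QuotSMulTop b ((Groth.L00.Stk.F X y).obj L)) c) :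
    IsSMulRegular (L.presheaf.stalk x) ((X.presheaf.stalkSpecializes hxy).hom b) ∧
      IsSMulRegular (QuotSMulTop ((X.presheaf.stalkSpecializes hxy).hom b) (L.presheaf.stalk x))
        ((X.presheaf.stalkSpecializes hxy).hom c) := by
  let O := X.presheaf.stalk y
  let Ox := X.presheaf.stalk x
  let Ly := (Groth.L00.Stk.F X y).obj L
  let Lx := (Groth.L00.Stk.F X x).obj L
  let P : Ideal O := (maximalIdeal Ox).comap (X.presheaf.stalkSpecializes hxy).hom
  letI : Algebra O Ox := (X.presheaf.stalkSpecializes hxy).hom.toAlgebra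
  letI : Module O Lx := Module.compHom _ (X.presheaf.stalkSpecializes hxy).hom
  haveI : IsScalarTower O Ox Lx := .of_algebraMap_smul fun _ _ => rfl
  haveI := isLocalizedModule_spMap L hxy P rfl
  haveI : IsLocalizedModule (⊥ : Submonoid O) (LinearMap.id : Ly →ₗ[O] Ly) :=
    ⟨fun s => by rw [Submonoid.mem_bot.1 s.2, map_one]; exact isUnit_one,
      fun z => ⟨⟨z, 1⟩, by simp⟩, fun h => ⟨1, by simpa using h⟩⟩
  obtain ⟨h1, h2⟩ := regular_pair_localized (R := O) (R' := O) P.primeCompl (spMap L hxy) ⊥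
    (fun t ht => by rw [Submonoid.mem_bot.1 ht, map_one]; exact P.primeCompl.one_mem) LinearMap.id hb hc
  refine ⟨fun v w h => h1 h, (isSMulRegular_quotient_iff_mem_of_smul_mem _ _).2 fun v hv => ?_⟩
  obtain ⟨w, -, hw⟩ := (Submodule.mem_smul_pointwise_iff_exists _ _ _).1 hv
  obtain ⟨k, -, hk⟩ := (Submodule.mem_smul_pointwise_iff_exists _ _ _).1
    ((isSMulRegular_quotient_iff_mem_of_smul_mem _ _).1 h2 v
      ((Submodule.mem_smul_pointwise_iff_exists _ _ _).2 ⟨w, trivial, hw⟩))
  exact (Submodule.mem_smul_pointwise_iff_exists _ _ _).2 ⟨k, trivial, hk⟩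

set_option maxHeartbeats 3200000 in
/-- relative Serre condition two at a point gives pairs at every generisation outside an open of codimension two
in the fibre -/
theorem exists_pair_generization_mod (f : X ⟶ S) [LocallyOfFiniteType f] [IsLocallyNoetherian X] [IsLocallyNoetherian S]
    {L : X.Modules} (hL : Coh.IsCoh L) (U : X.Opens) (y : X) (hLy : RelCanon.RelSkAt f 2 L y)
    (hnt : ∀ z, z ⤳ y → f z = f y → ringKrullDim ((f.fiber (f z)).presheaf.stalk (f.asFiber z)) ≤ 0 →
      Nontrivial (L.presheaf.stalk z))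
    (hdim : ∀ z, z ⤳ y → f z = f y → z ∉ U →
      (2 : WithBot ℕ∞) ≤ ringKrullDim ((f.fiber (f z)).presheaf.stalk (f.asFiber z)))
    (x : X) (hxy : x ⤳ y) (hxU : x ∉ U) :
    ∃ b ∈ maximalIdeal (X.presheaf.stalk x), ∃ c ∈ maximalIdeal (X.presheaf.stalk x),
      IsSMulRegular (L.presheaf.stalk x) b ∧ IsSMulRegular (QuotSMulTop b (L.presheaf.stalk x)) c := by
  haveI := hL.1
  let O := X.presheaf.stalk y
  let At := S.presheaf.stalk (f y)
  letI := algStalk f y
  haveI := isLocalHom_algStalk f y
  let Ly := (Groth.L00.Stk.F X y).obj L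
  letI : Module At Ly := Module.compHom _ (f.stalkMap y).hom
  haveI : IsScalarTower At O Ly := IsScalarTower.of_algebraMap_smul fun _ _ => rfl
  haveI : Module.Flat At Ly := hLy.1
  haveI : Module.Finite O Ly := Groth.L06.SupportStalk.finite_stalk L hL y
  let I : Ideal O := (maximalIdeal At).map (algebraMap At O)
  let C : Set (PrimeSpectrum O) := (X.fromSpecStalk y) ⁻¹' (U : Set X)ᶜ
  have hC : IsClosed C := U.2.isClosed_compl.preimage (X.fromSpecStalk y).continuous
  let J : Ideal O := PrimeSpectrum.vanishingIdeal C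
  have hJ : ∀ P : PrimeSpectrum O, J ≤ P.asIdeal → X.fromSpecStalk y P ∉ U := fun P hP => by
    have : P ∈ closure C := by
      rw [← PrimeSpectrum.zeroLocus_vanishingIdeal_eq_closure]
      exact hP
    rwa [hC.closure_eq] at this
  let K := Ly ⊗[At] (At ⧸ maximalIdeal At)
  obtain ⟨eK⟩ := Groth.L04.FibFlat.nonempty_tensor_quotient_equiv (A := At) (B := O) Ly (maximalIdeal At)
  haveI : Module.Finite O K := Module.Finite.equiv eK
  have hIK : I ≤ Module.annihilator O K := fun r hr => Module.mem_annihilator.2 fun k => by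
    obtain ⟨m, rfl⟩ := eK.surjective k
    obtain ⟨l, rfl⟩ := Submodule.mkQ_surjective _ m
    rw [← map_smul, ← map_smul, show (Submodule.mkQ _) (r • l) = 0 from
      (Submodule.Quotient.mk_eq_zero _).2 (Submodule.smul_mem_smul hr (Submodule.mem_top (x := l))), map_zero]
  have hsk : LocCoh.HasSk 2 O K :=
    (skAt_fibre_iff f L hL 2 y Ly (fun a m => rfl) (LinearEquiv.refl _ _)).1 hLy.2
  have hK : ∀ P0 ∈ I.minimalPrimes, ∃ k : K, ∀ t ∉ P0, t • k ≠ 0 := fun P0 h0 => by
    haveI := h0.1.1
    obtain ⟨hzy, hft, hPz, hd⟩ := fibreDim f y P0 h0.1.2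
    let z := X.fromSpecStalk y (⟨P0, h0.1.1⟩ : PrimeSpectrum O)
    letI : Module O ((Groth.L00.Stk.F X z).obj L) := Module.compHom _ (X.presheaf.stalkSpecializes hzy).hom
    haveI := isLocalizedModule_spMap L hzy P0 (hPz hzy)
    have hn : Nontrivial (L.presheaf.stalk z) :=
      hnt z hzy hft (hd.trans_le (Core.ringKrullDim_quotient_minimal_le I P0 h0))
    have hs : (⟨P0, h0.1.1⟩ : PrimeSpectrum O) ∈ Module.support O Ly := by
      rw [Module.mem_support_iff']
      by_contra hno
      push Not at hno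
      haveI : Subsingleton ((Groth.L00.Stk.F X z).obj L) :=
        (IsLocalizedModule.subsingleton_iff P0.primeCompl (spMap L hzy)).2 fun m => by
          obtain ⟨r, hr, h⟩ := hno m
          exact ⟨r, hr, h⟩
      exact not_subsingleton (L.presheaf.stalk z) ‹_›
    have hq : (⟨P0, h0.1.1⟩ : PrimeSpectrum O) ∈ Module.support O (Ly ⧸ I • (⊤ : Submodule O Ly)) := by
      rw [Module.support_quotient]
      exact ⟨hs, h0.1.2⟩
    obtain ⟨m, hm⟩ := Module.mem_support_iff'.1 hq
    exact ⟨eK m, fun t ht h => hm t ht (eK.injective (by rw [map_smul, h, map_zero]))⟩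
  have hdepth : (2 : ℕ∞) ≤ LocCoh.idealDepth J K := by
    refine Groth.Agent.S18699.result 2 O K J hsk fun p hp hps => ?_
    have hI : I ≤ p.asIdeal := hIK.trans (Module.annihilator_le_of_mem_support hps)
    obtain ⟨h1, h2, -, h4⟩ := fibreDim f y p.asIdeal hI
    rw [Core.supportDim_of_nowhereZero _ hIK hK p.asIdeal, ← h4]
    exact hdim _ h1 h2 (hJ p hp)
  have hxm : X.fromSpecStalk y (closedPoint O) ∉ U := by
    rw [Scheme.fromSpecStalk_closedPoint]
    exact fun h => hxU (hxy.mem_open U.2 h)
  have hJm : J ≤ maximalIdeal O :=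
    le_trans (PrimeSpectrum.vanishingIdeal_anti_mono (Set.singleton_subset_iff.2 (show closedPoint O ∈ C from hxm)))
      (PrimeSpectrum.vanishingIdeal_singleton _).le
  haveI : Nontrivial K := by
    obtain ⟨P0, h0, -⟩ := Ideal.exists_minimalPrimes_le (Core.map_maximalIdeal_le (A := At) (O := O))
    obtain ⟨k, hk⟩ := hK P0 h0
    exact nontrivial_of_ne k 0 fun h =>
      hk 1 (fun h1 => h0.1.1.ne_top ((Ideal.eq_top_iff_one _).2 h1)) (by rw [one_smul, h])
  obtain ⟨b, c, hbJ, hcJ, hb, hc⟩ : ∃ b c, b ∈ J ∧ c ∈ J ∧ IsSMulRegular K b ∧ IsSMulRegular (QuotSMulTop b K) c := by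
    rw [LocCoh.idealDepth, if_neg (fun h => Groth.L04.smul_top_ne_top_of_nontrivial (maximalIdeal.isMaximal O).ne_top
      (top_le_iff.1 (h.ge.trans (Submodule.smul_mono hJm le_rfl))))] at hdepth
    have h1 : (1 : ℕ∞) < ⨆ (rs : List O) (_ : RingTheory.Sequence.IsWeaklyRegular K rs ∧ ∀ r ∈ rs, r ∈ J),
        (rs.length : ℕ∞) := lt_of_lt_of_le (by norm_num) hdepth
    simp only [lt_iSup_iff] at h1
    obtain ⟨rs, ⟨hreg, hmem⟩, hlt⟩ := h1
    match rs, hreg, hmem, hlt with
    | [], _, _, hlt => simp at hlt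
    | [_], _, _, hlt => simp at hlt
    | a :: a' :: _, hreg, hmem, _ =>
      rw [RingTheory.Sequence.isWeaklyRegular_cons_iff, RingTheory.Sequence.isWeaklyRegular_cons_iff] at hreg
      exact ⟨a, a', hmem a (by simp), hmem a' (by simp), hreg.1, hreg.2.1⟩
  have hbL : IsSMulRegular Ly b :=
    ((TensorProduct.AlgebraTensorModule.rid At O Ly).isSMulRegular_congr b).1 (Hartogs.regular_tensor hb At)
  haveI : Module.Flat At (QuotSMulTop b Ly) :=
    Groth.L01.ArtinianFlatRegular.flat_quotSMulTop fun L' _ _ => Hartogs.regular_tensor hb L'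
  obtain ⟨e⟩ := Groth.L01.ArtinianFlatRegular.nonempty_quotSMulTop_tensor (A := At) (M := Ly) b (At ⧸ maximalIdeal At)
  have hcL : IsSMulRegular (QuotSMulTop b Ly) c :=
    ((TensorProduct.AlgebraTensorModule.rid At O (QuotSMulTop b Ly)).isSMulRegular_congr c).1
      (Hartogs.regular_tensor ((e.isSMulRegular_congr c).1 hc) At)
  let P : Ideal O := (maximalIdeal (X.presheaf.stalk x)).comap (X.presheaf.stalkSpecializes hxy).hom
  have hJP : J ≤ P := by
    intro a ha
    have hp : (PrimeSpectrum.comap (X.presheaf.stalkSpecializes hxy).hom (closedPoint (X.presheaf.stalk x))) ∈ C := by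
      show X.fromSpecStalk y _ ∉ U
      have e := congrArg (fun φ : Spec (X.presheaf.stalk x) ⟶ X => φ (closedPoint (X.presheaf.stalk x)))
        (Scheme.SpecMap_stalkSpecializes_fromSpecStalk (X := X) hxy)
      rw [show X.fromSpecStalk y (PrimeSpectrum.comap (X.presheaf.stalkSpecializes hxy).hom
        (closedPoint (X.presheaf.stalk x))) = x from e.trans Scheme.fromSpecStalk_closedPoint]
      exact hxU
    exact (PrimeSpectrum.mem_vanishingIdeal _ _).1 ha _ hp
  obtain ⟨h1, h2⟩ := regular_pair_gen hxy hbL hcL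
  exact ⟨_, hJP hbJ, _, hJP hcJ, h1, h2⟩

end Groth.L10.RelCan
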