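import Groth.Agent.L10.RelCan.Reflexive
import Groth.Agent.L17.CohUnion.Extend
import Groth.Agent.L16.CohSupport
import Groth.Agent.L16.Devissage

/-!
The dualizing sheaf is the direct image of its restriction to an open with complement of codimension two on the fibres.
-/

set_option autoImplicit false
set_option linter.style.haveILetI false
set_option maxSynthPendingDepth 4
set_option backward.defeqAttrib.useBackward true
set_option backward.isDefEq.respectTransparency false
set_option backward.isDefEq.respectTransparency.types false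
universe u

open CategoryTheory CategoryTheory.Limits AlgebraicGeometry TopologicalSpace IsLocalRing

attribute [local instance] HasDerivedCategory.standard

noncomputable section

namespace Groth.L10.RelCan

open Groth.L29 Groth.L29.DC Groth.L10.ShriekLoc
open Groth.L16.CohLinear (hmap hmap_comp hmap_id exact_hmap_hmap exact_delta_hmap)

variable {A : Type u} [CommRing A] [IsNoetherianRing A] {Y : Scheme.{u}} [Y.Over (Spec (CommRingCat.of A))]
  [IsProper (Y ↘ Spec (CommRingCat.of A))] {d : ℕ}

set_option maxHeartbeats 1600000 in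
theorem isIso_unit_dualizing [Flat (Y ↘ Spec (CommRingCat.of A))] (hd : Cyc.HasRelDim (Y ↘ Spec (CommRingCat.of A)) d)
    (ω : Y.Modules) (hω : RelCanon.IsDualizingSheaf A Y d ω) (V : Y.Opens)
    (hV : ∀ y : Y, y ∉ V → (2 : WithBot ℕ∞) ≤ ringKrullDim (((Y ↘ Spec (CommRingCat.of A)).fiber
      ((Y ↘ Spec (CommRingCat.of A)) y)).presheaf.stalk ((Y ↘ Spec (CommRingCat.of A)).asFiber y))) :
    IsIso ((Scheme.Modules.restrictAdjunction V.ι).unit.app ω) := by
  let f := Y ↘ Spec (CommRingCat.of A)
  haveI : IsLocallyNoetherian Y := LocallyOfFiniteType.isLocallyNoetherian f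
  haveI : CompactSpace Y := QuasiCompact.compactSpace_of_compactSpace f
  haveI : IsNoetherian Y := {}
  have hωc : Coh.IsCoh ω := (isCoh_and_nontrivial d hd ω hω).1
  haveI : Coh.IsQCoh ω := hωc.1
  let D := (Scheme.Modules.pushforward V.ι).obj ((Scheme.Modules.restrictFunctor V.ι).obj ω)
  haveI hDq : Coh.IsQCoh D :=
    haveI : Coh.IsQCoh ((Scheme.Modules.restrictFunctor V.ι).obj ω) := Scheme.Modules.isQuasicoherent_restrictFunctor _ ω
    Groth.L16.QcqsPush.isQCoh_push _ V.ι
  let η : ω ⟶ D := (Scheme.Modules.restrictAdjunction V.ι).unit.app ω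
  have hgood : ∀ x : Y, x ∈ V → Function.Bijective (stk η x) := fun x hx => by
    have h1 : (Scheme.Modules.restrictFunctor V.ι).map η ≫
        (Scheme.Modules.restrictAdjunction V.ι).counit.app _ = 𝟙 _ :=
      (Scheme.Modules.restrictAdjunction V.ι).left_triangle_components ω
    haveI : IsIso ((Scheme.Modules.restrictAdjunction V.ι).counit.app ((Scheme.Modules.restrictFunctor V.ι).obj ω)) :=
      inferInstance
    haveI : IsIso ((Scheme.Modules.restrictFunctor V.ι).map η) := IsIso.of_isIso_fac_right h1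
    haveI : IsIso ((Groth.L21.Mod.stalkF Y (V.ι ⟨x, hx⟩)).map η) :=
      (NatIso.isIso_map_iff (Groth.L21.Mod.restrictStalkF V.ι ⟨x, hx⟩) η).1
        (inferInstanceAs (IsIso ((Groth.L21.Mod.stalkF _ _).map ((Scheme.Modules.restrictFunctor V.ι).map η))))
    exact (ConcreteCategory.bijective_of_isIso _ :
      Function.Bijective ((Groth.L21.Mod.stalkF Y (V.ι ⟨x, hx⟩)).map η))
  have hnt : ∀ x : Y, x ∉ V → NoTors (Y.presheaf.stalk x) (ω.presheaf.stalk x) := fun x hx =>
    noTors_dualizing hd ω hω x (le_trans (by norm_num) (hV x hx))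
  haveI hmono : Mono η := mono_of_noTors η fun x => (em (x ∈ V)).imp (fun hx => (hgood x hx).1) (hnt x)
  let S : Set Y := (V : Set Y)ᶜ
  have hSc : IsClosed S := V.2.isClosed_compl
  have hfd : ∀ t, topologicalKrullDim ↥(f.fiber t) ≤ (d : WithBot ℕ∞) := fun t =>
    Groth.L10.TopDual.dim_le_of_components d fun Z hZ => (hd t Z hZ).le
  haveI hepi : Epi η := by
    refine (Groth.L21.Mod.epi_iff_stalk_surjective η).2 fun x => ?_
    by_cases hx : x ∈ V
    · exact (hgood x hx).2
    obtain ⟨e, rfl⟩ : ∃ e, d = e + 2 := by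
      refine ⟨d - 2, ?_⟩
      have h0 := (hV x hx).trans ((ringKrullDim_stalk_eq_coheight _).trans_le
        (le_trans ?_ (Groth.L10.FMK.krullDim_points.symm.trans_le (hfd (f x)))))
      · have h2 : 2 ≤ d := by exact_mod_cast h0
        omega
      · exact Order.coheight_le_krullDim _
    have hdS : ∀ t, topologicalKrullDim ↥(f ⁻¹' {t} ∩ S) ≤ (e : WithBot ℕ∞) := by
      intro t
      have h1 := dim_le_of_coheight (Z := f.fiber t) (T := f.fiberι t ⁻¹' S) (c := 2)
        (hSc.preimage (f.fiberι t).continuous) (hfd t) fun z hz => by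
          have key : ∀ (t' : Spec (CommRingCat.of A)) (_ : f (f.fiberι t z) = t') (z' : f.fiber t'),
              f.fiberι t' z' = f.fiberι t z → (2 : WithBot ℕ∞) ≤ ringKrullDim ↑((f.fiber t').presheaf.stalk z') := by
            intro t' he z' hz'
            subst he
            obtain rfl : z' = f.asFiber (f.fiberι t z) :=
              (f.fiberι _).isEmbedding.injective (hz'.trans (Scheme.Hom.fiberι_asFiber f _).symm)
            exact hV _ hz
          exact key t ((f.range_fiberι t).le ⟨z, rfl⟩) z rfl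
      refine le_trans ?_ (le_of_le_of_eq h1 (by simp))
      refine Topology.IsInducing.topologicalKrullDim_le
        (f := fun w : ↥(f ⁻¹' {t} ∩ S) => (⟨(f.fiberHomeo t).symm ⟨w.1, w.2.1⟩, by
          show f.fiberι t ((f.fiberHomeo t).symm ⟨w.1, w.2.1⟩) ∈ S
          rw [Scheme.Hom.fiberι_fiberHomeo_symm]; exact w.2.2⟩ : ↥(f.fiberι t ⁻¹' S))) ?_
      exact Topology.IsInducing.codRestrict ((f.fiberHomeo t).symm.isInducing.comp
        (Topology.IsInducing.subtypeVal.codRestrict fun w => w.2.1)) _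
    intro v
    obtain ⟨W₀, hxW₀, s₀, rfl⟩ := TopCat.Presheaf.exists_germ_eq (F := D.presheaf) (x := x) v
    obtain ⟨W, hW, hxW, hle⟩ := exists_isAffineOpen_mem_and_subset hxW₀
    have hle' : W ≤ W₀ := hle
    obtain ⟨E, i, -, hEc, ⟨m, hm⟩⟩ := Groth.L17.CohUnion.exists_coh_submodule D hW
      (D.presheaf.map (homOfLE hle').op s₀)
    let ψ : ω ⊞ E ⟶ D := biprod.desc η i
    have hsum : Coh.IsCoh (ω ⊞ E) := Groth.L16.Devissage.isCoh_biprod hωc hEc
    let F' := Abelian.image ψ
    have hF' : Coh.IsCoh F' := Groth.L16.CohSupport.isCoh_image hsum ψ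
    haveI : Coh.IsQCoh F' := hF'.1
    let φ : ω ⟶ F' := biprod.inl ≫ Abelian.factorThruImage ψ
    have hφι : φ ≫ Abelian.image.ι ψ = η := by
      simp [φ, ψ, Category.assoc, biprod.inl_desc]
    haveI : Mono (φ ≫ Abelian.image.ι ψ) := hφι ▸ hmono
    haveI : Mono φ := mono_of_mono φ (Abelian.image.ι ψ)
    have hφgood : ∀ z ∈ V, Function.Surjective (stk φ z) := fun z hz w => by
      obtain ⟨u, hu⟩ := (hgood z hz).2 (stk (Abelian.image.ι ψ) z w)
      refine ⟨u, ((ModuleCat.mono_iff_injective ((Groth.L00.Stk.F Y z).map (Abelian.image.ι ψ))).1 inferInstance) ?_⟩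
      refine Eq.trans ?_ hu
      show ((Groth.L00.Stk.F Y z).map φ ≫ (Groth.L00.Stk.F Y z).map (Abelian.image.ι ψ)) u = _
      rw [← Functor.map_comp, hφι]
      rfl
    have hC : Coh.IsCoh (cokernel φ) := by
      haveI := (Groth.L00.AlgQCoh.isQCoh_kernel_cokernel φ hωc.1 hF'.1).2
      exact ⟨inferInstance, Groth.L14.Quot.isFT_of_epi (cokernel.π φ) hF'.2⟩
    have hCS : CohB1.support (cokernel φ) ⊆ S := fun z hz hzV => by
      haveI : Epi ((Groth.L00.Stk.F Y z).map φ) := (ModuleCat.epi_iff_surjective _).2 (hφgood z hzV)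
      exact hz (ModuleCat.subsingleton_of_isZero
        ((isZero_cokernel_of_epi ((Groth.L00.Stk.F Y z).map φ)).of_iso (PreservesCokernel.iso _ φ)))
    let Sq := ShortComplex.mk φ (cokernel.π φ) (cokernel.condition φ)
    have hSq : Sq.ShortExact :=
      { exact := ShortComplex.exact_of_g_is_cokernel _ (cokernelIsCokernel φ)
        mono_f := inferInstanceAs (Mono φ)
        epi_g := inferInstanceAs (Epi (cokernel.π φ)) }
    haveI hC1 : Subsingleton (Coh.HH Y Sq.X₃ (e + 1)) := subsingleton_HH_supp f _ hC S hSc hCS hdS (by omega)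
    haveI hC2 : Subsingleton (Coh.HH Y Sq.X₃ (e + 2)) := subsingleton_HH_supp f _ hC S hSc hCS hdS (by omega)
    have hbij : Function.Bijective (Canon.HHlin A φ (e + 2)) := by
      refine ⟨(injective_iff_map_eq_zero _).2 fun z hz => ?_, fun z => ?_⟩
      · obtain ⟨w, rfl⟩ := (exact_delta_hmap hSq (e + 1) z).1 hz
        rw [Subsingleton.elim w 0, map_zero]
      · obtain ⟨w, hw⟩ := (exact_hmap_hmap hSq (e + 2) z).1 (Subsingleton.elim _ _)
        exact ⟨w, hw⟩
    obtain ⟨t, -, ht⟩ := (isDualizingSheaf_iff ω).1 hω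
    let E' := LinearEquiv.ofBijective _ hbij
    obtain ⟨r, hr, -⟩ := ht F' hF'.1 (t ∘ₗ E'.symm.toLinearMap)
    have h1 : φ ≫ r = 𝟙 ω := (ht ω hωc.1 t).unique (fun z => by
        rw [hmap_comp, ← hr]
        exact congrArg t (E'.symm_apply_apply z).symm) fun z => by rw [hmap_id]
    have hdiff : r ≫ φ ≫ Abelian.image.ι ψ = Abelian.image.ι ψ := by
      refine sub_eq_zero.1 (hom_eq_zero_of_noTors _ fun z => (em (z ∈ V)).imp (fun hz => ?_)
        fun hz => noTors_push_open V _ z hz)
      haveI : Epi ((Groth.L00.Stk.F Y z).map φ) := (ModuleCat.epi_iff_surjective _).2 (hφgood z hz)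
      rw [← cancel_epi ((Groth.L00.Stk.F Y z).map φ), ← Functor.map_comp, Preadditive.comp_sub, reassoc_of% h1,
        sub_self, Functor.map_zero, comp_zero]
    have hfac : i = (biprod.inr ≫ Abelian.factorThruImage ψ ≫ r) ≫ η := by
      rw [← hφι, Category.assoc, Category.assoc, hdiff, Abelian.image.fac]
      simp [ψ]
    refine ⟨ω.presheaf.germ W x hxW ((biprod.inr ≫ Abelian.factorThruImage ψ ≫ r).app W m), ?_⟩
    refine (Groth.L21.Mod.stalkF_map_germ η W x hxW _).trans ?_
    show D.presheaf.germ W x hxW (η.app W ((biprod.inr ≫ Abelian.factorThruImage ψ ≫ r).app W m)) = _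
    rw [← TopCat.Presheaf.germ_res_apply D.presheaf (homOfLE hle') x hxW s₀, ← hm]
    exact congrArg (D.presheaf.germ W x hxW) (congr(($hfac).app W m)).symm
  exact isIso_of_mono_of_epi η

end Groth.L10.RelCan
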