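import Groth.Agent.L10.RelCan.SkPullFlat
import Groth.Agent.L19.FlatTensor
import Groth.Agent.L07.FlatFamilyApps
import Groth.Agent.L29.Dual.SchStalk

/-!
Relative Serre conditions are stable under base change.
-/

set_option autoImplicit false
set_option linter.style.haveILetI false
set_option backward.defeqAttrib.useBackward true
set_option backward.isDefEq.respectTransparency false
set_option backward.isDefEq.respectTransparency.types false
universe u

open CategoryTheory CategoryTheory.Limits AlgebraicGeometry TopologicalSpace IsLocalRing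

noncomputable section

namespace Groth.L10.RelCan

theorem skAt_of_iso {Z : Scheme.{u}} {M N : Z.Modules} (e : M ≅ N) {k : ℕ} {z : Z} (h : RelCanon.SkAt k M z) :
    RelCanon.SkAt k N z :=
  Groth.L29.SchStalk.hasSk_congr ((Groth.L00.Stk.F Z z).mapIso e).toLinearEquiv h

theorem relSkAt_of_iso {Y T : Scheme.{u}} (f : Y ⟶ T) {M N : Y.Modules} (e : M ≅ N) {k : ℕ} {y : Y}
    (h : RelCanon.RelSkAt f k M y) : RelCanon.RelSkAt f k N y :=
  ⟨Groth.L07.FlatFamily.isFlatOverAt_of_iso f e y h.1, skAt_of_iso ((Scheme.Modules.pullback _).mapIso e) h.2⟩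

/-- relative Serre conditions are stable under base change -/
theorem relSkAt_baseChange {X Y X' Y' : Scheme.{u}} {f : X ⟶ Y} [LocallyOfFiniteType f] {g : Y' ⟶ Y} {f' : X' ⟶ Y'}
    {g' : X' ⟶ X} (hsq : IsPullback g' f' f g) (G : X.Modules) (hG : Coh.IsCoh G) (k : ℕ) (x' : X')
    (h : RelCanon.RelSkAt f k G (g' x')) :
    RelCanon.RelSkAt f' k ((Scheme.Modules.pullback g').obj G) x' := by
  haveI : LocallyOfFiniteType f' := MorphismProperty.of_isPullback hsq inferInstance
  refine ⟨Groth.L19.FlatTensor.isFlatOverAt_pullback hsq x' G h.1, ?_⟩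
  let y' := f' x'
  letI : Algebra (Y.residueField (g y')) (Y'.residueField y') := (g.residueFieldMap y').hom.toAlgebra
  haveI : LocallyOfFiniteType (f.fiberToSpecResidueField (g y')) :=
    MorphismProperty.pullback_snd f (Y.fromSpecResidueField (g y')) inferInstance
  haveI : LocallyOfFiniteType (f'.fiberToSpecResidueField y') :=
    MorphismProperty.pullback_snd f' (Y'.fromSpecResidueField y') inferInstance
  haveI := LocallyOfFiniteType.isLocallyNoetherian (f.fiberToSpecResidueField (g y'))
  haveI := LocallyOfFiniteType.isLocallyNoetherian (f'.fiberToSpecResidueField y')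
  have sq := isPullback_fiberToSpecResidueField_of_isPullback hsq y'
  let m : f'.fiber y' ⟶ f.fiber (g y') := pullback.map f' (Y'.fromSpecResidueField y') f
    (Y.fromSpecResidueField (g y')) g' (Spec.map (g.residueFieldMap y')) g hsq.w.symm (by simp)
  have hmc : m ≫ f.fiberι (g y') = f'.fiberι y' ≫ g' := pullback.lift_fst _ _ _
  have hm : f.fiberι (g y') (m (f'.asFiber x')) = g' x' :=
    ((congrArg (fun t : f'.fiber y' ⟶ X => t (f'.asFiber x')) hmc).trans
      (congrArg g' (f'.fiberι_asFiber x')))
  have key : ∀ (t : Y) (_ : f (g' x') = t) (v : f.fiber t), f.fiberι t v = g' x' →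
      RelCanon.SkAt k ((Scheme.Modules.pullback (f.fiberι t)).obj G) v := by
    intro t ht v hv
    subst ht
    obtain rfl : v = f.asFiber (g' x') :=
      (f.fiberι _).isEmbedding.injective (hv.trans (Scheme.Hom.fiberι_asFiber f _).symm)
    exact h.2
  have ht : f (g' x') = g y' := congrArg (fun t : X' ⟶ Y => t x') hsq.w
  refine skAt_of_iso ((Scheme.Modules.pullbackComp m (f.fiberι (g y'))).app G ≪≫
    (Scheme.Modules.pullbackCongr hmc).app G ≪≫ ((Scheme.Modules.pullbackComp (f'.fiberι y') g').app G).symm) ?_
  exact SkPull.skAt_pullback m (fun z' => SkPull.isCMAt_fieldExt (k := Y.residueField (g y'))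
    (k' := Y'.residueField y') (f.fiberToSpecResidueField (g y')) sq z')
    _ (Groth.L16.AffineBC.isCoh_pullback _ hG) k (f'.asFiber x') (key _ ht _ hm)

end Groth.L10.RelCan
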