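import Groth.Agent.L10.RelCan.DDualBC
import Groth.Agent.L10.RelCan.RelSkBC
import Groth.Agent.L21.GorensteinBaseChange

/-!
The Gorenstein-in-codimension-one S₂ setting and ℚ-Gorenstein conditions under base change.
-/

set_option autoImplicit false
set_option linter.style.haveILetI false
set_option linter.unusedSectionVars false
set_option backward.defeqAttrib.useBackward true
set_option backward.isDefEq.respectTransparency false
set_option backward.isDefEq.respectTransparency.types false
universe u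

open CategoryTheory CategoryTheory.Limits AlgebraicGeometry TopologicalSpace IsLocalRing

noncomputable section

namespace Groth.L10.RelCan

/-- Gorenstein in codimension one on the fibres -/
abbrev GorCodim {Y T : Scheme.{u}} (f : Y ⟶ T) : Prop :=
  ∀ y : Y, y ∉ RelCanon.gorLocus f → (2 : WithBot ℕ∞) ≤ ringKrullDim ((f.fiber (f y)).presheaf.stalk (f.asFiber y))

section Square

variable {X Y X' Y' : Scheme.{u}} {f : X ⟶ Y} [LocallyOfFiniteType f] {g : Y' ⟶ Y} {f' : X' ⟶ Y'} {g' : X' ⟶ X}

theorem isSkMor_baseChange [IsLocallyNoetherian X] (hsq : IsPullback g' f' f g) {k : ℕ} (hS : RelCanon.IsSkMor f k) :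
    RelCanon.IsSkMor f' k := by
  haveI := hS.1
  refine ⟨MorphismProperty.of_isPullback hsq hS.1, MorphismProperty.of_isPullback hsq hS.2.1, fun x' => ?_⟩
  have h := relSkAt_baseChange hsq (Coh.structureModule X) Groth.L16.CohClosedPush.isCoh_structure k x'
    (relSkAt_of_isInvertible f k hS (fun y => ⟨⊤, trivial, ⟨Scheme.Modules.restrictUnitIso _⟩⟩) _)
  exact skAt_of_iso ((Scheme.Modules.pullback _).mapIso (Groth.L29.LocFree.pullbackUnitIso g') ≪≫
    Groth.L29.LocFree.pullbackUnitIso _) h.2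

theorem gorCodim_baseChange [Flat f] (hsq : IsPullback g' f' f g) (hG : GorCodim f) : GorCodim f' := by
  intro x' hx'
  haveI : LocallyOfFiniteType f' := MorphismProperty.of_isPullback hsq inferInstance
  let y' := f' x'
  letI : Algebra (Y.residueField (g y')) (Y'.residueField y') := (g.residueFieldMap y').hom.toAlgebra
  haveI : LocallyOfFiniteType (f.fiberToSpecResidueField (g y')) :=
    MorphismProperty.pullback_snd f (Y.fromSpecResidueField (g y')) inferInstance
  haveI : LocallyOfFiniteType (f'.fiberToSpecResidueField y') :=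
    MorphismProperty.pullback_snd f' (Y'.fromSpecResidueField y') inferInstance
  haveI := LocallyOfFiniteType.isLocallyNoetherian (f.fiberToSpecResidueField (g y'))
  haveI := LocallyOfFiniteType.isLocallyNoetherian (f'.fiberToSpecResidueField y')
  have sq := isPullback_fiberToSpecResidueField_of_isPullback hsq y'
  let m : f'.fiber y' ⟶ f.fiber (g y') := pullback.map f' (Y'.fromSpecResidueField y') f
    (Y.fromSpecResidueField (g y')) g' (Spec.map (g.residueFieldMap y')) g hsq.w.symm (by simp)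
  have hmc : m ≫ f.fiberι (g y') = f'.fiberι y' ≫ g' := pullback.lift_fst _ _ _
  have hm : f.fiberι (g y') (m (f'.asFiber x')) = g' x' :=
    ((congrArg (fun t : f'.fiber y' ⟶ X => t (f'.asFiber x')) hmc).trans
      (congrArg g' (f'.fiberι_asFiber x')))
  have hnot : g' x' ∉ RelCanon.gorLocus f := fun h =>
    hx' ((Groth.L21.GorensteinBaseChange.isGorensteinAt_baseChange f g f' g' hsq x').2 h)
  have key : ∀ (t : Y) (_ : f (g' x') = t) (v : f.fiber t), f.fiberι t v = g' x' →
      (2 : WithBot ℕ∞) ≤ ringKrullDim ((f.fiber t).presheaf.stalk v) := by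
    intro t ht v hv
    subst ht
    obtain rfl : v = f.asFiber (g' x') :=
      (f.fiberι _).isEmbedding.injective (hv.trans (Scheme.Hom.fiberι_asFiber f _).symm)
    exact hG _ hnot
  refine (key _ (congrArg (fun t : X' ⟶ Y => t x') hsq.w) _ hm).trans ?_
  let A' := (f.fiber (g y')).presheaf.stalk (m (f'.asFiber x'))
  let B' := (f'.fiber y').presheaf.stalk (f'.asFiber x')
  have hcm := SkPull.isCMAt_fieldExt (k := Y.residueField (g y')) (k' := Y'.residueField y')
    (f.fiberToSpecResidueField (g y')) sq (f'.asFiber x')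
  letI : Algebra A' B' := (m.stalkMap (f'.asFiber x')).hom.toAlgebra
  haveI : IsLocalHom (algebraMap A' B') := inferInstanceAs (IsLocalHom (m.stalkMap (f'.asFiber x')).hom)
  haveI : Module.Flat A' B' := hcm.1
  rw [show ringKrullDim B' = ringKrullDim A' + ringKrullDim (EGA4.FibRing A' B') from
    Groth.L06.FlatFibre.ringKrullDim_eq A' B']
  haveI := ((L02.CMMor.cm_fibre_iff m (f'.asFiber x')).2 hcm.2)
  exact le_add_of_nonneg_right ringKrullDim_nonneg_of_nontrivial

end Square

variable {A : Type u} [CommRing A] [IsNoetherianRing A] {Y : Scheme.{u}} [Y.Over (Spec (CommRingCat.of A))]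
  [IsProper (Y ↘ Spec (CommRingCat.of A))] {d : ℕ}

variable (hS : RelCanon.IsSkMor (Y ↘ Spec (CommRingCat.of A)) 2)
  (hd : Cyc.HasRelDim (Y ↘ Spec (CommRingCat.of A)) d) (ω : Y.Modules)
  (hω : RelCanon.IsDualizingSheaf A Y d ω)
  (hG : GorCodim (Y ↘ Spec (CommRingCat.of A)))
  {B : Type u} [CommRing B] [IsNoetherianRing B] [Algebra A B] {Y' : Scheme.{u}}
  [Y'.Over (Spec (CommRingCat.of B))] {p : Y' ⟶ Y}
  (hp : IsPullback p (Y' ↘ Spec (CommRingCat.of B)) (Y ↘ Spec (CommRingCat.of A))
    (Spec.map (CommRingCat.ofHom (algebraMap A B))))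
  (ω' : Y'.Modules) (hω' : RelCanon.IsDualizingSheaf B Y' d ω')

include hS hd hω hG hp hω' in
theorem invertibleAt_refPowZ_pullback (m : ℤ) (x' : Y')
    (h : RelCanon.InvertibleAt (RelCanon.refPowZ ω m) (p x')) : RelCanon.InvertibleAt (RelCanon.refPowZ ω' m) x' := by
  obtain ⟨V, hxV, ⟨e⟩⟩ := h
  obtain ⟨⟨E⟩, -⟩ := nonempty_pullback_refPowZ hS hd ω hω hG hp ω' hω' m
  obtain ⟨e₀⟩ := nonempty_ddual_invertible (M := Coh.structureModule ((p ⁻¹ᵁ V : Y'.Opens) : Scheme.{u}))
    fun y => ⟨⊤, trivial, ⟨Scheme.Modules.restrictUnitIso _⟩⟩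
  exact ⟨p ⁻¹ᵁ V, hxV, ⟨(Scheme.Modules.restrictFunctor _).mapIso E.symm ≪≫ (ddualRestrict _ _).symm ≪≫
    RefFun.ddualIso (restrictPull p V _ ≪≫ (Scheme.Modules.pullback _).mapIso e ≪≫
      Groth.L29.LocFree.pullbackUnitIso _) ≪≫ e₀⟩⟩

include hS hd hω hG hp hω' in
theorem isQGorWith_pullback (h : RelCanon.IsQGorWith ω) : RelCanon.IsQGorWith ω' := fun x' => by
  obtain ⟨r, hr, hi⟩ := h (p x')
  exact ⟨r, hr, invertibleAt_refPowZ_pullback hS hd ω hω hG hp ω' hω' _ x' hi⟩

include hS hd hω hG hp hω' in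
theorem isQGorMorWith_pullback (h : RelCanon.IsQGorMorWith (Y ↘ Spec (CommRingCat.of A)) ω) :
    RelCanon.IsQGorMorWith (Y' ↘ Spec (CommRingCat.of B)) ω' := fun m x' => by
  haveI := hS.1
  haveI : IsLocallyNoetherian Y := LocallyOfFiniteType.isLocallyNoetherian (Y ↘ Spec (CommRingCat.of A))
  obtain ⟨e⟩ := (nonempty_pullback_refPowZ hS hd ω hω hG hp ω' hω' m).2 (h m)
  exact relSkAt_of_iso _ e (relSkAt_baseChange hp _ (isCoh_refPowZ (isCoh_and_nontrivial d hd ω hω).1 m) 2 x' (h m _))

set_option maxHeartbeats 1600000 in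
include hS hd hG hp in
/-- ℚ-Gorenstein fibres stay ℚ-Gorenstein after base change -/
theorem isQGorWith_fibres
    (h : ∀ (t : (Spec (CommRingCat.of A))) (ωt : ((Y ↘ Spec (CommRingCat.of A)).fiber t).Modules),
      @RelCanon.IsDualizingSheaf ((Spec (CommRingCat.of A)).residueField t) _ ((Y ↘ Spec (CommRingCat.of A)).fiber t)
        ⟨(Y ↘ Spec (CommRingCat.of A)).fiberToSpecResidueField t⟩ d ωt → RelCanon.IsQGorWith ωt)
    (t' : Spec (CommRingCat.of B)) (ωt' : ((Y' ↘ Spec (CommRingCat.of B)).fiber t').Modules)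
    (hωt' : @RelCanon.IsDualizingSheaf ((Spec (CommRingCat.of B)).residueField t') _ ((Y' ↘ Spec (CommRingCat.of B)).fiber t')
        ⟨(Y' ↘ Spec (CommRingCat.of B)).fiberToSpecResidueField t'⟩ d ωt') :
    RelCanon.IsQGorWith ωt' := by
  let f := Y ↘ Spec (CommRingCat.of A)
  let f' := Y' ↘ Spec (CommRingCat.of B)
  haveI := hS.1
  haveI : IsLocallyNoetherian Y := LocallyOfFiniteType.isLocallyNoetherian f
  let g := Spec.map (CommRingCat.ofHom (algebraMap A B))
  let t := g t'
  let k := (Spec (CommRingCat.of A)).residueField t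
  let k' := (Spec (CommRingCat.of B)).residueField t'
  letI : Algebra k k' := (g.residueFieldMap t').hom.toAlgebra
  letI : (f.fiber t).Over (Spec (CommRingCat.of k)) := ⟨f.fiberToSpecResidueField t⟩
  letI : (f'.fiber t').Over (Spec (CommRingCat.of k')) := ⟨f'.fiberToSpecResidueField t'⟩
  have hsqt : IsPullback (f.fiberι t) (f.fiberToSpecResidueField t) f ((Spec (CommRingCat.of A)).fromSpecResidueField t) :=
    IsPullback.of_hasPullback _ _
  haveI : IsProper ((f.fiber t) ↘ Spec (CommRingCat.of k)) :=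
    MorphismProperty.of_isPullback hsqt (inferInstanceAs (IsProper f))
  have hdt : Cyc.HasRelDim ((f.fiber t) ↘ Spec (CommRingCat.of k)) d := Groth.L22.Cyc.hasRelDim_baseChange hsqt hd
  haveI := isLeftAdjoint (A := k) (Y := f.fiber t) (d := d) hdt
  have h0 := isDualizingSheaf_ω₀ k (f.fiber t) d
  exact isQGorWith_pullback (A := k) (Y := f.fiber t) (B := k') (Y' := f'.fiber t')
    (isSkMor_baseChange hsqt hS) hdt _ h0 (gorCodim_baseChange hsqt hG)
    (isPullback_fiberToSpecResidueField_of_isPullback hp t') ωt' hωt' (h t _ h0)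

end Groth.L10.RelCan
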