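import Groth.Agent.L10.RelCan.Hartogs
import Groth.Agent.L10.RelCan.Torsion
import Groth.Agent.L19.SkLocal
import Groth.Agent.L06.SupportStalk
import Groth.Agent.L11.LenSpec.Fib
import Groth.Agent.L04.FibStalk
import Groth.Agent.L29.Dual.SchStalk

/-!
The comparison is invertible when the dualizing sheaf satisfies relative Serre condition two.
-/

set_option autoImplicit false
set_option linter.style.haveILetI false
set_option backward.defeqAttrib.useBackward true
set_option backward.isDefEq.respectTransparency false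
set_option backward.isDefEq.respectTransparency.types false
universe u

open CategoryTheory CategoryTheory.Limits AlgebraicGeometry TopologicalSpace IsLocalRing
open scoped TensorProduct Pointwise

noncomputable section

namespace Groth.L10.RelCan

open Groth.L10.TopDual.Rep (cohFunctor)
open Groth.L29 Groth.L29.DC Groth.L10.ShriekLoc
open EW (one el)

/-- the depth clause of a Serre condition at the closed point, for a module with full support -/
theorem two_le_depth {R M : Type u} [CommRing R] [IsLocalRing R] [IsNoetherianRing R] [AddCommGroup M] [Module R M]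
    [Module.Finite R M] (h : LocCoh.HasSk 2 R M) (hsupp : Module.support R M = Set.univ)
    (hdim : (2 : WithBot ℕ∞) ≤ ringKrullDim R) : 2 ≤ LocCoh.depth R M := by
  let Rm := Localization.AtPrime (maximalIdeal R)
  let Mm := LocalizedModule (maximalIdeal R).primeCompl M
  have hd : LocCoh.depth Rm Mm = LocCoh.depth R M := by
    have h1 : LocCoh.idealDepth (maximalIdeal R) M = _ := Groth.L04.idealDepth_eq_iInf_depth (maximalIdeal R)
    rw [show LocCoh.depth R M = LocCoh.idealDepth (maximalIdeal R) M from rfl, h1]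
    refine le_antisymm (le_iInf₂ fun p hp => ?_) (iInf₂_le (⟨maximalIdeal R, inferInstance⟩ : PrimeSpectrum R) le_rfl)
    obtain rfl : p = ⟨maximalIdeal R, inferInstance⟩ :=
      PrimeSpectrum.ext ((maximalIdeal.isMaximal R).eq_of_le p.isPrime.ne_top hp).symm
    exact le_rfl
  have hall : Module.support Rm Mm = Set.univ := Set.eq_univ_of_forall fun P => by
    obtain ⟨E, -⟩ := Groth.L04.FibStalk.exists_semi_localized (maximalIdeal R) M P.asIdeal
    rw [Module.mem_support_iff]
    haveI : Nontrivial (LocalizedModule (P.asIdeal.comap (algebraMap R Rm)).primeCompl M) :=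
      Module.mem_support_iff.1 (hsupp ▸ Set.mem_univ (⟨P.asIdeal.comap (algebraMap R Rm), inferInstance⟩ : PrimeSpectrum R))
    exact E.e.toEquiv.symm.nontrivial
  have hs : (2 : WithBot ℕ∞) ≤ Module.supportDim Rm Mm := by
    refine hdim.trans (le_of_eq ?_)
    rw [← IsLocalRing.maximalIdeal_height_eq_ringKrullDim,
      ← IsLocalization.AtPrime.ringKrullDim_eq_height (maximalIdeal R) Rm, Module.supportDim, hall]
    exact (Order.krullDim_eq_of_orderIso (OrderIso.Set.univ (α := PrimeSpectrum Rm))).symm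
  have h2 := h (maximalIdeal R)
  rw [min_eq_left (show ((2 : ℕ) : WithBot ℕ∞) ≤ Module.supportDim Rm Mm from hs), hd] at h2
  exact WithBot.coe_le_coe.1 h2

set_option maxHeartbeats 1600000 in
/-- two elements regular on the closed fibre of a module of fibre depth two -/
theorem exists_regular_pair {X S : Scheme.{u}} (f : X ⟶ S) (F : X.Modules) (x : X)
    (hfin : ∀ v : f.fiber (f x), Module.Finite ((f.fiber (f x)).presheaf.stalk v)
      (((Scheme.Modules.pullback (f.fiberι (f x))).obj F).presheaf.stalk v))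
    [IsLocallyNoetherian (f.fiber (f x))]
    (hnt : Nontrivial (((Scheme.Modules.pullback (f.fiberι (f x))).obj F).presheaf.stalk (f.asFiber x)))
    (hdepth : 2 ≤ LocCoh.depth ((f.fiber (f x)).presheaf.stalk (f.asFiber x))
      (((Scheme.Modules.pullback (f.fiberι (f x))).obj F).presheaf.stalk (f.asFiber x))) :
    letI : Algebra (S.presheaf.stalk (f x)) (X.presheaf.stalk x) := (f.stalkMap x).hom.toAlgebra
    letI : Module (S.presheaf.stalk (f x)) ((Groth.L00.Stk.F X x).obj F) := Module.compHom _ (f.stalkMap x).hom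
    haveI : IsScalarTower (S.presheaf.stalk (f x)) (X.presheaf.stalk x) ((Groth.L00.Stk.F X x).obj F) :=
      IsScalarTower.of_algebraMap_smul fun _ _ => rfl
    ∃ b c : X.presheaf.stalk x, b ∈ maximalIdeal (X.presheaf.stalk x) ∧ c ∈ maximalIdeal (X.presheaf.stalk x) ∧
      IsSMulRegular ((Groth.L00.Stk.F X x).obj F ⊗[S.presheaf.stalk (f x)]
        (S.presheaf.stalk (f x) ⧸ maximalIdeal (S.presheaf.stalk (f x)))) b ∧
      IsSMulRegular (QuotSMulTop b ((Groth.L00.Stk.F X x).obj F ⊗[S.presheaf.stalk (f x)]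
        (S.presheaf.stalk (f x) ⧸ maximalIdeal (S.presheaf.stalk (f x))))) c := by
  suffices key : ∀ (s : S) (v : f.fiber s), f.fiberι s v = x →
      Nontrivial (((Scheme.Modules.pullback (f.fiberι s)).obj F).presheaf.stalk v) →
      Module.Finite ((f.fiber s).presheaf.stalk v) (((Scheme.Modules.pullback (f.fiberι s)).obj F).presheaf.stalk v) →
      IsNoetherianRing ((f.fiber s).presheaf.stalk v) →
      2 ≤ LocCoh.depth ((f.fiber s).presheaf.stalk v) (((Scheme.Modules.pullback (f.fiberι s)).obj F).presheaf.stalk v) →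
      _ from key (f x) (f.asFiber x) (Scheme.Hom.fiberι_asFiber f x) hnt (hfin _) inferInstance hdepth
  intro s v hvx hnt' hfin' hN hd'
  subst hvx
  haveI := hnt'
  haveI := hfin'
  haveI := hN
  obtain ⟨b', hb', c', hc', hbreg, hcreg⟩ := Hartogs.exists_pair hd'
  let x := f.fiberι s v
  let A' := S.presheaf.stalk (f x)
  let Ox := X.presheaf.stalk x
  let Ov := (f.fiber s).presheaf.stalk v
  let Fv := ((Scheme.Modules.pullback (f.fiberι s)).obj F).presheaf.stalk v
  let Fx := (Groth.L00.Stk.F X x).obj F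
  letI : Algebra A' Ox := (f.stalkMap x).hom.toAlgebra
  letI : Module A' Fx := Module.compHom _ (f.stalkMap x).hom
  haveI : IsScalarTower A' Ox Fx := IsScalarTower.of_algebraMap_smul fun _ _ => rfl
  letI : Algebra Ox Ov := ((f.fiberι s).stalkMap v).hom.toAlgebra
  letI : Module Ox Fv := Module.compHom Fv (algebraMap Ox Ov)
  haveI : IsScalarTower Ox Ov Fv := IsScalarTower.of_algebraMap_smul fun _ _ => rfl
  obtain ⟨hsurj, hker⟩ := Groth.L18.stalkMap_fiberι f s v
  have hker' : RingHom.ker (Algebra.ofId Ox Ov) = (maximalIdeal A').map (algebraMap A' Ox) := hker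
  let e₁ : (Ox ⧸ (maximalIdeal A').map (algebraMap A' Ox)) ≃ₐ[Ox] Ov :=
    (Ideal.quotientEquivAlgOfEq Ox hker'.symm).trans
      (Ideal.quotientKerAlgEquivOfSurjective (f := Algebra.ofId Ox Ov) hsurj)
  let e₀ : Fv ≃ₗ[Ov] Ov ⊗[Ox] Fx :=
    ((Groth.L00.PullStalk.stalkIso (f.fiberι s) v).app F).toLinearEquiv
  obtain ⟨e₂⟩ := Groth.L04.FibFlat.nonempty_tensor_quotient_equiv (A := A') (B := Ox) Fx (maximalIdeal A')
  let E : (Fx ⊗[A'] (A' ⧸ maximalIdeal A')) ≃ₗ[Ox] Fv :=
    e₂.symm.trans (((e₀.restrictScalars Ox).trans ((TensorProduct.congr e₁.toLinearEquiv.symm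
      (LinearEquiv.refl Ox Fx)).trans (TensorProduct.quotTensorEquivQuotSMul Fx _))).symm)
  obtain ⟨b, rfl⟩ := hsurj b'
  obtain ⟨c, rfl⟩ := hsurj c'
  refine ⟨b, c, fun hu => (IsLocalRing.mem_maximalIdeal _).1 hb' (hu.map _),
    fun hu => (IsLocalRing.mem_maximalIdeal _).1 hc' (hu.map _), ?_, ?_⟩
  · intro y z h
    refine E.injective (hbreg ?_)
    have := congrArg E h
    simp only [map_smul] at this
    exact this
  · refine (isSMulRegular_quotient_iff_mem_of_smul_mem _ _).2 fun y hy => ?_
    obtain ⟨z, -, hz⟩ := (Submodule.mem_smul_pointwise_iff_exists _ _ _).1 hy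
    have h1 : algebraMap Ox Ov c • E y ∈ algebraMap Ox Ov b • (⊤ : Submodule Ov Fv) :=
      (Submodule.mem_smul_pointwise_iff_exists _ _ _).2 ⟨E z, trivial, by
        rw [algebraMap_smul, algebraMap_smul, ← map_smul, ← map_smul, hz]⟩
    obtain ⟨w, -, hw⟩ := (Submodule.mem_smul_pointwise_iff_exists _ _ _).1
      ((isSMulRegular_quotient_iff_mem_of_smul_mem _ _).1 hcreg _ h1)
    refine (Submodule.mem_smul_pointwise_iff_exists _ _ _).2 ⟨E.symm w, trivial, E.injective ?_⟩
    rw [map_smul, E.apply_symm_apply, ← hw]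
    rfl

variable {A : Type u} [CommRing A] [IsNoetherianRing A] {X : Scheme.{u}} [X.Over (Spec (CommRingCat.of A))]
  [IsProper (X ↘ Spec (CommRingCat.of A))] [Flat (X ↘ Spec (CommRingCat.of A))] (d : ℕ)

set_option maxHeartbeats 1600000 in
/-- the dualizing sheaf of a flat proper morphism is coherent, and not zero at Cohen–Macaulay points -/
theorem isCoh_and_nontrivial (hd : Cyc.HasRelDim (X ↘ Spec (CommRingCat.of A)) d) (ω : X.Modules)
    (hω : RelCanon.IsDualizingSheaf A X d ω) :
    Coh.IsCoh ω ∧ ∀ x : X, MoreMor.IsCMAt (X ↘ Spec (CommRingCat.of A)) x → Nontrivial (ω.presheaf.stalk x) := by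
  let f := X ↘ Spec (CommRingCat.of A)
  haveI := fun {P Q : Scheme.{u}} (k : P ⟶ Q) => Groth.L00.KFlat.hasLpull k
  haveI := fun (R : CommRingCat.{u}) => Groth.L18.TildeF.tilde_preservesFiniteLimits (R := R)
  haveI : ∀ (U V : Scheme.{u}) (j : U ⟶ V) [IsOpenImmersion j],
      PreservesFiniteLimits (Scheme.Modules.restrictFunctor j) := fun U V j _ => inferInstance
  haveI : IsLocallyNoetherian X := LocallyOfFiniteType.isLocallyNoetherian f
  obtain ⟨c, hR, hc, a, adj, O, hO, hiff⟩ := exists_model (Y := X) d hd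
  haveI := hR
  obtain ⟨e₀⟩ := (hiff ω).1 hω
  refine ⟨Groth.L16.CohSupport.isCoh_of_iso e₀.symm (isCoh_omega c adj O hO _), fun x hx => ?_⟩
  obtain ⟨d', C, ⟨z, rfl⟩, hC⟩ := exists_chart_single c adj O hO x hx
  obtain ⟨hfd, -, hnt, -⟩ := hC z
  have hle := localFibreDim_le_of_components hd (C.jU z)
  have hge := le_localFibreDim hd (C.jU z)
  rw [hfd] at hle hge
  obtain rfl : d = d' := le_antisymm (by exact_mod_cast hge) (by exact_mod_cast hle)
  haveI : Nontrivial ((Groth.L00.Stk.F X (C.jU z)).obj _) := hnt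
  exact ((Groth.L00.Stk.F X (C.jU z)).mapIso e₀).toLinearEquiv.toEquiv.nontrivial

variable [(cohFunctor (X := X) A d).IsLeftAdjoint]

set_option maxHeartbeats 1600000 in
/-- the inductive step: a point where the fibre has dimension at least two -/
theorem epi_stalk_cmp_step (hd : Cyc.HasRelDim (X ↘ Spec (CommRingCat.of A)) d)
    (hdual : RelCanon.IsDualizingSheaf A X d (ω₀ A X d))
    (x : X) (h2 : RelCanon.RelSkAt (X ↘ Spec (CommRingCat.of A)) 2 (ω₀ A X d) x)
    (hdim : (2 : WithBot ℕ∞) ≤ ringKrullDim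
      (((X ↘ Spec (CommRingCat.of A)).fiber ((X ↘ Spec (CommRingCat.of A)) x)).presheaf.stalk
        ((X ↘ Spec (CommRingCat.of A)).asFiber x)))
    (hgen : ∀ z : X, z ⤳ x → z ≠ x → ∀ M : ModuleCat.{u} A,
      Epi ((Groth.L00.Stk.F X z).map (cmp (X := X) (d := d) M)))
    (M : ModuleCat.{u} A) : Epi ((Groth.L00.Stk.F X x).map (cmp (X := X) (d := d) M)) := by
  let f := X ↘ Spec (CommRingCat.of A)
  haveI : IsLocallyNoetherian X := LocallyOfFiniteType.isLocallyNoetherian f
  obtain ⟨hcoh, hnt⟩ := isCoh_and_nontrivial d hd _ hdual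
  let ω := ω₀ A X d
  let t := f x
  let v := f.asFiber x
  have hvx : f.fiberι t v = x := Scheme.Hom.fiberι_asFiber f x
  let Z := f.fiber t
  haveI : LocallyOfFiniteType (f.fiberToSpecResidueField t) :=
    MorphismProperty.pullback_snd f ((Spec (CommRingCat.of A)).fromSpecResidueField t) inferInstance
  haveI : IsLocallyNoetherian Z := LocallyOfFiniteType.isLocallyNoetherian (f.fiberToSpecResidueField t)
  let ωt := (Scheme.Modules.pullback (f.fiberι t)).obj ω
  have hωt : Coh.IsCoh ωt := Groth.L16.AffineBC.isCoh_pullback _ hcoh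
  let Ov := Z.presheaf.stalk v
  let Fv := ωt.presheaf.stalk v
  haveI : Module.Finite Ov Fv := Groth.L06.SupportStalk.finite_stalk ωt hωt v
  -- every point of the fibre is in the support
  have hall : ∀ w : Z, w ∈ CohB1.support ωt := by
    intro w
    obtain ⟨P, hP⟩ : ∃ P : PrimeSpectrum (Z.presheaf.stalk w), IsMin P := by
      obtain ⟨p, hp⟩ := Ideal.nonempty_minimalPrimes (I := (⊥ : Ideal (Z.presheaf.stalk w))) bot_ne_top
      exact ⟨⟨p, hp.1.1⟩, fun q hq => hp.2 ⟨q.isPrime, bot_le⟩ hq⟩
    let g : Z := Z.fromSpecStalk w P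
    have hgw : g ⤳ w := Groth.L07.EquidimPoint.specializes_point w P
    have hdim0 : ringKrullDim (Z.presheaf.stalk g) ≤ 0 := by
      haveI : Ring.KrullDimLE 0 (Z.presheaf.stalk g) := Ring.KrullDimLE.mk₀ fun I hI => by
        let y : Z := Z.fromSpecStalk g ⟨I, hI⟩
        have hyg : y ⤳ g := Groth.L07.EquidimPoint.specializes_point g _
        obtain ⟨Q, hQ⟩ : y ∈ Set.range (Z.fromSpecStalk w) := by
          rw [Scheme.range_fromSpecStalk]; exact hyg.trans hgw
        let Q' : PrimeSpectrum (Z.presheaf.stalk w) := Q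
        have hQP : Q' ≤ P :=
          (PrimeSpectrum.le_iff_specializes Q' P).2
            ((Z.fromSpecStalk w).isEmbedding.isInducing.specializes_iff.1 ((specializes_of_eq hQ).trans hyg))
        have hQP' : Q' = P := le_antisymm hQP (hP hQP)
        have hyg' : y = g := hQ.symm.trans (congrArg (Z.fromSpecStalk w) hQP')
        have h1 := (Z.fromSpecStalk g).isEmbedding.injective (hyg'.trans Scheme.fromSpecStalk_closedPoint.symm)
        rw [show I = maximalIdeal (Z.presheaf.stalk g) from congrArg PrimeSpectrum.asIdeal h1]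
        exact maximalIdeal.isMaximal _
      exact Ring.krullDimLE_iff.1 ‹_›
    have hcmg : LocCoh.IsCohenMacaulayLocalRing (Z.presheaf.stalk g) := by
      haveI : IsNoetherianRing (Z.presheaf.stalk g) := inferInstance
      refine { supportDim_eq_depth := le_antisymm ?_ Groth.L04.depth_le_supportDim }
      rw [Module.supportDim_self_eq_ringKrullDim]
      exact hdim0.trans (WithBot.coe_le_coe.2 zero_le)
    have hgt : f (f.fiberι t g) = t := (f.range_fiberι t).le ⟨g, rfl⟩
    have hcm : MoreMor.IsCMAt f (f.fiberι t g) := by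
      refine ⟨(Flat.iff_flat_stalkMap f).1 inferInstance _, ?_⟩
      have key : ∀ (t' : Spec (CommRingCat.of A)) (he : f (f.fiberι t g) = t') (g' : f.fiber t'),
          f.fiberι t' g' = f.fiberι t g → LocCoh.IsCohenMacaulayLocalRing ((f.fiber t').presheaf.stalk g') →
          LocCoh.IsCohenMacaulayLocalRing
            ((f.fiber (f (f.fiberι t g))).presheaf.stalk (f.asFiber (f.fiberι t g))) := by
        intro t' he g' hg' hcm'
        subst he
        obtain rfl : g' = f.asFiber (f.fiberι t g) :=
          (f.fiberι _).isEmbedding.injective (hg'.trans (Scheme.Hom.fiberι_asFiber f _).symm)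
        exact hcm'
      exact key t hgt g rfl hcmg
    haveI := hnt _ hcm
    have hgs : g ∈ CohB1.support ωt := not_subsingleton_iff_nontrivial.2
      ((Groth.L11.LenSpec.fibre_stalk f ω (fun y => Groth.L06.SupportStalk.finite_stalk ω hcoh y) t g).1.2 inferInstance)
    exact hgw.mem_closed (Groth.L16.CohSupport.isClosed_support ωt hωt.2) hgs
  have hsuppv : Module.support Ov Fv = Set.univ := Set.eq_univ_of_forall fun Q =>
    (Groth.L06.SupportStalk.mem_support_iff ωt hωt v Q).2 (hall _)
  haveI : Nontrivial Fv := not_subsingleton_iff_nontrivial.1 (hall v)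
  -- the base local ring
  let A' := (Spec (CommRingCat.of A)).presheaf.stalk t
  let Ox := X.presheaf.stalk x
  let φ : A' →+* Ox := (f.stalkMap x).hom
  letI : Algebra A' Ox := φ.toAlgebra
  haveI : IsLocalHom (algebraMap A' Ox) := inferInstanceAs (IsLocalHom (f.stalkMap x).hom)
  letI : Algebra A Ox := (stalkScal A X x).toAlgebra
  letI : Algebra A A' := (((Spec (CommRingCat.of A)).presheaf.germ ⊤ t trivial).hom.comp
    (Scheme.ΓSpecIso (CommRingCat.of A)).inv.hom).toAlgebra
  haveI : IsScalarTower A A' Ox := IsScalarTower.of_algebraMap_eq fun a => by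
    symm
    exact Scheme.Hom.germ_stalkMap_apply f ⊤ x trivial _
  let Fx := (Groth.L00.Stk.F X x).obj ω
  letI : Module A Fx := Module.compHom _ (stalkScal A X x)
  haveI : IsScalarTower A Ox Fx := IsScalarTower.of_algebraMap_smul fun _ _ => rfl
  letI : Module A' Fx := Module.compHom _ φ
  haveI : IsScalarTower A' Ox Fx := IsScalarTower.of_algebraMap_smul fun _ _ => rfl
  haveI : IsScalarTower A A' Fx := IsScalarTower.of_algebraMap_smul fun a m => by
    show φ (algebraMap A A' a) • m = algebraMap A Ox a • m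
    exact congrArg (· • m) (IsScalarTower.algebraMap_apply A A' Ox a).symm
  haveI : Module.Finite Ox Fx := Groth.L06.SupportStalk.finite_stalk ω hcoh x
  haveI : Module.Flat A' Fx := h2.1
  -- regular elements on the fibre
  obtain ⟨b, c, hbm, hcm, hb, hc⟩ := exists_regular_pair f ω x
    (fun w => Groth.L06.SupportStalk.finite_stalk ωt hωt w) (not_subsingleton_iff_nontrivial.1 (hall v))
    (two_le_depth h2.2 hsuppv hdim)
  obtain ⟨e⟩ := Groth.L17.BC.TensorA.nonempty_G_one A X ω
  obtain ⟨Θ, -⟩ := exists_tensor_stalk (A := A) ω x e M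
  let ι : Fx ⊗[A'] (A' ⊗[A] M) ≃ₗ[Ox] Fx ⊗[A] M :=
    TensorProduct.AlgebraTensorModule.cancelBaseChange A A' Ox Fx M
  let ψ := ((Groth.L00.Stk.F X x).map (cmp (X := X) (d := d) M)).hom
  let Φ : Fx ⊗[A'] (A' ⊗[A] M) →ₗ[Ox] (Groth.L00.Stk.F X x).obj ((RR A X d).obj M) :=
    ψ ∘ₗ Θ.toLinearMap ∘ₗ ι.toLinearMap
  haveI := isQCoh_RR A X d M
  haveI hT : Coh.IsQCoh ((Groth.L17.BC.TensorA.G (A := A) ω).obj M) := Groth.L17.BC.TensorA.isQCoh_G ω M
  have hfree : ∀ ι : Type u, IsIso (cmp (X := X) (d := d) (ModuleCat.of A (ι →₀ A))) := fun ι =>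
    isIso_cmp_of_flat _
  have hiso : ∀ z : X, z ⤳ x → z ≠ x → IsIso ((Groth.L00.Stk.F X z).map (cmp (X := X) (d := d) M)) := fun z hz hne => by
    haveI := hgen z hz hne M
    haveI := mono_stalk_cmp z (hgen z hz hne) hfree M
    exact isIso_of_mono_of_epi _
  let γ := cmp (X := X) (d := d) M
  have hKC := Groth.L00.AlgQCoh.isQCoh_kernel_cokernel γ hT (isQCoh_RR A X d M)
  haveI := hKC.1
  haveI := hKC.2
  have hKz : ∀ z : X, z ⤳ x → z ≠ x → IsZero ((Groth.L00.Stk.F X z).obj (kernel γ)) := fun z hz hne => by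
    haveI := hiso z hz hne
    exact (isZero_kernel_of_mono ((Groth.L00.Stk.F X z).map γ)).of_iso (PreservesKernel.iso _ γ)
  have hCz : ∀ z : X, z ⤳ x → z ≠ x → IsZero ((Groth.L00.Stk.F X z).obj (cokernel γ)) := fun z hz hne => by
    haveI := hiso z hz hne
    exact (isZero_cokernel_of_epi ((Groth.L00.Stk.F X z).map γ)).of_iso (PreservesCokernel.iso _ γ)
  refine (ModuleCat.epi_iff_surjective _).2 ?_
  suffices h : Function.Surjective Φ by
    intro r; obtain ⟨z, hz⟩ := h r; exact ⟨_, hz⟩
  refine Hartogs.surjective_of_depth_two hbm hcm hb hc Φ (fun z hz a ha => ?_) (fun r hr => ?_) fun r a ha => ?_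
  · obtain ⟨k, hk⟩ : ∃ k, (Groth.L00.Stk.F X x).map (kernel.ι γ) k = Θ (ι z) := by
      have := ((ShortComplex.exact_of_f_is_kernel (ShortComplex.mk (kernel.ι γ) γ (kernel.condition γ))
        (kernelIsKernel γ)).map (Groth.L00.Stk.F X x)).moduleCat_range_eq_ker
      exact this.ge (LinearMap.mem_ker.2 hz)
    obtain ⟨n, hn⟩ := torsion_of_generizations (kernel γ) x hKz k a ha
    refine ⟨n, ι.injective (Θ.injective ?_)⟩
    rw [map_smul, map_smul, ← hk, ← map_smul, hn, map_zero, map_zero, map_zero]
  · obtain ⟨v', hv', hne⟩ : ∃ v' : Z, v' ⤳ v ∧ v' ≠ v := by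
      by_contra! hall'
      have h0 : ringKrullDim Ov ≤ 0 := by
        haveI : Ring.KrullDimLE 0 Ov := Ring.KrullDimLE.mk₀ fun I hI => by
          have he := hall' (Z.fromSpecStalk v ⟨I, hI⟩) (Groth.L07.EquidimPoint.specializes_point v _)
          have := (Z.fromSpecStalk v).isEmbedding.injective (he.trans Scheme.fromSpecStalk_closedPoint.symm)
          rw [show I = maximalIdeal Ov from congrArg PrimeSpectrum.asIdeal this]
          exact maximalIdeal.isMaximal _
        exact Ring.krullDimLE_iff.1 ‹_›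
      exact absurd (hdim.trans h0) (by norm_num)
    exact eq_zero_of_stalk_torsion d hd x v' hv' hne M r hr
  · obtain ⟨n, hn⟩ := torsion_of_generizations (cokernel γ) x hCz ((Groth.L00.Stk.F X x).map (cokernel.π γ) r) a ha
    replace hn : (Groth.L00.Stk.F X x).map (cokernel.π γ) (a ^ n • r) = 0 := (map_smul _ _ _).trans hn
    have := ((ShortComplex.exact_of_g_is_cokernel (ShortComplex.mk γ (cokernel.π γ) (cokernel.condition γ))
        (cokernelIsCokernel γ)).map (Groth.L00.Stk.F X x)).moduleCat_range_eq_ker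
    obtain ⟨w, hw⟩ := this.ge (LinearMap.mem_ker.2 hn)
    refine ⟨n, ι.symm (Θ.symm w), ?_⟩
    show ψ (Θ (ι (ι.symm (Θ.symm w)))) = _
    rw [ι.apply_symm_apply, Θ.apply_symm_apply]
    exact hw

set_option maxHeartbeats 1600000 in
/-- the comparison is invertible when the dualizing sheaf satisfies relative Serre condition two -/
theorem isIso_cmp_of_relSk (hd : Cyc.HasRelDim (X ↘ Spec (CommRingCat.of A)) d)
    (hS : RelCanon.IsSkMor (X ↘ Spec (CommRingCat.of A)) 2)
    (hdual : RelCanon.IsDualizingSheaf A X d (ω₀ A X d))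
    (h2 : RelCanon.RelSk (X ↘ Spec (CommRingCat.of A)) 2 (ω₀ A X d)) (M : ModuleCat.{u} A) :
    IsIso (cmp (X := X) (d := d) M) := by
  let f := X ↘ Spec (CommRingCat.of A)
  haveI : IsLocallyNoetherian X := LocallyOfFiniteType.isLocallyNoetherian f
  have hfree : ∀ ι : Type u, IsIso (cmp (X := X) (d := d) (ModuleCat.of A (ι →₀ A))) := fun ι =>
    isIso_cmp_of_flat _
  have hepi : ∀ (x : X) (M : ModuleCat.{u} A), Epi ((Groth.L00.Stk.F X x).map (cmp (X := X) (d := d) M)) := by
    intro x
    haveI hwf : WellFoundedLT (PrimeSpectrum (X.presheaf.stalk x)) :=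
      StrictMono.wellFoundedLT (f := fun P : PrimeSpectrum (X.presheaf.stalk x) => P.asIdeal.height)
        fun P Q h => Ideal.height_strict_mono_of_isPrime h
    have key : ∀ P : PrimeSpectrum (X.presheaf.stalk x), ∀ M : ModuleCat.{u} A,
        Epi ((Groth.L00.Stk.F X (X.fromSpecStalk x P)).map (cmp (X := X) (d := d) M)) := by
      intro P
      induction P using hwf.induction with
      | _ P ih =>
        intro M
        let z := X.fromSpecStalk x P
        haveI : LocallyOfFiniteType (f.fiberToSpecResidueField (f z)) :=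
          MorphismProperty.pullback_snd f ((Spec (CommRingCat.of A)).fromSpecResidueField (f z)) inferInstance
        haveI : IsLocallyNoetherian (f.fiber (f z)) :=
          LocallyOfFiniteType.isLocallyNoetherian (f.fiberToSpecResidueField (f z))
        by_cases hdim : (2 : WithBot ℕ∞) ≤ ringKrullDim ((f.fiber (f z)).presheaf.stalk (f.asFiber z))
        · refine epi_stalk_cmp_step d hd hdual z (h2 z) hdim (fun y hy hne => ?_) M
          obtain ⟨Q, hQ⟩ : y ∈ Set.range (X.fromSpecStalk x) := by
            rw [Scheme.range_fromSpecStalk]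
            exact hy.trans (Groth.L07.EquidimPoint.specializes_point x P)
          let Q' : PrimeSpectrum (X.presheaf.stalk x) := Q
          have hle : Q' ≤ P := (PrimeSpectrum.le_iff_specializes Q' P).2
            ((X.fromSpecStalk x).isEmbedding.isInducing.specializes_iff.1 ((specializes_of_eq hQ).trans hy))
          have hlt : Q' < P := lt_of_le_of_ne hle fun he => hne (hQ.symm.trans (congrArg (X.fromSpecStalk x) he))
          rw [← hQ]
          exact ih Q' hlt
        · -- here the fibre is Cohen–Macaulay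
          let Ov := (f.fiber (f z)).presheaf.stalk (f.asFiber z)
          let σ : Ov ≃ₗ[Ov] (Coh.structureModule (f.fiber (f z))).presheaf.stalk (f.asFiber z) :=
            LinearEquiv.ofBijective (LinearMap.toSpanSingleton Ov _ (Groth.L22.oneGerm (f.asFiber z)))
              ⟨(injective_iff_map_eq_zero _).2 fun a ha => Groth.L22.eq_zero_of_smul_oneGerm ha,
                Groth.L22.stalk_smul_oneGerm_surjective _⟩
          have hk : LocCoh.HasSk 2 Ov Ov := Groth.L29.SchStalk.hasSk_congr σ.symm (hS.2.2 z)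
          have hcm : MoreMor.IsCMAt f z := by
            refine ⟨(Flat.iff_flat_stalkMap f).1 inferInstance z, ?_⟩
            refine { supportDim_eq_depth := le_antisymm ?_ Groth.L04.depth_le_supportDim }
            rw [Module.supportDim_self_eq_ringKrullDim]
            have h3 := Groth.L19.SkLocal.min_le_depth_of_local hk
            have h4 : ringKrullDim Ov ≤ ((2 : ℕ) : WithBot ℕ∞) := by exact_mod_cast le_of_lt (not_le.1 hdim)
            rwa [min_eq_right h4] at h3
          let π : ModuleCat.of A (M →₀ A) ⟶ M := ModuleCat.ofHom (Finsupp.linearCombination A id)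
          haveI : Epi π := (ModuleCat.epi_iff_surjective _).2 fun x => ⟨Finsupp.single x 1, by simp [π]⟩
          haveI := epi_stalk_RR_map d z hcm hd π
          haveI := hfree M
          let Sz := Groth.L00.Stk.F X z
          haveI : Epi (Sz.map ((Groth.L17.BC.TensorA.G (A := A) (ω₀ A X d)).map π) ≫ Sz.map (cmp (X := X) (d := d) M)) := by
            rw [← Functor.map_comp, cmp_natural, Functor.map_comp]
            infer_instance
          exact epi_of_epi (Sz.map ((Groth.L17.BC.TensorA.G (A := A) (ω₀ A X d)).map π)) _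
    have := key (IsLocalRing.closedPoint (X.presheaf.stalk x))
    intro M
    have h0 := this M
    rwa [Scheme.fromSpecStalk_closedPoint] at h0
  haveI hiso : ∀ x, IsIso ((Groth.L00.Stk.F X x).map (cmp (X := X) (d := d) M)) := fun x => by
    haveI := hepi x M
    haveI := mono_stalk_cmp x (hepi x) hfree M
    exact isIso_of_mono_of_epi _
  haveI : Mono (cmp (X := X) (d := d) M) := Preadditive.mono_of_isZero_kernel _ <|
    (Groth.L00.Stk.isZero_iff _).2 fun x =>
      (isZero_kernel_of_mono ((Groth.L00.Stk.F X x).map (cmp (X := X) (d := d) M))).of_iso (PreservesKernel.iso _ _)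
  haveI : Epi (cmp (X := X) (d := d) M) := Preadditive.epi_of_isZero_cokernel _ <|
    (Groth.L00.Stk.isZero_iff _).2 fun x =>
      (isZero_cokernel_of_epi ((Groth.L00.Stk.F X x).map (cmp (X := X) (d := d) M))).of_iso (PreservesCokernel.iso _ _)
  exact isIso_of_mono_of_epi _

end Groth.L10.RelCan
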