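import Groth.Agent.L10.RelCan.CMCase
import Groth.Agent.L10.ShriekLoc.SuppTools
import Groth.Agent.S1801
import Groth.Agent.L10.RelCan.CommuteS2
import Mathlib.Algebra.Homology.DerivedCategory.Linear
import Mathlib.Algebra.Module.FinitePresentation

/-!
At Cohen–Macaulay points the local ring is the endomorphism ring of the dualizing sheaf.
-/

set_option autoImplicit false
set_option linter.style.haveILetI false
set_option backward.defeqAttrib.useBackward true
set_option backward.isDefEq.respectTransparency false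
set_option backward.isDefEq.respectTransparency.types false
universe u

open CategoryTheory CategoryTheory.Limits AlgebraicGeometry

attribute [local instance] HasDerivedCategory.standard

noncomputable section

namespace Groth.L10.RelCan

open Groth.L29 Groth.L29.DC Groth.L10.ShriekLoc
open _root_.L02.FibDepth (Semi)

/-- scalars are all the endomorphisms -/
def EndIsScalar (R : Type u) [CommRing R] (M : Type u) [AddCommGroup M] [Module R M] : Prop :=
  Function.Bijective fun a : R => a • (LinearMap.id : M →ₗ[R] M)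

/-- the only cohomology module of an object with scalar endomorphisms -/
theorem endIsScalar_of_single {A : Type u} [CommRing A] (K : Dual.D A) (m : ℤ)
    (hz : ∀ i : ℤ, i ≠ m → Subsingleton (Dual.HD A K i))
    (hK : Function.Bijective fun a : A => a • (𝟙 K)) : EndIsScalar A (Dual.HD A K m) := by
  haveI : K.IsGE m := (DerivedCategory.isGE_iff K m).2 fun i hi =>
    haveI := hz i (by omega); ModuleCat.isZero_of_subsingleton _
  haveI : K.IsLE m := (DerivedCategory.isLE_iff K m).2 fun i hi =>
    haveI := hz i (by omega); ModuleCat.isZero_of_subsingleton _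
  obtain ⟨e₀⟩ := Groth.L10.exists_iso_single_H (A := ModuleCat.{u} A) K m
  let H : ModuleCat.{u} A := (DerivedCategory.homologyFunctor (ModuleCat.{u} A) m).obj K
  let F := DerivedCategory.singleFunctor (ModuleCat.{u} A) m
  let Φ : (H ⟶ H) → (K ⟶ K) := fun g => e₀.hom ≫ F.map g ≫ e₀.inv
  have hΦ : Function.Bijective Φ := by
    refine ⟨fun g g' h => F.map_injective ((cancel_epi e₀.hom).1 (by
      simpa [Φ, ← Category.assoc, cancel_mono] using h)), fun k => ?_⟩
    obtain ⟨g, hg⟩ := F.map_surjective (e₀.inv ≫ k ≫ e₀.hom)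
    exact ⟨g, by simp [Φ, hg]⟩
  have hsc : ∀ a : A, Φ (ModuleCat.ofHom (a • (LinearMap.id : H →ₗ[A] H))) = a • 𝟙 K := fun a => by
    show e₀.hom ≫ F.map (a • 𝟙 H) ≫ e₀.inv = a • 𝟙 K
    rw [Functor.map_smul, Linear.smul_comp, Linear.comp_smul, F.map_id, Category.id_comp, e₀.hom_inv_id]
  constructor
  · exact fun a b h => hK.1 (((hsc a).symm.trans (congrArg (fun g => Φ (ModuleCat.ofHom g)) h)).trans (hsc b))
  · intro g
    obtain ⟨a, ha⟩ := hK.2 (Φ (ModuleCat.ofHom g))
    exact ⟨a, congrArg ModuleCat.Hom.hom (hΦ.1 ((hsc a).trans ha))⟩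

theorem EndIsScalar.isLocalized {A : Type u} [CommRing A] {B : Type u} [CommRing B] [Algebra A B] (S : Submonoid A)
    [IsLocalization S B] {H H' : Type u} [AddCommGroup H] [Module A H] [Module.FinitePresentation A H]
    [AddCommGroup H'] [Module A H'] [Module B H'] [IsScalarTower A B H'] (j : H →ₗ[A] H') [IsLocalizedModule S j]
    (h : EndIsScalar A H) : EndIsScalar B H' := by
  let g : (H →ₗ[A] H) →ₗ[A] (H' →ₗ[B] H') := IsLocalizedModule.mapExtendScalars S j j B
  haveI : IsLocalizedModule S g := Module.FinitePresentation.isLocalizedModule_mapExtendScalars S j j B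
  let u : A ≃ₗ[A] (H →ₗ[A] H) := LinearEquiv.ofBijective (LinearMap.toSpanSingleton A _ LinearMap.id) h
  haveI : IsLocalizedModule S (g ∘ₗ u.toLinearMap) := IsLocalizedModule.of_linearEquiv_right S g u
  let E := IsLocalizedModule.linearEquiv S (Algebra.linearMap A B) (g ∘ₗ u.toLinearMap)
  have hid : g LinearMap.id = LinearMap.id := by
    refine LinearMap.restrictScalars_injective A (IsLocalizedModule.ext S j (IsLocalizedModule.map_units j) ?_)
    ext x
    simp [g]
  have hE : E.toLinearMap = (LinearMap.toSpanSingleton B (H' →ₗ[B] H') LinearMap.id).restrictScalars A := by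
    refine IsLocalizedModule.ext S (Algebra.linearMap A B) (IsLocalizedModule.map_units (g ∘ₗ u.toLinearMap)) ?_
    refine LinearMap.ext fun a => ?_
    have h1 : E (Algebra.linearMap A B a) = g (u a) :=
      IsLocalizedModule.linearEquiv_apply S (Algebra.linearMap A B) (g ∘ₗ u.toLinearMap) a
    have h2 : g (u a) = algebraMap A B a • (LinearMap.id : H' →ₗ[B] H') := by
      refine ((map_smul g a LinearMap.id).trans (congrArg (a • ·) hid)).trans ?_
      exact (IsScalarTower.algebraMap_smul B a (LinearMap.id : H' →ₗ[B] H')).symm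
    exact h1.trans h2
  have := E.bijective
  rwa [show (E : B → _) = fun x => x • LinearMap.id from funext fun x => LinearMap.congr_fun hE x] at this

theorem EndIsScalar.of_semi {R M S N : Type u} [CommRing R] [AddCommGroup M] [Module R M] [CommRing S]
    [AddCommGroup N] [Module S N] (E : Semi R M S N) (h : EndIsScalar R M) : EndIsScalar S N := by
  constructor
  · intro a b hab
    obtain ⟨r, rfl⟩ := E.surj a
    obtain ⟨r', rfl⟩ := E.surj b
    refine congrArg E.φ (h.1 (LinearMap.ext fun x => E.e.injective ?_))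
    simp only [LinearMap.smul_apply, LinearMap.id_apply, E.map_smul]
    exact LinearMap.congr_fun hab (E.e x)
  · intro g
    obtain ⟨r, hr⟩ := h.2
      { toFun := fun x => E.e.symm (g (E.e x))
        map_add' := fun x y => by simp
        map_smul' := fun r x => E.e.injective (by simp [E.map_smul]) }
    refine ⟨E.φ r, LinearMap.ext fun y => ?_⟩
    obtain ⟨x, rfl⟩ := E.e.surjective y
    show E.φ r • E.e x = g (E.e x)
    have hx : r • x = E.e.symm (g (E.e x)) := LinearMap.congr_fun hr x
    rw [← E.map_smul, hx, E.e.apply_symm_apply]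

variable {A : Type u} [CommRing A] [IsNoetherianRing A] {Y : Scheme.{u}} [Y.Over (Spec (CommRingCat.of A))]

set_option maxHeartbeats 1600000 in
/-- `End(ω) = O` at Cohen–Macaulay points -/
theorem endIsScalar_stalk_of_cm [IsProper (Y ↘ Spec (CommRingCat.of A))] [Flat (Y ↘ Spec (CommRingCat.of A))] {d : ℕ}
    (hd : Cyc.HasRelDim (Y ↘ Spec (CommRingCat.of A)) d) (ω : Y.Modules)
    (hω : RelCanon.IsDualizingSheaf A Y d ω) (x : Y) (hx : MoreMor.IsCMAt (Y ↘ Spec (CommRingCat.of A)) x) :
    EndIsScalar (Y.presheaf.stalk x) (ω.presheaf.stalk x) := by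
  let f := Y ↘ Spec (CommRingCat.of A)
  haveI := fun {P Q : Scheme.{u}} (k : P ⟶ Q) => Groth.L00.KFlat.hasLpull k
  haveI := fun (R : CommRingCat.{u}) => Groth.L18.TildeF.tilde_preservesFiniteLimits (R := R)
  haveI : ∀ (U V : Scheme.{u}) (j : U ⟶ V) [IsOpenImmersion j],
      PreservesFiniteLimits (Scheme.Modules.restrictFunctor j) := fun U V j _ => inferInstance
  haveI : IsLocallyNoetherian Y := LocallyOfFiniteType.isLocallyNoetherian f
  haveI : LocallyOfFinitePresentation f := LocallyOfFinitePresentation.iff_locallyOfFiniteType.mpr inferInstance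
  obtain ⟨c, hR, hc, a, adj, O, hO, hiff⟩ := exists_model (Y := Y) d hd
  haveI := hR
  obtain ⟨e₀⟩ := (hiff ω).1 hω
  let L := (Dual3.shriekC c a).obj O
  obtain ⟨m, C, φ, ⟨q, rfl⟩, hfl, hqf⟩ := exists_chart_cm f x hx
  haveI := isNoetherian_R C
  haveI := isNoetherian_A C
  haveI := module_flat C
  obtain ⟨n, ψ, hψ, _, Rψ, adjψ, he⟩ := exists_omega c adj O hO C
  let N := Dual2.shriekVia n Rψ (Dual.inD C.R C.R)
  have hamp := amp_of_qf_flat n ψ hψ Rψ adjψ m φ hfl hqf
  have hz : ∀ i : ℤ, i ≠ -(m : ℤ) → Subsingleton (Dual.HD C.A N i) := fun i hi => by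
    obtain ⟨E, hEv, -, ⟨eE⟩⟩ := hamp
    have h0 : IsZero ((Groth.L02.PC.HH i).obj ((DRing.restrictD (algebraMap C.R C.A)).obj N)) :=
      (Groth.L10.DR.HH_iso_zero eE i).2 ((E.exactAt_iff_isZero_homology i).1
        (HomologicalComplex.ExactAt.of_isZero (hEv i (by omega))))
    haveI := ModuleCat.subsingleton_of_isZero (h0.of_iso (Groth.L10.RelPC.HHResIso (algebraMap C.R C.A) N i).symm)
    exact ‹Subsingleton _›
  haveI hnt := (isCoh_and_nontrivial d hd ω hω).2 _ hx
  have hdm : -(d : ℤ) = -(m : ℤ) := by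
    by_contra hne
    haveI := hz _ hne
    haveI : Nontrivial ((Groth.L00.Stk.F Y (C.jU q)).obj ω) := hnt
    have h1 : Nontrivial ((Groth.L00.Stk.F Y (C.jU q)).obj (DCoh.HD L (-(d : ℤ)))) :=
      ((Groth.L00.Stk.F Y (C.jU q)).mapIso e₀).toLinearEquiv.symm.toEquiv.nontrivial
    exact (Set.notMem_empty q) (Module.support_eq_empty (R := C.A) (M := Dual.HD C.A N (-(d : ℤ))) ▸
      (nontrivial_stalk C he q _).1 h1)
  obtain ⟨-, hfin, -, ⟨hend, -⟩, -⟩ := Groth.Agent.S1801.result C.R C.A n ψ hψ Rψ adjψ
  haveI := hfin (-(d : ℤ))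
  have h0 := endIsScalar_of_single N (-(d : ℤ)) (fun i hi => hz i (hdm ▸ hi)) hend
  obtain ⟨r⟩ := nonempty_Lpull_iso_restrictD C.jU L
  obtain ⟨e⟩ := he
  obtain ⟨E⟩ := nonempty_semi_chart C.jU ω
    (show ModuleCat.{u} (CommRingCat.of C.A) from (Groth.L02.PC.HH (-(d : ℤ))).obj N)
    ((Scheme.Modules.restrictFunctor C.jU).mapIso e₀ ≪≫ (HDResIso C.jU L _).symm ≪≫
      (DerivedCategory.homologyFunctor _ _).mapIso (r.symm ≪≫ e) ≪≫
      TildeAlg.hdIso (R := CommRingCat.of C.A) N _) q
  haveI : Module.FinitePresentation C.A (Dual.HD C.A N (-(d : ℤ))) := Module.finitePresentation_of_finite _ _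
  exact (h0.isLocalized q.asIdeal.primeCompl (LocalizedModule.mkLinearMap q.asIdeal.primeCompl _)).of_semi E

end Groth.L10.RelCan
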