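import Groth.Agent.L10.RelCan.AlongTools
import Groth.Agent.L10.RelCan.CMPoint
import Groth.Agent.L10.RelCan.FibrePow
import Groth.Agent.L10.RelCan.EndPairs
import Groth.Agent.L10.RelCan.FibreOpen
import Groth.Agent.L10.RelCan.FibreSk
import Groth.Agent.L10.RelCan.GenPairsMod
import Groth.Agent.L10.RelCan.PushOmega
import Groth.Agent.L10.RelCan.QGorBC
import Groth.Agent.S19826

/-!
The sheaf of maps from a deformation of the canonical sheaf of one fibre into the relative canonical sheaf.
-/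

set_option autoImplicit false
set_option maxSynthPendingDepth 4
set_option linter.style.haveILetI false
set_option linter.unusedSectionVars false
set_option linter.unusedVariables false
set_option backward.defeqAttrib.useBackward true
set_option backward.isDefEq.respectTransparency false
set_option backward.isDefEq.respectTransparency.types false
universe u

open CategoryTheory CategoryTheory.Limits AlgebraicGeometry TopologicalSpace IsLocalRing
open scoped TensorProduct

noncomputable section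

namespace Groth.L10.RelCan

open Groth.L16.HomSh (homMod curryEquiv evalMod)
open Groth.L00.Tensor (tensorMap)

variable {A : Type u} [CommRing A] [IsNoetherianRing A] {Y : Scheme.{u}} [Y.Over (Spec (CommRingCat.of A))]
  [IsProper (Y ↘ Spec (CommRingCat.of A))] {d : ℕ}
  (hS : RelCanon.IsSkMor (Y ↘ Spec (CommRingCat.of A)) 2)
  (hd : Cyc.HasRelDim (Y ↘ Spec (CommRingCat.of A)) d) (ω : Y.Modules)
  (hω : RelCanon.IsDualizingSheaf A Y d ω) (L : Y.Modules) (hL : Coh.IsCoh L) (t : Spec (CommRingCat.of A))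
  (hLf : ∀ y : Y, (Y ↘ Spec (CommRingCat.of A)) y = t → FlatMod.IsFlatOverAt (Y ↘ Spec (CommRingCat.of A)) L y)
  (hLt : RelCanon.IsDualizingSheafFib (Y ↘ Spec (CommRingCat.of A)) d L t)

include hS in
/-- the local rings of the fibres at points which are not Cohen–Macaulay have dimension at least three -/
theorem three_le_of_not_cm (z : Y) (hz : ¬ MoreMor.IsCMAt (Y ↘ Spec (CommRingCat.of A)) z) :
    (3 : WithBot ℕ∞) ≤ ringKrullDim (((Y ↘ Spec (CommRingCat.of A)).fiber ((Y ↘ Spec (CommRingCat.of A)) z)).presheaf.stalk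
      ((Y ↘ Spec (CommRingCat.of A)).asFiber z)) := by
  by_contra hdim
  let f := Y ↘ Spec (CommRingCat.of A)
  haveI := hS.1
  haveI : LocallyOfFiniteType (f.fiberToSpecResidueField (f z)) :=
    MorphismProperty.pullback_snd f ((Spec (CommRingCat.of A)).fromSpecResidueField (f z)) inferInstance
  haveI : IsLocallyNoetherian (f.fiber (f z)) :=
    LocallyOfFiniteType.isLocallyNoetherian (f.fiberToSpecResidueField (f z))
  let Ov := (f.fiber (f z)).presheaf.stalk (f.asFiber z)
  have hk : LocCoh.HasSk 2 Ov Ov :=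
    Groth.L29.SchStalk.hasSk_congr (Groth.L15.Ref.strE (f.asFiber z)).symm (hS.2.2 z)
  refine hz ⟨(Flat.iff_flat_stalkMap f).1 inferInstance z, ?_⟩
  refine { supportDim_eq_depth := le_antisymm ?_ Groth.L04.depth_le_supportDim }
  rw [Module.supportDim_self_eq_ringKrullDim]
  have h3 := Groth.L19.SkLocal.min_le_depth_of_local hk
  rwa [min_eq_right (le_two_of_not_three_le hdim)] at h3

theorem exists_fiberι_eq {X S : Scheme.{u}} (f : X ⟶ S) {s : S} {y : X} (hy : f y = s) :
    ∃ v : f.fiber s, f.fiberι s v = y := by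
  have : y ∈ Set.range (f.fiberι s) := by rw [f.range_fiberι]; exact hy
  exact this

set_option maxHeartbeats 1600000 in
include hS hd hL hLf hLt in
/-- the deformation has relative Serre condition two along the fibre -/
theorem relSkAt_two_of_fib (y : Y) (hy : (Y ↘ Spec (CommRingCat.of A)) y = t) :
    RelCanon.RelSkAt (Y ↘ Spec (CommRingCat.of A)) 2 L y := by
  let f := Y ↘ Spec (CommRingCat.of A)
  haveI := hS.1
  refine ⟨hLf y hy, ?_⟩
  let k := (Spec (CommRingCat.of A)).residueField t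
  letI : (f.fiber t).Over (Spec (CommRingCat.of k)) := ⟨f.fiberToSpecResidueField t⟩
  haveI : IsProper ((f.fiber t) ↘ Spec (CommRingCat.of k)) :=
    MorphismProperty.pullback_snd f _ (inferInstanceAs (IsProper f))
  haveI : Flat ((f.fiber t) ↘ Spec (CommRingCat.of k)) :=
    MorphismProperty.pullback_snd f _ (inferInstanceAs (Flat f))
  have hdk : Cyc.HasRelDim ((f.fiber t) ↘ Spec (CommRingCat.of k)) d :=
    Groth.L22.Cyc.hasRelDim_baseChange (IsPullback.of_hasPullback f ((Spec (CommRingCat.of A)).fromSpecResidueField t)) hd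
  have h : ∀ v : f.fiber t, RelCanon.SkAt 2 ((Scheme.Modules.pullback (f.fiberι t)).obj L) v :=
    skAt_two_of_field hdk _ hLt
  have key : ∀ t' : Spec (CommRingCat.of A), f y = t' →
      (∀ v : f.fiber t', RelCanon.SkAt 2 ((Scheme.Modules.pullback (f.fiberι t')).obj L) v) →
      RelCanon.SkAt 2 ((Scheme.Modules.pullback (f.fiberι (f y))).obj L) (f.asFiber y) := by
    rintro _ rfl h'
    exact h' _
  exact key t hy h

set_option maxHeartbeats 1600000 in
include hS hd hω hL hLf hLt in
/-- at Cohen–Macaulay points of the fibre evaluation is bijective -/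
theorem cm_along (y : Y) (hy : (Y ↘ Spec (CommRingCat.of A)) y = t)
    (hcm : MoreMor.IsCMAt (Y ↘ Spec (CommRingCat.of A)) y) :
    Nonempty ((Groth.L00.Stk.F Y y).obj L ≃ₗ[Y.presheaf.stalk y] (Groth.L00.Stk.F Y y).obj ω) ∧
      RelCanon.InvertibleAt (RefHull.homSh L ω) y ∧ Function.Bijective (stk (evHom L ω) y) := by
  let f := Y ↘ Spec (CommRingCat.of A)
  haveI := hS.1
  haveI : IsLocallyNoetherian Y := LocallyOfFiniteType.isLocallyNoetherian f
  have hωc : Coh.IsCoh ω := (isCoh_and_nontrivial d hd ω hω).1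
  haveI := hωc.1
  obtain ⟨v, rfl⟩ := exists_fiberι_eq f hy
  obtain ⟨e⟩ := nonempty_stalkEquiv_of_cm hd ω hω L hL t v (hLf _ hy) hLt hcm
  obtain ⟨h1, ⟨σ⟩⟩ := bijective_evHom_of_equiv hL _ e (endIsScalar_stalk_of_cm hd ω hω _ hcm)
  exact ⟨⟨e⟩, invertibleAt_of_stalk (Groth.L15.Ref.isCoh_homSh L ω hL hωc) _ σ, h1⟩

set_option maxHeartbeats 1600000 in
include hS hd hω hL hLf hLt in
/-- the open where everything is known -/
theorem exists_good : ∃ W : Y.Opens,
    (∀ z ∈ W, MoreMor.IsCMAt (Y ↘ Spec (CommRingCat.of A)) z ∧ RelCanon.InvertibleAt (RefHull.homSh L ω) z ∧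
      Function.Bijective (stk (evHom L ω) z)) ∧
    ∀ y, (Y ↘ Spec (CommRingCat.of A)) y = t → MoreMor.IsCMAt (Y ↘ Spec (CommRingCat.of A)) y → y ∈ W := by
  let f := Y ↘ Spec (CommRingCat.of A)
  haveI := hS.1
  haveI : IsLocallyNoetherian Y := LocallyOfFiniteType.isLocallyNoetherian f
  haveI : LocallyOfFinitePresentation f := LocallyOfFinitePresentation.iff_locallyOfFiniteType.mpr inferInstance
  have hωc : Coh.IsCoh ω := (isCoh_and_nontrivial d hd ω hω).1
  have hMc : Coh.IsCoh (RefHull.homSh L ω) := Groth.L15.Ref.isCoh_homSh L ω hL hωc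
  have h2 : IsOpen {z : Y | RelCanon.InvertibleAt (RefHull.homSh L ω) z} :=
    isOpen_iff_forall_mem_open.2 fun z ⟨V, hzV, hV⟩ => ⟨(V : Set Y), fun w hw => ⟨V, hw, hV⟩, V.2, hzV⟩
  let W : Y.Opens := ⟨{z | MoreMor.IsCMAt f z} ∩ ({z | RelCanon.InvertibleAt (RefHull.homSh L ω) z} ∩
      {z | Function.Bijective (stk (evHom L ω) z)}),
    (_root_.L02.CMMor.isOpen_cmLocus f).inter (h2.inter (exists_nhd_bijective
      (Groth.L15.Ref.isCoh_tensorMod hL hMc) hωc (evHom L ω)))⟩
  refine ⟨W, fun z hz => ⟨hz.1, hz.2.1, hz.2.2⟩, fun y hy hcm => ?_⟩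
  obtain ⟨-, h3, h4⟩ := cm_along hS hd ω hω L hL t hLf hLt y hy hcm
  exact ⟨hcm, h3, h4⟩

variable (W : Y.Opens)
  (hW : ∀ z ∈ W, MoreMor.IsCMAt (Y ↘ Spec (CommRingCat.of A)) z ∧ RelCanon.InvertibleAt (RefHull.homSh L ω) z ∧
    Function.Bijective (stk (evHom L ω) z))
  (hWt : ∀ y, (Y ↘ Spec (CommRingCat.of A)) y = t → MoreMor.IsCMAt (Y ↘ Spec (CommRingCat.of A)) y → y ∈ W)

include hS hWt in
theorem hcod_along (y : Y) (hy : (Y ↘ Spec (CommRingCat.of A)) y = t) (z : Y) (hzy : z ⤳ y)
    (hz : (Y ↘ Spec (CommRingCat.of A)) z = (Y ↘ Spec (CommRingCat.of A)) y) (hzW : z ∉ W) :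
    (3 : WithBot ℕ∞) ≤ ringKrullDim (((Y ↘ Spec (CommRingCat.of A)).fiber ((Y ↘ Spec (CommRingCat.of A)) z)).presheaf.stalk
      ((Y ↘ Spec (CommRingCat.of A)).asFiber z)) :=
  three_le_of_not_cm hS z fun hcm => hzW (hWt z (hz.trans hy) hcm)

set_option maxHeartbeats 1600000 in
include hS hd hω hL hLf hLt hWt in
/-- regular pairs at the generisations of points of the fibre outside the good open -/
theorem pairs_along (y : Y) (hy : (Y ↘ Spec (CommRingCat.of A)) y = t) (x : Y) (hxy : x ⤳ y) (hxW : x ∉ W) :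
    (∃ b ∈ maximalIdeal (Y.presheaf.stalk x), ∃ c ∈ maximalIdeal (Y.presheaf.stalk x),
      IsSMulRegular (Y.presheaf.stalk x) b ∧ IsSMulRegular (QuotSMulTop b (Y.presheaf.stalk x)) c) ∧
    (∃ b ∈ maximalIdeal (Y.presheaf.stalk x), ∃ c ∈ maximalIdeal (Y.presheaf.stalk x),
      IsSMulRegular (L.presheaf.stalk x) b ∧ IsSMulRegular (QuotSMulTop b (L.presheaf.stalk x)) c) ∧
    (MoreMor.IsCMAt (Y ↘ Spec (CommRingCat.of A)) x →
      ∃ b ∈ maximalIdeal (Y.presheaf.stalk x), ∃ c ∈ maximalIdeal (Y.presheaf.stalk x),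
      IsSMulRegular (ω.presheaf.stalk x) b ∧ IsSMulRegular (QuotSMulTop b (ω.presheaf.stalk x)) c) := by
  let f := Y ↘ Spec (CommRingCat.of A)
  haveI := hS.1
  haveI : IsLocallyNoetherian Y := LocallyOfFiniteType.isLocallyNoetherian f
  have hdim : ∀ z, z ⤳ y → f z = f y → z ∉ W →
      (2 : WithBot ℕ∞) ≤ ringKrullDim ((f.fiber (f z)).presheaf.stalk (f.asFiber z)) := fun z hzy hz hzW =>
    le_trans (by norm_num) (hcod_along hS t W hWt y hy z hzy hz hzW)
  have hωc : Coh.IsCoh ω := (isCoh_and_nontrivial d hd ω hω).1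
  obtain ⟨b, hbm, c, hcm, hb, hc⟩ := exists_pair_generization f hS W y hdim x hxy hxW
  refine ⟨⟨b, hbm, c, hcm, hb, hc⟩, ?_, fun hx => ?_⟩
  · refine exists_pair_generization_mod f hL W y (relSkAt_two_of_fib hS hd L hL t hLf hLt y hy)
      (fun z hzy hz hz0 => ?_) hdim x hxy hxW
    have hzcm : MoreMor.IsCMAt f z := by
      by_contra hno
      exact absurd ((three_le_of_not_cm hS z hno).trans hz0) (by norm_num)
    obtain ⟨⟨e⟩, -, -⟩ := cm_along hS hd ω hω L hL t hLf hLt z (hz.trans hy) hzcm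
    haveI : Nontrivial ((Groth.L00.Stk.F Y z).obj ω) := (isCoh_and_nontrivial d hd ω hω).2 z hzcm
    exact e.toEquiv.nontrivial
  · haveI := Groth.L15.Ref.finite_stalk hωc x
    obtain ⟨h1, h2⟩ := regular_pair_of_endIsScalar (endIsScalar_stalk_of_cm hd ω hω x hx)
      (ext1Zero_stalk_of_cm hd ω hω x hx) hb hc
    exact ⟨b, hbm, c, hcm, h1, h2⟩

set_option maxHeartbeats 1600000 in
include hS hd hω hL hLf hLt hW hWt in
/-- the sheaf of maps is its bidual along the fibre -/
theorem bijective_bidual_along (y : Y) (hy : (Y ↘ Spec (CommRingCat.of A)) y = t) :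
    Function.Bijective (stk (RefHull.bidualMap (RefHull.homSh L ω)) y) := by
  let f := Y ↘ Spec (CommRingCat.of A)
  haveI := hS.1
  haveI : IsLocallyNoetherian Y := LocallyOfFiniteType.isLocallyNoetherian f
  haveI : CompactSpace Y := QuasiCompact.compactSpace_of_compactSpace f
  haveI : IsNoetherian Y := {}
  haveI : LocallyOfFinitePresentation f := LocallyOfFinitePresentation.iff_locallyOfFiniteType.mpr inferInstance
  have hωc : Coh.IsCoh ω := (isCoh_and_nontrivial d hd ω hω).1
  haveI := hωc.1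
  let M := RefHull.homSh L ω
  have hMc : Coh.IsCoh M := Groth.L15.Ref.isCoh_homSh L ω hL hωc
  have hDc : Coh.IsCoh (RefHull.ddual M) := Groth.L15.Ref.isCoh_dual (Groth.L15.Ref.isCoh_dual hMc)
  haveI := hMc.1
  haveI := hDc.1
  let V : Y.Opens := ⟨{z | MoreMor.IsCMAt f z}, _root_.L02.CMMor.isOpen_cmLocus f⟩
  have h1 : ∀ z, z ⤳ y → z ∈ V → Function.Bijective (stk (RefHull.bidualMap M) z) := fun z hzy hzV =>
    bijective_of_pairs_on W hMc hDc _ z
      (fun x hxz hxW => by
        obtain ⟨b, hbm, c, hcm, hb, hc⟩ := (pairs_along hS hd ω hω L hL t hLf hLt W hWt y hy x (hxz.trans hzy) hxW).2.2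
          (hxz.mem_open V.2 hzV)
        obtain ⟨h1, h2⟩ := regular_pair_homSh (F := L) (G := ω) hL x hb hc
        exact ⟨b, hbm, c, hcm, h1, h2⟩)
      (fun x hxz hxW => pairs_ddual M hMc x (pairs_along hS hd ω hω L hL t hLf hLt W hWt y hy x (hxz.trans hzy) hxW).1)
      fun x _ hxW => bijective_bidual_of_invertibleAt hMc x (hW x hxW).2.1
  haveI := isIso_unit_dualizing hd ω hω V fun z hz => le_trans (by norm_num) (three_le_of_not_cm hS z hz)
  haveI := isIso_unit_homMod V L ω
  haveI : IsIso ((Scheme.Modules.restrictAdjunction V.ι).unit.app M) :=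
    (NatTrans.isIso_app_iff_of_iso (Scheme.Modules.restrictAdjunction V.ι).unit
      (asIso (Groth.L15.Ref.toHomMod L ω))).2 inferInstance
  exact bijective_of_units V hMc hDc _ y
    (ConcreteCategory.bijective_of_isIso ((Groth.L00.Stk.F Y y).map ((Scheme.Modules.restrictAdjunction V.ι).unit.app M)))
    (bijective_unit_of_pairs V _ y fun x hxy hxV => pairs_ddual M hMc x
      (pairs_along hS hd ω hω L hL t hLf hLt W hWt y hy x hxy fun hxW => hxV (hW x hxW).1).1) h1

set_option maxHeartbeats 1600000 in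
include hS hd hω hL hLf hLt hW hWt in
/-- invertibility of the sheaf of maps from that of its bidual -/
theorem invertibleAt_homSh_of_ddual (y : Y) (hy : (Y ↘ Spec (CommRingCat.of A)) y = t)
    (h : RelCanon.InvertibleAt (RefHull.ddual (RefHull.homSh L ω)) y) :
    RelCanon.InvertibleAt (RefHull.homSh L ω) y := by
  haveI := hS.1
  haveI : IsLocallyNoetherian Y := LocallyOfFiniteType.isLocallyNoetherian (Y ↘ Spec (CommRingCat.of A))
  have hωc : Coh.IsCoh ω := (isCoh_and_nontrivial d hd ω hω).1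
  obtain ⟨τ⟩ := exists_stalk_equiv_of_invertibleAt h
  exact invertibleAt_of_stalk (Groth.L15.Ref.isCoh_homSh L ω hL hωc) y
    ((LinearEquiv.ofBijective _ (bijective_bidual_along hS hd ω hω L hL t hLf hLt W hW hWt y hy)).trans τ)

set_option maxHeartbeats 1600000 in
include hS hd hω hL hLf hLt hW hWt in
/-- evaluation is bijective along the fibre where the sheaf of maps is invertible -/
theorem bijective_ev_along (y : Y) (hy : (Y ↘ Spec (CommRingCat.of A)) y = t)
    (hinv : RelCanon.InvertibleAt (RefHull.homSh L ω) y) : Function.Bijective (stk (evHom L ω) y) := by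
  let f := Y ↘ Spec (CommRingCat.of A)
  haveI := hS.1
  haveI : IsLocallyNoetherian Y := LocallyOfFiniteType.isLocallyNoetherian f
  haveI : CompactSpace Y := QuasiCompact.compactSpace_of_compactSpace f
  haveI : IsNoetherian Y := {}
  haveI : LocallyOfFinitePresentation f := LocallyOfFinitePresentation.iff_locallyOfFiniteType.mpr inferInstance
  have hωc : Coh.IsCoh ω := (isCoh_and_nontrivial d hd ω hω).1
  haveI := hωc.1
  let M := RefHull.homSh L ω
  have hMc : Coh.IsCoh M := Groth.L15.Ref.isCoh_homSh L ω hL hωc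
  have hTc : Coh.IsCoh (CohB1.tensorMod L M) := Groth.L15.Ref.isCoh_tensorMod hL hMc
  haveI := hTc.1
  let V : Y.Opens := ⟨{z | MoreMor.IsCMAt f z}, _root_.L02.CMMor.isOpen_cmLocus f⟩
  have hinvx : ∀ x, x ⤳ y → RelCanon.InvertibleAt M x := fun x hxy => by
    obtain ⟨N, hyN, hN⟩ := hinv
    exact ⟨N, hxy.mem_open N.2 hyN, hN⟩
  have hT : ∀ x, x ⤳ y → x ∉ W → ∃ b ∈ maximalIdeal (Y.presheaf.stalk x), ∃ c ∈ maximalIdeal (Y.presheaf.stalk x),
      IsSMulRegular ((CohB1.tensorMod L M).presheaf.stalk x) b ∧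
        IsSMulRegular (QuotSMulTop b ((CohB1.tensorMod L M).presheaf.stalk x)) c := fun x hxy hxW => by
    obtain ⟨e⟩ := nonempty_stalk_tensor (F := L) x (hinvx x hxy)
    exact pairs_congr e (pairs_along hS hd ω hω L hL t hLf hLt W hWt y hy x hxy hxW).2.1
  haveI := isIso_unit_dualizing hd ω hω V fun z hz => le_trans (by norm_num) (three_le_of_not_cm hS z hz)
  refine bijective_of_units V hTc hωc _ y
    (bijective_unit_of_pairs V _ y fun x hxy hxV => hT x hxy fun hxW => hxV (hW x hxW).1)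
    (ConcreteCategory.bijective_of_isIso ((Groth.L00.Stk.F Y y).map ((Scheme.Modules.restrictAdjunction V.ι).unit.app ω)))
    fun z hzy hzV => ?_
  exact bijective_of_pairs_on W hTc hωc _ z (fun x hxz hxW => hT x (hxz.trans hzy) hxW)
    (fun x hxz hxW => (pairs_along hS hd ω hω L hL t hLf hLt W hWt y hy x (hxz.trans hzy) hxW).2.2
      (hxz.mem_open V.2 hzV)) fun x _ hxW => (hW x hxW).2.2

set_option maxHeartbeats 3200000 in
include hS hd hω hL hLf hLt hW hWt in
/-- on the fibre the sheaf of maps is trivial -/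
theorem fibre_trivial :
    Nonempty (RefHull.dual ((Scheme.Modules.pullback ((Y ↘ Spec (CommRingCat.of A)).fiberι t)).obj
        (RefHull.dual (RefHull.homSh L ω))) ≅ Coh.structureModule ((Y ↘ Spec (CommRingCat.of A)).fiber t)) ∧
    ((∀ y, (Y ↘ Spec (CommRingCat.of A)) y = t → RelCanon.InvertibleAt (RefHull.homSh L ω) y) →
      Nonempty ((Scheme.Modules.pullback ((Y ↘ Spec (CommRingCat.of A)).fiberι t)).obj (RefHull.homSh L ω) ≅
        Coh.structureModule ((Y ↘ Spec (CommRingCat.of A)).fiber t))) := by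
  let f := Y ↘ Spec (CommRingCat.of A)
  haveI := hS.1
  haveI : IsLocallyNoetherian Y := LocallyOfFiniteType.isLocallyNoetherian f
  haveI : LocallyOfFinitePresentation f := LocallyOfFinitePresentation.iff_locallyOfFiniteType.mpr inferInstance
  let k := (Spec (CommRingCat.of A)).residueField t
  letI : Algebra A k := (Spec.preimage ((Spec (CommRingCat.of A)).fromSpecResidueField t)).hom.toAlgebra
  let Z := f.fiber t
  letI : Z.Over (Spec (CommRingCat.of k)) := ⟨f.fiberToSpecResidueField t⟩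
  let p : Z ⟶ Y := f.fiberι t
  have hp : IsPullback p (Z ↘ Spec (CommRingCat.of k)) f (Spec.map (CommRingCat.ofHom (algebraMap A k))) := by
    rw [show Spec.map (CommRingCat.ofHom (algebraMap A k)) = (Spec (CommRingCat.of A)).fromSpecResidueField t from
      Spec.map_preimage _]
    exact IsPullback.of_hasPullback _ _
  haveI : IsProper (Z ↘ Spec (CommRingCat.of k)) := MorphismProperty.of_isPullback hp (inferInstanceAs (IsProper f))
  haveI : Flat (Z ↘ Spec (CommRingCat.of k)) := MorphismProperty.of_isPullback hp (inferInstanceAs (Flat f))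
  haveI : IsLocallyNoetherian Z := LocallyOfFiniteType.isLocallyNoetherian (Z ↘ Spec (CommRingCat.of k))
  haveI : CompactSpace Z := QuasiCompact.compactSpace_of_compactSpace (Z ↘ Spec (CommRingCat.of k))
  haveI : IsNoetherian Z := {}
  haveI := isLeftAdjoint (A := A) (Y := Y) (d := d) hd
  have hdk := Groth.L22.Cyc.hasRelDim_baseChange hp hd
  let ωt := (Scheme.Modules.pullback p).obj L
  have hωt : RelCanon.IsDualizingSheaf k Z d ωt := hLt
  have hωtc : Coh.IsCoh ωt := Groth.L16.AffineBC.isCoh_pullback p hL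
  haveI := hωtc.1
  have hωc : Coh.IsCoh ω := (isCoh_and_nontrivial d hd ω hω).1
  let M := RefHull.homSh L ω
  have hMc : Coh.IsCoh M := Groth.L15.Ref.isCoh_homSh L ω hL hωc
  let P := (Scheme.Modules.pullback p).obj M
  have hPc : Coh.IsCoh P := Groth.L16.AffineBC.isCoh_pullback p hMc
  let V : Y.Opens := ⟨{z | MoreMor.IsCMAt f z}, _root_.L02.CMMor.isOpen_cmLocus f⟩
  obtain ⟨lam, hlam⟩ := exists_bcMap_bijective hp hd V (fun z hz => hz) ω hω ωt hωt
  let W' : Z.Opens := p ⁻¹ᵁ W
  let α : CohB1.tensorMod ωt P ⟶ ωt :=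
    (Groth.L29.DC.PullTensor.pullTensor p L M).hom ≫ (Scheme.Modules.pullback p).map (evHom L ω) ≫ lam
  let β : P ⟶ RefHull.homSh ωt ωt := curryEquiv ωt P ωt α ≫ inv (Groth.L15.Ref.toHomMod ωt ωt)
  have hβα : tensorMap (𝟙 ωt) β ≫ evHom ωt ωt = α := by
    show tensorMap (𝟙 ωt) β ≫ tensorMap (𝟙 ωt) (Groth.L15.Ref.toHomMod ωt ωt) ≫ evalMod ωt ωt = α
    rw [← Category.assoc, ← Groth.L00.Tensor.tensorMap_comp, Category.comp_id, Category.assoc, IsIso.inv_hom_id,
      Category.comp_id]
    exact (curryEquiv ωt P ωt).symm_apply_apply α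
  have hb : ∀ w ∈ W', Function.Bijective (stk β w) := fun w hw => by
    obtain ⟨hcm, hinv, hev⟩ := hW (p w) hw
    obtain ⟨eP⟩ := exists_stalk_equiv_of_invertibleAt (invertibleAt_pullback p w hinv)
    refine bijective_of_bijective_tensorMap hωtc w
      (endIsScalar_stalk_of_cm hdk ωt hωt w (isCMAt_fibre f t w hcm)) eP β ?_
    rw [hβα]
    have h2 := bijective_stk_pullback p (evHom L ω) w hev
    have h1 : Function.Bijective (stk (Groth.L29.DC.PullTensor.pullTensor p L M).hom w) :=
      ConcreteCategory.bijective_of_isIso ((Groth.L00.Stk.F Z w).map (Groth.L29.DC.PullTensor.pullTensor p L M).hom)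
    show Function.Bijective ((Groth.L00.Stk.F Z w).map α)
    simp only [α, Functor.map_comp]
    exact ((hlam w hcm).comp h2).comp h1
  haveI := isIso_restrict_of_stk β W' hb
  obtain ⟨eE⟩ := Groth.Agent.S19826.result k Z d (isSkMor_baseChange hp hS) hdk ωt hωt
  let OW := Coh.structureModule (W' : Scheme.{u})
  let eP : P.restrict W'.ι ≅ OW := asIso ((Scheme.Modules.restrictFunctor W'.ι).map β) ≪≫
    (Scheme.Modules.restrictFunctor W'.ι).mapIso eE ≪≫ Scheme.Modules.restrictUnitIso W'.ι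
  have hpairs : ∀ w, w ∉ W' → ∃ b ∈ maximalIdeal (Z.presheaf.stalk w), ∃ c ∈ maximalIdeal (Z.presheaf.stalk w),
      IsSMulRegular (Z.presheaf.stalk w) b ∧ IsSMulRegular (QuotSMulTop b (Z.presheaf.stalk w)) c := fun w hw =>
    exists_pair_fibre hS t w fun z hz => le_trans (by norm_num) (three_le_of_not_cm hS z fun hcm => hw (by
      have hzt : f z = t := by
        rw [hz]
        exact (f.range_fiberι t).le ⟨w, rfl⟩
      show p w ∈ W
      rw [show p w = z from hz.symm]
      exact hWt z hzt hcm))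
  haveI : Coh.IsQCoh (Coh.structureModule Z) := (Groth.L16.CohClosedPush.isCoh_structure (X := Z)).1
  have hOW : PicF.IsInvertible OW := fun z => ⟨⊤, trivial, ⟨Scheme.Modules.restrictUnitIso _⟩⟩
  obtain ⟨eOO⟩ := Groth.L22.Adjunction.nonempty_dual_iso hOW (Groth.L00.Tensor.tensorUnitLeft OW)
  refine ⟨?_, fun hall => ?_⟩
  · let G := RefHull.dual M
    have hGc : Coh.IsCoh G := Groth.L15.Ref.isCoh_dual hMc
    have hpGc := Groth.L16.AffineBC.isCoh_pullback p hGc
    haveI := (Groth.L15.Ref.isCoh_dual hpGc).1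
    have hMW : PicF.IsInvertible (M.restrict W.ι) :=
      isInvertible_restrict_of_invertibleAt M W fun z hz => (hW z hz).2.1
    let q := p ∣_ W
    obtain ⟨eq⟩ := Groth.L22.Adjunction.nonempty_dual_pullback q hMW
    let eG : ((Scheme.Modules.pullback p).obj G).restrict W'.ι ≅ OW :=
      restrictPull p W G ≪≫ (Scheme.Modules.pullback q).mapIso (dualRestrict W.ι M).symm ≪≫ eq.symm ≪≫
        RefFun.dualIso ((restrictPull p W M).symm ≪≫ eP) ≪≫ eOO
    exact nonempty_iso_of_pairs W' _ _ (fun w hw => pairs_dual _ hpGc w (hpairs w hw))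
      (fun w hw => pairs_structureModule w (hpairs w hw))
      ((dualRestrict W'.ι _).symm ≪≫ RefFun.dualIso eG ≪≫ eOO ≪≫ (Scheme.Modules.restrictUnitIso W'.ι).symm)
  · haveI := hPc.1
    refine nonempty_iso_of_pairs W' _ _ (fun w hw => ?_) (fun w hw => pairs_structureModule w (hpairs w hw))
      (eP ≪≫ (Scheme.Modules.restrictUnitIso W'.ι).symm)
    obtain ⟨e⟩ := exists_stalk_equiv_of_invertibleAt
      (invertibleAt_pullback p w (hall (p w) ((f.range_fiberι t).le ⟨w, rfl⟩)))
    exact pairs_congr (e.trans (Groth.L15.Ref.strE w)) (pairs_structureModule w (hpairs w hw))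

set_option maxHeartbeats 1600000 in
include hS hd hω hL hLf hLt hW hWt in
/-- free fibres of maps along the fibre -/
theorem exists_fibre_free_along (y : Y) (hy : (Y ↘ Spec (CommRingCat.of A)) y = t) :
    letI := algStalk (Y ↘ Spec (CommRingCat.of A)) y
    Nonempty (Core.Fn ((Spec (CommRingCat.of A)).presheaf.stalk ((Y ↘ Spec (CommRingCat.of A)) y)) (Y.presheaf.stalk y)
      ((Groth.L00.Stk.F Y y).obj (RefHull.dual (RefHull.homSh L ω)))
      ((Spec (CommRingCat.of A)).presheaf.stalk ((Y ↘ Spec (CommRingCat.of A)) y) ⧸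
        maximalIdeal ((Spec (CommRingCat.of A)).presheaf.stalk ((Y ↘ Spec (CommRingCat.of A)) y))) ≃ₗ[Y.presheaf.stalk y]
      Y.presheaf.stalk y ⊗[(Spec (CommRingCat.of A)).presheaf.stalk ((Y ↘ Spec (CommRingCat.of A)) y)]
        ((Spec (CommRingCat.of A)).presheaf.stalk ((Y ↘ Spec (CommRingCat.of A)) y) ⧸
          maximalIdeal ((Spec (CommRingCat.of A)).presheaf.stalk ((Y ↘ Spec (CommRingCat.of A)) y)))) := by
  let f := Y ↘ Spec (CommRingCat.of A)
  haveI := hS.1
  haveI : IsLocallyNoetherian Y := LocallyOfFiniteType.isLocallyNoetherian f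
  haveI : LocallyOfFiniteType (f.fiberToSpecResidueField (f y)) :=
    MorphismProperty.pullback_snd f ((Spec (CommRingCat.of A)).fromSpecResidueField (f y)) inferInstance
  haveI : IsLocallyNoetherian (f.fiber (f y)) :=
    LocallyOfFiniteType.isLocallyNoetherian (f.fiberToSpecResidueField (f y))
  have hωc : Coh.IsCoh ω := (isCoh_and_nontrivial d hd ω hω).1
  refine exists_fibre_free f (Groth.L15.Ref.isCoh_dual (Groth.L15.Ref.isCoh_homSh L ω hL hωc)) y ?_
  have key : ∀ t' : Spec (CommRingCat.of A), f y = t' →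
      Nonempty (RefHull.dual ((Scheme.Modules.pullback (f.fiberι t')).obj
        (RefHull.dual (RefHull.homSh L ω))) ≅ Coh.structureModule (f.fiber t')) →
      RelCanon.InvertibleAt (RefHull.dual ((Scheme.Modules.pullback (f.fiberι (f y))).obj
        (RefHull.dual (RefHull.homSh L ω)))) (f.asFiber y) := by
    rintro _ rfl ⟨e⟩
    exact invertibleAt_iso e.symm ⟨⊤, trivial, ⟨Scheme.Modules.restrictUnitIso _⟩⟩
  exact key t hy (fibre_trivial hS hd ω hω L hL t hLf hLt W hW hWt).1

set_option maxHeartbeats 1600000 in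
include hS hd hω hL hLf hLt hW hWt in
/-- with a fibre of depth three the sheaf of maps is invertible -/
theorem invertibleAt_homSh_of_S3 (y : Y) (hy : (Y ↘ Spec (CommRingCat.of A)) y = t)
    (h3 : RelCanon.SkAt 3 (Coh.structureModule ((Y ↘ Spec (CommRingCat.of A)).fiber ((Y ↘ Spec (CommRingCat.of A)) y)))
      ((Y ↘ Spec (CommRingCat.of A)).asFiber y)) :
    RelCanon.InvertibleAt (RefHull.homSh L ω) y := by
  let f := Y ↘ Spec (CommRingCat.of A)
  haveI := hS.1
  haveI : IsLocallyNoetherian Y := LocallyOfFiniteType.isLocallyNoetherian f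
  refine invertibleAt_homSh_of_ddual hS hd ω hω L hL t hLf hLt W hW hWt y hy ?_
  have hωc : Coh.IsCoh ω := (isCoh_and_nontrivial d hd ω hω).1
  let G := RefHull.dual (RefHull.homSh L ω)
  have hGc : Coh.IsCoh G := Groth.L15.Ref.isCoh_dual (Groth.L15.Ref.isCoh_homSh L ω hL hωc)
  have hGW : ∀ z, z ∈ W → RelCanon.InvertibleAt G z := fun z hz => by
    have h1 : PicF.IsInvertible (G.restrict W.ι) := Groth.L18.Ample.isInvertible_of_iso
      (dualRestrict W.ι (RefHull.homSh L ω))
      (isInvertible_dual (isInvertible_restrict_of_invertibleAt _ W fun w hw => (hW w hw).2.1))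
    exact invertibleAt_of_restrict W hGc hz ((RelCanon.isInvertible_iff_invertibleAt _).1 h1 ⟨z, hz⟩)
  obtain ⟨θ⟩ := exists_fibre_free_along hS hd ω hω L hL t hLf hLt W hW hWt y hy
  let At := (Spec (CommRingCat.of A)).presheaf.stalk (f y)
  let O := Y.presheaf.stalk y
  letI := algStalk f y
  haveI := isLocalHom_algStalk f y
  haveI := flat_algStalk f y
  haveI : Module.Finite O ((Groth.L00.Stk.F Y y).obj G) := Groth.L06.SupportStalk.finite_stalk G hGc _
  have hk0 : LocCoh.HasSk 3 O (O ⊗[At] (At ⧸ maximalIdeal At)) :=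
    (skAt_fibre_iff f (Coh.structureModule Y) Groth.L16.CohClosedPush.isCoh_structure 3 y O
      (fun a m => Algebra.smul_def a m) (Groth.L15.Ref.strE y).symm).1
      (skAt_of_iso (Groth.L29.LocFree.pullbackUnitIso _).symm h3)
  have hev := Core.ev_residue_surjective_of_depth_three
    (fibreDataOn f hS hGc W y hGW fun z hzy hz hzW => le_trans (by norm_num) (hcod_along hS t W hWt y hy z hzy hz hzW))
    (fun P _ hP => fibreDichOn f hGc W y hGW 3 (fun z hzy hz hzW => hcod_along hS t W hWt y hy z hzy hz hzW) P hP)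
    (hasSk_congr θ.symm hk0)
  exact invertibleAt_of_fibre f hGc y ⟨Core.ev_residue_injective hev, hev⟩ ⟨θ⟩

end Groth.L10.RelCan
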