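import Groth.Agent.L10.RelCan.Along
import Groth.Agent.L29.DCoh.RHomCoh

/-!
The sheaf of maps is invertible along the fibre when powers are, and the conclusions for the relative canonical sheaf.
-/

set_option autoImplicit false
set_option maxSynthPendingDepth 4
set_option linter.style.haveILetI false
set_option linter.unusedSectionVars false
set_option linter.unusedVariables false
set_option backward.defeqAttrib.useBackward true
set_option backward.isDefEq.respectTransparency false
set_option backward.isDefEq.respectTransparency.types false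
universe u

open CategoryTheory CategoryTheory.Limits AlgebraicGeometry TopologicalSpace IsLocalRing
open scoped TensorProduct

noncomputable section

namespace Groth.L10.RelCan

/-- trivialisations restrict to smaller opens -/
theorem nonempty_triv_mono {X : Scheme.{u}} {U N : X.Opens} (h : U ≤ N) {F : X.Modules}
    (e : F.restrict N.ι ≅ Coh.structureModule (N : Scheme.{u})) :
    Nonempty (F.restrict U.ι ≅ Coh.structureModule (U : Scheme.{u})) :=
  ⟨(Scheme.Modules.restrictFunctorCongr (show U.ι = X.homOfLE h ≫ N.ι by simp)).app F ≪≫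
    (Scheme.Modules.restrictFunctorComp _ N.ι).app F ≪≫
    (Scheme.Modules.restrictFunctor (X.homOfLE h)).mapIso e ≪≫ Scheme.Modules.restrictUnitIso _⟩

theorem nonempty_ddual_unit {X : Scheme.{u}} :
    Nonempty (RefHull.ddual (Coh.structureModule X) ≅ Coh.structureModule X) :=
  nonempty_ddual_invertible fun z => ⟨⊤, trivial, ⟨Scheme.Modules.restrictUnitIso _⟩⟩

variable {A : Type u} [CommRing A] [IsNoetherianRing A] {Y : Scheme.{u}} [Y.Over (Spec (CommRingCat.of A))]
  [IsProper (Y ↘ Spec (CommRingCat.of A))] {d : ℕ}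
  (hS : RelCanon.IsSkMor (Y ↘ Spec (CommRingCat.of A)) 2)
  (hd : Cyc.HasRelDim (Y ↘ Spec (CommRingCat.of A)) d) (ω : Y.Modules)
  (hω : RelCanon.IsDualizingSheaf A Y d ω) (L : Y.Modules) (hL : Coh.IsCoh L) (t : Spec (CommRingCat.of A))
  (hLf : ∀ y : Y, (Y ↘ Spec (CommRingCat.of A)) y = t → FlatMod.IsFlatOverAt (Y ↘ Spec (CommRingCat.of A)) L y)
  (hLt : RelCanon.IsDualizingSheafFib (Y ↘ Spec (CommRingCat.of A)) d L t)
  (W : Y.Opens)
  (hW : ∀ z ∈ W, MoreMor.IsCMAt (Y ↘ Spec (CommRingCat.of A)) z ∧ RelCanon.InvertibleAt (RefHull.homSh L ω) z ∧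
    Function.Bijective (stk (evHom L ω) z))
  (hWt : ∀ y, (Y ↘ Spec (CommRingCat.of A)) y = t → MoreMor.IsCMAt (Y ↘ Spec (CommRingCat.of A)) y → y ∈ W)

set_option maxHeartbeats 3200000 in
include hS hd hω hL hLf hLt hW hWt in
/-- powers of order prime to the residue characteristic -/
theorem invertibleAt_homSh_of_powers (y : Y) (hy : (Y ↘ Spec (CommRingCat.of A)) y = t) (r : ℕ) (hr : 0 < r)
    (hrk : (r : (Spec (CommRingCat.of A)).residueField t) ≠ 0)
    (hLr : RelCanon.InvertibleAt (RelCanon.refPowZ L r) y) (hωr : RelCanon.InvertibleAt (RelCanon.refPowZ ω r) y) :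
    RelCanon.InvertibleAt (RefHull.homSh L ω) y := by
  let f := Y ↘ Spec (CommRingCat.of A)
  haveI := hS.1
  haveI : IsLocallyNoetherian Y := LocallyOfFiniteType.isLocallyNoetherian f
  haveI : CompactSpace Y := QuasiCompact.compactSpace_of_compactSpace f
  haveI : IsNoetherian Y := {}
  refine invertibleAt_homSh_of_ddual hS hd ω hω L hL t hLf hLt W hW hWt y hy ?_
  have hωc : Coh.IsCoh ω := (isCoh_and_nontrivial d hd ω hω).1
  let M := RefHull.homSh L ω
  have hMc : Coh.IsCoh M := Groth.L15.Ref.isCoh_homSh L ω hL hωc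
  let G := RefHull.dual M
  have hGc : Coh.IsCoh G := Groth.L15.Ref.isCoh_dual hMc
  have hGW : ∀ z, z ∈ W → RelCanon.InvertibleAt G z := fun z hz => by
    have h1 : PicF.IsInvertible (G.restrict W.ι) := Groth.L18.Ample.isInvertible_of_iso
      (dualRestrict W.ι (RefHull.homSh L ω))
      (isInvertible_dual (isInvertible_restrict_of_invertibleAt _ W fun w hw => (hW w hw).2.1))
    exact invertibleAt_of_restrict W hGc hz ((RelCanon.isInvertible_iff_invertibleAt _).1 h1 ⟨z, hz⟩)
  have hrk' : (r : (Spec (CommRingCat.of A)).residueField (f y)) ≠ 0 := by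
    have key : ∀ t' : Spec (CommRingCat.of A), f y = t' → (r : (Spec (CommRingCat.of A)).residueField t') ≠ 0 →
        (r : (Spec (CommRingCat.of A)).residueField (f y)) ≠ 0 := by
      rintro _ rfl h
      exact h
    exact key t hy hrk
  refine invertibleAt_dual_of_powerOn f hS hGc W y hGW
    (fun z hzy hz hzW => le_trans (by norm_num) (hcod_along hS t W hWt y hy z hzy hz hzW)) r hr.ne' hrk' ?_
    (exists_fibre_free_along hS hd ω hω L hL t hLf hLt W hW hWt y hy)
  -- powers are trivial near the point on the good open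
  obtain ⟨NL, hyL, ⟨eL⟩⟩ := hLr
  obtain ⟨Nω, hyω, ⟨eω⟩⟩ := hωr
  let U : Y.Opens := W ⊓ (NL ⊓ Nω)
  obtain ⟨eLU⟩ := nonempty_triv_mono (show U ≤ NL from inf_le_right.trans inf_le_left) eL
  obtain ⟨eωU⟩ := nonempty_triv_mono (show U ≤ Nω from inf_le_right.trans inf_le_right) eω
  let F := L.restrict U.ι
  let m := M.restrict U.ι
  haveI : IsLocallyNoetherian (U : Scheme.{u}) := isLocallyNoetherian_of_isOpenImmersion U.ι
  have hFc : Coh.IsCoh F := Groth.L29.DC.RHomC.isCoh_restrict U.ι hL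
  have hm : PicF.IsInvertible m := isInvertible_restrict_of_invertibleAt M U fun z hz => (hW z hz.1).2.1
  haveI := isIso_restrict_of_stk (evHom L ω) U fun z hz => (hW z hz.1).2.2
  let e : CohB1.tensorMod F m ≅ ω.restrict U.ι :=
    Groth.L00.Tensor.tensorRestrict U.ι L M ≪≫ asIso ((Scheme.Modules.restrictFunctor U.ι).map (evHom L ω))
  have hFr : ∀ n, Coh.IsCoh (CohB1.tensorPow F n) := fun n => by
    induction n with
    | zero => exact Groth.L16.CohClosedPush.isCoh_structure
    | succ n ih => exact Groth.L15.Ref.isCoh_tensorMod ih hFc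
  have hmr : PicF.IsInvertible (CohB1.tensorPow m r) := Groth.L18.Ample.isInvertible_tensorPow hm r
  have hO : PicF.IsInvertible (Coh.structureModule (U : Scheme.{u})) :=
    fun z => ⟨⊤, trivial, ⟨Scheme.Modules.restrictUnitIso _⟩⟩
  obtain ⟨a1⟩ := nonempty_refPowZ_restrict U.ι L (r : ℤ)
  let T := RefHull.ddual (CohB1.tensorPow F r)
  let eT : T ≅ Coh.structureModule (U : Scheme.{u}) := a1 ≪≫ eLU
  obtain ⟨eN⟩ := nonempty_dual_tensor (hFr r) hmr (Groth.L18.Ample.isInvertible_of_iso eT.symm hO)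
  obtain ⟨a2⟩ := nonempty_refPowZ_restrict U.ι ω (r : ℤ)
  obtain ⟨a3⟩ := nonempty_refPowZ_congr e (r : ℤ)
  obtain ⟨a4⟩ := nonempty_ddual_invertible hmr
  let emr : CohB1.tensorPow m r ≅ Coh.structureModule (U : Scheme.{u}) :=
    a4.symm ≪≫ RefFun.ddualIso ((Groth.L00.Tensor.tensorUnitLeft _).symm ≪≫
      Groth.L00.Tensor.tensorIso eT.symm (Iso.refl _)) ≪≫ RefFun.dualIso eN ≪≫
      RefFun.ddualIso (Groth.L00.Tensor.tensorPowTensor F m r).symm ≪≫ a3 ≪≫ a2 ≪≫ eωU
  -- compare on the open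
  have hDc : Coh.IsCoh (RefHull.ddual M) := Groth.L15.Ref.isCoh_dual hGc
  have hpc : Coh.IsCoh (CohB1.tensorPow (RefHull.ddual M) r) := by
    have : ∀ n, Coh.IsCoh (CohB1.tensorPow (RefHull.ddual M) n) := fun n => by
      induction n with
      | zero => exact Groth.L16.CohClosedPush.isCoh_structure
      | succ n ih => exact Groth.L15.Ref.isCoh_tensorMod ih hDc
    exact this r
  obtain ⟨b1⟩ := nonempty_refPowZ_restrict U.ι (RefHull.ddual M) (r : ℤ)
  obtain ⟨b2⟩ := nonempty_ddual_invertible hm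
  obtain ⟨b3⟩ := nonempty_refPowZ_congr ((ddualRestrict U.ι M).symm ≪≫ b2) (r : ℤ)
  obtain ⟨b4⟩ := nonempty_refPowZ_tensorPow hm r
  obtain ⟨c1⟩ := nonempty_ddual_unit (X := Y)
  refine invertibleAt_ddual_of_restrict_iso f hS U (Groth.L16.CohClosedPush.isCoh_structure (X := Y)) hpc y
    (fun z hzy hz hzU => le_trans (by norm_num) (hcod_along hS t W hWt y hy z hzy hz fun hzW =>
      hzU ⟨hzW, hzy.mem_open NL.2 hyL, hzy.mem_open Nω.2 hyω⟩)) ?_
    (invertibleAt_iso c1.symm ⟨⊤, trivial, ⟨Scheme.Modules.restrictUnitIso _⟩⟩)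
  exact b1.symm ≪≫ b3 ≪≫ b4 ≪≫ emr ≪≫ (Scheme.Modules.restrictUnitIso U.ι).symm ≪≫
    (Scheme.Modules.restrictFunctor U.ι).mapIso c1.symm

set_option maxHeartbeats 3200000 in
include hS hd hω hL hLf hLt hW hWt in
/-- the conclusions when the sheaf of maps is invertible along the fibre -/
theorem conclusions_along
    (hinv : ∀ y, (Y ↘ Spec (CommRingCat.of A)) y = t → RelCanon.InvertibleAt (RefHull.homSh L ω) y) :
    (∀ y, (Y ↘ Spec (CommRingCat.of A)) y = t → RelCanon.RelSkAt (Y ↘ Spec (CommRingCat.of A)) 2 ω y) ∧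
    Nonempty ((Scheme.Modules.pullback ((Y ↘ Spec (CommRingCat.of A)).fiberι t)).obj (RefHull.homSh L ω) ≅
      Coh.structureModule ((Y ↘ Spec (CommRingCat.of A)).fiber t)) ∧
    RelCanon.IsDualizingSheafFib (Y ↘ Spec (CommRingCat.of A)) d ω t ∧
    ∃ V : Y.Opens, (∀ y, (Y ↘ Spec (CommRingCat.of A)) y = t → y ∈ V) ∧
      Nonempty ((CohB1.tensorMod L (RefHull.homSh L ω)).restrict V.ι ≅ ω.restrict V.ι) := by
  let f := Y ↘ Spec (CommRingCat.of A)
  haveI := hS.1
  haveI : IsLocallyNoetherian Y := LocallyOfFiniteType.isLocallyNoetherian f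
  have hωc : Coh.IsCoh ω := (isCoh_and_nontrivial d hd ω hω).1
  let M := RefHull.homSh L ω
  have hMc : Coh.IsCoh M := Groth.L15.Ref.isCoh_homSh L ω hL hωc
  have hev : ∀ y, f y = t → Function.Bijective (stk (evHom L ω) y) := fun y hy =>
    bijective_ev_along hS hd ω hω L hL t hLf hLt W hW hWt y hy (hinv y hy)
  obtain ⟨eP⟩ := (fibre_trivial hS hd ω hω L hL t hLf hLt W hW hWt).2 hinv
  refine ⟨fun y hy => ?_, ⟨eP⟩, ?_, ?_⟩
  · obtain ⟨e⟩ := nonempty_stalk_tensor (F := L) y (hinv y hy)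
    exact relSkAt_of_stalkEquiv f hL hωc ((LinearEquiv.ofBijective _ (hev y hy)).symm.trans e)
      (relSkAt_two_of_fib hS hd L hL t hLf hLt y hy)
  · let p := f.fiberι t
    letI : (f.fiber t).Over (Spec (CommRingCat.of ((Spec (CommRingCat.of A)).residueField t))) :=
      ⟨f.fiberToSpecResidueField t⟩
    haveI : IsIso ((Scheme.Modules.pullback p).map (evHom L ω)) := isIso_of_stk _ fun v =>
      bijective_stk_pullback p _ v (hev (p v) ((f.range_fiberι t).le ⟨v, rfl⟩))
    let e : (Scheme.Modules.pullback p).obj L ≅ (Scheme.Modules.pullback p).obj ω :=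
      (Groth.L00.Tensor.tensorUnitRight _).symm ≪≫ Groth.L00.Tensor.tensorIso (Iso.refl _) eP.symm ≪≫
        Groth.L29.DC.PullTensor.pullTensor p L M ≪≫ asIso ((Scheme.Modules.pullback p).map (evHom L ω))
    exact isDualizingSheaf_of_iso e hLt
  · let V : Y.Opens := ⟨{z | Function.Bijective (stk (evHom L ω) z)},
      exists_nhd_bijective (Groth.L15.Ref.isCoh_tensorMod hL hMc) hωc _⟩
    haveI := isIso_restrict_of_stk (evHom L ω) V fun z hz => hz
    exact ⟨V, hev, ⟨asIso ((Scheme.Modules.restrictFunctor V.ι).map (evHom L ω))⟩⟩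

end Groth.L10.RelCan
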