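import Groth.Agent.L10.RelCan.DualPull

/-!
Reflexive powers invertible on the fibre are invertible on the family where they satisfy relative Serre condition two.
-/

set_option autoImplicit false
set_option maxSynthPendingDepth 4
set_option linter.style.haveILetI false
set_option linter.unusedSectionVars false
set_option backward.defeqAttrib.useBackward true
set_option backward.isDefEq.respectTransparency false
set_option backward.isDefEq.respectTransparency.types false
universe u

open CategoryTheory CategoryTheory.Limits AlgebraicGeometry TopologicalSpace IsLocalRing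
open scoped TensorProduct

noncomputable section

namespace Groth.L10.RelCan

/-- stalks at a point of invertibility -/
theorem exists_stalk_equiv_of_invertibleAt {X : Scheme.{u}} {G : X.Modules} {z : X} (hz : RelCanon.InvertibleAt G z) :
    Nonempty ((Groth.L00.Stk.F X z).obj G ≃ₗ[X.presheaf.stalk z] X.presheaf.stalk z) := by
  obtain ⟨V, hzV, ⟨eV⟩⟩ := hz
  let v : (V : Scheme.{u}) := ⟨z, hzV⟩
  let ι := V.ι
  let Oz := X.presheaf.stalk z
  let Ov := (V : Scheme.{u}).presheaf.stalk v
  letI : Algebra Oz Ov := (ι.stalkMap v).hom.toAlgebra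
  haveI : IsIso (ι.stalkMap v) := inferInstance
  have hb : Function.Bijective (algebraMap Oz Ov) := ConcreteCategory.bijective_of_isIso (ι.stalkMap v)
  let E : Ov ⊗[Oz] (Groth.L00.Stk.F X z).obj G ≃ₗ[Ov] Ov :=
    (((Groth.L00.PullStalk.stalkIso ι v).app G).toLinearEquiv.symm.trans
      ((Groth.L00.Stk.F (V : Scheme.{u}) v).mapIso
        (((Scheme.Modules.restrictFunctorIsoPullback ι).app G).symm ≪≫ eV)).toLinearEquiv).trans
      (Groth.L15.Ref.strE v).symm
  let a : Oz ≃ₗ[Oz] Ov := LinearEquiv.ofBijective (Algebra.linearMap Oz Ov) hb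
  exact ⟨(((TensorProduct.lid Oz _).symm.trans (TensorProduct.congr a (LinearEquiv.refl Oz _))).trans
    (E.restrictScalars Oz)).trans a.symm⟩

variable {A : Type u} [CommRing A] [IsNoetherianRing A] {Y : Scheme.{u}} [Y.Over (Spec (CommRingCat.of A))]
  [IsProper (Y ↘ Spec (CommRingCat.of A))] {d : ℕ}

variable (hS : RelCanon.IsSkMor (Y ↘ Spec (CommRingCat.of A)) 2)
  (hd : Cyc.HasRelDim (Y ↘ Spec (CommRingCat.of A)) d) (ω : Y.Modules)
  (hω : RelCanon.IsDualizingSheaf A Y d ω) (hG : GorCodim (Y ↘ Spec (CommRingCat.of A)))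
  (s : Spec (CommRingCat.of A)) (ωt : ((Y ↘ Spec (CommRingCat.of A)).fiber s).Modules)
  (hωt : @RelCanon.IsDualizingSheaf ((Spec (CommRingCat.of A)).residueField s) _ ((Y ↘ Spec (CommRingCat.of A)).fiber s)
    ⟨(Y ↘ Spec (CommRingCat.of A)).fiberToSpecResidueField s⟩ d ωt)

set_option maxHeartbeats 1600000 in
include hS hd hω hG hωt in
theorem invertibleAt_refPowZ_iff_fibre (m : ℤ) (v : (Y ↘ Spec (CommRingCat.of A)).fiber s)
    (hR : RelCanon.RelSkAt (Y ↘ Spec (CommRingCat.of A)) 2 (RelCanon.refPowZ ω m)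
      ((Y ↘ Spec (CommRingCat.of A)).fiberι s v)) :
    RelCanon.InvertibleAt (RelCanon.refPowZ ω m) ((Y ↘ Spec (CommRingCat.of A)).fiberι s v) ↔
      RelCanon.InvertibleAt (RelCanon.refPowZ ωt m) v := by
  let f := Y ↘ Spec (CommRingCat.of A)
  haveI := hS.1
  haveI : IsLocallyNoetherian Y := LocallyOfFiniteType.isLocallyNoetherian f
  let k := (Spec (CommRingCat.of A)).residueField s
  letI : Algebra A k := (Spec.preimage ((Spec (CommRingCat.of A)).fromSpecResidueField s)).hom.toAlgebra
  letI : (f.fiber s).Over (Spec (CommRingCat.of k)) := ⟨f.fiberToSpecResidueField s⟩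
  have hp : IsPullback (f.fiberι s) ((f.fiber s) ↘ Spec (CommRingCat.of k)) f
      (Spec.map (CommRingCat.ofHom (algebraMap A k))) := by
    rw [show Spec.map (CommRingCat.ofHom (algebraMap A k)) = (Spec (CommRingCat.of A)).fromSpecResidueField s from
      Spec.map_preimage _]
    exact IsPullback.of_hasPullback _ _
  haveI : LocallyOfFiniteType ((f.fiber s) ↘ Spec (CommRingCat.of k)) :=
    MorphismProperty.of_isPullback hp inferInstance
  haveI : IsLocallyNoetherian (f.fiber s) :=
    LocallyOfFiniteType.isLocallyNoetherian ((f.fiber s) ↘ Spec (CommRingCat.of k))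
  refine ⟨invertibleAt_refPowZ_pullback hS hd ω hω hG hp ωt hωt m v, fun h => ?_⟩
  obtain ⟨G, hGc, hGeq, hinv⟩ := exists_predual hS hd ω hω m
  obtain ⟨eR⟩ := nonempty_dual_pullback_refPowZ hS hd ω hω hG hp ωt hωt m hGc hGeq hinv
  rw [hGeq] at hR ⊢
  let y := f.fiberι s v
  let O := Y.presheaf.stalk y
  let At := (Spec (CommRingCat.of A)).presheaf.stalk (f y)
  let Ov := (f.fiber s).presheaf.stalk v
  letI := algStalk f y
  letI : Algebra O Ov := ((f.fiberι s).stalkMap v).hom.toAlgebra
  obtain ⟨hsurj, hker⟩ := Groth.L18.stalkMap_fiberι f s v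
  refine invertibleAt_of_fibre f hGc y
    (ev_bijective_of_relSkAt f hS hGc y hinv (fun z _ _ hz => hG z hz) hR) ?_
  let N := (Groth.L00.Stk.F (f.fiber s) v).obj (RefHull.dual ((Scheme.Modules.pullback (f.fiberι s)).obj G))
  letI : Module O N := Module.compHom _ ((f.fiberι s).stalkMap v).hom
  haveI : IsScalarTower O Ov N := .of_algebraMap_smul fun _ _ => rfl
  obtain ⟨Φ⟩ := exists_dualPullEquiv f (f.fiberι s) hGc v (maximalIdeal At) hsurj hker
  obtain ⟨T, -⟩ := nonempty_quot_equiv (A := At) (maximalIdeal At) (O' := Ov) hsurj hker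
  obtain ⟨e⟩ := exists_stalk_equiv_of_invertibleAt h
  let e' : N ≃ₗ[Ov] Ov := ((Groth.L00.Stk.F (f.fiber s) v).mapIso eR).toLinearEquiv.trans e
  exact ⟨Φ.symm.trans ((e'.restrictScalars O).trans T)⟩

end Groth.L10.RelCan
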