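import Groth.Agent.L10.RelCan.HomPush
import Groth.Agent.L10.RelCan.DDualBC
import Groth.Agent.L10.RelCan.FibreIndex
import Groth.Agent.L16.ProperFinite
import Groth.Prelude.Def_RefFun

/-!
Duals of tensor products with locally free modules of rank one.
-/

set_option autoImplicit false
set_option linter.style.haveILetI false
set_option linter.unusedSectionVars false
set_option maxSynthPendingDepth 4
set_option backward.defeqAttrib.useBackward true
set_option backward.isDefEq.respectTransparency false
set_option backward.isDefEq.respectTransparency.types false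
universe u

open CategoryTheory CategoryTheory.Limits AlgebraicGeometry TopologicalSpace
open scoped TensorProduct

noncomputable section

namespace Groth.L10.RelCan

variable {X : Scheme.{u}} [IsLocallyNoetherian X]

/-- restriction along biduality is bijective where the double dual is free of rank one -/
theorem bijective_lcomp_eval {O M : Type u} [CommRing O] [IsLocalRing O] [AddCommGroup M] [Module O M]
    (e : ((M →ₗ[O] O) →ₗ[O] O) ≃ₗ[O] O) :
    Function.Bijective fun g : ((M →ₗ[O] O) →ₗ[O] O) →ₗ[O] O => g.comp (Module.Dual.eval O M) := by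
  let D := M →ₗ[O] O
  let r : ((D →ₗ[O] O) →ₗ[O] O) →ₗ[O] D := LinearMap.lcomp O O (Module.Dual.eval O M)
  have hr : ∀ f : D, r (Module.Dual.eval O D f) = f := fun f => LinearMap.ext fun m => rfl
  let σ : ((D →ₗ[O] O) →ₗ[O] O) ≃ₗ[O] O := (LinearEquiv.congrLeft O O e).trans (LinearMap.ringLmapEquivSelf O O O)
  let p : O →ₗ[O] O := σ.toLinearMap.comp ((Module.Dual.eval O D).comp (r.comp σ.symm.toLinearMap))
  have hp : ∀ a : O, p (p a) = p a := fun a => by
    simp only [p, LinearMap.comp_apply, LinearEquiv.coe_coe, LinearEquiv.symm_apply_apply, hr]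
  have hpa : ∀ a : O, p a = a * p 1 := fun a => by
    conv_lhs => rw [← mul_one a, ← smul_eq_mul, map_smul, smul_eq_mul]
  rcases IsLocalRing.isUnit_or_isUnit_one_sub_self (p 1) with h | h
  · have h1 : p 1 = 1 := h.mul_left_cancel (by rw [mul_one, ← hpa, hp])
    refine ⟨fun g g' hg => σ.injective ?_, fun f => ⟨Module.Dual.eval O D f, hr f⟩⟩
    have key : ∀ g, σ g = σ (Module.Dual.eval O D (r g)) := fun g => by
      have h2 : p (σ g) = σ g := by rw [hpa, h1, mul_one]
      exact h2.symm.trans (by simp [p])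
    rw [key g, key g', show r g = r g' from hg]
  · have h0 : p 1 = 0 := (h.mul_left_eq_zero).1 (by rw [mul_sub, mul_one, ← hpa, hp, sub_self])
    have hD : ∀ f : D, f = 0 := fun f => by
      have h2 : p (σ (Module.Dual.eval O D f)) = 0 := by rw [hpa, h0, mul_zero]
      have h3 : Module.Dual.eval O D f = 0 := σ.injective (by
        rw [map_zero, ← h2]
        simp only [p, LinearMap.comp_apply, LinearEquiv.coe_coe, LinearEquiv.symm_apply_apply, hr])
      rw [← hr f, h3, map_zero]
    have h4 : e.symm 1 = 0 := LinearMap.ext fun f => by rw [hD f, map_zero, LinearMap.zero_apply]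
    exact absurd ((e.apply_symm_apply 1).symm.trans (by rw [h4, map_zero])) one_ne_zero

/-- the transpose at a stalk -/
theorem homE_dualMap {F G : X.Modules} (hF : Coh.IsCoh F) (hG : Coh.IsCoh G) (ψ : F ⟶ G) (x : X)
    [Coh.IsQCoh (Coh.structureModule X)] (θ : (RefHull.dual G).presheaf.stalk x) :
    homE hF x (stk (RefFun.dualMap ψ) x θ) = (homE hG x θ).comp (stk ψ x) := by
  obtain ⟨U, hU, g, rfl⟩ := TopCat.Presheaf.exists_germ_eq (F := (RefHull.dual G).presheaf) (x := x) θ
  refine LinearMap.ext fun v => ?_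
  obtain ⟨W, hW, m, rfl⟩ := TopCat.Presheaf.exists_germ_eq (F := F.presheaf) (x := x) v
  show RefHull.evalStalk F _ x (stk (RefFun.dualMap ψ) x _) _ = RefHull.evalStalk G _ x _ (stk ψ x _)
  rw [show stk (RefFun.dualMap ψ) x ((RefHull.dual G).presheaf.germ U x hU g) =
      (RefHull.dual F).presheaf.germ U x hU ((RefFun.dualMap ψ).app U g) from
    DerSch.stalkFunctor_map_germ x (RefFun.dualMap ψ) U hU g,
    RefHull.evalStalk_germ, RefHull.evalStalk_germ, RefFun.homComap_app_apply]
  show g.1 ⟨x, hU⟩ (RefHull.stalkMapₗ ψ x _) = g.1 ⟨x, hU⟩ (stk ψ x _)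
  refine congrArg (g.1 ⟨x, hU⟩) ?_
  rw [RefHull.stalkMapₗ_germ]
  exact (DerSch.stalkFunctor_map_germ x ψ W hW m).symm

/-- biduality at a stalk -/
theorem dualStalk_bidual {F : X.Modules} (hF : Coh.IsCoh F) (x : X)
    (v : F.presheaf.stalk x) :
    dualStalk (Groth.L15.Ref.isCoh_dual hF) x (stk (RefHull.bidualMap F) x v) =
      (Module.Dual.eval _ _ v).comp (dualStalk hF x).toLinearMap := by
  refine LinearMap.ext fun θ => ?_
  have h : RefHull.stalkMapₗ (RefHull.bidualMap F) x v = stk (RefHull.bidualMap F) x v := by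
    obtain ⟨U, hU, m, rfl⟩ := TopCat.Presheaf.exists_germ_eq (F := F.presheaf) (x := x) v
    rw [RefHull.stalkMapₗ_germ]
    exact (DerSch.stalkFunctor_map_germ x (RefHull.bidualMap F) U hU m).symm
  have h1 := LinearMap.congr_fun (LinearMap.congr_fun (Groth.L15.Ref.stalkMapₗ_bidual F x) v) θ
  rw [LinearMap.comp_apply, h, RefHull.bidualAt_apply] at h1
  exact congrArg (Groth.L15.Ref.strE x).symm h1

/-- double duals of tensor products with invertible modules -/
theorem nonempty_dual_tensor {F N : X.Modules} (hF : Coh.IsCoh F) (hN : PicF.IsInvertible N)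
    (hT : PicF.IsInvertible (RefHull.ddual F)) :
    Nonempty (RefHull.dual (CohB1.tensorMod (RefHull.ddual F) N) ≅ RefHull.dual (CohB1.tensorMod F N)) := by
  haveI : Coh.IsQCoh (Coh.structureModule X) := (Groth.L16.CohClosedPush.isCoh_structure (X := X)).1
  have hNc := Groth.L16.ProperFinite.isCoh_of_isInvertible hN
  have hD := Groth.L15.Ref.isCoh_dual hF
  have hDD := Groth.L15.Ref.isCoh_dual hD
  have hS := Groth.L15.Ref.isCoh_tensorMod hF hNc
  have hT' := Groth.L15.Ref.isCoh_tensorMod hDD hNc
  let m : CohB1.tensorMod F N ⟶ CohB1.tensorMod (RefHull.ddual F) N :=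
    Groth.L00.Tensor.tensorMap (RefHull.bidualMap F) (𝟙 N)
  have hb : ∀ x, Function.Bijective (stk (RefFun.dualMap m) x) := fun x => by
    let O := X.presheaf.stalk x
    obtain ⟨n⟩ := exists_stalk_equiv_of_invertibleAt ((RelCanon.isInvertible_iff_invertibleAt N).1 hN x)
    obtain ⟨t⟩ := exists_stalk_equiv_of_invertibleAt ((RelCanon.isInvertible_iff_invertibleAt _).1 hT x)
    let Fx := (Groth.L00.Stk.F X x).obj F
    let Tx := (Groth.L00.Stk.F X x).obj (RefHull.ddual F)
    let E : Tx ≃ₗ[O] ((Fx →ₗ[O] O) →ₗ[O] O) :=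
      (dualStalk hD x).trans (LinearEquiv.congrLeft O O (dualStalk hF x))
    have hE : ∀ v : Fx, E (stk (RefHull.bidualMap F) x v) = Module.Dual.eval O Fx v := fun v => by
      refine LinearMap.ext fun f => ?_
      show dualStalk hD x (stk (RefHull.bidualMap F) x v) ((dualStalk hF x).symm f) = f v
      rw [dualStalk_bidual hF x v]
      show (dualStalk hF x ((dualStalk hF x).symm f)) v = f v
      rw [LinearEquiv.apply_symm_apply]
    have h1 := bijective_lcomp_eval (E.symm.trans t)
    -- conjugate by the stalks of the tensor products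
    let S' : (Fx ⊗[O] (Groth.L00.Stk.F X x).obj N) ≃ₗ[O] (Groth.L00.Stk.F X x).obj (CohB1.tensorMod F N) :=
      (Groth.L00.Stk.τ x F N).toLinearEquiv
    let T' : (Tx ⊗[O] (Groth.L00.Stk.F X x).obj N) ≃ₗ[O]
        (Groth.L00.Stk.F X x).obj (CohB1.tensorMod (RefHull.ddual F) N) :=
      (Groth.L00.Stk.τ x (RefHull.ddual F) N).toLinearEquiv
    let S := ((TensorProduct.congr (LinearEquiv.refl O Fx) n).trans (TensorProduct.rid O Fx)).symm.trans S'
    let T := (E.symm.trans ((TensorProduct.congr (LinearEquiv.refl O Tx) n).trans (TensorProduct.rid O Tx)).symm).trans T'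
    have hm : ∀ v, stk m x (S v) = T (Module.Dual.eval O Fx v) := fun v => by
      show stk m x (S' (v ⊗ₜ n.symm 1)) = T' (E.symm (Module.Dual.eval O Fx v) ⊗ₜ n.symm 1)
      rw [← hE, LinearEquiv.symm_apply_apply]
      have h2 := LinearMap.congr_fun (congrArg ModuleCat.Hom.hom (Groth.L00.Stk.τ_natural x (RefHull.bidualMap F) (𝟙 N)))
        (v ⊗ₜ[O] n.symm 1)
      refine h2.symm.trans ?_
      show (Groth.L00.Stk.τ x (RefHull.ddual F) N).hom
        (stk (RefHull.bidualMap F) x v ⊗ₜ (Groth.L00.Stk.F X x).map (𝟙 N) (n.symm 1)) = _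
      rw [CategoryTheory.Functor.map_id]
      rfl
    let D₁ := (dualStalk hT' x).trans (LinearEquiv.congrLeft O O T.symm)
    let D₂ := (dualStalk hS x).trans (LinearEquiv.congrLeft O O S.symm)
    have hd : ∀ θ, D₂ (stk (RefFun.dualMap m) x θ) = (D₁ θ).comp (Module.Dual.eval O Fx) := fun θ => by
      refine LinearMap.ext fun v => ?_
      show (Groth.L15.Ref.strE x).symm (homE hS x (stk (RefFun.dualMap m) x θ) (S v)) =
        (Groth.L15.Ref.strE x).symm (homE hT' x θ (T (Module.Dual.eval O Fx v)))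
      rw [homE_dualMap hS hT' m x θ, ← hm]
      rfl
    have h3 : Function.Bijective (D₂ ∘ stk (RefFun.dualMap m) x) := by
      rw [show (D₂ ∘ stk (RefFun.dualMap m) x : _ → _) = (fun g => g.comp (Module.Dual.eval O Fx)) ∘ D₁ from funext hd]
      exact h1.comp D₁.bijective
    exact (Function.Bijective.of_comp_iff' D₂.bijective _).1 h3
  haveI : IsIso (RefFun.dualMap m) := Scheme.Modules.Hom.isIso_iff_isIso_app.2 fun U =>
    (ConcreteCategory.isIso_iff_bijective _).2 (Groth.L15.Ref.app_bijective_of_stalk _ fun z _ => hb z)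
  exact ⟨asIso (RefFun.dualMap m)⟩

end Groth.L10.RelCan
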