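import Groth.Agent.L10.RelCan.HartogsStalk
import Groth.Agent.L10.RelCan.TensorDual
import Groth.Agent.L10.RelCan.CMEnd
import Groth.Agent.L10.RelCan.FibreIndex
import Groth.Agent.L10.RelCan.PowPull
import Groth.Agent.L29.DCoh.PullTensor

/-!
Tools for the relative canonical sheaf along one fibre.
-/

set_option autoImplicit false
set_option maxSynthPendingDepth 4
set_option linter.style.haveILetI false
set_option linter.unusedSectionVars false
set_option backward.defeqAttrib.useBackward true
set_option backward.isDefEq.respectTransparency false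
set_option backward.isDefEq.respectTransparency.types false
universe u

open CategoryTheory CategoryTheory.Limits AlgebraicGeometry TopologicalSpace IsLocalRing
open scoped TensorProduct

noncomputable section

namespace Groth.L10.RelCan

open Groth.L00.Tensor (tensorMap)

variable {X : Scheme.{u}}

/-- bijectivity at a stalk pulls back -/
theorem bijective_stk_pullback {Z : Scheme.{u}} (p : Z ⟶ X) {G H : X.Modules} (φ : G ⟶ H) (v : Z)
    (h : Function.Bijective (stk φ (p v))) :
    Function.Bijective (stk ((Scheme.Modules.pullback p).map φ) v) := by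
  haveI : IsIso ((Groth.L00.Stk.F X (p v)).map φ) := (ConcreteCategory.isIso_iff_bijective _).2 h
  haveI : IsIso ((Scheme.Modules.pullback p ⋙ Groth.L00.Stk.F Z v).map φ) :=
    (NatIso.isIso_map_iff (Groth.L00.PullStalk.stalkIso p v) φ).2
      (Functor.map_isIso (ModuleCat.extendScalars (Groth.L00.PullStalk.φ p v)) ((Groth.L00.Stk.F X (p v)).map φ))
  exact (ConcreteCategory.bijective_of_isIso _ :
    Function.Bijective ((Scheme.Modules.pullback p ⋙ Groth.L00.Stk.F Z v).map φ))

/-- a map bijective on an open is an isomorphism there -/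
theorem isIso_restrict_of_stk {G H : X.Modules} (φ : G ⟶ H) (U : X.Opens)
    (h : ∀ z ∈ U, Function.Bijective (stk φ z)) : IsIso ((Scheme.Modules.restrictFunctor U.ι).map φ) :=
  Groth.L17.Approx.isIso_restrict_of_bijective φ U fun _ hO =>
    Groth.L15.Ref.app_bijective_of_stalk φ fun z hz => h z (hO hz)

/-- a map bijective at all stalks is an isomorphism -/
theorem isIso_of_stk {G H : X.Modules} (φ : G ⟶ H) (h : ∀ z : X, Function.Bijective (stk φ z)) : IsIso φ :=
  Scheme.Modules.Hom.isIso_iff_isIso_app.2 fun U =>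
    (ConcreteCategory.isIso_iff_bijective _).2 (Groth.L15.Ref.app_bijective_of_stalk _ fun z _ => h z)

/-- invertible stalks are reflexive -/
theorem bijective_bidual_of_invertibleAt [IsLocallyNoetherian X] {M : X.Modules} (hM : Coh.IsCoh M) (x : X)
    (h : RelCanon.InvertibleAt M x) : Function.Bijective (stk (RefHull.bidualMap M) x) := by
  obtain ⟨e⟩ := exists_stalk_equiv_of_invertibleAt h
  haveI : Module.Free (X.presheaf.stalk x) (M.presheaf.stalk x) := Module.Free.of_equiv e.symm
  haveI := Groth.L15.Ref.finite_stalk hM x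
  haveI : Coh.IsQCoh (Coh.structureModule X) := (Groth.L16.CohClosedPush.isCoh_structure (X := X)).1
  have h1 := (Groth.L15.Ref.bidualAt_bijective_iff hM x).2
    (inferInstanceAs (Module.IsReflexive (X.presheaf.stalk x) (M.presheaf.stalk x)))
  rw [← Groth.L15.Ref.stalkMapₗ_bidual] at h1
  exact (Function.Bijective.of_comp_iff' (Groth.L15.Ref.evalStalk_bijective (RefHull.dual M)
    (Coh.structureModule X) (Groth.L15.Ref.isCoh_dual hM) x) _).1 h1

/-- where the map to endomorphisms is onto a free module of rank one, it is bijective as soon as evaluation is -/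
theorem bijective_of_bijective_tensorMap [IsLocallyNoetherian X] {L P : X.Modules} (hL : Coh.IsCoh L) (x : X)
    (hend : EndIsScalar (X.presheaf.stalk x) (L.presheaf.stalk x))
    (hP : (Groth.L00.Stk.F X x).obj P ≃ₗ[X.presheaf.stalk x] X.presheaf.stalk x)
    (β : P ⟶ RefHull.homSh L L)
    (h : Function.Bijective (stk (tensorMap (𝟙 L) β ≫ evHom L L) x)) : Function.Bijective (stk β x) := by
  haveI := hL.1
  let O := X.presheaf.stalk x
  let Φ : O ≃ₗ[O] (L.presheaf.stalk x →ₗ[O] L.presheaf.stalk x) :=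
    LinearEquiv.ofBijective (LinearMap.toSpanSingleton O _ LinearMap.id) hend
  let σ : (Groth.L00.Stk.F X x).obj (RefHull.homSh L L) ≃ₗ[O] O := (homE hL x).trans Φ.symm
  let a := σ (stk β x (hP.symm 1))
  have key : ∀ l : L.presheaf.stalk x, stk (tensorMap (𝟙 L) β ≫ evHom L L) x
      ((Groth.L00.Stk.τ x L P).hom (l ⊗ₜ hP.symm 1)) = a • l := fun l => by
    have h2 : (Groth.L00.Stk.F X x).map (tensorMap (𝟙 L) β) ((Groth.L00.Stk.τ x L P).hom (l ⊗ₜ hP.symm 1)) =
        (Groth.L00.Stk.τ x L (RefHull.homSh L L)).hom (l ⊗ₜ stk β x (hP.symm 1)) := by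
      refine (LinearMap.congr_fun (congrArg ModuleCat.Hom.hom (Groth.L00.Stk.τ_natural x (𝟙 L) β))
        (l ⊗ₜ[O] hP.symm 1)).symm.trans ?_
      show (Groth.L00.Stk.τ x L (RefHull.homSh L L)).hom
        ((Groth.L00.Stk.F X x).map (𝟙 L) l ⊗ₜ stk β x (hP.symm 1)) = _
      rw [CategoryTheory.Functor.map_id]
      rfl
    show ((Groth.L00.Stk.F X x).map (tensorMap (𝟙 L) β ≫ evHom L L)) _ = _
    rw [Functor.map_comp]
    show stk (evHom L L) x ((Groth.L00.Stk.F X x).map (tensorMap (𝟙 L) β) _) = _
    rw [h2, evHom_stalk]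
    have h3 : homE hL x (stk β x (hP.symm 1)) = Φ a := by
      simp only [a, σ, LinearEquiv.trans_apply]
      exact (Φ.apply_symm_apply _).symm
    exact LinearMap.congr_fun h3 l
  let T : ((Groth.L00.Stk.F X x).obj L ⊗[O] (Groth.L00.Stk.F X x).obj P) ≃ₗ[O]
      (Groth.L00.Stk.F X x).obj (CohB1.tensorMod L P) := (Groth.L00.Stk.τ x L P).toLinearEquiv
  let J : (Groth.L00.Stk.F X x).obj L ≃ₗ[O] ((Groth.L00.Stk.F X x).obj L ⊗[O] (Groth.L00.Stk.F X x).obj P) :=
    ((TensorProduct.congr (LinearEquiv.refl O _) hP).trans (TensorProduct.rid O _)).symm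
  have hJ : ∀ l, J l = l ⊗ₜ hP.symm 1 := fun l => rfl
  have hb : Function.Bijective fun l : L.presheaf.stalk x => a • l := by
    have h4 : (fun l : L.presheaf.stalk x => a • l) =
        stk (tensorMap (𝟙 L) β ≫ evHom L L) x ∘ T ∘ J := funext fun l => by
      rw [Function.comp_apply, Function.comp_apply, hJ]
      exact (key l).symm
    rw [h4]
    exact h.comp (T.bijective.comp J.bijective)
  have ha : IsUnit a := by
    let g := (LinearEquiv.ofBijective (a • (LinearMap.id : L.presheaf.stalk x →ₗ[O] L.presheaf.stalk x)) hb).symm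
    obtain ⟨b, hb'⟩ := hend.2 g.toLinearMap
    refine IsUnit.of_mul_eq_one b (hend.1 (LinearMap.ext fun l => ?_))
    show (a * b) • l = (1 : O) • l
    rw [one_smul, mul_smul, show b • l = g l from LinearMap.congr_fun hb' l]
    exact LinearEquiv.apply_symm_apply
      (LinearEquiv.ofBijective (a • (LinearMap.id : L.presheaf.stalk x →ₗ[O] L.presheaf.stalk x)) hb) l
  have hc : (fun r : O => r * a) = σ ∘ stk β x ∘ hP.symm := funext fun r => by
    simp only [Function.comp_apply, a]
    have h6 : hP.symm r = r • hP.symm 1 := by rw [← map_smul, smul_eq_mul, mul_one]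
    rw [h6]
    refine Eq.trans (smul_eq_mul r _).symm ?_
    exact ((map_smul σ r _).symm.trans (congrArg σ (map_smul (stk β x) r (hP.symm 1 : P.presheaf.stalk x)).symm))
  have h5 : Function.Bijective (σ ∘ stk β x ∘ hP.symm) := hc ▸ ha.unit.mulRight_bijective
  rw [Function.Bijective.of_comp_iff' σ.bijective, Function.Bijective.of_comp_iff _ hP.symm.bijective] at h5
  exact h5

/-- not at least three means at most two -/
theorem le_two_of_not_three_le {n : WithBot ℕ∞} (h : ¬ (3 : WithBot ℕ∞) ≤ n) : n ≤ ((2 : ℕ) : WithBot ℕ∞) := by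
  induction n with
  | bot => exact bot_le
  | coe a =>
    induction a using ENat.recTopCoe with
    | top => exact absurd (WithBot.coe_le_coe.2 le_top) h
    | coe m =>
      rcases le_or_gt m 2 with h3 | h3
      · exact WithBot.coe_le_coe.2 (Nat.cast_le.2 h3)
      · exact absurd (WithBot.coe_le_coe.2 (Nat.cast_le.2 (show 3 ≤ m from h3))) h

/-- tensor products with a sheaf invertible at the point -/
theorem nonempty_stalk_tensor {F N : X.Modules} (x : X) (hN : RelCanon.InvertibleAt N x) :
    Nonempty ((Groth.L00.Stk.F X x).obj (CohB1.tensorMod F N) ≃ₗ[X.presheaf.stalk x] (Groth.L00.Stk.F X x).obj F) := by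
  obtain ⟨n⟩ := exists_stalk_equiv_of_invertibleAt hN
  exact ⟨(Groth.L00.Stk.τ x F N).toLinearEquiv.symm.trans
    ((TensorProduct.congr (LinearEquiv.refl _ _) n).trans (TensorProduct.rid _ _))⟩

/-- regular pairs pass along isomorphisms of stalks -/
theorem pairs_congr {F G : X.Modules} {x : X}
    (e : (Groth.L00.Stk.F X x).obj F ≃ₗ[X.presheaf.stalk x] (Groth.L00.Stk.F X x).obj G)
    (h : ∃ b ∈ maximalIdeal (X.presheaf.stalk x), ∃ c ∈ maximalIdeal (X.presheaf.stalk x),
      IsSMulRegular (G.presheaf.stalk x) b ∧ IsSMulRegular (QuotSMulTop b (G.presheaf.stalk x)) c) :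
    ∃ b ∈ maximalIdeal (X.presheaf.stalk x), ∃ c ∈ maximalIdeal (X.presheaf.stalk x),
      IsSMulRegular (F.presheaf.stalk x) b ∧ IsSMulRegular (QuotSMulTop b (F.presheaf.stalk x)) c := by
  obtain ⟨b, hbm, c, hcm, hb, hc⟩ := h
  exact ⟨b, hbm, c, hcm, (e.isSMulRegular_congr b).2 hb, ((QuotSMulTop.congr b e).isSMulRegular_congr c).2 hc⟩

/-- the dual of a coherent sheaf has the pairs of the local ring -/
theorem pairs_dual [IsLocallyNoetherian X] (P : X.Modules) (hP : Coh.IsCoh P) (x : X)
    (h : ∃ b ∈ maximalIdeal (X.presheaf.stalk x), ∃ c ∈ maximalIdeal (X.presheaf.stalk x),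
      IsSMulRegular (X.presheaf.stalk x) b ∧ IsSMulRegular (QuotSMulTop b (X.presheaf.stalk x)) c) :
    ∃ b ∈ maximalIdeal (X.presheaf.stalk x), ∃ c ∈ maximalIdeal (X.presheaf.stalk x),
      IsSMulRegular ((RefHull.dual P).presheaf.stalk x) b ∧
        IsSMulRegular (QuotSMulTop b ((RefHull.dual P).presheaf.stalk x)) c := by
  obtain ⟨b, hbm, c, hcm, hb, hc⟩ := h
  haveI : Coh.IsQCoh (Coh.structureModule X) := (Groth.L16.CohClosedPush.isCoh_structure (X := X)).1
  let σ := Groth.L15.Ref.strE (X := X) x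
  obtain ⟨h1, h2⟩ := regular_pair_homSh (F := P) (G := Coh.structureModule X) hP x ((σ.isSMulRegular_congr b).1 hb)
    (((QuotSMulTop.congr b σ).isSMulRegular_congr c).1 hc)
  exact ⟨b, hbm, c, hcm, h1, h2⟩

/-- the structure sheaf has the pairs of the local rings -/
theorem pairs_structureModule (x : X)
    (h : ∃ b ∈ maximalIdeal (X.presheaf.stalk x), ∃ c ∈ maximalIdeal (X.presheaf.stalk x),
      IsSMulRegular (X.presheaf.stalk x) b ∧ IsSMulRegular (QuotSMulTop b (X.presheaf.stalk x)) c) :
    ∃ b ∈ maximalIdeal (X.presheaf.stalk x), ∃ c ∈ maximalIdeal (X.presheaf.stalk x),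
      IsSMulRegular ((Coh.structureModule X).presheaf.stalk x) b ∧
        IsSMulRegular (QuotSMulTop b ((Coh.structureModule X).presheaf.stalk x)) c := by
  obtain ⟨b, hbm, c, hcm, hb, hc⟩ := h
  let σ := Groth.L15.Ref.strE (X := X) x
  exact ⟨b, hbm, c, hcm, (σ.isSMulRegular_congr b).1 hb, ((QuotSMulTop.congr b σ).isSMulRegular_congr c).1 hc⟩

end Groth.L10.RelCan
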