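import Groth.Agent.L10.RelCan.Along

/-!
Powers of a virtual canonical sheaf are invertible where those of the relative canonical sheaf are.
-/

set_option autoImplicit false
set_option maxSynthPendingDepth 4
set_option linter.style.haveILetI false
set_option linter.unusedSectionVars false
set_option linter.unusedVariables false
set_option backward.defeqAttrib.useBackward true
set_option backward.isDefEq.respectTransparency false
set_option backward.isDefEq.respectTransparency.types false
universe u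

open CategoryTheory CategoryTheory.Limits AlgebraicGeometry TopologicalSpace IsLocalRing
open scoped TensorProduct

noncomputable section

namespace Groth.L10.RelCan

/-- every point has a generisation whose local ring has dimension zero -/
theorem exists_specializes_dim_zero {X : Scheme.{u}} (x : X) :
    ∃ w, w ⤳ x ∧ ringKrullDim (X.presheaf.stalk w) ≤ 0 := by
  obtain ⟨q, hq, -⟩ := Ideal.exists_minimalPrimes_le (show (⊥ : Ideal (X.presheaf.stalk x)) ≤ maximalIdeal _ from bot_le)
  haveI := hq.1.1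
  let ι := X.fromSpecStalk x
  let Q : PrimeSpectrum (X.presheaf.stalk x) := ⟨q, hq.1.1⟩
  have hsp : ∀ P, ι P ⤳ x := fun P => by
    rw [← Set.mem_ofPred_eq (p := fun w => w ⤳ x), ← X.range_fromSpecStalk]
    exact ⟨P, rfl⟩
  refine ⟨ι Q, hsp Q, ?_⟩
  have hall : ∀ v, v ⤳ ι Q → v = ι Q := fun v hv => by
    obtain ⟨P, rfl⟩ : v ∈ Set.range ι := by
      rw [X.range_fromSpecStalk]
      exact hv.trans (hsp Q)
    have hPQ : P.asIdeal ≤ Q.asIdeal :=
      (PrimeSpectrum.le_iff_specializes P Q).2 ((ι.isEmbedding.specializes_iff).1 hv)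
    exact congrArg ι (PrimeSpectrum.ext (le_antisymm hPQ (hq.2 ⟨P.2, bot_le⟩ hPQ)))
  let R := X.presheaf.stalk (ι Q)
  haveI : Ring.KrullDimLE 0 R := Ring.KrullDimLE.mk₀ fun I hI => by
    have := (X.fromSpecStalk (ι Q)).isEmbedding.injective
      ((hall (X.fromSpecStalk (ι Q) ⟨I, hI⟩) (Groth.L07.EquidimPoint.specializes_point (ι Q) _)).trans
        Scheme.fromSpecStalk_closedPoint.symm)
    rw [show I = maximalIdeal R from congrArg PrimeSpectrum.asIdeal this]
    exact maximalIdeal.isMaximal _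
  exact Ring.krullDimLE_iff.1 ‹_›

set_option maxHeartbeats 1600000 in
/-- a flat coherent sheaf invertible on the fibre through the point is invertible there -/
theorem invertibleAt_of_flat_of_fibre {X S : Scheme.{u}} [IsLocallyNoetherian X] [IsLocallyNoetherian S] (f : X ⟶ S) [Flat f]
    {F : X.Modules} (hF : Coh.IsCoh F) (s : S) (v : f.fiber s) (hflat : FlatMod.IsFlatOverAt f F (f.fiberι s v))
    (h : RelCanon.InvertibleAt ((Scheme.Modules.pullback (f.fiberι s)).obj F) v) :
    RelCanon.InvertibleAt F (f.fiberι s v) := by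
  let y := f.fiberι s v
  let O := X.presheaf.stalk y
  let At := S.presheaf.stalk (f y)
  let Ov := (f.fiber s).presheaf.stalk v
  letI := algStalk f y
  haveI := isLocalHom_algStalk f y
  haveI := flat_algStalk f y
  let Fy := (Groth.L00.Stk.F X y).obj F
  letI : Module At Fy := Module.compHom _ (f.stalkMap y).hom
  haveI : IsScalarTower At O Fy := IsScalarTower.of_algebraMap_smul fun _ _ => rfl
  haveI : Module.Flat At Fy := hflat
  haveI : Module.Finite O Fy := Groth.L06.SupportStalk.finite_stalk F hF y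
  obtain ⟨E, hE⟩ := exists_semi_fibre f F s v
  letI : Algebra O Ov := ((f.fiberι s).stalkMap v).hom.toAlgebra
  obtain ⟨hsurj, hker⟩ := Groth.L18.stalkMap_fiberι f s v
  obtain ⟨T, -⟩ := nonempty_quot_equiv (A := At) (maximalIdeal At) (O' := Ov) hsurj hker
  obtain ⟨e⟩ := exists_stalk_equiv_of_invertibleAt h
  let θ : Fy ⊗[At] (At ⧸ maximalIdeal At) ≃ₗ[O] O ⊗[At] (At ⧸ maximalIdeal At) :=
    { (E.e.trans e.toAddEquiv).trans T.toAddEquiv with
      map_smul' := fun r z => by
        show T (e (E.e (r • z))) = r • T (e (E.e z))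
        rw [E.map_smul, hE, ← map_smul T r]
        exact congrArg T (e.map_smul _ _) }
  have hext : ∀ (a : ℕ) (π : (Fin a → O) →ₗ[O] O ⊗[At] (At ⧸ maximalIdeal At)), Function.Surjective π →
      ∀ g : LinearMap.ker π →ₗ[O] O ⊗[At] (At ⧸ maximalIdeal At),
        (∀ k : LinearMap.ker π, (k : Fin a → O) ∈
          (maximalIdeal At).map (algebraMap At O) • (⊤ : Submodule O (Fin a → O)) → g k = 0) →
        ∃ h : (Fin a → O) →ₗ[O] O ⊗[At] (At ⧸ maximalIdeal At), ∀ k : LinearMap.ker π, h k = g k := by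
    intro a π hπ g hg
    obtain ⟨x0, hx0⟩ := hπ ((1 : O) ⊗ₜ 1)
    choose c hc using fun i => Core.exists_tmul_one (maximalIdeal At) (π (Pi.basisFun O (Fin a) i))
    let ρ : (Fin a → O) →ₗ[O] O := (Pi.basisFun O (Fin a)).constr O c
    have hρ : ∀ x, π (ρ x • x0) = π x := fun x => by
      have : π.comp ((LinearMap.toSpanSingleton O (Fin a → O) x0).comp ρ) = π := (Pi.basisFun O (Fin a)).ext fun i => by
        simp only [LinearMap.comp_apply, ρ, Module.Basis.constr_basis, LinearMap.toSpanSingleton_apply]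
        rw [map_smul, hx0, ← hc i, TensorProduct.smul_tmul', smul_eq_mul, mul_one]
      exact LinearMap.congr_fun this x
    let δ : (Fin a → O) →ₗ[O] LinearMap.ker π :=
      (LinearMap.id - (LinearMap.toSpanSingleton O _ x0).comp ρ).codRestrict _ fun x => by
        rw [LinearMap.mem_ker]
        show π (x - ρ x • x0) = 0
        rw [map_sub, hρ, sub_self]
    refine ⟨g.comp δ, fun k => ?_⟩
    show g (δ k) = g k
    rw [← sub_eq_zero, ← map_sub]
    refine hg _ ?_
    have h0 : ρ k ⊗ₜ[At] (1 : At ⧸ maximalIdeal At) = 0 := by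
      have h1 := (hρ k).trans (LinearMap.mem_ker.1 k.2)
      rwa [map_smul, hx0, TensorProduct.smul_tmul', smul_eq_mul, mul_one] at h1
    have h2 : ρ k ∈ (maximalIdeal At).map (algebraMap At O) := by
      have := Core.mem_smul_of_tmul_one (A := At) (O := O) (maximalIdeal At) (ρ k) h0
      rwa [smul_eq_mul, Ideal.mul_top] at this
    show ((k : Fin a → O) - ρ k • x0) - (k : Fin a → O) ∈ _
    rw [sub_sub_cancel_left]
    exact Submodule.neg_mem _ (Submodule.smul_mem_smul h2 (Submodule.mem_top (x := x0)))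
  obtain ⟨σ⟩ := Core.nonempty_equiv_of_residue (L := Fy) (W := O) θ hext
  exact invertibleAt_of_stalk hF y σ


variable {A : Type u} [CommRing A] [IsNoetherianRing A] {Y : Scheme.{u}} [Y.Over (Spec (CommRingCat.of A))]
  [IsProper (Y ↘ Spec (CommRingCat.of A))] {d : ℕ}
  (hS : RelCanon.IsSkMor (Y ↘ Spec (CommRingCat.of A)) 2)
  (hd : Cyc.HasRelDim (Y ↘ Spec (CommRingCat.of A)) d) (ω : Y.Modules)
  (hω : RelCanon.IsDualizingSheaf A Y d ω) (hG : GorCodim (Y ↘ Spec (CommRingCat.of A)))
  (L : Y.Modules) (hL : Coh.IsCoh L) (t : Spec (CommRingCat.of A))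
  (hLf : ∀ y : Y, (Y ↘ Spec (CommRingCat.of A)) y = t → FlatMod.IsFlatOverAt (Y ↘ Spec (CommRingCat.of A)) L y)
  (hLt : RelCanon.IsDualizingSheafFib (Y ↘ Spec (CommRingCat.of A)) d L t)
  (W : Y.Opens)
  (hW : ∀ z ∈ W, MoreMor.IsCMAt (Y ↘ Spec (CommRingCat.of A)) z ∧ RelCanon.InvertibleAt (RefHull.homSh L ω) z ∧
    Function.Bijective (stk (evHom L ω) z))
  (hWt : ∀ y, (Y ↘ Spec (CommRingCat.of A)) y = t → MoreMor.IsCMAt (Y ↘ Spec (CommRingCat.of A)) y → y ∈ W)

set_option maxHeartbeats 3200000 in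
include hS hd hω hG hL hLf hLt hW hWt in
/-- the restriction to the fibre of a power of the deformation is that of the power of the relative canonical sheaf -/
theorem invertibleAt_pullback_refPowZ_virtual (r : ℕ)
    (hLr : ∀ y, (Y ↘ Spec (CommRingCat.of A)) y = t → RelCanon.RelSkAt (Y ↘ Spec (CommRingCat.of A)) 2 (RelCanon.refPowZ L r) y)
    (hωr : ∀ y, (Y ↘ Spec (CommRingCat.of A)) y = t → RelCanon.InvertibleAt (RelCanon.refPowZ ω r) y)
    (v : (Y ↘ Spec (CommRingCat.of A)).fiber t) :
    RelCanon.InvertibleAt ((Scheme.Modules.pullback ((Y ↘ Spec (CommRingCat.of A)).fiberι t)).obj (RelCanon.refPowZ L r)) v := by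
  let f := Y ↘ Spec (CommRingCat.of A)
  haveI := hS.1
  haveI : IsLocallyNoetherian Y := LocallyOfFiniteType.isLocallyNoetherian f
  let k := (Spec (CommRingCat.of A)).residueField t
  letI : Algebra A k := (Spec.preimage ((Spec (CommRingCat.of A)).fromSpecResidueField t)).hom.toAlgebra
  let Z := f.fiber t
  letI : Z.Over (Spec (CommRingCat.of k)) := ⟨f.fiberToSpecResidueField t⟩
  let p : Z ⟶ Y := f.fiberι t
  have hp : IsPullback p (Z ↘ Spec (CommRingCat.of k)) f (Spec.map (CommRingCat.ofHom (algebraMap A k))) := by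
    rw [show Spec.map (CommRingCat.ofHom (algebraMap A k)) = (Spec (CommRingCat.of A)).fromSpecResidueField t from
      Spec.map_preimage _]
    exact IsPullback.of_hasPullback _ _
  haveI : IsProper (Z ↘ Spec (CommRingCat.of k)) := MorphismProperty.of_isPullback hp (inferInstanceAs (IsProper f))
  haveI : IsLocallyNoetherian Z := LocallyOfFiniteType.isLocallyNoetherian (Z ↘ Spec (CommRingCat.of k))
  haveI : CompactSpace Z := QuasiCompact.compactSpace_of_compactSpace (Z ↘ Spec (CommRingCat.of k))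
  haveI : IsNoetherian Z := {}
  haveI := isLeftAdjoint (A := A) (Y := Y) (d := d) hd
  have hωc : Coh.IsCoh ω := (isCoh_and_nontrivial d hd ω hω).1
  let M := RefHull.homSh L ω
  have hcmg : ∀ z ∈ gorOpen A Y, MoreMor.IsCMAt f z := fun z hz =>
    ⟨hz.1, by haveI := hz.2; exact Groth.Agent.S0341.result _⟩
  let U : Y.Opens := W ⊓ gorOpen A Y
  have hfib : ∀ w : Z, f (p w) = t := fun w => (f.range_fiberι t).le ⟨w, rfl⟩
  have hUt : ∀ w : Z, p w ∉ U → p w ∉ RelCanon.gorLocus f := fun w hw hg =>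
    hw ⟨hWt _ (hfib w) (hcmg _ hg), hg⟩
  let U' : Z.Opens := p ⁻¹ᵁ U
  let q := p ∣_ U
  have hωU : PicF.IsInvertible (ω.restrict U.ι) :=
    isInvertible_restrict_of_invertibleAt ω U fun z hz => invertibleAt_of_gor hd ω hω z hz.2
  have hLU : PicF.IsInvertible (L.restrict U.ι) := isInvertible_restrict_of_invertibleAt L U fun z hz => by
    obtain ⟨h1, h2, h3⟩ := hW z hz.1
    obtain ⟨e⟩ := nonempty_stalk_tensor (F := L) z h2
    obtain ⟨e'⟩ := exists_stalk_equiv_of_invertibleAt (invertibleAt_of_gor hd ω hω z hz.2)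
    exact invertibleAt_of_stalk hL z (e.symm.trans ((LinearEquiv.ofBijective _ h3).trans e'))
  let ωt := (Scheme.Modules.pullback p).obj L
  have hωt : RelCanon.IsDualizingSheaf k Z d ωt := hLt
  obtain ⟨lam, hlam⟩ := exists_bcMap_bijective hp hd U (fun z hz => (hW z hz.1).1) ω hω ωt hωt
  haveI := isIso_restrict_of_stk lam U' fun w hw => hlam w hw
  let eωL : (Scheme.Modules.pullback q).obj (ω.restrict U.ι) ≅ (Scheme.Modules.pullback q).obj (L.restrict U.ι) :=
    (restrictPull p U ω).symm ≪≫ asIso ((Scheme.Modules.restrictFunctor U'.ι).map lam) ≪≫ restrictPull p U L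
  obtain ⟨a1⟩ := nonempty_refPowZ_restrict U.ι L (r : ℤ)
  obtain ⟨a2⟩ := nonempty_refPowZ_restrict U.ι ω (r : ℤ)
  obtain ⟨a3⟩ := nonempty_refPowZ_pullback q hLU (r : ℤ)
  obtain ⟨a4⟩ := nonempty_refPowZ_pullback q hωU (r : ℤ)
  obtain ⟨a5⟩ := nonempty_refPowZ_congr eωL (r : ℤ)
  let P1 := (Scheme.Modules.pullback p).obj (RelCanon.refPowZ L (r : ℤ))
  let P2 := (Scheme.Modules.pullback p).obj (RelCanon.refPowZ ω (r : ℤ))
  let e : P2.restrict U'.ι ≅ P1.restrict U'.ι :=
    restrictPull p U _ ≪≫ (Scheme.Modules.pullback q).mapIso a2.symm ≪≫ a4.symm ≪≫ a5 ≪≫ a3 ≪≫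
      (Scheme.Modules.pullback q).mapIso a1 ≪≫ (restrictPull p U _).symm
  have h2c : Coh.IsCoh P2 := Groth.L16.AffineBC.isCoh_pullback p (isCoh_refPowZ hωc _)
  have h1c : Coh.IsCoh P1 := Groth.L16.AffineBC.isCoh_pullback p (isCoh_refPowZ hL _)
  haveI := h1c.1
  haveI := h2c.1
  have hinv2 : ∀ w : Z, RelCanon.InvertibleAt P2 w := fun w => invertibleAt_pullback p w (hωr _ (hfib w))
  have hinv1 : ∀ w ∈ U', RelCanon.InvertibleAt P1 w := fun w hw =>
    invertibleAt_of_restrict U' h1c hw (invertibleAt_iso e (invertibleAt_restrict U' hw (hinv2 w)))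
  have hdimZ : ∀ w : Z, ¬ (2 : WithBot ℕ∞) ≤ ringKrullDim (Z.presheaf.stalk w) → w ∈ U' := fun w hw => by
    by_contra hwU
    have key : ∀ (t' : Spec (CommRingCat.of A)) (w' : f.fiber t') (z : Y), f.fiberι t' w' = z → f z = t' →
        (2 : WithBot ℕ∞) ≤ ringKrullDim ((f.fiber (f z)).presheaf.stalk (f.asFiber z)) →
        (2 : WithBot ℕ∞) ≤ ringKrullDim ((f.fiber t').presheaf.stalk w') := by
      intro t' w' z hwz hzs hz
      subst hzs
      obtain rfl : w' = f.asFiber z :=
        (f.fiberι (f z)).isEmbedding.injective (hwz.trans (Scheme.Hom.fiberι_asFiber f z).symm)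
      exact hz
    exact hw (key t w (p w) rfl (hfib w) (hG _ (hUt w hwU)))
  have hpairO : ∀ w, w ∉ U' → ∃ b ∈ maximalIdeal (Z.presheaf.stalk w), ∃ c ∈ maximalIdeal (Z.presheaf.stalk w),
      IsSMulRegular (Z.presheaf.stalk w) b ∧ IsSMulRegular (QuotSMulTop b (Z.presheaf.stalk w)) c := fun w hw =>
    exists_pair_fibre hS t w fun z hz => hG z (hz ▸ hUt w hw)
  obtain ⟨eP⟩ := nonempty_iso_of_pairs U' P2 P1 (fun w hw => by
      obtain ⟨e'⟩ := exists_stalk_equiv_of_invertibleAt (hinv2 w)
      exact pairs_congr (e'.trans (Groth.L15.Ref.strE w)) (pairs_structureModule w (hpairO w hw)))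
    (fun w hw => by
      haveI := Groth.L15.Ref.finite_stalk h1c w
      have hs : RelCanon.SkAt 2 P1 w := by
        have key : ∀ (t' : Spec (CommRingCat.of A)) (w' : f.fiber t') (z : Y), f.fiberι t' w' = z → f z = t' →
            RelCanon.SkAt 2 ((Scheme.Modules.pullback (f.fiberι (f z))).obj (RelCanon.refPowZ L (r : ℤ))) (f.asFiber z) →
            RelCanon.SkAt 2 ((Scheme.Modules.pullback (f.fiberι t')).obj (RelCanon.refPowZ L (r : ℤ))) w' := by
          intro t' w' z hwz hzs hz
          subst hzs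
          obtain rfl : w' = f.asFiber z :=
            (f.fiberι (f z)).isEmbedding.injective (hwz.trans (Scheme.Hom.fiberι_asFiber f z).symm)
          exact hz
        exact key t w (p w) rfl (hfib w) (hLr _ (hfib w)).2
      have hfull : Module.support (Z.presheaf.stalk w) (P1.presheaf.stalk w) = Set.univ := by
        refine Set.eq_univ_of_forall fun Q => (Groth.L06.SupportStalk.mem_support_iff P1 h1c w Q).2 ?_
        obtain ⟨η, hη, hη0⟩ := exists_specializes_dim_zero (Z.fromSpecStalk w Q)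
        have hηU : η ∈ U' := hdimZ η fun h2 => absurd (h2.trans hη0) (by norm_num)
        obtain ⟨e'⟩ := exists_stalk_equiv_of_invertibleAt (hinv1 η hηU)
        have hηs : η ∈ CohB1.support P1 := fun hsub => by
          haveI : Subsingleton ((Groth.L00.Stk.F Z η).obj P1) := hsub
          exact not_subsingleton (Z.presheaf.stalk η) e'.symm.toEquiv.subsingleton
        exact hη.mem_closed (Groth.L16.CohSupport.isClosed_support P1 h1c.2) hηs
      have hdim : (2 : WithBot ℕ∞) ≤ ringKrullDim (Z.presheaf.stalk w) := not_not.1 fun h => hw (hdimZ w h)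
      haveI : Nontrivial (P1.presheaf.stalk w) := Module.nonempty_support_iff.1 (hfull ▸ Set.univ_nonempty)
      exact Hartogs.exists_pair (two_le_depth hs hfull hdim)) e
  exact invertibleAt_iso eP (hinv2 v)

end Groth.L10.RelCan
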