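import Groth.Agent.L10.RelCan.FibreIndex
import Groth.Agent.L14.Quot.Base

/-!
Base change of a family to a quotient of the local ring of the base.
-/

set_option autoImplicit false
set_option maxSynthPendingDepth 4
set_option linter.style.haveILetI false
set_option linter.unusedSectionVars false
set_option backward.defeqAttrib.useBackward true
set_option backward.isDefEq.respectTransparency false
set_option backward.isDefEq.respectTransparency.types false
universe u

open CategoryTheory CategoryTheory.Limits AlgebraicGeometry TopologicalSpace IsLocalRing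
open scoped TensorProduct

noncomputable section

namespace Groth.L10.RelCan

open Groth.L14.Quot (β)

variable {A A' : Type u} [CommRing A] [CommRing A'] [Algebra A A'] {X X' : Scheme.{u}}
  {f : X ⟶ Spec (CommRingCat.of A)} {f' : X' ⟶ Spec (CommRingCat.of A')} {p : X' ⟶ X}
  (hp : IsPullback p f' f (Spec.map (CommRingCat.ofHom (algebraMap A A'))))
  (x' : X') (ψ : (Spec (CommRingCat.of A)).presheaf.stalk (f (p x')) →+* A')
  (hψs : Function.Surjective ψ)
  (hψ : ψ.comp (StructureSheaf.toStalk A (f (p x'))).hom = algebraMap A A')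

include hp hψ in
/-- both ways of mapping the local ring of the base into the new local ring agree -/
theorem β_comp : (β f' x').comp ψ = (p.stalkMap x').hom.comp (f.stalkMap (p x')).hom := by
  letI : Algebra A ((Spec (CommRingCat.of A)).presheaf.stalk (f (p x'))) :=
    (StructureSheaf.toStalk A (f (p x'))).hom.toAlgebra
  haveI : IsLocalization.AtPrime ((Spec (CommRingCat.of A)).presheaf.stalk (f (p x'))) (f (p x')).asIdeal :=
    StructureSheaf.IsLocalization.to_stalk A (f (p x'))
  refine IsLocalization.ringHom_ext (f (p x')).asIdeal.primeCompl (RingHom.ext fun a => ?_)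
  show β f' x' ((ψ.comp (StructureSheaf.toStalk A (f (p x'))).hom) a) = (p.stalkMap x').hom (β f (p x') a)
  rw [hψ]
  exact (Groth.L14.Quot.stalkMap_β (CommRingCat.ofHom (algebraMap A A')) hp.w x' a).symm

theorem stalkMap_bc_aux {P : Scheme.{u}} (x : X') (t : Spec (CommRingCat.of A)) {q : P ⟶ X}
    {fB : P ⟶ Spec (CommRingCat.of ((Spec (CommRingCat.of A)).presheaf.stalk t))}
    (hq : IsPullback q fB f (Spec.map (StructureSheaf.toStalk A t)))
    (ψt : (Spec (CommRingCat.of A)).presheaf.stalk t →+* A') (hts : Function.Surjective ψt)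
    (hψt : ψt.comp (StructureSheaf.toStalk A t).hom = algebraMap A A') {l : X' ⟶ P}
    (hsq : IsPullback l f' fB (Spec.map (CommRingCat.ofHom ψt))) (ht : f ((l ≫ q) x) = t) :
    Function.Surjective ((l ≫ q).stalkMap x).hom ∧
      ∀ (φ : (Spec (CommRingCat.of A)).presheaf.stalk (f ((l ≫ q) x)) →+* A'),
        φ.comp (StructureSheaf.toStalk A (f ((l ≫ q) x))).hom = algebraMap A A' →
        RingHom.ker ((l ≫ q).stalkMap x).hom = (RingHom.ker φ).map (f.stalkMap ((l ≫ q) x)).hom := by
  subst ht
  let t := f ((l ≫ q) x)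
  let B : CommRingCat.{u} := CommRingCat.of ((Spec (CommRingCat.of A)).presheaf.stalk t)
  let τ : CommRingCat.of A ⟶ B := StructureSheaf.toStalk A t
  letI : Algebra A B := τ.hom.toAlgebra
  haveI : IsLocalization.AtPrime B t.asIdeal := StructureSheaf.IsLocalization.to_stalk A t
  haveI : IsClosedImmersion (Spec.map (CommRingCat.ofHom ψt)) := IsClosedImmersion.spec_of_surjective _ hts
  haveI : IsClosedImmersion l := MorphismProperty.of_isPullback hsq.flip inferInstance
  have hk := Groth.L14.Quot.ker_stalkMap_bc (CommRingCat.ofHom ψt) hts hsq x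
  haveI : IsPreimmersion (Spec.map τ) := IsPreimmersion.of_isLocalization (R := A) t.asIdeal.primeCompl
  haveI : Flat (Spec.map τ) := by
    rw [HasRingHomProperty.Spec_iff (P := @Flat)]
    exact RingHom.flat_algebraMap_iff.mpr (IsLocalization.flat B t.asIdeal.primeCompl)
  haveI : IsPreimmersion q := MorphismProperty.of_isPullback hq.flip inferInstance
  haveI : Flat q := MorphismProperty.of_isPullback hq.flip inferInstance
  have hqb : Function.Bijective (q.stalkMap (l x)).hom := by
    refine ⟨?_, q.stalkMap_surjective _⟩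
    letI : Algebra (X.presheaf.stalk (q (l x))) (P.presheaf.stalk (l x)) := (q.stalkMap (l x)).hom.toAlgebra
    haveI : IsLocalHom (algebraMap (X.presheaf.stalk (q (l x))) (P.presheaf.stalk (l x))) :=
      inferInstanceAs (IsLocalHom (q.stalkMap (l x)).hom)
    haveI : Module.Flat (X.presheaf.stalk (q (l x))) (P.presheaf.stalk (l x)) := Flat.stalkMap q (l x)
    haveI : Module.FaithfullyFlat (X.presheaf.stalk (q (l x))) (P.presheaf.stalk (l x)) :=
      Module.FaithfullyFlat.of_flat_of_isLocalHom
    show Function.Injective (algebraMap (X.presheaf.stalk (q (l x))) (P.presheaf.stalk (l x)))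
    rw [RingHom.injective_iff_ker_eq_bot, RingHom.ker_eq_comap_bot,
      ← Ideal.map_bot (f := algebraMap (X.presheaf.stalk (q (l x))) (P.presheaf.stalk (l x))),
      Ideal.comap_map_eq_self_of_faithfullyFlat]
  have hβ : β fB (l x) = (q.stalkMap (l x)).hom.comp (f.stalkMap (q (l x))).hom := by
    refine IsLocalization.ringHom_ext t.asIdeal.primeCompl (RingHom.ext fun a => ?_)
    exact (Groth.L14.Quot.stalkMap_β τ hq.w (l x) a).symm
  have hcomp : ((l ≫ q).stalkMap x).hom = (l.stalkMap x).hom.comp (q.stalkMap (l x)).hom :=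
    congrArg CommRingCat.Hom.hom (Scheme.Hom.stalkMap_comp l q x)
  refine ⟨?_, fun φ hφ => ?_⟩
  · rw [hcomp]
    exact (l.stalkMap_surjective x).comp hqb.2
  · obtain rfl : φ = ψt := IsLocalization.ringHom_ext t.asIdeal.primeCompl (hφ.trans hψt.symm)
    rw [hcomp, ← RingHom.comap_ker, hk, hβ, ← Ideal.map_map]
    exact Ideal.comap_map_of_bijective _ hqb

include hp hψs hψ in
/-- the local ring after base change is a quotient by a base ideal -/
theorem stalkMap_bc : Function.Surjective (p.stalkMap x').hom ∧
    RingHom.ker (p.stalkMap x').hom = (RingHom.ker ψ).map (f.stalkMap (p x')).hom := by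
  let τ := StructureSheaf.toStalk A (f (p x'))
  have hτψ : τ ≫ CommRingCat.ofHom ψ = CommRingCat.ofHom (algebraMap A A') := CommRingCat.hom_ext hψ
  let l : X' ⟶ pullback f (Spec.map τ) := pullback.lift p (f' ≫ Spec.map (CommRingCat.ofHom ψ)) (by
    rw [Category.assoc, ← Spec.map_comp, hτψ, hp.w])
  have hl : l ≫ pullback.fst f (Spec.map τ) = p := pullback.lift_fst _ _ _
  have hsq : IsPullback l f' (pullback.snd f (Spec.map τ)) (Spec.map (CommRingCat.ofHom ψ)) := by
    refine IsPullback.of_right (h₁₂ := pullback.fst f (Spec.map τ)) (h₂₂ := Spec.map τ) (v₁₃ := f) ?_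
      (pullback.lift_snd _ _ _) (IsPullback.of_hasPullback _ _)
    rw [← Spec.map_comp, hτψ, hl]
    exact hp
  have h := stalkMap_bc_aux (f := f) x' (f (p x')) (IsPullback.of_hasPullback f (Spec.map τ)) ψ hψs hψ hsq
    (by rw [hl])
  rw [hl] at h
  exact ⟨h.1, h.2 ψ hψ⟩

include hp hψs hψ in
/-- the extended maximal ideals of the two bases agree in the new local ring -/
theorem map_maximalIdeal_bc [IsLocalRing A'] [IsArtinianRing A'] :
    ((maximalIdeal ((Spec (CommRingCat.of A)).presheaf.stalk (f (p x')))).map (f.stalkMap (p x')).hom).map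
        (p.stalkMap x').hom =
      (maximalIdeal ((Spec (CommRingCat.of A')).presheaf.stalk (f' x'))).map (f'.stalkMap x').hom := by
  let t' := f' x'
  let τ' := StructureSheaf.toStalk A' t'
  have hτs : Function.Surjective τ'.hom := by
    letI : Algebra A' ((Spec (CommRingCat.of A')).presheaf.stalk t') := τ'.hom.toAlgebra
    haveI : IsLocalization.AtPrime ((Spec (CommRingCat.of A')).presheaf.stalk t') t'.asIdeal :=
      StructureSheaf.IsLocalization.to_stalk A' t'
    haveI : t'.asIdeal.IsMaximal := inferInstance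
    exact (IsLocalization.atUnits A' t'.asIdeal.primeCompl (S := (Spec (CommRingCat.of A')).presheaf.stalk t')
      fun a ha => by
        rw [IsUnit.mem_submonoid_iff]
        by_contra hu
        exact ha ((IsLocalRing.eq_maximalIdeal ‹t'.asIdeal.IsMaximal›).ge hu)).surjective
  let φ : (Spec (CommRingCat.of A)).presheaf.stalk (f (p x')) →+* (Spec (CommRingCat.of A')).presheaf.stalk t' :=
    τ'.hom.comp ψ
  rw [← IsLocalRing.map_maximalIdeal_of_surjective φ (hτs.comp hψs), Ideal.map_map, Ideal.map_map,
    ← β_comp hp x' ψ hψ]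
  rfl

theorem tmul_one_eq_zero_iff {R O M : Type u} [CommRing R] [IsLocalRing R] [CommRing O] [Algebra R O] [AddCommGroup M]
    [Module R M] [Module O M] [IsScalarTower R O M] (x : M) :
    x ⊗ₜ[R] (1 : R ⧸ maximalIdeal R) = 0 ↔ x ∈ (maximalIdeal R).map (algebraMap R O) • (⊤ : Submodule O M) := by
  constructor
  · intro h
    have h1 := congrArg (TensorProduct.tensorQuotEquivQuotSMul M (maximalIdeal R)) h
    rw [map_zero, show (1 : R ⧸ maximalIdeal R) = Ideal.Quotient.mk _ 1 from rfl] at h1
    have h2 : x ∈ (maximalIdeal R • ⊤ : Submodule R M) := by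
      rw [← Submodule.Quotient.mk_eq_zero, ← h1]
      simp [TensorProduct.tensorQuotEquivQuotSMul]
    refine Submodule.smul_induction_on h2 (fun a ha m _ => ?_) (fun y y' hy hy' => add_mem hy hy')
    rw [← algebraMap_smul O a]
    exact Submodule.smul_mem_smul (Ideal.mem_map_of_mem _ ha) trivial
  · intro h
    refine Submodule.smul_induction_on h (fun r hr m _ => ?_) (fun y y' hy hy' => by
      rw [TensorProduct.add_tmul, hy, hy', add_zero])
    rw [← TensorProduct.smul_tmul']
    exact Module.mem_annihilator.1 (Core.map_le_annihilator M hr) _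

set_option maxHeartbeats 1000000 in
include hp hψs hψ in
/-- Serre conditions on the fibres of the new family read on the old local ring -/
theorem skAt_fibre_bc_iff [IsLocalRing A'] [IsArtinianRing A'] [IsLocallyNoetherian X'] (F : X'.Modules)
    (hF : Coh.IsCoh F) (k : ℕ) (M : Type u) [AddCommGroup M] [Module (X.presheaf.stalk (p x')) M]
    [Module ((Spec (CommRingCat.of A)).presheaf.stalk (f (p x'))) M]
    (hM : ∀ (a : (Spec (CommRingCat.of A)).presheaf.stalk (f (p x'))) (m : M), a • m = (f.stalkMap (p x')).hom a • m)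
    (Φ : letI : Module (X.presheaf.stalk (p x')) ((Groth.L00.Stk.F X' x').obj F) := Module.compHom _ (p.stalkMap x').hom
      (Groth.L00.Stk.F X' x').obj F ≃ₗ[X.presheaf.stalk (p x')] M) :
    letI := algStalk f (p x')
    haveI : IsScalarTower ((Spec (CommRingCat.of A)).presheaf.stalk (f (p x'))) (X.presheaf.stalk (p x')) M :=
      IsScalarTower.of_algebraMap_smul fun a m => (hM a m).symm
    RelCanon.SkAt k ((Scheme.Modules.pullback (f'.fiberι (f' x'))).obj F) (f'.asFiber x') ↔
      LocCoh.HasSk k (X.presheaf.stalk (p x')) (M ⊗[(Spec (CommRingCat.of A)).presheaf.stalk (f (p x'))]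
        ((Spec (CommRingCat.of A)).presheaf.stalk (f (p x')) ⧸
          maximalIdeal ((Spec (CommRingCat.of A)).presheaf.stalk (f (p x'))))) := by
  let At := (Spec (CommRingCat.of A)).presheaf.stalk (f (p x'))
  let At' := (Spec (CommRingCat.of A')).presheaf.stalk (f' x')
  let O := X.presheaf.stalk (p x')
  let O' := X'.presheaf.stalk x'
  let M' := (Groth.L00.Stk.F X' x').obj F
  letI := algStalk f (p x')
  letI := algStalk f' x'
  haveI : IsScalarTower At O M := IsScalarTower.of_algebraMap_smul fun a m => (hM a m).symm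
  letI : Algebra O O' := (p.stalkMap x').hom.toAlgebra
  letI : Module O M' := Module.compHom _ (p.stalkMap x').hom
  haveI : IsScalarTower O O' M' := .of_algebraMap_smul fun _ _ => rfl
  letI : Module At' M' := Module.compHom _ (f'.stalkMap x').hom
  haveI : IsScalarTower At' O' M' := .of_algebraMap_smul fun _ _ => rfl
  have hsurj : Function.Surjective (algebraMap O O') := (stalkMap_bc hp x' ψ hψs hψ).1
  haveI : Module.Finite O' M' := Groth.L06.SupportStalk.finite_stalk F hF x'
  haveI : Module.Finite O O' := Module.Finite.of_surjective (Algebra.linearMap O O') hsurj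
  haveI : Module.Finite O M' := Module.Finite.trans O' M'
  haveI : Module.Finite O M := Module.Finite.equiv Φ
  haveI : Module.Finite O (M ⊗[At] (At ⧸ maximalIdeal At)) :=
    Module.Finite.of_surjective ((TensorProduct.AlgebraTensorModule.mk At O M (At ⧸ maximalIdeal At)).flip 1)
      (Core.exists_tmul_one _)
  rw [skAt_fibre_iff f' F hF k x' M' (fun a m => rfl) (LinearEquiv.refl O' M')]
  let T := M' ⊗[At'] (At' ⧸ maximalIdeal At')
  letI : Module O T := Module.compHom _ (p.stalkMap x').hom
  haveI : IsScalarTower O O' T := .of_algebraMap_smul fun _ _ => rfl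
  let π : M →ₗ[O] M ⊗[At] (At ⧸ maximalIdeal At) := (TensorProduct.AlgebraTensorModule.mk At O M _).flip 1
  let π' : M →ₗ[O] T :=
    (((TensorProduct.AlgebraTensorModule.mk At' O' M' (At' ⧸ maximalIdeal At')).flip 1).restrictScalars O).comp
      Φ.symm.toLinearMap
  have hπ : Function.Surjective π := Core.exists_tmul_one _
  have hπ' : Function.Surjective π' := fun z => by
    obtain ⟨x, hx⟩ := Core.exists_tmul_one _ z
    exact ⟨Φ x, by show Φ.symm (Φ x) ⊗ₜ[At'] _ = z; rw [Φ.symm_apply_apply, hx]⟩
  have hker : LinearMap.ker π = LinearMap.ker π' := by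
    ext x
    show x ⊗ₜ[At] (1 : At ⧸ maximalIdeal At) = 0 ↔ Φ.symm x ⊗ₜ[At'] (1 : At' ⧸ maximalIdeal At') = 0
    rw [tmul_one_eq_zero_iff (O := O), tmul_one_eq_zero_iff (O := O')]
    have hI : (maximalIdeal At').map (algebraMap At' O') = ((maximalIdeal At).map (algebraMap At O)).map (algebraMap O O') :=
      (map_maximalIdeal_bc hp x' ψ hψs hψ).symm
    have h3 : ∀ z : M', z ∈ ((maximalIdeal At).map (algebraMap At O)).map (algebraMap O O') • (⊤ : Submodule O' M') ↔
        z ∈ (maximalIdeal At).map (algebraMap At O) • (⊤ : Submodule O M') := fun z => by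
      rw [← Submodule.restrictScalars_mem O, Ideal.smul_restrictScalars, Submodule.restrictScalars_top]
    rw [hI, h3]
    have h2 : Submodule.map Φ.symm.toLinearMap ((maximalIdeal At).map (algebraMap At O) • (⊤ : Submodule O M)) =
        (maximalIdeal At).map (algebraMap At O) • (⊤ : Submodule O M') := by
      rw [Submodule.map_smul'', Submodule.map_top, LinearEquiv.range]
    rw [← h2]
    exact ⟨fun h => ⟨x, h, rfl⟩, fun ⟨z, hz, he⟩ => Φ.symm.injective he ▸ hz⟩
  let E := (π'.quotKerEquivOfSurjective hπ').symm.trans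
    ((Submodule.quotEquivOfEq _ _ hker.symm).trans (π.quotKerEquivOfSurjective hπ))
  let SE : L02.FibDepth.Semi O (M ⊗[At] (At ⧸ maximalIdeal At)) O' T :=
    { φ := algebraMap O O', surj := hsurj, e := E.symm.toAddEquiv,
      map_smul := fun r m => (E.symm.map_smul r m).trans rfl }
  exact (SE.hasSk_iff k).symm

include hp hψs hψ in
/-- flatness over the new base from flatness over the old -/
theorem isFlatOverAt_bc (F : X'.Modules) (M : Type u) [AddCommGroup M]
    [Module (X.presheaf.stalk (p x')) M] [Module ((Spec (CommRingCat.of A)).presheaf.stalk (f (p x'))) M]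
    (hM : ∀ (a : (Spec (CommRingCat.of A)).presheaf.stalk (f (p x'))) (m : M), a • m = (f.stalkMap (p x')).hom a • m)
    [Module.Flat ((Spec (CommRingCat.of A)).presheaf.stalk (f (p x'))) M]
    (Φ : letI : Module (X.presheaf.stalk (p x')) ((Groth.L00.Stk.F X' x').obj F) := Module.compHom _ (p.stalkMap x').hom
      letI := algStalk f (p x')
      haveI : IsScalarTower ((Spec (CommRingCat.of A)).presheaf.stalk (f (p x'))) (X.presheaf.stalk (p x')) M :=
        IsScalarTower.of_algebraMap_smul fun a m => (hM a m).symm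
      (Groth.L00.Stk.F X' x').obj F ≃ₗ[X.presheaf.stalk (p x')]
        M ⊗[(Spec (CommRingCat.of A)).presheaf.stalk (f (p x'))]
          ((Spec (CommRingCat.of A)).presheaf.stalk (f (p x')) ⧸ RingHom.ker ψ)) :
    FlatMod.IsFlatOverAt f' F x' := by
  rw [Groth.L14.Quot.isFlatOverAt_iff_β]
  let At := (Spec (CommRingCat.of A)).presheaf.stalk (f (p x'))
  let O := X.presheaf.stalk (p x')
  let M' := (Groth.L00.Stk.F X' x').obj F
  letI := algStalk f (p x')
  haveI : IsScalarTower At O M := IsScalarTower.of_algebraMap_smul fun a m => (hM a m).symm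
  letI : Algebra O (X'.presheaf.stalk x') := (p.stalkMap x').hom.toAlgebra
  letI : Module O M' := Module.compHom _ (p.stalkMap x').hom
  letI : Algebra At A' := ψ.toAlgebra
  letI : Module A' M' := Module.compHom _ (β f' x')
  letI : Module At M' := Module.compHom _ (f.stalkMap (p x')).hom
  haveI : IsScalarTower At O M' := .of_algebraMap_smul fun _ _ => rfl
  haveI : IsScalarTower At A' M' := IsScalarTower.of_algebraMap_smul fun a m =>
    congrArg (fun r : X'.presheaf.stalk x' => r • m) (RingHom.congr_fun (β_comp hp x' ψ hψ) a)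
  have hs : Function.Surjective (algebraMap At A') := hψs
  let c : (At ⧸ RingHom.ker ψ) ≃ₐ[At] A' := Ideal.quotientKerAlgEquivOfSurjective (f := Algebra.ofId At A') hs
  let e₀ : A' ⊗[At] M ≃ₗ[At] M' :=
    ((TensorProduct.congr c.symm.toLinearEquiv (LinearEquiv.refl At M)).trans (TensorProduct.comm At _ M)).trans
      (Φ.symm.restrictScalars At)
  show Module.Flat A' M'
  exact Module.Flat.of_linearEquiv (e₀.extendScalarsOfSurjective hs).symm

end Groth.L10.RelCan
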