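import Groth.Agent.L10.RelCan.ArtinBC

/-!
Artinian criteria for relative Serre condition two and invertibility of reflexive powers.
-/

set_option autoImplicit false
set_option maxSynthPendingDepth 4
set_option linter.style.haveILetI false
set_option linter.unusedSectionVars false
set_option backward.defeqAttrib.useBackward true
set_option backward.isDefEq.respectTransparency false
set_option backward.isDefEq.respectTransparency.types false
universe u

open CategoryTheory CategoryTheory.Limits AlgebraicGeometry TopologicalSpace IsLocalRing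
open scoped TensorProduct

noncomputable section

namespace Groth.L10.RelCan

theorem hasSk_of_equiv {R M N : Type u} [CommRing R] [AddCommGroup M] [Module R M] [Module.Finite R M] [AddCommGroup N]
    [Module R N] (e : M ≃ₗ[R] N) {k : ℕ} (h : LocCoh.HasSk k R M) : LocCoh.HasSk k R N :=
  (({ φ := RingHom.id R, surj := Function.surjective_id, e := e.toAddEquiv,
      map_smul := fun r m => e.map_smul r m } : L02.FibDepth.Semi R M R N).hasSk_iff k).1 h

theorem nonempty_tensor_residue {R O M : Type u} [CommRing R] [IsLocalRing R] [CommRing O] [Algebra R O]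
    [AddCommGroup M] [Module R M] [Module O M] [IsScalarTower R O M]
    (h : (maximalIdeal R).map (algebraMap R O) ≤ Module.annihilator O M) :
    Nonempty (M ⊗[R] (R ⧸ maximalIdeal R) ≃ₗ[O] M) := by
  refine ⟨(LinearEquiv.ofBijective ((TensorProduct.AlgebraTensorModule.mk R O M (R ⧸ maximalIdeal R)).flip 1)
    ⟨(injective_iff_map_eq_zero _).2 fun x hx => ?_, Core.exists_tmul_one _⟩).symm⟩
  refine Submodule.smul_induction_on ((tmul_one_eq_zero_iff (O := O) x).1 hx) (fun r hr m _ => ?_)
    (fun y y' hy hy' => by rw [hy, hy', add_zero])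
  exact Module.mem_annihilator.1 (h hr) m

theorem map_le_annihilator_maps {R O Q : Type u} [CommRing R] [IsLocalRing R] [CommRing O] [Algebra R O]
    [AddCommGroup Q] [Module O Q] :
    (maximalIdeal R).map (algebraMap R O) ≤ Module.annihilator O (Core.Fn R O Q (R ⧸ maximalIdeal R)) :=
  fun _ hr => Module.mem_annihilator.2 fun g => LinearMap.ext fun q =>
    Module.mem_annihilator.1 (Core.map_le_annihilator O hr) (g q)

variable {A : Type u} [CommRing A] [IsNoetherianRing A] {Y : Scheme.{u}} [Y.Over (Spec (CommRingCat.of A))]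
  [IsProper (Y ↘ Spec (CommRingCat.of A))] {d : ℕ}

variable (hS : RelCanon.IsSkMor (Y ↘ Spec (CommRingCat.of A)) 2)
  (hd : Cyc.HasRelDim (Y ↘ Spec (CommRingCat.of A)) d) (ω : Y.Modules)
  (hω : RelCanon.IsDualizingSheaf A Y d ω) (hG : GorCodim (Y ↘ Spec (CommRingCat.of A))) (m : ℤ)

section BaseChange

variable {A' : Type u} [CommRing A'] [IsArtinianRing A'] [IsLocalRing A'] [Algebra A A'] {Y' : Scheme.{u}}
  [Y'.Over (Spec (CommRingCat.of A'))] {p : Y' ⟶ Y}
  (hp : IsPullback p (Y' ↘ Spec (CommRingCat.of A')) (Y ↘ Spec (CommRingCat.of A))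
    (Spec.map (CommRingCat.ofHom (algebraMap A A'))))
  (ω' : Y'.Modules) (hω' : RelCanon.IsDualizingSheaf A' Y' d ω') (y' : Y')
  (ψ : (Spec (CommRingCat.of A)).presheaf.stalk ((Y ↘ Spec (CommRingCat.of A)) (p y')) →+* A')
  (hψs : Function.Surjective ψ)
  (hψ : ψ.comp (StructureSheaf.toStalk A ((Y ↘ Spec (CommRingCat.of A)) (p y'))).hom = algebraMap A A')

set_option maxHeartbeats 1600000 in
include hS hd hω hG hp hω' hψs hψ in
/-- relative Serre condition two passes to quotients of the local ring of the base -/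
theorem relSkAt_bc (h : RelCanon.RelSkAt (Y ↘ Spec (CommRingCat.of A)) 2 (RelCanon.refPowZ ω m) (p y')) :
    RelCanon.RelSkAt (Y' ↘ Spec (CommRingCat.of A')) 2 (RelCanon.refPowZ ω' m) y' := by
  let f := Y ↘ Spec (CommRingCat.of A)
  let f' := Y' ↘ Spec (CommRingCat.of A')
  haveI := hS.1
  haveI : IsProper f' := MorphismProperty.of_isPullback hp (inferInstanceAs (IsProper f))
  haveI : IsLocallyNoetherian Y := LocallyOfFiniteType.isLocallyNoetherian f
  haveI : IsLocallyNoetherian Y' := LocallyOfFiniteType.isLocallyNoetherian f'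
  obtain ⟨G, hGc, hGeq, hinv⟩ := exists_predual hS hd ω hω m
  obtain ⟨eR⟩ := nonempty_dual_pullback_refPowZ hS hd ω hω hG hp ω' hω' m hGc hGeq hinv
  rw [hGeq] at h
  refine relSkAt_of_iso f' eR ?_
  let R' := RefHull.dual ((Scheme.Modules.pullback p).obj G)
  have hR'c : Coh.IsCoh R' := Groth.L15.Ref.isCoh_dual (Groth.L16.AffineBC.isCoh_pullback p hGc)
  let At := (Spec (CommRingCat.of A)).presheaf.stalk (f (p y'))
  let O := Y.presheaf.stalk (p y')
  letI := algStalk f (p y')
  haveI := isLocalHom_algStalk f (p y')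
  haveI := flat_algStalk f (p y')
  let Q := (Groth.L00.Stk.F Y (p y')).obj G
  haveI : Module.Finite O Q := Groth.L06.SupportStalk.finite_stalk G hGc _
  let M := Q →ₗ[O] O
  have hM : ∀ (a : At) (g : M), a • g = (f.stalkMap (p y')).hom a • g :=
    fun a g => LinearMap.ext fun q => Algebra.smul_def a (g q)
  have hev := ev_bijective_of_relSkAt f hS hGc (p y') hinv (fun z _ _ hz => hG z hz) h
  haveI : Module.Flat At M := Core.flat hev.2
  let N := At ⧸ RingHom.ker ψ
  have hN : IsFiniteLength At N := by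
    letI : Algebra At A' := ψ.toAlgebra
    have hs : Function.Surjective (algebraMap At A') := hψs
    haveI : IsArtinian At A' := isArtinian_of_surjective_algebraMap (R := A') (S := At) hs
    haveI : Module.Finite At A' := Module.Finite.of_surjective (Algebra.linearMap At A') hs
    exact (Ideal.quotientKerAlgEquivOfSurjective (f := Algebra.ofId At A') hs).symm.toLinearEquiv.isFiniteLength
      (isFiniteLength_iff_isNoetherian_isArtinian.2 ⟨isNoetherian_of_isNoetherianRing_of_finite At A', inferInstance⟩)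
  obtain ⟨hs, hk⟩ := stalkMap_bc hp y' ψ hψs hψ
  obtain ⟨Φ0⟩ := exists_dualPullEquiv f p hGc y' (RingHom.ker ψ) hs hk
  letI : Module O ((Groth.L00.Stk.F Y' y').obj R') := Module.compHom _ (p.stalkMap y').hom
  let Φ : (Groth.L00.Stk.F Y' y').obj R' ≃ₗ[O] M ⊗[At] N :=
    Φ0.trans (LinearEquiv.ofBijective _ (Core.ev_bijective hev.2 N hN)).symm
  refine ⟨isFlatOverAt_bc hp y' ψ hψs hψ R' M hM Φ, ?_⟩
  refine (skAt_fibre_bc_iff hp y' ψ hψs hψ R' hR'c 2 (M ⊗[At] N) (fun a z => ?_) Φ).2 ?_
  · exact (algebraMap_smul O a z).symm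
  have hsk := (skAt_fibre_iff f (RefHull.dual G) (Groth.L15.Ref.isCoh_dual hGc) 2 (p y') M hM (dualStalk hGc (p y'))).1 h.2
  haveI : Module.Finite O M := by
    haveI : Module.Finite O ((Groth.L00.Stk.F Y (p y')).obj (RefHull.dual G)) :=
      Groth.L06.SupportStalk.finite_stalk _ (Groth.L15.Ref.isCoh_dual hGc) _
    exact Module.Finite.equiv (dualStalk hGc (p y'))
  haveI : Module.Finite O (M ⊗[At] (At ⧸ maximalIdeal At)) :=
    Module.Finite.of_surjective ((TensorProduct.AlgebraTensorModule.mk At O M (At ⧸ maximalIdeal At)).flip 1)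
      (Core.exists_tmul_one _)
  have hne : RingHom.ker ψ ≤ maximalIdeal At := le_maximalIdeal (RingHom.ker_ne_top ψ)
  have hbot : RingHom.ker ψ • (⊤ : Submodule At (At ⧸ maximalIdeal At)) = ⊥ := by
    refine (Submodule.eq_bot_iff _).2 fun x hx => ?_
    refine Submodule.smul_induction_on hx (fun a ha v _ => ?_) (fun y z hy hz => by rw [hy, hz, add_zero])
    obtain ⟨b, rfl⟩ := Ideal.Quotient.mk_surjective v
    exact Ideal.Quotient.eq_zero_iff_mem.2 (Ideal.mul_mem_right b _ (hne ha))
  let c : N ⊗[At] (At ⧸ maximalIdeal At) ≃ₗ[At] At ⧸ maximalIdeal At :=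
    (TensorProduct.quotTensorEquivQuotSMul _ (RingHom.ker ψ)).trans (Submodule.quotEquivOfEqBot _ hbot)
  exact hasSk_of_equiv ((TensorProduct.AlgebraTensorModule.congr (LinearEquiv.refl O M) c).symm.trans
    (TensorProduct.AlgebraTensorModule.assoc At At O M N (At ⧸ maximalIdeal At)).symm) hsk

set_option maxHeartbeats 1600000 in
include hS hd hω hG hp hω' hψs hψ in
/-- the level of the base change as maps, and its fibre condition -/
theorem hasSk_of_bc {G : Y.Modules} (hGc : Coh.IsCoh G) (hGeq : RelCanon.refPowZ ω m = RefHull.dual G)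
    (hinv : ∀ z, z ∈ RelCanon.gorLocus (Y ↘ Spec (CommRingCat.of A)) → RelCanon.InvertibleAt G z)
    (J : Ideal ((Spec (CommRingCat.of A)).presheaf.stalk ((Y ↘ Spec (CommRingCat.of A)) (p y'))))
    (hJ : RingHom.ker ψ = J)
    (h : RelCanon.SkAt 2 ((Scheme.Modules.pullback ((Y' ↘ Spec (CommRingCat.of A')).fiberι ((Y' ↘ Spec (CommRingCat.of A')) y'))).obj
      (RelCanon.refPowZ ω' m)) ((Y' ↘ Spec (CommRingCat.of A')).asFiber y')) :
    letI := algStalk (Y ↘ Spec (CommRingCat.of A)) (p y')
    LocCoh.HasSk 2 (Y.presheaf.stalk (p y'))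
      (Core.Fn ((Spec (CommRingCat.of A)).presheaf.stalk ((Y ↘ Spec (CommRingCat.of A)) (p y'))) (Y.presheaf.stalk (p y'))
        ((Groth.L00.Stk.F Y (p y')).obj G)
        ((Spec (CommRingCat.of A)).presheaf.stalk ((Y ↘ Spec (CommRingCat.of A)) (p y')) ⧸ J) ⊗[(Spec (CommRingCat.of A)).presheaf.stalk ((Y ↘ Spec (CommRingCat.of A)) (p y'))]
          ((Spec (CommRingCat.of A)).presheaf.stalk ((Y ↘ Spec (CommRingCat.of A)) (p y')) ⧸
            maximalIdeal ((Spec (CommRingCat.of A)).presheaf.stalk ((Y ↘ Spec (CommRingCat.of A)) (p y'))))) := by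
  subst hJ
  let f := Y ↘ Spec (CommRingCat.of A)
  let f' := Y' ↘ Spec (CommRingCat.of A')
  haveI := hS.1
  haveI : IsProper f' := MorphismProperty.of_isPullback hp (inferInstanceAs (IsProper f))
  haveI : IsLocallyNoetherian Y := LocallyOfFiniteType.isLocallyNoetherian f
  haveI : IsLocallyNoetherian Y' := LocallyOfFiniteType.isLocallyNoetherian f'
  letI := algStalk f (p y')
  obtain ⟨eR⟩ := nonempty_dual_pullback_refPowZ hS hd ω hω hG hp ω' hω' m hGc hGeq hinv
  obtain ⟨hs, hk⟩ := stalkMap_bc hp y' ψ hψs hψ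
  obtain ⟨Φ0⟩ := exists_dualPullEquiv f p hGc y' (RingHom.ker ψ) hs hk
  exact (skAt_fibre_bc_iff hp y' ψ hψs hψ _ (Groth.L15.Ref.isCoh_dual (Groth.L16.AffineBC.isCoh_pullback p hGc)) 2 _
    (fun a g => LinearMap.ext fun q => (algebraMap_smul (Y.presheaf.stalk (p y')) a (g q)).symm) Φ0).1
    (skAt_of_iso ((Scheme.Modules.pullback _).mapIso eR.symm) h)

set_option maxHeartbeats 1600000 in
include hS hd hω hp hω' in
/-- invertible powers satisfy the fibre condition -/
theorem skAt_of_invertibleAt_bc (h : RelCanon.InvertibleAt (RelCanon.refPowZ ω' m) y') :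
    RelCanon.SkAt 2 ((Scheme.Modules.pullback ((Y' ↘ Spec (CommRingCat.of A')).fiberι ((Y' ↘ Spec (CommRingCat.of A')) y'))).obj
      (RelCanon.refPowZ ω' m)) ((Y' ↘ Spec (CommRingCat.of A')).asFiber y') := by
  let f := Y ↘ Spec (CommRingCat.of A)
  let f' := Y' ↘ Spec (CommRingCat.of A')
  haveI := hS.1
  haveI : IsProper f' := MorphismProperty.of_isPullback hp (inferInstanceAs (IsProper f))
  haveI : Flat f' := MorphismProperty.of_isPullback hp (inferInstanceAs (Flat f))
  haveI : IsLocallyNoetherian Y := LocallyOfFiniteType.isLocallyNoetherian f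
  haveI : IsLocallyNoetherian Y' := LocallyOfFiniteType.isLocallyNoetherian f'
  have hωc : Coh.IsCoh ω' :=
    (isCoh_and_nontrivial d (Groth.L22.Cyc.hasRelDim_baseChange hp hd) ω' (by exact hω')).1
  obtain ⟨e⟩ := exists_stalk_equiv_of_invertibleAt h
  let O' := Y'.presheaf.stalk y'
  letI := algStalk f' y'
  refine (skAt_fibre_iff f' _ (isCoh_refPowZ hωc m) 2 y' O' (fun a x => Algebra.smul_def a x) e).2 ?_
  exact (skAt_fibre_iff f' (Coh.structureModule Y') Groth.L16.CohClosedPush.isCoh_structure 2 y' O'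
    (fun a x => Algebra.smul_def a x) (Groth.L15.Ref.strE y').symm).1
    (skAt_of_iso (Groth.L29.LocFree.pullbackUnitIso _).symm ((isSkMor_baseChange hp hS).2.2 y'))

end BaseChange

/-- the Artinian hypothesis on the fibres -/
abbrev SkAtArtinian (y : Y) : Prop :=
  ∀ (A' : Type u) [CommRing A'] [IsArtinianRing A'] [IsLocalRing A'] [Algebra A A'] (Y' : Scheme.{u})
    [Y'.Over (Spec (CommRingCat.of A'))] (p : Y' ⟶ Y)
    (_ : IsPullback p (Y' ↘ Spec (CommRingCat.of A')) (Y ↘ Spec (CommRingCat.of A))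
      (Spec.map (CommRingCat.ofHom (algebraMap A A'))))
    (ω' : Y'.Modules) (_ : RelCanon.IsDualizingSheaf A' Y' d ω') (y' : Y'),
    p y' = y →
    (∃ ψ : Localization.AtPrime ((Y ↘ Spec (CommRingCat.of A)) y).asIdeal →+* A', Function.Surjective ψ ∧
      ψ.comp (algebraMap A (Localization.AtPrime ((Y ↘ Spec (CommRingCat.of A)) y).asIdeal)) = algebraMap A A') →
    RelCanon.SkAt 2 ((Scheme.Modules.pullback ((Y' ↘ Spec (CommRingCat.of A')).fiberι ((Y' ↘ Spec (CommRingCat.of A')) y'))).obj
      (RelCanon.refPowZ ω' m)) ((Y' ↘ Spec (CommRingCat.of A')).asFiber y')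

set_option maxHeartbeats 1600000 in
include hS hd hω hG in
/-- the Artinian levels satisfy the fibre condition as maps -/
theorem hasSk_level {y : Y} (H : SkAtArtinian (A := A) (d := d) m y)
    {G : Y.Modules} (hGc : Coh.IsCoh G) (hGeq : RelCanon.refPowZ ω m = RefHull.dual G)
    (hinv : ∀ z, z ∈ RelCanon.gorLocus (Y ↘ Spec (CommRingCat.of A)) → RelCanon.InvertibleAt G z)
    (J : Ideal ((Spec (CommRingCat.of A)).presheaf.stalk ((Y ↘ Spec (CommRingCat.of A)) y)))
    (hA : IsArtinianRing ((Spec (CommRingCat.of A)).presheaf.stalk ((Y ↘ Spec (CommRingCat.of A)) y) ⧸ J))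
    (hne : J ≠ ⊤) :
    letI := algStalk (Y ↘ Spec (CommRingCat.of A)) y
    LocCoh.HasSk 2 (Y.presheaf.stalk y)
      (Core.Fn ((Spec (CommRingCat.of A)).presheaf.stalk ((Y ↘ Spec (CommRingCat.of A)) y)) (Y.presheaf.stalk y)
        ((Groth.L00.Stk.F Y y).obj G)
        ((Spec (CommRingCat.of A)).presheaf.stalk ((Y ↘ Spec (CommRingCat.of A)) y) ⧸ J) ⊗[(Spec (CommRingCat.of A)).presheaf.stalk ((Y ↘ Spec (CommRingCat.of A)) y)]
          ((Spec (CommRingCat.of A)).presheaf.stalk ((Y ↘ Spec (CommRingCat.of A)) y) ⧸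
            maximalIdeal ((Spec (CommRingCat.of A)).presheaf.stalk ((Y ↘ Spec (CommRingCat.of A)) y)))) := by
  let f := Y ↘ Spec (CommRingCat.of A)
  let t := f y
  let At := (Spec (CommRingCat.of A)).presheaf.stalk t
  let A' := At ⧸ J
  haveI : IsArtinianRing A' := hA
  haveI : Nontrivial A' := Ideal.Quotient.nontrivial_iff.2 hne
  haveI : IsLocalRing A' := IsLocalRing.of_surjective' (Ideal.Quotient.mk J) Ideal.Quotient.mk_surjective
  letI algAt : Algebra A At := (StructureSheaf.toStalk A t).hom.toAlgebra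
  letI : Algebra A A' := ((Ideal.Quotient.mk J).comp (StructureSheaf.toStalk A t).hom).toAlgebra
  haveI : IsLocalization.AtPrime At t.asIdeal := StructureSheaf.IsLocalization.to_stalk A t
  let g := Spec.map (CommRingCat.ofHom (algebraMap A A'))
  have hgt : g (closedPoint A') = t := by
    refine PrimeSpectrum.ext ?_
    show (maximalIdeal A').comap ((Ideal.Quotient.mk J).comp (algebraMap A At)) = t.asIdeal
    rw [← Ideal.comap_comap, show (maximalIdeal A').comap (Ideal.Quotient.mk J) = maximalIdeal At from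
      IsLocalRing.eq_maximalIdeal (Ideal.comap_isMaximal_of_surjective _ Ideal.Quotient.mk_surjective)]
    exact IsLocalization.AtPrime.under_maximalIdeal At t.asIdeal
  let Y' := pullback f g
  letI : Y'.Over (Spec (CommRingCat.of A')) := ⟨pullback.snd f g⟩
  let p : Y' ⟶ Y := pullback.fst f g
  have hp : IsPullback p (Y' ↘ Spec (CommRingCat.of A')) f g := IsPullback.of_hasPullback f g
  haveI : IsProper (Y' ↘ Spec (CommRingCat.of A')) := MorphismProperty.of_isPullback hp (inferInstanceAs (IsProper f))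
  haveI := isLeftAdjoint (A := A') (Y := Y') (d := d) (Groth.L22.Cyc.hasRelDim_baseChange hp hd)
  have hω' := isDualizingSheaf_ω₀ A' Y' d
  obtain ⟨y', hy', -⟩ := Scheme.Pullback.exists_preimage_pullback (f := f) (g := g) y (closedPoint A') hgt.symm
  let ε : Localization.AtPrime t.asIdeal ≃ₐ[A] At := IsLocalization.algEquiv t.asIdeal.primeCompl _ _
  have hsk := H A' Y' p hp _ hω' y' hy' ⟨(Ideal.Quotient.mk J).comp ε.toRingEquiv.toRingHom,
    Ideal.Quotient.mk_surjective.comp ε.surjective, RingHom.ext fun a => congrArg (Ideal.Quotient.mk J) (ε.commutes a)⟩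
  have key : ∀ (z : Y) (_ : p y' = z) (J : Ideal ((Spec (CommRingCat.of A)).presheaf.stalk (f z)))
      (ψ : (Spec (CommRingCat.of A)).presheaf.stalk (f z) →+* A'), Function.Surjective ψ →
      ψ.comp (StructureSheaf.toStalk A (f z)).hom = algebraMap A A' → RingHom.ker ψ = J →
      letI := algStalk f z
      LocCoh.HasSk 2 (Y.presheaf.stalk z)
        (Core.Fn ((Spec (CommRingCat.of A)).presheaf.stalk (f z)) (Y.presheaf.stalk z) ((Groth.L00.Stk.F Y z).obj G)
          ((Spec (CommRingCat.of A)).presheaf.stalk (f z) ⧸ J) ⊗[(Spec (CommRingCat.of A)).presheaf.stalk (f z)]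
            ((Spec (CommRingCat.of A)).presheaf.stalk (f z) ⧸ maximalIdeal ((Spec (CommRingCat.of A)).presheaf.stalk (f z)))) := by
    rintro z rfl J ψ hs hc hk
    exact hasSk_of_bc hS hd ω hω hG m hp _ hω' y' ψ hs hc hGc hGeq hinv J hk hsk
  exact key y hy' J (Ideal.Quotient.mk J) Ideal.Quotient.mk_surjective rfl Ideal.mk_ker

set_option maxHeartbeats 1600000 in
include hS hd hω hG in
/-- relative Serre condition two from the Artinian levels -/
theorem relSkAt_of_artinian {y : Y} (H : SkAtArtinian (A := A) (d := d) m y) :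
    RelCanon.RelSkAt (Y ↘ Spec (CommRingCat.of A)) 2 (RelCanon.refPowZ ω m) y := by
  let f := Y ↘ Spec (CommRingCat.of A)
  haveI := hS.1
  haveI : IsLocallyNoetherian Y := LocallyOfFiniteType.isLocallyNoetherian f
  obtain ⟨G, hGc, hGeq, hinv⟩ := exists_predual hS hd ω hω m
  rw [hGeq]
  let At := (Spec (CommRingCat.of A)).presheaf.stalk (f y)
  let O := Y.presheaf.stalk y
  letI := algStalk f y
  haveI := isLocalHom_algStalk f y
  haveI := flat_algStalk f y
  let Q := (Groth.L00.Stk.F Y y).obj G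
  haveI : Module.Finite O Q := Groth.L06.SupportStalk.finite_stalk G hGc _
  have hD := fibreData f hS hGc y hinv (fun z _ _ hz => hG z hz)
  have hart : ∀ n : ℕ, IsArtinianRing (At ⧸ maximalIdeal At ^ (n + 1)) := fun n => by
    have h1 := (isFiniteLength_iff_isNoetherian_isArtinian.1 (Core.isFiniteLength_quotient_pow (A := At) n)).2
    haveI := h1
    exact isArtinian_of_tower (R := At) inferInstance
  have htower : ∀ n : ℕ, Function.Surjective (Core.fmap O Q (Submodule.factor
      (Ideal.pow_le_self n.succ_ne_zero : maximalIdeal At ^ (n + 1) ≤ maximalIdeal At))) := fun n => by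
    refine Core.fmap_surjective_of_hasSk hD _ (Submodule.factor_surjective _) (fun x hx => ?_)
      (hasSk_level hS hd ω hω hG m H hGc hGeq hinv _ (hart n) fun h =>
        (maximalIdeal.isMaximal At).ne_top (top_le_iff.1 (h ▸ Ideal.pow_le_self n.succ_ne_zero)))
    obtain ⟨a, rfl⟩ := Ideal.Quotient.mk_surjective x
    have ha : a ∈ maximalIdeal At := Ideal.Quotient.eq_zero_iff_mem.1 hx
    have h := Submodule.smul_mem_smul ha (Submodule.mem_top : (1 : At ⧸ maximalIdeal At ^ (n + 1)) ∈ ⊤)
    have h1 : a • (1 : At ⧸ maximalIdeal At ^ (n + 1)) = Ideal.Quotient.mk (maximalIdeal At ^ (n + 1)) a :=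
      (Algebra.smul_def _ _).trans (mul_one _)
    rwa [h1] at h
  have hev := Core.ev_residue_surjective_of_tower htower
  haveI : Module.Flat At (Q →ₗ[O] O) := Core.flat hev
  refine ⟨?_, ?_⟩
  · letI := FlatMod.moduleStalkOver f (RefHull.dual G) y
    let e : (RefHull.dual G).presheaf.stalk y ≃ₗ[At] (Q →ₗ[O] O) :=
      { (dualStalk hGc y).toAddEquiv with
        map_smul' := fun a v => ((dualStalk hGc y).map_smul ((f.stalkMap y).hom a) v).trans (algebraMap_smul O a _) }
    exact Module.Flat.of_linearEquiv e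
  · haveI : Module.Finite O (O ⊗[At] (At ⧸ maximalIdeal At)) := inferInstance
    haveI := Core.finite_maps (A := At) (O := O) (Q := Q) (At ⧸ maximalIdeal At)
    haveI : Module.Finite O (Core.Fn At O Q (At ⧸ maximalIdeal At) ⊗[At] (At ⧸ maximalIdeal At)) :=
      Module.Finite.of_surjective
        ((TensorProduct.AlgebraTensorModule.mk At O (Core.Fn At O Q (At ⧸ maximalIdeal At)) (At ⧸ maximalIdeal At)).flip 1)
        (Core.exists_tmul_one _)
    have hk := hasSk_level hS hd ω hω hG m H hGc hGeq hinv (maximalIdeal At)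
      (inferInstanceAs (IsArtinianRing (ResidueField At))) (maximalIdeal.isMaximal At).ne_top
    obtain ⟨r⟩ := nonempty_tensor_residue (R := At) (O := O) (M := Core.Fn At O Q (At ⧸ maximalIdeal At))
      map_le_annihilator_maps
    exact (skAt_fibre_iff f (RefHull.dual G) (Groth.L15.Ref.isCoh_dual hGc) 2 y (Q →ₗ[O] O)
      (fun a g => LinearMap.ext fun q => Algebra.smul_def a (g q)) (dualStalk hGc y)).2
      (hasSk_of_equiv (r.trans (LinearEquiv.ofBijective _ ⟨Core.ev_residue_injective hev, hev⟩).symm) hk)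

set_option maxHeartbeats 1600000 in
include hS hd hω hG in
/-- invertibility at a point of a residual base change gives invertibility, given relative Serre condition two -/
theorem invertibleAt_of_residual {A' : Type u} [CommRing A'] [IsArtinianRing A'] [IsLocalRing A'] [Algebra A A']
    {Y' : Scheme.{u}} [Y'.Over (Spec (CommRingCat.of A'))] {p : Y' ⟶ Y}
    (hp : IsPullback p (Y' ↘ Spec (CommRingCat.of A')) (Y ↘ Spec (CommRingCat.of A))
      (Spec.map (CommRingCat.ofHom (algebraMap A A'))))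
    (ω' : Y'.Modules) (hω' : RelCanon.IsDualizingSheaf A' Y' d ω') (y' : Y')
    (ψ : (Spec (CommRingCat.of A)).presheaf.stalk ((Y ↘ Spec (CommRingCat.of A)) (p y')) →+* A')
    (hψs : Function.Surjective ψ)
    (hψ : ψ.comp (StructureSheaf.toStalk A ((Y ↘ Spec (CommRingCat.of A)) (p y'))).hom = algebraMap A A')
    (hfield : RingHom.ker ψ = maximalIdeal ((Spec (CommRingCat.of A)).presheaf.stalk ((Y ↘ Spec (CommRingCat.of A)) (p y'))))
    (hR : RelCanon.RelSkAt (Y ↘ Spec (CommRingCat.of A)) 2 (RelCanon.refPowZ ω m) (p y'))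
    (h : RelCanon.InvertibleAt (RelCanon.refPowZ ω' m) y') :
    RelCanon.InvertibleAt (RelCanon.refPowZ ω m) (p y') := by
  let f := Y ↘ Spec (CommRingCat.of A)
  let f' := Y' ↘ Spec (CommRingCat.of A')
  haveI := hS.1
  haveI : IsProper f' := MorphismProperty.of_isPullback hp (inferInstanceAs (IsProper f))
  haveI : IsLocallyNoetherian Y := LocallyOfFiniteType.isLocallyNoetherian f
  haveI : IsLocallyNoetherian Y' := LocallyOfFiniteType.isLocallyNoetherian f'
  obtain ⟨G, hGc, hGeq, hinv⟩ := exists_predual hS hd ω hω m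
  obtain ⟨eR⟩ := nonempty_dual_pullback_refPowZ hS hd ω hω hG hp ω' hω' m hGc hGeq hinv
  rw [hGeq] at hR ⊢
  let O := Y.presheaf.stalk (p y')
  let At := (Spec (CommRingCat.of A)).presheaf.stalk (f (p y'))
  let O' := Y'.presheaf.stalk y'
  letI := algStalk f (p y')
  letI : Algebra O O' := (p.stalkMap y').hom.toAlgebra
  obtain ⟨hs, hk⟩ := stalkMap_bc hp y' ψ hψs hψ
  rw [hfield] at hk
  refine invertibleAt_of_fibre f hGc (p y')
    (ev_bijective_of_relSkAt f hS hGc (p y') hinv (fun z _ _ hz => hG z hz) hR) ?_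
  let N := (Groth.L00.Stk.F Y' y').obj (RefHull.dual ((Scheme.Modules.pullback p).obj G))
  letI : Module O N := Module.compHom _ (p.stalkMap y').hom
  haveI : IsScalarTower O O' N := .of_algebraMap_smul fun _ _ => rfl
  obtain ⟨Φ⟩ := exists_dualPullEquiv f p hGc y' (maximalIdeal At) hs hk
  obtain ⟨T, -⟩ := nonempty_quot_equiv (A := At) (maximalIdeal At) (O' := O') hs hk
  obtain ⟨e⟩ := exists_stalk_equiv_of_invertibleAt h
  let e' : N ≃ₗ[O'] O' := ((Groth.L00.Stk.F Y' y').mapIso eR).toLinearEquiv.trans e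
  exact ⟨Φ.symm.trans ((e'.restrictScalars O).trans T)⟩

end Groth.L10.RelCan
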