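import Groth.Prelude.Def_RelCanon
import Groth.Agent.L10.TopDual.Main
import Groth.Agent.L10.TopDual.RelRepr
import Groth.Agent.L10.ShriekLoc.CM
import Groth.Agent.L10.FMDiag.Basic
import Groth.Agent.S1766

/-!
The relative dualizing sheaf of a proper flat morphism over an affine base as the lowest cohomology of `f^! O`.
-/

set_option autoImplicit false
set_option backward.defeqAttrib.useBackward true
set_option backward.isDefEq.respectTransparency false
set_option backward.isDefEq.respectTransparency.types false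
set_option linter.style.haveILetI false
universe u

open CategoryTheory CategoryTheory.Limits AlgebraicGeometry

attribute [local instance] HasDerivedCategory.standard

noncomputable section

namespace Groth.L10.RelCan

open Groth.L29 Groth.L29.DC Groth.L10.ShriekLoc
open Groth.L16.CohLinear (hmap hmap_comp hmap_id)

section General

variable {A : Type u} [CommRing A] {Y : Scheme.{u}} [Y.Over (Spec (CommRingCat.of A))] {d : ℕ}

theorem isDualizingSheaf_iff (ω : Y.Modules) :
    RelCanon.IsDualizingSheaf A Y d ω ↔ ∃ t : Coh.HH Y ω d →ₗ[A] A, Coh.IsQCoh ω ∧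
      ∀ F : Y.Modules, Coh.IsQCoh F → ∀ ψ : Coh.HH Y F d →ₗ[A] A, ∃! φ : F ⟶ ω, ∀ z, ψ z = t (hmap φ d z) := by
  refine exists_congr fun t => and_congr_right fun _ => forall₂_congr fun F _ => ?_
  rw [Function.bijective_iff_existsUnique]
  refine forall_congr' fun ψ => existsUnique_congr fun φ => ?_
  exact LinearMap.ext_iff.trans (forall_congr' fun z => eq_comm)

theorem isDualizingSheaf_of_iso {ω ω' : Y.Modules} (e : ω ≅ ω') (h : RelCanon.IsDualizingSheaf A Y d ω) :
    RelCanon.IsDualizingSheaf A Y d ω' := by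
  obtain ⟨t, hq, ht⟩ := (isDualizingSheaf_iff ω).1 h
  refine (isDualizingSheaf_iff ω').2 ⟨t ∘ₗ Canon.HHlin A e.inv d, Groth.L29.DC.isQCoh_of_iso' e hq, fun F hF ψ => ?_⟩
  obtain ⟨φ, hφ, hu⟩ := ht F hF ψ
  refine ⟨φ ≫ e.hom, fun z => ?_, fun φ' hφ' => ?_⟩
  · change ψ z = t (hmap e.inv d (hmap (φ ≫ e.hom) d z))
    rw [← hmap_comp, Category.assoc, e.hom_inv_id, Category.comp_id]
    exact hφ z
  · rw [← hu (φ' ≫ e.inv) fun z => by rw [hmap_comp]; exact hφ' z, Category.assoc, e.inv_hom_id, Category.comp_id]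

/-- the representing object is unique -/
theorem nonempty_iso {ω ω' : Y.Modules} (h : RelCanon.IsDualizingSheaf A Y d ω)
    (h' : RelCanon.IsDualizingSheaf A Y d ω') : Nonempty (ω ≅ ω') := by
  obtain ⟨t, hq, ht⟩ := (isDualizingSheaf_iff ω).1 h
  obtain ⟨t', hq', ht'⟩ := (isDualizingSheaf_iff ω').1 h'
  obtain ⟨φ, hφ, -⟩ := ht' ω hq t
  obtain ⟨ψ, hψ, -⟩ := ht ω' hq' t'
  refine ⟨⟨φ, ψ, ?_, ?_⟩⟩
  · exact (ht ω hq t).unique (fun z => by rw [hmap_comp, ← hψ, ← hφ]) (fun z => by rw [hmap_id])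
  · exact (ht' ω' hq' t').unique (fun z => by rw [hmap_comp, ← hφ, ← hψ]) (fun z => by rw [hmap_id])

end General

theorem nonempty_restrictD_id (X : Scheme.{u}) [PreservesFiniteLimits (Scheme.Modules.restrictFunctor (𝟙 X))]
    (K : DCoh.D X) : Nonempty ((DCoh.restrictD (𝟙 X)).obj K ≅ K) := by
  haveI := Groth.L00.KFlat.hasLpull (𝟙 X)
  obtain ⟨r⟩ := nonempty_Lpull_iso_restrictD (𝟙 X) K
  obtain ⟨l⟩ := Groth.L10.FMDiag.nonempty_Lpull_id (X := X)
  exact ⟨r.symm ≪≫ l.app K⟩

variable {A : Type u} [CommRing A] [IsNoetherianRing A] {Y : Scheme.{u}} [Y.Over (Spec (CommRingCat.of A))]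

set_option maxHeartbeats 1600000 in
/-- the dualizing sheaf is the lowest cohomology of the twisted inverse image of the structure sheaf -/
theorem exists_model [IsProper (Y ↘ Spec (CommRingCat.of A))] [Flat (Y ↘ Spec (CommRingCat.of A))]
    [∀ (U V : Scheme.{u}) (j : U ⟶ V) [IsOpenImmersion j], PreservesFiniteLimits (Scheme.Modules.restrictFunctor j)]
    (d : ℕ) (hd : Cyc.HasRelDim (Y ↘ Spec (CommRingCat.of A)) d) :
    ∃ (c : DEt.Compactification (Y ↘ Spec (CommRingCat.of A))) (_ : DCoh.HasRpush c.fbar)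
      (hc : DCoh.RpushPreservesQCoh c.fbar) (a : DCoh.DQCoh (Spec (CommRingCat.of A)) ⥤ DCoh.DQCoh c.Xbar)
      (_ : DCoh.RpushQ c.fbar hc ⊣ a) (O : DCoh.DQCoh (Spec (CommRingCat.of A))),
      Nonempty (O.obj ≅ DCoh.inD (Spec (CommRingCat.of A)) (Coh.structureModule (Spec (CommRingCat.of A)))) ∧
      ∀ ω : Y.Modules, RelCanon.IsDualizingSheaf A Y d ω ↔
        Nonempty (ω ≅ DCoh.HD ((Dual3.shriekC c a).obj O) (-(d : ℤ))) := by
  let f := Y ↘ Spec (CommRingCat.of A)
  haveI := fun (R : CommRingCat.{u}) => Groth.L18.TildeF.tilde_preservesFiniteLimits (R := R)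
  haveI : IsLocallyNoetherian Y := LocallyOfFiniteType.isLocallyNoetherian f
  haveI : CompactSpace Y := QuasiCompact.compactSpace_of_compactSpace f
  haveI : AlgebraicGeometry.IsNoetherian Y := {}
  haveI : DCoh.HasRpush f := RpushQC.hasRpush f
  have h : DCoh.RpushPreservesQCoh f := fun K hK => RpushQC.isQCohD_Rpush f K hK
  haveI := Groth.Agent.S1766.result Y (Spec (CommRingCat.of A)) f h
  let c : DEt.Compactification f := ⟨Y, 𝟙 Y, f, inferInstance, inferInstance, Category.id_comp f⟩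
  let G := ObjectProperty.lift DCoh.IsQCohD (ObjectProperty.ι DCoh.IsQCohD ⋙ DCoh.Rpush f)
    (fun K => h K.obj K.property)
  let adj := Adjunction.ofIsLeftAdjoint G
  let W : DCoh.DQCoh (Spec (CommRingCat.of A)) :=
    ⟨(DCoh.tildeD (CommRingCat.of A)).obj (Dual.inD A A), (TildeD.isQCohD_iff (R := CommRingCat.of A) _).2
      ⟨_, ⟨Iso.refl _⟩⟩⟩
  let R : CommRingCat.{u} := CommRingCat.of A
  haveI : PreservesColimitsOfSize.{0, 0} (tilde.functor R) := tilde.adjunction.leftAdjoint_preservesColimits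
  haveI := preservesBinaryBiproducts_of_preservesBinaryCoproducts (tilde.functor R)
  haveI : (tilde.functor R).Additive := Functor.additive_of_preservesBinaryBiproducts _
  let eO : W.obj ≅ DCoh.inD (Spec R) (Coh.structureModule (Spec R)) :=
    ((tilde.functor R).mapDerivedCategorySingleFunctor 0).app (ModuleCat.of A A) ≪≫
      (DerivedCategory.singleFunctor (Spec R).Modules 0).mapIso tildeSelf
  let a := G.rightAdjoint
  let L := (Dual3.shriekC c a).obj W
  obtain ⟨e⟩ : Nonempty (L ≅ (a.obj W).obj) := nonempty_restrictD_id Y _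
  have hK : (a.obj W).obj.IsGE (-(d : ℤ)) := (DerivedCategory.isGE_iff _ _).2 fun i hi => by
    refine IsZero.of_iso ?_ ((DerivedCategory.homologyFunctor _ i).mapIso e.symm)
    refine Groth.L21.Mod.isZero_iff_stalk_subsingleton _ |>.2 fun x => ?_
    rw [← not_nontrivial_iff_subsingleton]
    intro hx
    have := (neg_le c (hc := h) adj W ⟨eO⟩ x d (localFibreDim_le_of_components hd x) i hx).1
    omega
  have hvan : ∀ M : Y.Modules, Coh.IsQCoh M → ∀ i : ℕ, d < i → Subsingleton (Coh.HH Y M i) := fun M hM i hi =>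
    Groth.L10.TopDual.subsingleton_HH_of_fibres f
      (fun y => Groth.L10.TopDual.dim_le_of_components d fun Z hZ => (hd y Z hZ).le) M hM i hi
  haveI : DerivedCategory.IsGE (Dual.inD A A) 0 := inferInstance
  obtain ⟨t, ht⟩ := Groth.L10.TopDual.exists_trace (h := h) adj d hvan (Dual.inD A A) W (Iso.refl _) hK
  let ε : Dual.HD A (Dual.inD A A) 0 ≃ₗ[A] A :=
    ((DerivedCategory.singleFunctorCompHomologyFunctorIso (ModuleCat.{u} A) 0).app (ModuleCat.of A A)).toLinearEquiv
  have hω₀ : RelCanon.IsDualizingSheaf A Y d (DCoh.HD (a.obj W).obj (-(d : ℤ))) := by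
    refine (isDualizingSheaf_iff _).2 ⟨ε.toLinearMap ∘ₗ t, (a.obj W).property _, fun F hF ψ => ?_⟩
    obtain ⟨φ, hφ, hu⟩ := ht F hF (ε.symm.toLinearMap ∘ₗ ψ)
    refine ⟨φ, fun z => ?_, fun φ' hφ' => hu φ' fun z => ?_⟩
    · exact (ε.apply_symm_apply (ψ z)).symm.trans (congrArg ε (hφ z))
    · exact ε.injective ((ε.apply_symm_apply (ψ z)).trans (hφ' z))
  have hω₁ : RelCanon.IsDualizingSheaf A Y d (DCoh.HD L (-(d : ℤ))) :=
    isDualizingSheaf_of_iso ((DerivedCategory.homologyFunctor _ _).mapIso e.symm) hω₀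
  exact ⟨c, ‹DCoh.HasRpush f›, h, a, adj, W, ⟨eO⟩, fun ω => ⟨fun hω => nonempty_iso hω hω₁,
    fun ⟨e'⟩ => isDualizingSheaf_of_iso e'.symm hω₁⟩⟩

end Groth.L10.RelCan
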