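import Groth.Agent.L10.RelCan.Basic
import Groth.Agent.L10.ShriekLoc.Gor
import Groth.Agent.L10.ShriekLoc.FibreDual
import Groth.Agent.L10.ShriekLoc.LocalCM
import Groth.Agent.L10.ShriekLoc.SuppTools
import Groth.Agent.L04.CMLoc
import Groth.Agent.L29.Dual.SchStalk
import Groth.Agent.L29.DCoh.RelBC

/-!
The relative dualizing sheaf of a proper Cohen–Macaulay morphism.
-/

set_option autoImplicit false
set_option backward.defeqAttrib.useBackward true
set_option backward.isDefEq.respectTransparency false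
set_option backward.isDefEq.respectTransparency.types false
set_option linter.style.haveILetI false
universe u

open CategoryTheory CategoryTheory.Limits AlgebraicGeometry

attribute [local instance] HasDerivedCategory.standard

noncomputable section

namespace Groth.L10.RelCan

open Groth.L29 Groth.L29.DC Groth.L10.ShriekLoc

theorem hasSk_of_cm {R : Type u} [CommRing R] [IsLocalRing R] [IsNoetherianRing R] {M : Type u} [AddCommGroup M]
    [Module R M] [Module.Finite R M] (h : LocCoh.IsCohenMacaulayModule R M) (k : ℕ) : LocCoh.HasSk k R M := by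
  intro p hp
  by_cases hs : (⟨p, hp⟩ : PrimeSpectrum R) ∈ Module.support R M
  · exact (min_le_right _ _).trans (Groth.L04.isCohenMacaulayModule_localized h p hs).le
  · rw [Module.notMem_support_iff] at hs
    haveI := hs
    rw [(Module.supportDim_eq_bot_iff_subsingleton _ _).2 inferInstance]
    exact le_trans (min_le_right _ _) bot_le

theorem skAt_chart {Z : Scheme.{u}} {B₀ : Type u} [CommRing B₀] [IsNoetherianRing B₀]
    [∀ (U : Scheme.{u}) (j : U ⟶ Z) [IsOpenImmersion j], PreservesFiniteLimits (Scheme.Modules.restrictFunctor j)]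
    [PreservesFiniteLimits (tilde.functor (CommRingCat.of B₀))]
    (L : DCoh.D Z) (j : Spec (CommRingCat.of B₀) ⟶ Z) [IsOpenImmersion j] (ω : Dual.D B₀) (hω : Dual.IsDualizing B₀ ω)
    (e : (DCoh.restrictD j).obj L ≅ (DCoh.tildeD (CommRingCat.of B₀)).obj ω)
    (m : ℤ) (hz : ∀ i, i ≠ m → IsZero (DCoh.HD L i)) (k : ℕ) (q : Spec (CommRingCat.of B₀)) :
    RelCanon.SkAt k (DCoh.HD L m) (j q) := by
  let B := Localization.AtPrime q.asIdeal
  haveI : Module.Flat B₀ B := IsLocalization.flat _ q.asIdeal.primeCompl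
  have hB := FlatBC.isDualizing_L_localization (B := B) q.asIdeal.primeCompl hω
  haveI := hB.isNoetherianRing
  haveI := hB.finite_cohomology m
  refine hasSk_stalk (ω := ω) j e q q le_rfl hω ?_
  refine hasSk_of_cm (cm_module_of_single _ hB m fun i hi => ?_).2 k
  haveI : Subsingleton (Dual.HD B₀ ω i) := ModuleCat.subsingleton_of_isZero
    ((TildeAlg.isZero_hd_iff (R := CommRingCat.of B₀) ω i).1
      (((Scheme.Modules.restrictFunctor j).map_isZero (hz i hi)).of_iso
        (((DerivedCategory.homologyFunctor _ i).mapIso e.symm) ≪≫ HDResIso j L i)))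
  exact ((FlatBC.hEquiv B₀ B ω i).trans
    (LocalizedModule.equivTensorProduct q.asIdeal.primeCompl _).symm).toEquiv.subsingleton

/-- a dualizing complex in one degree is a Cohen–Macaulay module -/
theorem skAt_of_single {Z : Scheme.{u}} [IsLocallyNoetherian Z]
    [∀ (U : Scheme.{u}) (j : U ⟶ Z) [IsOpenImmersion j], PreservesFiniteLimits (Scheme.Modules.restrictFunctor j)]
    [∀ (R : CommRingCat.{u}), PreservesFiniteLimits (tilde.functor R)]
    (L : DCoh.D Z) (hL : Dual2.IsDualizingSch Z L) (m : ℤ) (hz : ∀ i, i ≠ m → IsZero (DCoh.HD L i)) (k : ℕ) (z : Z) :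
    RelCanon.SkAt k (DCoh.HD L m) z := by
  let 𝒰 := Z.affineCover
  obtain ⟨p, hx⟩ : ∃ p, z ∈ Set.range (𝒰.f p) := ⟨_, 𝒰.covers z⟩
  haveI : IsAffine (𝒰.X p) := by dsimp [𝒰]; infer_instance
  let j := (𝒰.X p).isoSpec.inv ≫ 𝒰.f p
  obtain ⟨ω, hω, ⟨e⟩⟩ := hL Γ(𝒰.X p, ⊤) j
  obtain ⟨w, rfl⟩ := hx
  let q := (𝒰.X p).isoSpec.hom w
  have hq : j q = 𝒰.f p w := (Scheme.Hom.comp_apply _ _ _).symm.trans (by simp [j])
  rw [← hq]
  exact @skAt_chart Z _ _ hω.isNoetherianRing _ _ L j _ ω hω e m hz k q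

theorem restrict_opensRange {X T : Scheme.{u}} (j : T ⟶ X) [IsOpenImmersion j] (M : X.Modules)
    (e : M.restrict j ≅ Coh.structureModule T) :
    Nonempty (M.restrict j.opensRange.ι ≅ Coh.structureModule (j.opensRange : Scheme.{u})) :=
  ⟨(Scheme.Modules.restrictFunctorCongr (show j.opensRange.ι = j.isoOpensRange.inv ≫ j by simp)).app M ≪≫
    (Scheme.Modules.restrictFunctorComp _ j).app M ≪≫ (Scheme.Modules.restrictFunctor j.isoOpensRange.inv).mapIso e ≪≫
      Scheme.Modules.restrictUnitIso j.isoOpensRange.inv⟩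

variable {A : Type u} [CommRing A] [IsNoetherianRing A] {Y : Scheme.{u}} [Y.Over (Spec (CommRingCat.of A))]

set_option maxHeartbeats 3200000 in
theorem cm_facts [IsProper (Y ↘ Spec (CommRingCat.of A))] (d : ℕ)
    (hCM : ∀ y : Y, MoreMor.IsCMAt (Y ↘ Spec (CommRingCat.of A)) y)
    (hd : Cyc.HasRelDim (Y ↘ Spec (CommRingCat.of A)) d)
    (ω : Y.Modules) (hω : RelCanon.IsDualizingSheaf A Y d ω) :
    FlatMod.IsFlatOver (Y ↘ Spec (CommRingCat.of A)) ω ∧
    (∀ (y : Y) (k : ℕ), RelCanon.RelSkAt (Y ↘ Spec (CommRingCat.of A)) k ω y) ∧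
    (∀ y : Y, Nontrivial (ω.presheaf.stalk y)) ∧
    (∀ y : Y, y ∈ RelCanon.gorLocus (Y ↘ Spec (CommRingCat.of A)) ↔ RelCanon.InvertibleAt ω y) := by
  let f := Y ↘ Spec (CommRingCat.of A)
  haveI := fun {P Q : Scheme.{u}} (k : P ⟶ Q) => Groth.L00.KFlat.hasLpull k
  haveI := fun (R : CommRingCat.{u}) => Groth.L18.TildeF.tilde_preservesFiniteLimits (R := R)
  haveI : ∀ (U V : Scheme.{u}) (j : U ⟶ V) [IsOpenImmersion j],
      PreservesFiniteLimits (Scheme.Modules.restrictFunctor j) := fun U V j _ => inferInstance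
  haveI : IsLocallyNoetherian Y := LocallyOfFiniteType.isLocallyNoetherian f
  haveI : Flat f := (Flat.iff_flat_stalkMap f).2 fun x => (hCM x).1
  obtain ⟨c, hR, hc, a, adj, O, hO, hiff⟩ := exists_model (Y := Y) d hd
  haveI := hR
  obtain ⟨e₀⟩ := (hiff ω).1 hω
  let L := (Dual3.shriekC c a).obj O
  let m : ℤ := -(d : ℤ)
  obtain ⟨G, ⟨eG⟩⟩ : ∃ G : CochainComplex Y.Modules ℤ, Nonempty (DCoh.toD Y G ≅ L) :=
    ⟨_, ⟨DerivedCategory.Q.objObjPreimageIso _⟩⟩
  have hchart : ∀ x : Y, DerSch.HasTorAmplitudeAt f m m G x ∧ Nontrivial ((DCoh.HD L m).presheaf.stalk x) := by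
    intro x
    obtain ⟨d', C, ⟨z, rfl⟩, hC⟩ := exists_chart_single c adj O hO x (hCM x)
    obtain ⟨hfd, -, hnt, hamp⟩ := hC z
    have hle := localFibreDim_le_of_components hd (C.jU z)
    have hge := le_localFibreDim hd (C.jU z)
    rw [hfd] at hle hge
    obtain rfl : d = d' := le_antisymm (by exact_mod_cast hge) (by exact_mod_cast hle)
    exact ⟨hamp G ⟨eG⟩, hnt⟩
  obtain ⟨hz, hfl₀⟩ := isFlatOver_of_ampAt G eG m fun x => (hchart x).1
  have hfl : FlatMod.IsFlatOver f ω := RelBC.isFlatOver_of_iso f e₀.symm hfl₀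
  haveI : L.IsGE m := (DerivedCategory.isGE_iff _ _).2 fun i hi => hz i (ne_of_lt hi)
  haveI : L.IsLE m := (DerivedCategory.isLE_iff _ _).2 fun i hi => hz i (ne_of_gt hi)
  obtain ⟨e₁⟩ := Groth.L10.exists_iso_single_H L m
  let E : CochainComplex Y.Modules ℤ := (HomologicalComplex.single Y.Modules (ComplexShape.up ℤ) m).obj ω
  let eL : L ≅ DCoh.toD Y E := e₁ ≪≫ (DerivedCategory.singleFunctor Y.Modules m).mapIso e₀.symm ≪≫
    (DerivedCategory.singleFunctorIsoCompQ Y.Modules m).app ω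
  have hnt : ∀ y : Y, Nontrivial (ω.presheaf.stalk y) := fun y =>
    haveI : Nontrivial ((Groth.L00.Stk.F Y y).obj (DCoh.HD L m)) := (hchart y).2
    ((Groth.L00.Stk.F Y y).mapIso e₀).toLinearEquiv.toEquiv.nontrivial
  refine ⟨hfl, fun y k => ⟨hfl y, ?_⟩, hnt, fun y => ?_⟩
  · let t := f y
    have hsq : IsPullback (f.fiberι t) (f.fiberToSpecResidueField t) f
        ((Spec (CommRingCat.of A)).fromSpecResidueField t) := IsPullback.of_hasPullback _ _
    obtain ⟨eP⟩ := RelBC.nonempty_Lpull_iso hsq (E := E) (b := m)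
      (fun i hi => HomologicalComplex.isZero_single_obj_X _ _ _ _ (ne_of_gt hi)) (fun i => by
        rcases eq_or_ne i m with rfl | hi
        · exact RelBC.isFlatOver_of_iso f (HomologicalComplex.singleObjXSelf _ m ω).symm hfl
        · exact RelBC.isFlatOver_zero f (HomologicalComplex.isZero_single_obj_X _ _ _ _ hi))
    haveI : LocallyOfFiniteType (f.fiberToSpecResidueField t) :=
      MorphismProperty.pullback_snd f ((Spec (CommRingCat.of A)).fromSpecResidueField t) inferInstance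
    haveI : IsLocallyNoetherian (f.fiber t) :=
      LocallyOfFiniteType.isLocallyNoetherian (f.fiberToSpecResidueField t)
    haveI : (Scheme.Modules.pullback (f.fiberι t)).Additive :=
      (Scheme.Modules.pullbackPushforwardAdjunction (f.fiberι t)).left_adjoint_additive
    let ωt := (Scheme.Modules.pullback (f.fiberι t)).obj ω
    let K := (DCoh.Lpull (f.fiberι t)).obj L
    let eK : K ≅ (DerivedCategory.singleFunctor (f.fiber t).Modules m).obj ωt :=
      (DCoh.Lpull (f.fiberι t)).mapIso eL ≪≫ eP ≪≫ DerivedCategory.Q.mapIso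
        ((HomologicalComplex.singleMapHomologicalComplex (Scheme.Modules.pullback (f.fiberι t))
          (ComplexShape.up ℤ) m).app ω) ≪≫ ((DerivedCategory.singleFunctorIsoCompQ _ m).app ωt).symm
    have hKz : ∀ i, i ≠ m → IsZero (DCoh.HD K i) := fun i hi => by
      refine IsZero.of_iso ?_ ((DerivedCategory.homologyFunctor _ i).mapIso eK)
      rcases lt_or_gt_of_ne hi with h | h
      · exact DerivedCategory.isZero_of_isGE _ m i h
      · exact DerivedCategory.isZero_of_isLE _ m i h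
    have hK : RelCanon.SkAt k (DCoh.HD K m) (f.asFiber y) :=
      skAt_of_single K (isDualizing_fibre c adj O hO t) m hKz k _
    let eS : DCoh.HD K m ≅ ωt := (DerivedCategory.homologyFunctor _ m).mapIso eK ≪≫
      (DerivedCategory.singleFunctorCompHomologyFunctorIso _ m).app ωt
    exact Groth.L29.SchStalk.hasSk_congr (k := k) ((Groth.L00.Stk.F _ (f.asFiber y)).mapIso eS).toLinearEquiv hK
  · constructor
    · intro hy
      obtain ⟨U, hyU, hU⟩ := exists_invertible c adj O hO y hy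
      obtain ⟨V, n, hxV, ⟨eV⟩⟩ := hU ⟨y, hyU⟩
      let T : DCoh.D (V : Scheme.{u}) := DCoh.inD _ (Coh.structureModule (V : Scheme.{u}))
      let eH : (ω.restrict U.ι).restrict V.ι ≅ DCoh.HD T (n + m) :=
        (Scheme.Modules.restrictFunctor V.ι).mapIso ((Scheme.Modules.restrictFunctor U.ι).mapIso e₀ ≪≫
          (HDResIso U.ι L m).symm) ≪≫ (HDResIso V.ι ((DCoh.restrictD U.ι).obj L) m).symm ≪≫
          (DerivedCategory.homologyFunctor _ m).mapIso eV ≪≫
          Groth.L10.hShiftIso (A := (V : Scheme.{u}).Modules) T n m (n + m) rfl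
      have hn : n + m = 0 := by
        by_contra hne
        have hz' : IsZero ((ω.restrict U.ι).restrict V.ι) := by
          refine IsZero.of_iso ?_ eH
          rcases lt_or_gt_of_ne hne with h | h
          · exact DerivedCategory.isZero_of_isGE _ 0 _ h
          · exact DerivedCategory.isZero_of_isLE _ 0 _ h
        haveI := (Groth.L21.Mod.isZero_iff_stalk_subsingleton _).1 hz' ⟨⟨y, hyU⟩, hxV⟩
        haveI := hnt y
        exact not_subsingleton _ (((stalkEquiv V.ι _ ⟨⟨y, hyU⟩, hxV⟩).trans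
          (stalkEquiv U.ι ω ⟨y, hyU⟩)).symm.toEquiv.subsingleton)
      rw [hn] at eH
      obtain ⟨e'⟩ := restrict_opensRange (V.ι ≫ U.ι) ω ((Scheme.Modules.restrictFunctorComp V.ι U.ι).app ω ≪≫ eH ≪≫
        (DerivedCategory.singleFunctorCompHomologyFunctorIso _ 0).app _)
      have hmem : y ∈ (V.ι ≫ U.ι).opensRange := ⟨(⟨⟨y, hyU⟩, hxV⟩ : (V : Scheme.{u})), rfl⟩
      exact ⟨_, hmem, ⟨e'⟩⟩
    · rintro ⟨U, hyU, ⟨eU⟩⟩
      refine isGorensteinAt_of_invertible c adj O hO U (fun x => ⟨⊤, (d : ℤ), trivial, ?_⟩) y hyU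
      let V : (U : Scheme.{u}).Opens := ⊤
      let L' := (DCoh.restrictD V.ι).obj ((DCoh.restrictD U.ι).obj L)
      let eHD : ∀ i, DCoh.HD L' i ≅ ((DCoh.HD L i).restrict U.ι).restrict V.ι := fun i =>
        HDResIso V.ι _ i ≪≫ (Scheme.Modules.restrictFunctor V.ι).mapIso (HDResIso U.ι L i)
      have hz' : ∀ i, i ≠ m → IsZero (DCoh.HD L' i) := fun i hi =>
        ((Scheme.Modules.restrictFunctor V.ι).map_isZero
          ((Scheme.Modules.restrictFunctor U.ι).map_isZero (hz i hi))).of_iso (eHD i)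
      haveI : L'.IsGE m := (DerivedCategory.isGE_iff _ _).2 fun i hi => hz' i (ne_of_lt hi)
      haveI : L'.IsLE m := (DerivedCategory.isLE_iff _ _).2 fun i hi => hz' i (ne_of_gt hi)
      obtain ⟨e'⟩ := Groth.L10.exists_iso_single_H L' m
      exact ⟨e' ≪≫ (DerivedCategory.singleFunctor _ m).mapIso (eHD m ≪≫ (Scheme.Modules.restrictFunctor V.ι).mapIso
          ((Scheme.Modules.restrictFunctor U.ι).mapIso e₀.symm ≪≫ eU) ≪≫ Scheme.Modules.restrictUnitIso V.ι) ≪≫
        (((DerivedCategory.singleFunctors _).shiftIso (d : ℤ) m 0 (by simp [m])).app _).symm⟩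

end Groth.L10.RelCan
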