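import Groth.Agent.L10.RelCan.Ext1

/-!
At Cohen–Macaulay points the dualizing sheaf has no self-extensions.
-/

set_option autoImplicit false
set_option linter.style.haveILetI false
set_option backward.defeqAttrib.useBackward true
set_option backward.isDefEq.respectTransparency false
set_option backward.isDefEq.respectTransparency.types false
universe u

open CategoryTheory CategoryTheory.Limits AlgebraicGeometry

attribute [local instance] HasDerivedCategory.standard

noncomputable section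

namespace Groth.L10.RelCan

open Groth.L29 Groth.L29.DC Groth.L10.ShriekLoc
open _root_.L02.FibDepth (Semi)

variable {A : Type u} [CommRing A] [IsNoetherianRing A] {Y : Scheme.{u}} [Y.Over (Spec (CommRingCat.of A))]

set_option maxHeartbeats 1600000 in
/-- no self-extensions of the dualizing sheaf at Cohen–Macaulay points -/
theorem ext1Zero_stalk_of_cm [IsProper (Y ↘ Spec (CommRingCat.of A))] [Flat (Y ↘ Spec (CommRingCat.of A))] {d : ℕ}
    (hd : Cyc.HasRelDim (Y ↘ Spec (CommRingCat.of A)) d) (ω : Y.Modules)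
    (hω : RelCanon.IsDualizingSheaf A Y d ω) (x : Y) (hx : MoreMor.IsCMAt (Y ↘ Spec (CommRingCat.of A)) x) :
    Ext1Zero (Y.presheaf.stalk x) (ω.presheaf.stalk x) := by
  let f := Y ↘ Spec (CommRingCat.of A)
  haveI := fun {P Q : Scheme.{u}} (k : P ⟶ Q) => Groth.L00.KFlat.hasLpull k
  haveI := fun (R : CommRingCat.{u}) => Groth.L18.TildeF.tilde_preservesFiniteLimits (R := R)
  haveI : ∀ (U V : Scheme.{u}) (j : U ⟶ V) [IsOpenImmersion j],
      PreservesFiniteLimits (Scheme.Modules.restrictFunctor j) := fun U V j _ => inferInstance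
  haveI : IsLocallyNoetherian Y := LocallyOfFiniteType.isLocallyNoetherian f
  haveI : LocallyOfFinitePresentation f := LocallyOfFinitePresentation.iff_locallyOfFiniteType.mpr inferInstance
  obtain ⟨c, hR, hc, a, adj, O, hO, hiff⟩ := exists_model (Y := Y) d hd
  haveI := hR
  obtain ⟨e₀⟩ := (hiff ω).1 hω
  let L := (Dual3.shriekC c a).obj O
  obtain ⟨m, C, φ, ⟨q, rfl⟩, hfl, hqf⟩ := exists_chart_cm f x hx
  haveI := isNoetherian_R C
  haveI := isNoetherian_A C
  haveI := module_flat C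
  obtain ⟨n, ψ, hψ, _, Rψ, adjψ, he⟩ := exists_omega c adj O hO C
  let N := Dual2.shriekVia n Rψ (Dual.inD C.R C.R)
  have hamp := amp_of_qf_flat n ψ hψ Rψ adjψ m φ hfl hqf
  have hz : ∀ i : ℤ, i ≠ -(m : ℤ) → Subsingleton (Dual.HD C.A N i) := fun i hi => by
    obtain ⟨E, hEv, -, ⟨eE⟩⟩ := hamp
    have h0 : IsZero ((Groth.L02.PC.HH i).obj ((DRing.restrictD (algebraMap C.R C.A)).obj N)) :=
      (Groth.L10.DR.HH_iso_zero eE i).2 ((E.exactAt_iff_isZero_homology i).1
        (HomologicalComplex.ExactAt.of_isZero (hEv i (by omega))))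
    haveI := ModuleCat.subsingleton_of_isZero (h0.of_iso (Groth.L10.RelPC.HHResIso (algebraMap C.R C.A) N i).symm)
    exact ‹Subsingleton _›
  haveI hnt := (isCoh_and_nontrivial d hd ω hω).2 _ hx
  have hdm : -(d : ℤ) = -(m : ℤ) := by
    by_contra hne
    haveI := hz _ hne
    haveI : Nontrivial ((Groth.L00.Stk.F Y (C.jU q)).obj ω) := hnt
    have h1 : Nontrivial ((Groth.L00.Stk.F Y (C.jU q)).obj (DCoh.HD L (-(d : ℤ)))) :=
      ((Groth.L00.Stk.F Y (C.jU q)).mapIso e₀).toLinearEquiv.symm.toEquiv.nontrivial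
    exact (Set.notMem_empty q) (Module.support_eq_empty (R := C.A) (M := Dual.HD C.A N (-(d : ℤ))) ▸
      (nontrivial_stalk C he q _).1 h1)
  obtain ⟨-, hfin, -, ⟨-, hext⟩, -⟩ := Groth.Agent.S1801.result C.R C.A n ψ hψ Rψ adjψ
  haveI := hfin (-(d : ℤ))
  have h0 := ext1Zero_of_single N (-(d : ℤ)) (fun i hi => hz i (hdm ▸ hi)) (hext 1 one_ne_zero)
  obtain ⟨r⟩ := nonempty_Lpull_iso_restrictD C.jU L
  obtain ⟨e⟩ := he
  obtain ⟨E⟩ := nonempty_semi_chart C.jU ω
    (show ModuleCat.{u} (CommRingCat.of C.A) from (Groth.L02.PC.HH (-(d : ℤ))).obj N)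
    ((Scheme.Modules.restrictFunctor C.jU).mapIso e₀ ≪≫ (HDResIso C.jU L _).symm ≪≫
      (DerivedCategory.homologyFunctor _ _).mapIso (r.symm ≪≫ e) ≪≫
      TildeAlg.hdIso (R := CommRingCat.of C.A) N _) q
  exact (h0.isLocalized q.asIdeal.primeCompl (LocalizedModule.mkLinearMap q.asIdeal.primeCompl _)).of_semi E

end Groth.L10.RelCan
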