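import Mathlib.RingTheory.Filtration
import Mathlib.RingTheory.Flat.Basic
import Mathlib.RingTheory.Flat.Tensor
import Mathlib.RingTheory.Flat.Stability
import Mathlib.RingTheory.FiniteLength
import Mathlib.RingTheory.Artinian.Module
import Mathlib.RingTheory.Artinian.Ring
import Mathlib.LinearAlgebra.TensorProduct.RightExactness
import Mathlib.LinearAlgebra.TensorProduct.Quotient
import Mathlib.LinearAlgebra.TensorProduct.Pi
import Mathlib.RingTheory.LocalRing.ResidueField.Basic
import Mathlib.RingTheory.LocalRing.RingHom.Basic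
import Mathlib.RingTheory.Finiteness.Cardinality
import Mathlib.LinearAlgebra.StdBasis
import Mathlib.RingTheory.Nakayama
import Mathlib.RingTheory.HopkinsLevitzki

/-!
Modules of maps into a flat algebra: when reduction to the closed fibre is onto, they are flat and commute with
tensor products by modules of finite length.
-/

set_option autoImplicit false
set_option linter.style.haveILetI false
set_option linter.unusedSectionVars false
set_option linter.unusedVariables false
universe u

open IsLocalRing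
open scoped TensorProduct

noncomputable section

namespace Groth.L10.RelCan.Core

variable {A : Type u} [CommRing A] {O : Type u} [CommRing O] [Algebra A O]
  {Q : Type u} [AddCommGroup Q] [Module O Q]
  {N N' : Type u} [AddCommGroup N] [Module A N] [AddCommGroup N'] [Module A N']

/-- maps into a base change of the algebra -/
abbrev Fn (A O Q N : Type u) [CommRing A] [CommRing O] [Algebra A O] [AddCommGroup Q] [Module O Q] [AddCommGroup N]
    [Module A N] : Type u := Q →ₗ[O] (O ⊗[A] N)

variable (O Q) in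
/-- functoriality -/
def fmap (f : N →ₗ[A] N') : Fn A O Q N →ₗ[O] Fn A O Q N' where
  toFun g := (TensorProduct.AlgebraTensorModule.lTensor O O f).comp g
  map_add' g g' := LinearMap.comp_add _ _ _
  map_smul' r g := LinearMap.comp_smul _ _ _

theorem fmap_apply (f : N →ₗ[A] N') (g : Fn A O Q N) (q : Q) : fmap O Q f g q = f.lTensor O (g q) := rfl

variable (A O Q N) in
/-- the evaluation map -/
def ev : (Q →ₗ[O] O) ⊗[A] N →ₗ[O] Fn A O Q N :=
  TensorProduct.AlgebraTensorModule.lift
    { toFun := fun g =>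
        { toFun := fun n => ((TensorProduct.AlgebraTensorModule.mk A O O N).flip n).comp g
          map_add' := fun n n' => LinearMap.ext fun q => TensorProduct.tmul_add _ _ _
          map_smul' := fun a n => LinearMap.ext fun q => TensorProduct.tmul_smul _ _ _ }
      map_add' := fun g g' => LinearMap.ext fun n => LinearMap.ext fun q => TensorProduct.add_tmul _ _ _
      map_smul' := fun r g => LinearMap.ext fun n => LinearMap.ext fun q => rfl }

@[simp] theorem ev_tmul (g : Q →ₗ[O] O) (n : N) (q : Q) : ev A O Q N (g ⊗ₜ n) q = g q ⊗ₜ[A] n := rfl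

theorem ev_nat (f : N →ₗ[A] N') (z : (Q →ₗ[O] O) ⊗[A] N) :
    fmap O Q f (ev A O Q N z) = ev A O Q N' (f.lTensor _ z) := by
  induction z using TensorProduct.induction_on with
  | zero => simp
  | tmul g n => exact LinearMap.ext fun q => rfl
  | add z z' hz hz' => simp only [map_add, hz, hz']

/-- elements killed by a surjection come from its kernel -/
theorem exists_fmap [Module.Flat A O] (p : Submodule A N) (h : Fn A O Q N) (h0 : fmap O Q p.mkQ h = 0) :
    ∃ h', fmap O Q p.subtype h' = h := by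
  let ι : O ⊗[A] p →ₗ[O] O ⊗[A] N := TensorProduct.AlgebraTensorModule.lTensor O O p.subtype
  have hinj : Function.Injective ι :=
    Module.Flat.lTensor_preserves_injective_linearMap _ (Submodule.injective_subtype p)
  have hmem : ∀ q, h q ∈ LinearMap.range ι := fun q => by
    obtain ⟨w, hw⟩ := (lTensor_exact O (LinearMap.exact_subtype_mkQ p) p.mkQ_surjective (h q)).1
      (LinearMap.congr_fun h0 q)
    exact ⟨w, hw⟩
  refine ⟨(LinearEquiv.ofInjective ι hinj).symm.toLinearMap.comp (h.codRestrict (LinearMap.range ι) hmem),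
    LinearMap.ext fun q => ?_⟩
  show ι ((LinearEquiv.ofInjective ι hinj).symm ⟨h q, hmem q⟩) = h q
  exact congrArg Subtype.val ((LinearEquiv.ofInjective ι hinj).apply_symm_apply ⟨h q, hmem q⟩)

theorem fmap_injective [Module.Flat A O] (f : N →ₗ[A] N') (hf : Function.Injective f) :
    Function.Injective (fmap O Q f) := fun g g' h => LinearMap.ext fun q =>
  Module.Flat.lTensor_preserves_injective_linearMap f hf (LinearMap.congr_fun h q)

theorem ev_equiv (e : N ≃ₗ[A] N') (h : Function.Surjective (ev A O Q N)) :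
    Function.Surjective (ev A O Q N') := fun g => by
  obtain ⟨z, hz⟩ := h (fmap O Q e.symm.toLinearMap g)
  refine ⟨e.toLinearMap.lTensor _ z, ?_⟩
  rw [← ev_nat, hz]
  refine LinearMap.ext fun q => ?_
  show e.toLinearMap.lTensor O (e.symm.toLinearMap.lTensor O (g q)) = g q
  rw [← LinearMap.comp_apply, ← LinearMap.lTensor_comp]
  simp

theorem ev_equiv_inj (e : N ≃ₗ[A] N') (h : Function.Injective (ev A O Q N)) :
    Function.Injective (ev A O Q N') := by
  rw [injective_iff_map_eq_zero]
  intro z hz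
  have h1 : e.symm.toLinearMap.lTensor (Q →ₗ[O] O) z = 0 := h (by rw [← ev_nat, hz, map_zero, map_zero])
  have h2 := congrArg (e.toLinearMap.lTensor (Q →ₗ[O] O)) h1
  rwa [← LinearMap.comp_apply, ← LinearMap.lTensor_comp, map_zero,
    show e.toLinearMap.comp e.symm.toLinearMap = LinearMap.id from LinearMap.ext e.apply_symm_apply,
    LinearMap.lTensor_id] at h2

section Local

variable [IsLocalRing A]

theorem exists_equiv_of_isSimple (S : Type u) [AddCommGroup S] [Module A S] [IsSimpleModule A S] :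
    Nonempty ((A ⧸ maximalIdeal A) ≃ₗ[A] S) := by
  obtain ⟨m, hm, ⟨e⟩⟩ := isSimpleModule_iff_quot_maximal.1 ‹IsSimpleModule A S›
  obtain rfl := IsLocalRing.eq_maximalIdeal hm
  exact ⟨e.symm⟩

theorem ev_surjective [Module.Flat A O] (hK : Function.Surjective (ev A O Q (A ⧸ maximalIdeal A)))
    (N : Type u) [AddCommGroup N] [Module A N] (hN : IsFiniteLength A N) : Function.Surjective (ev A O Q N) := by
  induction hN with
  | @of_subsingleton M _ _ _ =>
    haveI : Subsingleton (O ⊗[A] M) := inferInstance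
    exact fun g => ⟨0, LinearMap.ext fun q => Subsingleton.elim _ _⟩
  | @of_simple_quotient M _ _ p _ _ ih =>
    intro g
    obtain ⟨e⟩ := exists_equiv_of_isSimple (A := A) (M ⧸ p)
    obtain ⟨z, hz⟩ := ev_equiv e hK (fmap O Q p.mkQ g)
    obtain ⟨w, hw⟩ := LinearMap.lTensor_surjective (Q →ₗ[O] O) p.mkQ_surjective z
    obtain ⟨g', hg'⟩ := exists_fmap p (g - ev A O Q M w) (LinearMap.ext fun q => by
      show p.mkQ.lTensor O (g q - ev A O Q M w q) = 0
      rw [map_sub, ← fmap_apply, ← fmap_apply, ev_nat, hw, hz, sub_self])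
    obtain ⟨z', hz'⟩ := ih g'
    refine ⟨p.subtype.lTensor _ z' + w, LinearMap.ext fun q => ?_⟩
    rw [map_add, LinearMap.add_apply, ← ev_nat, hz', hg', LinearMap.sub_apply, sub_add_cancel]

theorem ev_injective [Module.Flat A O] (hK : Function.Injective (ev A O Q (A ⧸ maximalIdeal A)))
    (N : Type u) [AddCommGroup N] [Module A N] (hN : IsFiniteLength A N) : Function.Injective (ev A O Q N) := by
  induction hN with
  | @of_subsingleton M _ _ _ => exact fun z z' _ => Subsingleton.elim z z'
  | @of_simple_quotient M _ _ p _ _ ih =>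
    rw [injective_iff_map_eq_zero]
    intro z hz
    obtain ⟨e⟩ := exists_equiv_of_isSimple (A := A) (M ⧸ p)
    have h1 : p.mkQ.lTensor (Q →ₗ[O] O) z = 0 := ev_equiv_inj e hK (by rw [← ev_nat, hz, map_zero, map_zero])
    obtain ⟨z', rfl⟩ := (lTensor_exact (Q →ₗ[O] O) (LinearMap.exact_subtype_mkQ p) p.mkQ_surjective z).1 h1
    rw [← ev_nat] at hz
    rw [show z' = 0 from ih ((fmap_injective _ (Submodule.injective_subtype p) (hz.trans (map_zero _).symm)).trans
      (map_zero _).symm), map_zero]

theorem isFiniteLength_quotient_pow [IsNoetherianRing A] (p : ℕ) :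
    IsFiniteLength A (A ⧸ maximalIdeal A ^ (p + 1)) := by
  haveI : IsArtinianRing (A ⧸ maximalIdeal A ^ (p + 1)) := by
    haveI : Nontrivial (A ⧸ maximalIdeal A ^ (p + 1)) := Ideal.Quotient.nontrivial_iff.mpr fun h =>
      (maximalIdeal.isMaximal A).ne_top (top_le_iff.mp (h ▸ Ideal.pow_le_self p.succ_ne_zero))
    haveI : IsLocalRing (A ⧸ maximalIdeal A ^ (p + 1)) :=
      IsLocalRing.of_surjective' (Ideal.Quotient.mk _) Ideal.Quotient.mk_surjective
    haveI : IsNoetherianRing (A ⧸ maximalIdeal A ^ (p + 1)) :=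
      isNoetherianRing_of_surjective A _ (Ideal.Quotient.mk _) Ideal.Quotient.mk_surjective
    refine (isArtinianRing_iff_isNilpotent_maximalIdeal _).mpr ⟨p + 1, bot_unique ?_⟩
    rw [← IsLocalRing.map_maximalIdeal_of_surjective (Ideal.Quotient.mk (maximalIdeal A ^ (p + 1)))
      Ideal.Quotient.mk_surjective, ← Ideal.map_pow, Ideal.map_quotient_self]
  haveI : IsArtinian A (A ⧸ maximalIdeal A ^ (p + 1)) := isArtinian_of_surjective_algebraMap
    (R := A ⧸ maximalIdeal A ^ (p + 1)) (S := A) Ideal.Quotient.mk_surjective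
  exact isFiniteLength_iff_isNoetherian_isArtinian.2 ⟨inferInstance, inferInstance⟩

/-- the extended maximal ideal kills fibres -/
theorem map_le_annihilator (X : Type u) [AddCommGroup X] [Module A X] [Module O X] [IsScalarTower A O X] :
    (maximalIdeal A).map (algebraMap A O) ≤ Module.annihilator O (X ⊗[A] (A ⧸ maximalIdeal A)) := by
  refine Ideal.map_le_iff_le_comap.2 fun a ha => Module.mem_annihilator.2 fun z => ?_
  induction z using TensorProduct.induction_on with
  | zero => exact smul_zero _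
  | tmul x k =>
    rw [algebraMap_smul, ← TensorProduct.tmul_smul]
    obtain ⟨b, rfl⟩ := Ideal.Quotient.mk_surjective k
    rw [show a • (Ideal.Quotient.mk (maximalIdeal A) b) = 0 from
      Ideal.Quotient.eq_zero_iff_mem.2 (Ideal.mul_mem_right b _ ha), TensorProduct.tmul_zero]
  | add z z' hz hz' => rw [smul_add, hz, hz', add_zero]

/-- elements over a cyclic base -/
theorem exists_tmul_one {X : Type u} [AddCommGroup X] [Module A X] (J : Ideal A) (z : X ⊗[A] (A ⧸ J)) :
    ∃ x : X, x ⊗ₜ[A] (1 : A ⧸ J) = z := by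
  induction z using TensorProduct.induction_on with
  | zero => exact ⟨0, TensorProduct.zero_tmul _ _⟩
  | tmul x k =>
    obtain ⟨b, rfl⟩ := Ideal.Quotient.mk_surjective k
    exact ⟨b • x, by rw [TensorProduct.smul_tmul, Algebra.smul_def, mul_one]; rfl⟩
  | add z z' hz hz' =>
    obtain ⟨x, rfl⟩ := hz
    obtain ⟨x', rfl⟩ := hz'
    exact ⟨x + x', TensorProduct.add_tmul _ _ _⟩

theorem tmul_one_eq_zero {J : Ideal A} (o : O) (h : o ⊗ₜ[A] (1 : A ⧸ J) = 0) :
    o ∈ J.map (algebraMap A O) := by
  have h1 := congrArg (TensorProduct.tensorQuotEquivQuotSMul O J) h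
  rw [map_zero, show (1 : A ⧸ J) = Ideal.Quotient.mk J 1 from rfl] at h1
  have h2 : o ∈ (J • ⊤ : Submodule A O) := by
    rw [← Submodule.Quotient.mk_eq_zero, ← h1]
    simp [TensorProduct.tensorQuotEquivQuotSMul]
  rwa [Ideal.smul_top_eq_map, Submodule.restrictScalars_mem] at h2

variable [IsLocalRing O] [IsNoetherianRing O] [IsLocalHom (algebraMap A O)] [Module.Finite O Q]

theorem map_maximalIdeal_le : (maximalIdeal A).map (algebraMap A O) ≤ maximalIdeal O :=
  Ideal.map_le_iff_le_comap.2 fun a ha => map_nonunit (algebraMap A O) a ha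

/-- Artin–Rees: maps lifting to a deep level lift -/
theorem ev_residue_surjective_of_tower
    (h : ∀ p : ℕ, Function.Surjective (fmap O Q (Submodule.factor
      (Ideal.pow_le_self p.succ_ne_zero : maximalIdeal A ^ (p + 1) ≤ maximalIdeal A)))) :
    Function.Surjective (ev A O Q (A ⧸ maximalIdeal A)) := by
  obtain ⟨b, π, hπ⟩ := Module.Finite.exists_fin' O Q
  obtain ⟨a, r, hr⟩ := Submodule.fg_iff_exists_fin_generating_family.1 (IsNoetherian.noetherian (LinearMap.ker π))
  let I := (maximalIdeal A).map (algebraMap A O)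
  let B := Pi.basisFun O (Fin b)
  let T : ((Fin b → O) →ₗ[O] O) →ₗ[O] (Fin a → O) := LinearMap.pi fun i => LinearMap.applyₗ (r i)
  obtain ⟨c, hc⟩ := I.exists_pow_inf_eq_pow_smul (LinearMap.range T)
  intro g
  obtain ⟨g', rfl⟩ := h c g
  choose x hx using fun j : Fin b => exists_tmul_one (maximalIdeal A ^ (c + 1))
    (g' (π (B j)))
  let φ : (Fin b → O) →ₗ[O] O := B.constr O x
  have hφ : ∀ v, g' (π v) = φ v ⊗ₜ[A] (1 : A ⧸ maximalIdeal A ^ (c + 1)) := fun v =>
    LinearMap.congr_fun (B.ext (f₁ := g'.comp π)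
      (f₂ := ((TensorProduct.AlgebraTensorModule.mk A O O _).flip 1).comp φ) fun j => by
        simp only [LinearMap.comp_apply, φ, Module.Basis.constr_basis]
        exact (hx j).symm) v
  have hker : ∀ i, π (r i) = 0 := fun i => LinearMap.mem_ker.1 (hr ▸ Submodule.subset_span ⟨i, rfl⟩)
  have hTφ : T φ ∈ I ^ (c + 1) • (⊤ : Submodule O (Fin a → O)) := by
    rw [show T φ = ∑ i, φ (r i) • (Pi.single i (1 : O) : Fin a → O) from pi_eq_sum_univ' (T φ)]
    refine Submodule.sum_mem _ fun i _ => Submodule.smul_mem_smul ?_ trivial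
    show φ (r i) ∈ _
    rw [← Ideal.map_pow]
    exact tmul_one_eq_zero _ (by rw [← hφ, hker, map_zero])
  have hmem : T φ ∈ I ^ 1 • LinearMap.range T := by
    refine Submodule.smul_mono le_rfl inf_le_right (?_ : T φ ∈ I ^ 1 • (I ^ c • ⊤ ⊓ LinearMap.range T))
    have := hc (c + 1) (Nat.le_succ c)
    rw [Nat.add_sub_cancel_left] at this
    exact this ▸ ⟨hTφ, φ, rfl⟩
  rw [LinearMap.range_eq_map, ← Submodule.map_smul''] at hmem
  obtain ⟨ψ, hψ, hψT⟩ := hmem
  have hψI : ∀ v, ψ v ∈ I := fun v => by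
    refine Submodule.smul_induction_on hψ (fun s hs n _ => ?_) (fun y y' hy hy' => ?_)
    · rw [pow_one] at hs
      exact Ideal.mul_mem_right _ _ hs
    · exact add_mem hy hy'
  have hle : LinearMap.ker π ≤ LinearMap.ker (φ - ψ) := by
    rw [← hr, Submodule.span_le]
    rintro _ ⟨i, rfl⟩
    show φ (r i) - ψ (r i) = 0
    rw [sub_eq_zero]
    exact (congrFun hψT i).symm
  let g0 : Q →ₗ[O] O := ((LinearMap.ker π).liftQ (φ - ψ) hle).comp (π.quotKerEquivOfSurjective hπ).symm.toLinearMap
  refine ⟨g0 ⊗ₜ 1, LinearMap.ext fun q => ?_⟩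
  obtain ⟨v, rfl⟩ := hπ q
  have hg0 : g0 (π v) = φ v - ψ v := by
    show (LinearMap.ker π).liftQ (φ - ψ) hle ((π.quotKerEquivOfSurjective hπ).symm (π v)) = _
    rw [show π v = π.quotKerEquivOfSurjective hπ (Submodule.Quotient.mk v) from rfl, LinearEquiv.symm_apply_apply]
    rfl
  rw [ev_tmul, fmap_apply, hφ, LinearMap.lTensor_tmul, hg0, TensorProduct.sub_tmul,
    show ψ v ⊗ₜ[A] (1 : A ⧸ maximalIdeal A) = 0 from ?_, sub_zero]
  · rfl
  · rw [show ψ v ⊗ₜ[A] (1 : A ⧸ maximalIdeal A) = ψ v • ((1 : O) ⊗ₜ[A] (1 : A ⧸ maximalIdeal A)) from by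
      rw [TensorProduct.smul_tmul', smul_eq_mul, mul_one]]
    exact Module.mem_annihilator.1 (map_le_annihilator O (hψI v)) _

/-- Artin–Rees: maps with values deep in the extended ideal are killed on the fibre -/
theorem exists_pow_tmul_eq_zero :
    ∃ p : ℕ, ∀ g : Q →ₗ[O] O, (∀ q, g q ∈ (maximalIdeal A ^ (p + 1)).map (algebraMap A O)) →
      g ⊗ₜ[A] (1 : A ⧸ maximalIdeal A) = 0 := by
  obtain ⟨b, π, hπ⟩ := Module.Finite.exists_fin' O Q
  let I := (maximalIdeal A).map (algebraMap A O)
  let B := Pi.basisFun O (Fin b)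
  let E : (Q →ₗ[O] O) →ₗ[O] (Fin b → O) := LinearMap.pi fun j => LinearMap.applyₗ (π (B j))
  have hE : Function.Injective E := fun g g' h => by
    refine LinearMap.ext fun q => ?_
    obtain ⟨v, rfl⟩ := hπ q
    exact LinearMap.congr_fun (B.ext (f₁ := g.comp π) (f₂ := g'.comp π) fun j => congrFun h j) v
  obtain ⟨c, hc⟩ := I.exists_pow_inf_eq_pow_smul (LinearMap.range E)
  refine ⟨c, fun g hg => ?_⟩
  have hEg : E g ∈ I ^ (c + 1) • (⊤ : Submodule O (Fin b → O)) := by
    rw [show E g = ∑ i, g (π (B i)) • (Pi.single i (1 : O) : Fin b → O) from pi_eq_sum_univ' (E g)]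
    refine Submodule.sum_mem _ fun i _ => Submodule.smul_mem_smul ?_ trivial
    show g (π (B i)) ∈ _
    rw [← Ideal.map_pow]
    exact hg _
  have hmem : E g ∈ I ^ 1 • LinearMap.range E := by
    refine Submodule.smul_mono le_rfl inf_le_right (?_ : E g ∈ I ^ 1 • (I ^ c • ⊤ ⊓ LinearMap.range E))
    have := hc (c + 1) (Nat.le_succ c)
    rw [Nat.add_sub_cancel_left] at this
    exact this ▸ ⟨hEg, g, rfl⟩
  rw [LinearMap.range_eq_map, ← Submodule.map_smul''] at hmem
  obtain ⟨g', hg', hgg⟩ := hmem
  obtain rfl := hE hgg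
  refine Submodule.smul_induction_on hg' (fun s hs n _ => ?_) (fun y y' hy hy' => by rw [TensorProduct.add_tmul, hy, hy', add_zero])
  rw [pow_one] at hs
  rw [← TensorProduct.smul_tmul']
  exact Module.mem_annihilator.1 (map_le_annihilator _ hs) _

variable [Module.Flat A O] [IsNoetherianRing A]

theorem ev_residue_injective (hK : Function.Surjective (ev A O Q (A ⧸ maximalIdeal A))) :
    Function.Injective (ev A O Q (A ⧸ maximalIdeal A)) := by
  obtain ⟨p, hp⟩ := exists_pow_tmul_eq_zero (A := A) (O := O) (Q := Q)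
  rw [injective_iff_map_eq_zero]
  intro z hz
  obtain ⟨g, rfl⟩ := exists_tmul_one _ z
  let N := A ⧸ maximalIdeal A ^ (p + 1)
  let π : N →ₗ[A] A ⧸ maximalIdeal A := Submodule.factor (Ideal.pow_le_self p.succ_ne_zero)
  have hπ : Function.Surjective π := Submodule.factor_surjective _
  let P := LinearMap.ker π
  have hP : fmap O Q P.mkQ (ev A O Q N (g ⊗ₜ 1)) = 0 := by
    refine LinearMap.ext fun q => ?_
    show P.mkQ.lTensor O (g q ⊗ₜ[A] (1 : N)) = 0
    let e := π.quotKerEquivOfSurjective hπ
    have h1 : g q ⊗ₜ[A] (1 : A ⧸ maximalIdeal A) = 0 := LinearMap.congr_fun hz q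
    have h2 : e.symm (1 : A ⧸ maximalIdeal A) = P.mkQ 1 := e.symm_apply_eq.2 rfl
    rw [LinearMap.lTensor_tmul, ← h2, ← LinearEquiv.coe_coe, ← LinearMap.lTensor_tmul, h1, map_zero]
  obtain ⟨h', hh'⟩ := exists_fmap P _ hP
  have hfl : IsFiniteLength A P := by
    obtain ⟨_, _⟩ := isFiniteLength_iff_isNoetherian_isArtinian.1 (isFiniteLength_quotient_pow (A := A) p)
    exact isFiniteLength_iff_isNoetherian_isArtinian.2 ⟨inferInstance, inferInstance⟩
  obtain ⟨w, rfl⟩ := ev_surjective hK P hfl h'
  obtain ⟨g', hg'⟩ := exists_tmul_one _ (P.subtype.lTensor (Q →ₗ[O] O) w)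
  have h0 : (g - g') ⊗ₜ[A] (1 : A ⧸ maximalIdeal A) = 0 := hp _ fun q => tmul_one_eq_zero _ (by
    rw [← ev_tmul, TensorProduct.sub_tmul, map_sub, hg', ← ev_nat, hh', sub_self]
    rfl)
  have h1 : g' ⊗ₜ[A] (1 : A ⧸ maximalIdeal A) = 0 := by
    have h2 := congrArg (π.lTensor (Q →ₗ[O] O)) hg'
    rw [LinearMap.lTensor_tmul, ← LinearMap.comp_apply, ← LinearMap.lTensor_comp,
      show π.comp P.subtype = 0 from LinearMap.ext fun x => x.2, LinearMap.lTensor_zero, LinearMap.zero_apply] at h2
    exact h2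
  rw [TensorProduct.sub_tmul, h1] at h0
  exact (sub_zero _).symm.trans h0

theorem ev_bijective (hK : Function.Surjective (ev A O Q (A ⧸ maximalIdeal A)))
    (N : Type u) [AddCommGroup N] [Module A N] (hN : IsFiniteLength A N) : Function.Bijective (ev A O Q N) :=
  ⟨ev_injective (ev_residue_injective hK) N hN, ev_surjective hK N hN⟩

/-- the module of maps is flat -/
theorem flat (hK : Function.Surjective (ev A O Q (A ⧸ maximalIdeal A))) : Module.Flat A (Q →ₗ[O] O) := by
  rw [Module.Flat.iff_lTensor_injective']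
  intro J
  rw [injective_iff_map_eq_zero]
  intro z hz
  let M := Q →ₗ[O] O
  let I := (maximalIdeal A).map (algebraMap A O)
  haveI : Module.Finite O (M ⊗[A] J) := by
    obtain ⟨n, s, hs⟩ := Submodule.fg_iff_exists_fin_generating_family.1 (IsNoetherian.noetherian (⊤ : Submodule A J))
    refine Module.Finite.of_surjective
      (∑ i, ((TensorProduct.AlgebraTensorModule.mk A O M J).flip (s i)).comp (LinearMap.proj i) : (Fin n → M) →ₗ[O] M ⊗[A] J)
      fun w => ?_
    induction w using TensorProduct.induction_on with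
    | zero => exact ⟨0, map_zero _⟩
    | add w w' hw hw' =>
      obtain ⟨v, rfl⟩ := hw
      obtain ⟨v', rfl⟩ := hw'
      exact ⟨v + v', map_add _ _ _⟩
    | tmul m j =>
      obtain ⟨c, hc⟩ := (Submodule.mem_span_range_iff_exists_fun A).1 (hs ▸ (trivial : j ∈ ⊤))
      refine ⟨fun i => c i • m, ?_⟩
      rw [LinearMap.sum_apply]
      show ∑ i, (c i • m) ⊗ₜ[A] s i = m ⊗ₜ[A] j
      simp only [TensorProduct.smul_tmul]
      rw [← TensorProduct.tmul_sum, hc]
  obtain ⟨c, hc⟩ := (maximalIdeal A).exists_pow_inf_eq_pow_smul (J : Submodule A A)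
  suffices h : ∀ k, z ∈ (I ^ k • ⊤ : Submodule O (M ⊗[A] J)) by
    have := Ideal.iInf_pow_smul_eq_bot_of_isLocalRing (M := M ⊗[A] J) I
      (fun h => (maximalIdeal.isMaximal O).ne_top (top_le_iff.1 (h ▸ map_maximalIdeal_le)))
    exact (Submodule.eq_bot_iff _).1 this z (Submodule.mem_iInf _ |>.2 h)
  intro k
  let n := k + c + 1
  let P : Submodule A J := Submodule.comap J.subtype (maximalIdeal A ^ n : Ideal A)
  let f : (J ⧸ P) →ₗ[A] A ⧸ maximalIdeal A ^ n := P.mapQ (maximalIdeal A ^ n) J.subtype le_rfl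
  have hf : Function.Injective f := by
    rw [← LinearMap.ker_eq_bot]
    exact Submodule.ker_liftQ_eq_bot _ _ _ (by rw [LinearMap.ker_comp, Submodule.ker_mkQ])
  have hfl : IsFiniteLength A (J ⧸ P) := by
    obtain ⟨_, _⟩ := isFiniteLength_iff_isNoetherian_isArtinian.1 (isFiniteLength_quotient_pow (A := A) (k + c))
    exact isFiniteLength_iff_isNoetherian_isArtinian.2
      ⟨isNoetherian_of_injective f hf, isArtinian_of_injective f hf⟩
  have h1 : P.mkQ.lTensor M z = 0 := by
    refine (ev_bijective hK _ hfl).1 ?_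
    rw [map_zero, ← (fmap_injective (O := O) (Q := Q) f hf).eq_iff, map_zero, ev_nat, ← LinearMap.comp_apply,
      ← LinearMap.lTensor_comp, show f.comp P.mkQ = (Submodule.mkQ (maximalIdeal A ^ n)).comp J.subtype from rfl,
      LinearMap.lTensor_comp, LinearMap.comp_apply, hz, map_zero, map_zero]
  obtain ⟨w, rfl⟩ := (lTensor_exact M (LinearMap.exact_subtype_mkQ P) P.mkQ_surjective z).1 h1
  have hPk : P ≤ (maximalIdeal A) ^ k • (⊤ : Submodule A J) := fun x hx => by
    have h1 : (x : A) ∈ maximalIdeal A ^ n • (⊤ : Submodule A A) ⊓ J :=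
      ⟨by rw [smul_eq_mul, Ideal.mul_top]; exact hx, x.2⟩
    rw [hc n (by omega)] at h1
    have h3 : (x : A) ∈ Submodule.map J.subtype (maximalIdeal A ^ k • (⊤ : Submodule A J)) := by
      rw [Submodule.map_smul'', Submodule.map_top, Submodule.range_subtype]
      exact Submodule.smul_mono (Ideal.pow_le_pow_right (by omega)) inf_le_right h1
    obtain ⟨y, hy, hyx⟩ := h3
    rwa [← Subtype.ext hyx]
  clear hz h1
  induction w using TensorProduct.induction_on with
  | zero => simp
  | add u v hu hv => rw [map_add]; exact add_mem hu hv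
  | tmul m x =>
    rw [LinearMap.lTensor_tmul, Submodule.subtype_apply]
    have hx := hPk x.2
    generalize (x : ↥J) = y at hx
    refine Submodule.smul_induction_on hx (fun r hr j _ => ?_) (fun u v hu hv => ?_)
    · rw [TensorProduct.tmul_smul, ← algebraMap_smul O r]
      exact Submodule.smul_mem_smul (Ideal.map_pow (algebraMap A O) (maximalIdeal A) k ▸ Ideal.mem_map_of_mem _ hr) trivial
    · rw [TensorProduct.tmul_add]
      exact add_mem hu hv

/-- a flat finite module with free fibre of rank one is free of rank one -/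
theorem nonempty_equiv_of_fibre {M : Type u} [AddCommGroup M] [Module A M] [Module O M] [IsScalarTower A O M]
    [Module.Finite O M] [Module.Flat A M]
    (θ : M ⊗[A] (A ⧸ maximalIdeal A) ≃ₗ[O] O ⊗[A] (A ⧸ maximalIdeal A)) : Nonempty (M ≃ₗ[O] O) := by
  let I := (maximalIdeal A).map (algebraMap A O)
  obtain ⟨g, hg⟩ := exists_tmul_one _ (θ.symm (1 ⊗ₜ 1))
  let c : O →ₗ[O] M := LinearMap.toSpanSingleton O M g
  have hsurj : Function.Surjective c := by
    rw [← LinearMap.range_eq_top, eq_top_iff]
    refine Submodule.le_of_le_smul_of_le_jacobson_bot (Module.Finite.fg_top)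
      ((map_maximalIdeal_le (A := A)).trans (maximalIdeal_le_jacobson _)) fun x _ => ?_
    obtain ⟨o, ho⟩ := exists_tmul_one _ (θ (x ⊗ₜ 1))
    have h1 : (x - o • g) ⊗ₜ[A] (1 : A ⧸ maximalIdeal A) = 0 := θ.injective (by
      rw [TensorProduct.sub_tmul, ← TensorProduct.smul_tmul', hg, map_sub, map_smul, θ.apply_symm_apply,
        TensorProduct.smul_tmul', smul_eq_mul, mul_one, ho, sub_self, map_zero])
    have h2 := congrArg (TensorProduct.tensorQuotEquivQuotSMul M (maximalIdeal A)) h1
    rw [map_zero, show (1 : A ⧸ maximalIdeal A) = Ideal.Quotient.mk _ 1 from rfl] at h2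
    have h3 : x - o • g ∈ (maximalIdeal A • ⊤ : Submodule A M) := by
      rw [← Submodule.Quotient.mk_eq_zero, ← h2]
      simp [TensorProduct.tensorQuotEquivQuotSMul]
    rw [show x = o • g + (x - o • g) from (add_sub_cancel _ _).symm]
    refine Submodule.add_mem_sup ⟨o, rfl⟩ ?_
    refine Submodule.smul_induction_on h3 (fun a ha m _ => ?_) (fun y y' hy hy' => add_mem hy hy')
    rw [← algebraMap_smul O a]
    exact Submodule.smul_mem_smul (Ideal.mem_map_of_mem _ ha) trivial
  refine ⟨(LinearEquiv.ofBijective c ⟨?_, hsurj⟩).symm⟩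
  have hK : ∀ o : O, c o ⊗ₜ[A] (1 : A ⧸ maximalIdeal A) = θ.symm (o ⊗ₜ 1) := fun o => by
    show (o • g) ⊗ₜ[A] (1 : A ⧸ maximalIdeal A) = _
    rw [← TensorProduct.smul_tmul', hg, ← map_smul, TensorProduct.smul_tmul', smul_eq_mul, mul_one]
  have hKinj : Function.Injective ((c.restrictScalars A).rTensor (A ⧸ maximalIdeal A)) := by
    have : ∀ w, (c.restrictScalars A).rTensor (A ⧸ maximalIdeal A) w = θ.symm w := fun w => by
      obtain ⟨o, rfl⟩ := exists_tmul_one _ w
      exact hK o
    exact fun w w' h => θ.symm.injective (by rw [← this, h, this])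
  have hall : ∀ (N : Type u) [AddCommGroup N] [Module A N], IsFiniteLength A N →
      Function.Injective ((c.restrictScalars A).rTensor N) := by
    intro N _ _ hN
    induction hN with
    | @of_subsingleton N _ _ _ => exact fun w w' _ => Subsingleton.elim w w'
    | @of_simple_quotient N _ _ p _ _ ih =>
      rw [injective_iff_map_eq_zero]
      intro z hz
      obtain ⟨e⟩ := exists_equiv_of_isSimple (A := A) (N ⧸ p)
      let c' := c.restrictScalars A
      have h1 : (e.symm.toLinearMap.comp p.mkQ).lTensor O z = 0 := hKinj (by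
        rw [map_zero, ← LinearMap.comp_apply, LinearMap.rTensor_comp_lTensor, ← LinearMap.lTensor_comp_rTensor,
          LinearMap.comp_apply, hz, map_zero])
      rw [LinearMap.lTensor_comp, LinearMap.comp_apply] at h1
      have h2 : p.mkQ.lTensor O z = 0 := (LinearEquiv.lTensor O e.symm).injective (h1.trans (map_zero _).symm)
      obtain ⟨z', rfl⟩ := (lTensor_exact O (LinearMap.exact_subtype_mkQ p) p.mkQ_surjective z).1 h2
      rw [← LinearMap.comp_apply, LinearMap.rTensor_comp_lTensor, ← LinearMap.lTensor_comp_rTensor,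
        LinearMap.comp_apply] at hz
      rw [show z' = 0 from ih ((Module.Flat.lTensor_preserves_injective_linearMap _
        (Submodule.injective_subtype p) (hz.trans (map_zero _).symm)).trans (map_zero _).symm), map_zero]
  rw [injective_iff_map_eq_zero]
  intro o ho
  have := Ideal.iInf_pow_eq_bot_of_isLocalRing I
    (fun h => (maximalIdeal.isMaximal O).ne_top (top_le_iff.1 (h ▸ map_maximalIdeal_le)))
  refine (Submodule.eq_bot_iff _).1 this o (Submodule.mem_iInf _ |>.2 fun k => ?_)
  refine Ideal.pow_le_pow_right (Nat.le_succ k) ?_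
  rw [← Ideal.map_pow]
  refine tmul_one_eq_zero _ (hall _ (isFiniteLength_quotient_pow (A := A) k) ?_)
  rw [map_zero, LinearMap.rTensor_tmul]
  show c o ⊗ₜ[A] _ = 0
  rw [ho, TensorProduct.zero_tmul]

end Local

end Groth.L10.RelCan.Core
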