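import Groth.Agent.L10.RelCan.FibreHartogs
import Groth.Agent.L04.CMBasic
import Mathlib.Tactic.Module

/-!
Depth three on the closed fibre makes maps into base changes lift along every surjection of finite length modules.
-/

set_option autoImplicit false
set_option maxSynthPendingDepth 4
set_option linter.style.haveILetI false
set_option linter.unusedSectionVars false
set_option linter.unusedVariables false
set_option backward.defeqAttrib.useBackward true
set_option backward.isDefEq.respectTransparency false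
set_option backward.isDefEq.respectTransparency.types false
universe u

open IsLocalRing
open scoped TensorProduct Pointwise

noncomputable section

namespace Groth.L10.RelCan.Core

section Elementwise

variable {R : Type u} [CommRing R] (P : Ideal R) [hP : P.IsPrime] (β γ : R)

/-- regular at a prime, on elements -/
def RegAt (X : Type u) [AddCommGroup X] [Module R X] : Prop :=
  ∀ x : X, (∃ t ∉ P, t • β • x = 0) → ∃ t ∉ P, t • x = 0

/-- a regular pair at a prime, on elements -/
def PairAt (X : Type u) [AddCommGroup X] [Module R X] : Prop :=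
  RegAt P β X ∧ ∀ x y : X, (∃ t ∉ P, t • (γ • x - β • y) = 0) → ∃ z : X, ∃ t ∉ P, t • x = β • z

variable {P β γ} {X X' X'' : Type u} [AddCommGroup X] [Module R X] [AddCommGroup X'] [Module R X'] [AddCommGroup X'']
  [Module R X'']

theorem mul_notMem {s t : R} (hs : s ∉ P) (ht : t ∉ P) : s * t ∉ P :=
  fun h => (hP.mem_or_mem h).elim hs ht

omit hP in
theorem RegAt.pow (h : RegAt P β X) : ∀ n : ℕ, RegAt P (β ^ n) X
  | 0 => fun x ⟨t, ht, h0⟩ => ⟨t, ht, by rwa [pow_zero, one_smul] at h0⟩
  | n + 1 => fun x ⟨t, ht, h0⟩ => h x (RegAt.pow h n _ ⟨t, ht, by rwa [smul_smul (β ^ n), ← pow_succ]⟩)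

theorem PairAt.pow_left (h : PairAt P β γ X) (n : ℕ) : PairAt P (β ^ n) γ X := by
  refine ⟨h.1.pow n, ?_⟩
  induction n with
  | zero => exact fun x y _ => ⟨x, 1, fun h1 => hP.ne_top ((Ideal.eq_top_iff_one P).2 h1), by simp⟩
  | succ n ih =>
    rintro x y ⟨t, ht, h0⟩
    obtain ⟨z, s, hs, hz⟩ := h.2 x (β ^ n • y) ⟨t, ht, by rwa [smul_smul β, ← pow_succ']⟩
    have h1 : t • β • (γ • z - β ^ n • s • y) = 0 := by
      have e : β • (γ • z - β ^ n • s • y) = s • (γ • x - β ^ (n + 1) • y) := by
        rw [smul_sub β, smul_comm β γ z, ← hz]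
        simp only [smul_sub, smul_smul, pow_succ]; ring_nf
      rw [e, smul_comm t s, h0, smul_zero]
    obtain ⟨w, s', hs', hw⟩ := ih z (s • y) (h.1 _ ⟨t, ht, h1⟩)
    refine ⟨w, s' * s, mul_notMem hs' hs, ?_⟩
    rw [mul_smul, hz, smul_comm s' β, hw, smul_smul, pow_succ']

theorem PairAt.pow_right (h : PairAt P β γ X) (n : ℕ) : PairAt P β (γ ^ n) X := by
  refine ⟨h.1, ?_⟩
  induction n with
  | zero =>
    rintro x y ⟨t, ht, h0⟩
    refine ⟨t • y, t, ht, ?_⟩
    rwa [pow_zero, one_smul, smul_sub, sub_eq_zero, smul_comm t β] at h0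
  | succ n ih =>
    rintro x y ⟨t, ht, h0⟩
    obtain ⟨w, s, hs, hw⟩ := h.2 (γ ^ n • x) y ⟨t, ht, by rwa [smul_smul γ, ← pow_succ']⟩
    obtain ⟨z, s', hs', hz⟩ := ih (s • x) w ⟨1, fun h1 => hP.ne_top ((Ideal.eq_top_iff_one P).2 h1), by
      rw [smul_comm (γ ^ n) s, hw, sub_self, smul_zero]⟩
    exact ⟨z, s' * s, mul_notMem hs' hs, by rw [mul_smul, hz]⟩

/-- pairs pass to extensions -/
theorem PairAt.ext (i : X' →ₗ[R] X) (p : X →ₗ[R] X'') (hi : Function.Injective i) (hp : Function.Surjective p)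
    (hip : Function.Exact i p) (h' : PairAt P β γ X') (h'' : PairAt P β γ X'') : PairAt P β γ X := by
  have reg : RegAt P β X := fun x ⟨t, ht, h0⟩ => by
    obtain ⟨s, hs, h1⟩ := h''.1 (p x) ⟨t, ht, by rw [← map_smul, ← map_smul, h0, map_zero]⟩
    obtain ⟨x', hx'⟩ := (hip (s • x)).1 (by rw [map_smul, h1])
    obtain ⟨s', hs', h2⟩ := h'.1 x' ⟨t, ht, hi (by
      rw [map_smul, map_smul, hx', map_zero, smul_comm β s, smul_comm t s, h0, smul_zero])⟩
    exact ⟨s' * s, mul_notMem hs' hs, by rw [mul_smul, ← hx', ← map_smul, h2, map_zero]⟩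
  refine ⟨reg, fun x y ⟨t, ht, h0⟩ => ?_⟩
  obtain ⟨z'', s, hs, hz''⟩ := h''.2 (p x) (p y) ⟨t, ht, by rw [← map_smul, ← map_smul, ← map_sub, ← map_smul, h0, map_zero]⟩
  obtain ⟨z, rfl⟩ := hp z''
  obtain ⟨x', hx'⟩ := (hip (s • x - β • z)).1 (by rw [map_sub, map_smul, map_smul, hz'', sub_self])
  let D := γ • z - s • y
  have hp2 : t • β • p D = 0 := by
    have h3 : β • p D = s • p (γ • x - β • y) := by
      simp only [D, map_sub, map_smul, smul_sub]
      rw [smul_comm β γ (p z), ← hz'', smul_comm γ s, smul_comm β s]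
    rw [h3, smul_comm t s, ← map_smul p t, h0, map_zero, smul_zero]
  obtain ⟨u, hu, hu0⟩ := h''.1 _ ⟨t, ht, hp2⟩
  obtain ⟨y', hy'⟩ := (hip (u • D)).1 (by rw [map_smul, hu0])
  obtain ⟨z', s', hs', hz'⟩ := h'.2 (u • x') (-y') ⟨t, ht, hi (by
    rw [map_smul, map_sub, map_smul, map_smul, map_smul, map_neg, hx', hy', map_zero]
    have e : γ • u • (s • x - β • z) - β • -(u • D) = u • s • (γ • x - β • y) := by
      simp only [D, smul_sub, smul_smul, smul_neg]; ring_nf; abel
    rw [e, smul_comm t u, smul_comm t s, h0, smul_zero, smul_zero])⟩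
  refine ⟨(s' * u) • z + i z', s' * u * s, mul_notMem (mul_notMem hs' hu) hs, ?_⟩
  have h4 : (s' * u) • (s • x - β • z) = β • i z' := by
    rw [mul_smul, ← hx', ← map_smul, ← map_smul, hz', map_smul]
  rw [smul_sub, sub_eq_iff_eq_add, smul_comm (s' * u) β] at h4
  rw [mul_smul, h4, smul_add, add_comm]

omit hP in
theorem RegAt.subsingleton [Subsingleton X] (h1 : (1 : R) ∉ P) : RegAt P β X :=
  fun x _ => ⟨1, h1, Subsingleton.elim _ _⟩

theorem PairAt.subsingleton [Subsingleton X] : PairAt P β γ X :=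
  have h1 : (1 : R) ∉ P := fun h => hP.ne_top ((Ideal.eq_top_iff_one P).2 h)
  ⟨RegAt.subsingleton h1, fun x _ _ => ⟨0, 1, h1, Subsingleton.elim _ _⟩⟩

theorem PairAt.equiv (e : X ≃ₗ[R] X') (h : PairAt P β γ X) : PairAt P β γ X' := by
  refine ⟨fun x ⟨t, ht, h0⟩ => ?_, fun x y ⟨t, ht, h0⟩ => ?_⟩
  · obtain ⟨s, hs, h1⟩ := h.1 (e.symm x) ⟨t, ht, by rw [← map_smul, ← map_smul, h0, map_zero]⟩
    exact ⟨s, hs, e.symm.injective (by rw [map_smul, h1, map_zero])⟩
  · obtain ⟨z, s, hs, hz⟩ := h.2 (e.symm x) (e.symm y) ⟨t, ht, by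
      rw [← map_smul, ← map_smul, ← map_sub, ← map_smul, h0, map_zero]⟩
    exact ⟨e z, s, hs, e.symm.injective (by rw [map_smul, map_smul, e.symm_apply_apply, hz])⟩

theorem exists_prod_notMem {ι : Type*} [Fintype ι] (t : ι → R) (ht : ∀ i, t i ∉ P) :
    ∃ T ∉ P, ∀ i, ∃ a, T = a * t i := by
  classical
  exact ⟨∏ i, t i, prod_mem (S := P.primeCompl) fun i _ => ht i,
    fun i => ⟨∏ j ∈ Finset.univ.erase i, t j, (Finset.prod_erase_mul _ _ (Finset.mem_univ i)).symm⟩⟩

/-- pairs on a module give pairs on maps into it -/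
theorem PairAt.hom {Q : Type u} [AddCommGroup Q] [Module R Q] [IsNoetherianRing R] [Module.Finite R Q]
    (h : PairAt P β γ X) : PairAt P β γ (Q →ₗ[R] X) := by
  obtain ⟨n, π, hπ⟩ := Module.Finite.exists_fin' R Q
  let B := Pi.basisFun R (Fin n)
  refine ⟨fun g ⟨t, ht, h0⟩ => ?_, fun g g' ⟨t, ht, h0⟩ => ?_⟩
  · choose s hs h1 using fun i => h.1 (g (π (B i))) ⟨t, ht, LinearMap.congr_fun h0 _⟩
    obtain ⟨T, hT, hT'⟩ := exists_prod_notMem s hs
    refine ⟨T, hT, LinearMap.ext fun q => ?_⟩
    obtain ⟨v, rfl⟩ := hπ q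
    refine LinearMap.congr_fun (B.ext (f₁ := (T • g).comp π) (f₂ := 0) fun i => ?_) v
    obtain ⟨a, ha⟩ := hT' i
    show T • g (π (B i)) = 0
    rw [ha, mul_smul, h1, smul_zero]
  · choose z s hs h1 using fun i => h.2 (g (π (B i))) (g' (π (B i))) ⟨t, ht, LinearMap.congr_fun h0 _⟩
    obtain ⟨T, hT, hT'⟩ := exists_prod_notMem s hs
    choose a ha using hT'
    let ζ : (Fin n → R) →ₗ[R] X := B.constr R fun i => a i • z i
    have hζ : (T • g).comp π = β • ζ := B.ext fun i => by
      show T • g (π (B i)) = β • ζ (B i)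
      rw [Module.Basis.constr_basis, ha i, mul_smul, h1, smul_comm]
    obtain ⟨m, r, hr⟩ := Submodule.fg_iff_exists_fin_generating_family.1 (IsNoetherian.noetherian (LinearMap.ker π))
    have hk : ∀ j, π (r j) = 0 := fun j => LinearMap.mem_ker.1 (hr ▸ Submodule.subset_span ⟨j, rfl⟩)
    choose u hu h2 using fun j => h.1 (ζ (r j)) ⟨1, fun h1 => hP.ne_top ((Ideal.eq_top_iff_one P).2 h1), by
      rw [one_smul, ← LinearMap.smul_apply, ← hζ]
      show T • g (π (r j)) = 0
      rw [hk, map_zero, smul_zero]⟩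
    obtain ⟨U, hU, hU'⟩ := exists_prod_notMem u hu
    have hle : LinearMap.ker π ≤ LinearMap.ker (U • ζ) := by
      rw [← hr, Submodule.span_le]
      rintro _ ⟨j, rfl⟩
      obtain ⟨b, hb⟩ := hU' j
      show U • ζ (r j) = 0
      rw [hb, mul_smul, h2, smul_zero]
    refine ⟨((LinearMap.ker π).liftQ (U • ζ) hle).comp (π.quotKerEquivOfSurjective hπ).symm.toLinearMap, U * T,
      mul_notMem hU hT, LinearMap.ext fun q => ?_⟩
    obtain ⟨v, rfl⟩ := hπ q
    show (U * T) • g (π v) = β • ((LinearMap.ker π).liftQ (U • ζ) hle ((π.quotKerEquivOfSurjective hπ).symm (π v)))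
    rw [show π v = π.quotKerEquivOfSurjective hπ (Submodule.Quotient.mk v) from rfl, LinearEquiv.symm_apply_apply]
    show (U * T) • g (π v) = β • (U • ζ v)
    rw [mul_smul, show T • g (π v) = β • ζ v from LinearMap.congr_fun hζ v, smul_comm]

theorem mk_smul_one (r : R) (x : X) :
    algebraMap R (Localization.AtPrime P) r • (LocalizedModule.mk x (1 : P.primeCompl)) = LocalizedModule.mk (r • x) 1 := by
  rw [algebraMap_smul, LocalizedModule.smul'_mk]

theorem mk_eq_zero_iff (x : X) (s : P.primeCompl) :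
    (LocalizedModule.mk x s : LocalizedModule P.primeCompl X) = 0 ↔ ∃ t ∉ P, t • x = 0 := by
  rw [← LocalizedModule.zero_mk 1, LocalizedModule.mk_eq]
  constructor
  · rintro ⟨⟨t, ht⟩, h⟩
    exact ⟨t, ht, by simpa only [Submonoid.smul_def, one_smul, smul_zero] using h⟩
  · rintro ⟨t, ht, h⟩
    exact ⟨⟨t, ht⟩, by simpa only [Submonoid.smul_def, one_smul, smul_zero] using h⟩

/-- elementwise pairs from pairs on the localisation -/
theorem exists_pairAt
    (h : ∃ b ∈ maximalIdeal (Localization.AtPrime P), ∃ c ∈ maximalIdeal (Localization.AtPrime P),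
      IsSMulRegular (LocalizedModule P.primeCompl X) b ∧
        IsSMulRegular (QuotSMulTop b (LocalizedModule P.primeCompl X)) c) :
    ∃ β ∈ P, ∃ γ ∈ P, PairAt P β γ X := by
  obtain ⟨b, hb, c, hc, hb', hc'⟩ := h
  obtain ⟨β, u, rfl⟩ := IsLocalization.exists_mk'_eq P.primeCompl b
  obtain ⟨γ, v, rfl⟩ := IsLocalization.exists_mk'_eq P.primeCompl c
  let L := Localization.AtPrime P
  let κ := algebraMap R L
  have hu := IsLocalization.map_units L u
  have hv := IsLocalization.map_units L v
  have eβ : κ β = κ u * IsLocalization.mk' L β u := by rw [mul_comm, IsLocalization.mk'_spec]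
  have eγ : κ γ = κ v * IsLocalization.mk' L γ v := by rw [mul_comm, IsLocalization.mk'_spec]
  have regβ : ∀ w : LocalizedModule P.primeCompl X, κ β • w = 0 → w = 0 := fun w hw => by
    rw [eβ, mul_smul] at hw
    exact hb'.right_eq_zero_of_smul (hu.smul_eq_zero.1 hw)
  refine ⟨β, (IsLocalization.AtPrime.mk'_mem_maximal_iff L P β u).1 hb, γ,
    (IsLocalization.AtPrime.mk'_mem_maximal_iff L P γ v).1 hc, fun x hx => ?_, fun x y hxy => ?_⟩
  · exact (mk_eq_zero_iff x 1).1 (regβ _ (by rw [mk_smul_one]; exact (mk_eq_zero_iff _ 1).2 hx))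
  · let X1 : LocalizedModule P.primeCompl X := LocalizedModule.mk x 1
    let Y1 : LocalizedModule P.primeCompl X := LocalizedModule.mk y 1
    have h0 : κ γ • X1 = κ β • Y1 := by
      obtain ⟨t, ht, h0⟩ := hxy
      rw [mk_smul_one, mk_smul_one, LocalizedModule.mk_eq]
      rw [smul_sub, sub_eq_zero] at h0
      exact ⟨⟨t, ht⟩, by simpa only [Submonoid.smul_def, Submonoid.coe_one, one_smul] using h0⟩
    have hmem : X1 ∈ IsLocalization.mk' L β u • (⊤ : Submodule L (LocalizedModule P.primeCompl X)) := by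
      refine (isSMulRegular_quotient_iff_mem_of_smul_mem _ _).1 hc' X1 ?_
      refine (Submodule.mem_smul_pointwise_iff_exists _ _ _).2 ⟨(hv.unit⁻¹ : Lˣ).val • κ u • Y1, trivial, ?_⟩
      rw [smul_comm, ← mul_smul (IsLocalization.mk' L β u), mul_comm (IsLocalization.mk' L β u), ← eβ, ← h0, eγ,
        mul_smul, ← mul_smul, IsUnit.val_inv_mul, one_smul]
    obtain ⟨w, -, hw⟩ := (Submodule.mem_smul_pointwise_iff_exists _ _ _).1 hmem
    induction w using LocalizedModule.induction_on with
    | _ z s =>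
    have h1 : κ u • X1 = κ β • LocalizedModule.mk z s := by
      rw [← hw, eβ, mul_smul]
    rw [mk_smul_one, algebraMap_smul, LocalizedModule.smul'_mk, LocalizedModule.mk_eq] at h1
    obtain ⟨⟨t, ht⟩, h2⟩ := h1
    simp only [Submonoid.smul_def, Submonoid.coe_one, one_smul] at h2
    refine ⟨t • z, t * ((s : R) * (u : R)), mul_notMem ht (mul_notMem s.2 u.2), ?_⟩
    rw [mul_smul, mul_smul, h2, smul_comm t β]

/-- the quotient by a deep pair has no torsion, on elements -/
theorem exists_mem_of_torsion [IsNoetherianRing R] [Module.Finite R X] (hX : Nontrivial (LocalizedModule P.primeCompl X))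
    (h3 : (3 : ℕ∞) ≤ LocCoh.depth (Localization.AtPrime P) (LocalizedModule P.primeCompl X))
    (hβ : β ∈ P) (hγ : γ ∈ P) (h : PairAt P β γ X) (e : X)
    (he : ∀ a ∈ P, ∃ n : ℕ, ∃ t ∉ P, ∃ x y : X, (t * a ^ n) • e = β • x + γ • y) :
    ∃ t ∉ P, ∃ x y : X, t • e = β • x + γ • y := by
  let L := Localization.AtPrime P
  let G := LocalizedModule P.primeCompl X
  haveI : Module.Finite L G :=
    Module.Finite.of_isLocalizedModule P.primeCompl (LocalizedModule.mkLinearMap P.primeCompl X)
  let κ := algebraMap R L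
  have hm : ∀ r ∈ [κ β, κ γ], r ∈ maximalIdeal L := by
    intro r hr
    simp only [List.mem_cons, List.not_mem_nil, or_false] at hr
    rcases hr with rfl | rfl
    · exact (IsLocalization.AtPrime.to_map_mem_maximal_iff L P β).2 hβ
    · exact (IsLocalization.AtPrime.to_map_mem_maximal_iff L P γ).2 hγ
  have hrs : RingTheory.Sequence.IsWeaklyRegular G [κ β, κ γ] := by
    refine (RingTheory.Sequence.isWeaklyRegular_cons_iff G _ _).2 ⟨IsSMulRegular.of_right_eq_zero_of_smul fun w hw => ?_,
      (RingTheory.Sequence.isWeaklyRegular_singleton_iff _ _).2 ?_⟩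
    · induction w using LocalizedModule.induction_on with
      | _ x s =>
      rw [algebraMap_smul, LocalizedModule.smul'_mk] at hw
      exact (mk_eq_zero_iff x s).2 (h.1 x ((mk_eq_zero_iff _ s).1 hw))
    · refine (isSMulRegular_quotient_iff_mem_of_smul_mem _ _).2 fun w hw => ?_
      obtain ⟨w', -, hw'⟩ := (Submodule.mem_smul_pointwise_iff_exists _ _ _).1 hw
      induction w using LocalizedModule.induction_on with
      | _ x s =>
      induction w' using LocalizedModule.induction_on with
      | _ y s' =>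
      rw [algebraMap_smul, algebraMap_smul, LocalizedModule.smul'_mk, LocalizedModule.smul'_mk, LocalizedModule.mk_eq] at hw'
      obtain ⟨⟨t, ht⟩, h2⟩ := hw'
      simp only [Submonoid.smul_def] at h2
      obtain ⟨z, t', ht', hz⟩ := h.2 ((s' : R) • x) ((s : R) • y) ⟨t, ht, by
        rw [smul_sub, sub_eq_zero, smul_comm γ (s' : R), smul_comm β (s : R), h2]⟩
      refine (Submodule.mem_smul_pointwise_iff_exists _ _ _).2
        ⟨LocalizedModule.mk z (⟨t', ht'⟩ * s' * s), trivial, ?_⟩
      rw [algebraMap_smul, LocalizedModule.smul'_mk, ← hz, LocalizedModule.mk_eq]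
      refine ⟨1, ?_⟩
      simp only [Submonoid.smul_def, Submonoid.coe_one, one_smul, Submonoid.coe_mul, smul_smul]
      ring_nf
  have hNT : NoTors L (G ⧸ Ideal.ofList [κ β, κ γ] • (⊤ : Submodule L G)) := by
    have hd := Groth.L04.depth_quotient_ofList_add (M := G) hrs hm
    have h1 : (1 : ℕ∞) ≤ LocCoh.depth L (G ⧸ Ideal.ofList [κ β, κ γ] • (⊤ : Submodule L G)) := by
      have h4 := h3.trans_eq hd.symm
      rw [show (([κ β, κ γ].length : ℕ) : ℕ∞) = 2 from rfl, show (3 : ℕ∞) = 1 + 2 from rfl] at h4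
      exact (WithTop.add_le_add_iff_right (by simp)).1 h4
    rw [LocCoh.depth, LocCoh.idealDepth] at h1
    split_ifs at h1 with htop
    · haveI : Subsingleton (G ⧸ Ideal.ofList [κ β, κ γ] • (⊤ : Submodule L G)) := by
        by_contra hns
        haveI := not_subsingleton_iff_nontrivial.1 hns
        exact Groth.L04.smul_top_ne_top_of_nontrivial (maximalIdeal.isMaximal L).ne_top htop
      exact fun v _ => Subsingleton.elim _ _
    · have h2 : (0 : ℕ∞) < ⨆ (rs : List L) (_ : RingTheory.Sequence.IsWeaklyRegular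
          (G ⧸ Ideal.ofList [κ β, κ γ] • (⊤ : Submodule L G)) rs ∧ ∀ r ∈ rs, r ∈ maximalIdeal L), (rs.length : ℕ∞) :=
        lt_of_lt_of_le (by norm_num) h1
      simp only [lt_iSup_iff] at h2
      obtain ⟨rs, ⟨hreg, hmem⟩, hlt⟩ := h2
      match rs, hreg, hmem, hlt with
      | [], _, _, hlt => simp at hlt
      | a :: _, hreg, hmem, _ =>
        exact noTors_of_regular (hmem a (by simp)) ((RingTheory.Sequence.isWeaklyRegular_cons_iff _ _ _).1 hreg).1
  have hspan : Ideal.ofList [κ β, κ γ] • (⊤ : Submodule L G) = κ β • ⊤ ⊔ κ γ • ⊤ := by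
    rw [Ideal.ofList_cons, Ideal.ofList_singleton, Submodule.sup_smul, Submodule.ideal_span_singleton_smul,
      Submodule.ideal_span_singleton_smul]
  have hzero : Submodule.Quotient.mk (p := Ideal.ofList [κ β, κ γ] • (⊤ : Submodule L G))
      (LocalizedModule.mk e (1 : P.primeCompl)) = 0 := by
    refine hNT _ fun a ha => ?_
    obtain ⟨a0, u, rfl⟩ := IsLocalization.exists_mk'_eq P.primeCompl a
    obtain ⟨n, t, ht, x, y, hxy⟩ := he a0 ((IsLocalization.AtPrime.mk'_mem_maximal_iff L P a0 u).1 ha)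
    refine ⟨n, ?_⟩
    rw [← Submodule.Quotient.mk_smul, Submodule.Quotient.mk_eq_zero, smul_mk_eq, LocalizedModule.smul'_mk]
    refine Submodule.smul_mem _ _ ?_
    have hu : IsUnit (κ t) := IsLocalization.map_units L (⟨t, ht⟩ : P.primeCompl)
    rw [← Submodule.smul_mem_iff_of_isUnit _ hu, hspan, mk_smul_one, smul_smul, hxy]
    refine Submodule.mem_sup.2 ⟨κ β • LocalizedModule.mk x 1, Submodule.smul_mem_pointwise_smul _ _ _ trivial,
      κ γ • LocalizedModule.mk y 1, Submodule.smul_mem_pointwise_smul _ _ _ trivial, ?_⟩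
    rw [mk_smul_one, mk_smul_one, LocalizedModule.mk_add_mk]
    simp only [one_smul, mul_one]
  rw [Submodule.Quotient.mk_eq_zero, hspan] at hzero
  obtain ⟨w1, hw1, w2, hw2, hsum⟩ := Submodule.mem_sup.1 hzero
  obtain ⟨x, -, rfl⟩ := (Submodule.mem_smul_pointwise_iff_exists _ _ _).1 hw1
  obtain ⟨y, -, rfl⟩ := (Submodule.mem_smul_pointwise_iff_exists _ _ _).1 hw2
  induction x using LocalizedModule.induction_on with
  | _ x s =>
  induction y using LocalizedModule.induction_on with
  | _ y s' =>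
  rw [algebraMap_smul, algebraMap_smul, LocalizedModule.smul'_mk, LocalizedModule.smul'_mk, LocalizedModule.mk_add_mk,
    LocalizedModule.mk_eq] at hsum
  obtain ⟨⟨t, ht⟩, h2⟩ := hsum
  simp only [Submonoid.smul_def, Submonoid.coe_one, one_smul, Submonoid.coe_mul] at h2
  refine ⟨t * ((s : R) * (s' : R)), mul_notMem ht (mul_notMem s.2 s'.2), (t * (s' : R)) • x, (t * (s : R)) • y, ?_⟩
  rw [mul_smul, ← h2]
  simp only [smul_add, smul_smul]
  ring_nf

end Elementwise

section Fibre

theorem map_le_annihilator_maps' {R O Q : Type u} [CommRing R] [IsLocalRing R] [CommRing O] [Algebra R O]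
    [AddCommGroup Q] [Module O Q] :
    (maximalIdeal R).map (algebraMap R O) ≤ Module.annihilator O (Fn R O Q (R ⧸ maximalIdeal R)) :=
  fun _ hr => Module.mem_annihilator.2 fun g => LinearMap.ext fun q =>
    Module.mem_annihilator.1 (map_le_annihilator O hr) (g q)

theorem isFiniteLength_of_isSimple {A : Type u} [CommRing A] [IsLocalRing A] (N : Type u) [AddCommGroup N] [Module A N]
    [IsSimpleModule A N] : IsFiniteLength A N :=
  isFiniteLength_iff_isNoetherian_isArtinian.2 ⟨inferInstance, inferInstance⟩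

variable {A : Type u} [CommRing A] [IsLocalRing A] {O : Type u} [CommRing O] [Algebra A O] [IsNoetherianRing O]
  [Module.Flat A O] {Q : Type u} [AddCommGroup Q] [Module O Q] [Module.Finite O Q]

/-- pairs on the fibre give pairs on base changes of finite length -/
theorem pairAt_tensor {P : Ideal O} [P.IsPrime] {β γ : O} (h : PairAt P β γ (O ⊗[A] (A ⧸ maximalIdeal A)))
    (N : Type u) [AddCommGroup N] [Module A N] (hN : IsFiniteLength A N) : PairAt P β γ (O ⊗[A] N) := by
  induction hN with
  | @of_subsingleton M _ _ _ =>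
    haveI : Subsingleton (O ⊗[A] M) := inferInstance
    exact PairAt.subsingleton
  | @of_simple_quotient M _ _ p _ _ ih =>
    obtain ⟨e⟩ := exists_equiv_of_isSimple (A := A) (M ⧸ p)
    exact PairAt.ext (TensorProduct.AlgebraTensorModule.lTensor O O p.subtype)
      (TensorProduct.AlgebraTensorModule.lTensor O O p.mkQ)
      (Module.Flat.lTensor_preserves_injective_linearMap _ (Submodule.injective_subtype p))
      (LinearMap.lTensor_surjective O p.mkQ_surjective)
      (lTensor_exact O (LinearMap.exact_subtype_mkQ p) p.mkQ_surjective) ih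
      (h.equiv (TensorProduct.AlgebraTensorModule.congr (LinearEquiv.refl O O) e))

theorem exists_fmap_of_exact {N N' N'' : Type u} [AddCommGroup N] [Module A N] [AddCommGroup N'] [Module A N']
    [AddCommGroup N''] [Module A N''] (ι : N' →ₗ[A] N) (π : N →ₗ[A] N'') (hι : Function.Injective ι)
    (hπ : Function.Surjective π) (hex : Function.Exact ι π) (h : Fn A O Q N) (h0 : fmap O Q π h = 0) :
    ∃ h', fmap O Q ι h' = h := by
  let ι' : O ⊗[A] N' →ₗ[O] O ⊗[A] N := TensorProduct.AlgebraTensorModule.lTensor O O ι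
  have hinj : Function.Injective ι' := Module.Flat.lTensor_preserves_injective_linearMap _ hι
  have hmem : ∀ q, h q ∈ LinearMap.range ι' := fun q => by
    obtain ⟨w, hw⟩ := (lTensor_exact O hex hπ (h q)).1 (LinearMap.congr_fun h0 q)
    exact ⟨w, hw⟩
  refine ⟨(LinearEquiv.ofInjective ι' hinj).symm.toLinearMap.comp (h.codRestrict (LinearMap.range ι') hmem),
    LinearMap.ext fun q => ?_⟩
  show ι' ((LinearEquiv.ofInjective ι' hinj).symm ⟨h q, hmem q⟩) = h q
  exact congrArg Subtype.val ((LinearEquiv.ofInjective ι' hinj).apply_symm_apply ⟨h q, hmem q⟩)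

theorem exists_pow_mul_annihilator {N : Type u} [AddCommGroup N] [Module A N] (hN : IsFiniteLength A N) {t : O}
    (ht : t ∈ (maximalIdeal A).map (algebraMap A O)) : ∃ n : ℕ, ∀ z : O ⊗[A] N, t ^ n • z = 0 := by
  induction hN with
  | @of_subsingleton M _ _ _ =>
    haveI : Subsingleton (O ⊗[A] M) := inferInstance
    exact ⟨0, fun z => Subsingleton.elim _ _⟩
  | @of_simple_quotient M _ _ p _ _ ih =>
    obtain ⟨n, hn⟩ := ih
    obtain ⟨e⟩ := exists_equiv_of_isSimple (A := A) (M ⧸ p)
    refine ⟨n + 1, fun z => ?_⟩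
    have h1 : p.mkQ.lTensor O (t • z) = 0 := by
      refine (TensorProduct.AlgebraTensorModule.congr (LinearEquiv.refl O O) e.symm).injective ?_
      rw [show p.mkQ.lTensor O (t • z) = t • TensorProduct.AlgebraTensorModule.lTensor O O p.mkQ z from
        map_smul (TensorProduct.AlgebraTensorModule.lTensor O O p.mkQ) t z, map_smul, map_zero]
      exact Module.mem_annihilator.1 (map_le_annihilator O ht) _
    obtain ⟨w, hw⟩ := (lTensor_exact O (LinearMap.exact_subtype_mkQ p) p.mkQ_surjective (t • z)).1 h1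
    rw [pow_succ, mul_smul, ← hw,
      show t ^ n • p.subtype.lTensor O w = TensorProduct.AlgebraTensorModule.lTensor O O p.subtype (t ^ n • w) from
        (map_smul (TensorProduct.AlgebraTensorModule.lTensor O O p.subtype) _ w).symm, hn, map_zero]

variable (hD : FibreData A O Q)
  (h3 : ∀ (P : Ideal O) [P.IsPrime], (maximalIdeal A).map (algebraMap A O) ≤ P → Triv (Q := Q) P ∨
    (3 : WithBot ℕ∞) ≤ ringKrullDim (Localization.AtPrime P ⧸
      ((maximalIdeal A).map (algebraMap A O)).map (algebraMap O (Localization.AtPrime P))))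
  (hk : LocCoh.HasSk 3 O (Fn A O Q (A ⧸ maximalIdeal A)))

include hD h3 hk in
/-- lifting along a surjection with simple kernel -/
theorem fmap_surjective_of_simple_ker {N N'' : Type u} [AddCommGroup N] [Module A N] [AddCommGroup N''] [Module A N'']
    (hN : IsFiniteLength A N) (hN'' : IsFiniteLength A N'')
    (ι : (A ⧸ maximalIdeal A) →ₗ[A] N) (π : N →ₗ[A] N'') (hι : Function.Injective ι)
    (hπ : Function.Surjective π) (hex : Function.Exact ι π) : Function.Surjective (fmap O Q π) := by
  haveI : Module.Finite O (Fn A O Q (A ⧸ maximalIdeal A)) := finite_maps _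
  let I := (maximalIdeal A).map (algebraMap A O)
  intro g
  let 𝔞 : Ideal O := (LinearMap.range (fmap O Q π)).comap (LinearMap.toSpanSingleton O _ g)
  haveI hwf : WellFoundedLT (PrimeSpectrum O) :=
    StrictMono.wellFoundedLT (f := fun Q : PrimeSpectrum O => Q.asIdeal.height)
      fun Q R hlt => Ideal.height_strict_mono_of_isPrime hlt
  have key : ∀ P : PrimeSpectrum O, ¬ 𝔞 ≤ P.asIdeal := by
    intro P
    induction P using hwf.induction with
    | _ P ih =>
    intro hle
    by_cases hP : I ≤ P.asIdeal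
    · rcases h3 P.asIdeal hP with ⟨q0, ε, hs, hq⟩ | hd
      · obtain ⟨ξ, hξ⟩ := LinearMap.lTensor_surjective O hπ (g q0)
        refine hs (hle ⟨ε.smulRight ξ, ?_⟩)
        refine LinearMap.ext fun q => ?_
        show (TensorProduct.AlgebraTensorModule.lTensor O O π) (ε q • ξ) = ε q0 • g q
        rw [map_smul, ← map_smul g, hq q, map_smul, ← hξ]
        rfl
      · let P' := P.asIdeal
        have hd2 : (2 : WithBot ℕ∞) ≤ ringKrullDim (Localization.AtPrime P' ⧸
            I.map (algebraMap O (Localization.AtPrime P'))) := le_trans (by norm_num) hd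
        obtain ⟨β, hβ, γ, hγ, hpair⟩ := exists_pairAt (P := P') (exists_pair_residue hD P' hP hd2)
        have hlow : ∀ a ∈ P', ∃ n : ℕ, ∃ t ∉ P', t * a ^ n ∈ 𝔞 := fun a ha =>
          exists_pow_mul_mem 𝔞 P' (fun Q hQ hlt => ih ⟨Q, hQ⟩ hlt) ha
        obtain ⟨n1, t1, ht1, h1, hh1⟩ := hlow β hβ
        obtain ⟨n2, t2, ht2, h2, hh2⟩ := hlow γ hγ
        change fmap O Q π h1 = (t1 * β ^ n1) • g at hh1
        change fmap O Q π h2 = (t2 * γ ^ n2) • g at hh2
        have hβn : β ^ (n1 + 1) ∈ P' := Ideal.pow_mem_of_mem P' hβ _ n1.succ_pos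
        have hγn : γ ^ (n2 + 1) ∈ P' := Ideal.pow_mem_of_mem P' hγ _ n2.succ_pos
        have hB : ∀ (M : Type u) [AddCommGroup M] [Module A M], IsFiniteLength A M →
            PairAt P' (β ^ (n1 + 1)) (γ ^ (n2 + 1)) (Fn A O Q M) := fun M _ _ hM =>
          (((pairAt_tensor hpair M hM).hom (Q := Q)).pow_left (n1 + 1)).pow_right (n2 + 1)
        generalize hBdef : β ^ (n1 + 1) = B at hβn hB
        generalize hCdef : γ ^ (n2 + 1) = C at hγn hB
        have eH1 : fmap O Q π ((t2 * β) • h1) = (t1 * t2 * B) • g := by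
          rw [map_smul, hh1, smul_smul, ← hBdef]; ring_nf
        have eH2 : fmap O Q π ((t1 * γ) • h2) = (t1 * t2 * C) • g := by
          rw [map_smul, hh2, smul_smul, ← hCdef]; ring_nf
        generalize hT : t1 * t2 = T at eH1 eH2
        generalize (t2 * β) • h1 = H1 at eH1
        generalize (t1 * γ) • h2 = H2 at eH2
        obtain ⟨e, he⟩ := exists_fmap_of_exact ι π hι hπ hex (C • H1 - B • H2) (by
          rw [map_sub, map_smul, map_smul, eH1, eH2, smul_smul, smul_smul, ← sub_smul,
            show C * (T * B) - B * (T * C) = 0 by ring, zero_smul])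
        obtain ⟨hnt, hdepth⟩ := le_depth_of_hasSk (G := Fn A O Q (A ⧸ maximalIdeal A)) I map_le_annihilator_maps' hk
          (fun P0 h0 => by
            haveI := h0.1.1
            obtain ⟨q0, ε, hs, -⟩ := (h3 P0 h0.1.2).resolve_right fun h =>
              absurd (h.trans (ringKrullDim_quotient_minimal_le I P0 h0)) (by norm_num)
            refine ⟨ε.smulRight ((1 : O) ⊗ₜ[A] (1 : A ⧸ maximalIdeal A)), fun t ht h' => ?_⟩
            have h1 := LinearMap.congr_fun h' q0
            rw [LinearMap.smul_apply, LinearMap.smulRight_apply, smul_smul] at h1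
            exact residue_tmul_ne_zero h0.1.2 (fun hm => (h0.1.1.mem_or_mem hm).elim ht hs) h1)
          P' hd
        obtain ⟨s, hs, x, y, hxy⟩ := exists_mem_of_torsion hnt hdepth hβn hγn
          (hB _ (@isFiniteLength_of_isSimple A _ _ _ _ _ (isSimpleModule_iff_isCoatom.2 (maximalIdeal.isMaximal A).out))) e (fun a ha => by
            obtain ⟨n, t', ht', h, hh⟩ := hlow a ha
            change fmap O Q π h = (t' * a ^ n) • g at hh
            obtain ⟨x1, hx1⟩ := exists_fmap_of_exact ι π hι hπ hex ((t' * a ^ n) • H1 - (T * B) • h) (by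
              rw [map_sub, map_smul, map_smul, eH1, hh, smul_smul, smul_smul, mul_comm, sub_self])
            obtain ⟨x2, hx2⟩ := exists_fmap_of_exact ι π hι hπ hex ((t' * a ^ n) • H2 - (T * C) • h) (by
              rw [map_sub, map_smul, map_smul, eH2, hh, smul_smul, smul_smul, mul_comm, sub_self])
            refine ⟨n, t', ht', -x2, x1, fmap_injective ι hι ?_⟩
            rw [map_smul, map_add, map_smul, map_smul, map_neg, he, hx1, hx2]
            module)
        obtain ⟨z, s', hs', hz⟩ := (hB N hN).2 (s • H1 - fmap O Q ι y) (s • H2 + fmap O Q ι x)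
          ⟨1, fun h1 => P.2.ne_top ((Ideal.eq_top_iff_one _).2 h1), by
            have h5 := congrArg (fmap O Q ι) hxy
            rw [map_smul, map_add, map_smul, map_smul, he] at h5
            rw [one_smul, show C • (s • H1 - fmap O Q ι y) - B • (s • H2 + fmap O Q ι x) =
              s • (C • H1 - B • H2) - (B • fmap O Q ι x + C • fmap O Q ι y) by module, h5, sub_self]⟩
        have hπι : ∀ w, fmap O Q π (fmap O Q ι w) = 0 := fun w => LinearMap.ext fun q => by
          show π.lTensor O (ι.lTensor O (w q)) = 0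
          exact (lTensor_exact O hex hπ (ι.lTensor O (w q))).2 ⟨w q, rfl⟩
        have h6 := congrArg (fmap O Q π) hz
        rw [map_smul, map_sub, map_smul, map_smul, hπι, sub_zero, eH1] at h6
        obtain ⟨u, hu, hu0⟩ := (hB N'' hN'').1 ((s' * s * T) • g - fmap O Q π z)
          ⟨1, fun h1 => P.2.ne_top ((Ideal.eq_top_iff_one _).2 h1), by
            rw [one_smul, smul_sub, ← h6, smul_smul, smul_smul, smul_smul, ← sub_smul,
              show B * (s' * s * T) - s' * s * (T * B) = 0 by ring, zero_smul]⟩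
        refine mul_notMem hu (mul_notMem (mul_notMem hs' hs) (hT ▸ mul_notMem ht1 ht2)) (hle ⟨u • z, ?_⟩)
        show fmap O Q π (u • z) = (u * (s' * s * T)) • g
        rw [map_smul, mul_smul]
        exact (sub_eq_zero.1 ((smul_sub u _ _).symm.trans hu0)).symm
    · obtain ⟨t, htI, htP⟩ := SetLike.not_le_iff_exists.1 hP
      obtain ⟨n, hn⟩ := exists_pow_mul_annihilator hN'' htI
      refine htP (P.2.mem_of_pow_mem n (hle ⟨0, ?_⟩))
      rw [map_zero]
      exact (LinearMap.ext fun q => hn (g q)).symm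
  by_cases h : 𝔞 = ⊤
  · obtain ⟨h', hh⟩ : (1 : O) ∈ 𝔞 := h ▸ trivial
    exact ⟨h', hh.trans (one_smul O g)⟩
  · obtain ⟨m, hm, hle⟩ := Ideal.exists_le_maximal 𝔞 h
    exact absurd hle (key ⟨m, hm.isPrime⟩)

include hD h3 hk in
/-- depth three on the fibre makes lifting onto along surjections of finite length modules -/
theorem fmap_surjective_of_depth_three {N N'' : Type u} [AddCommGroup N] [Module A N] [AddCommGroup N''] [Module A N'']
    (hN : IsFiniteLength A N) (π : N →ₗ[A] N'') (hπ : Function.Surjective π) :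
    Function.Surjective (fmap O Q π) := by
  obtain ⟨hnoeth, hart⟩ := isFiniteLength_iff_isNoetherian_isArtinian.1 hN
  haveI := hnoeth
  haveI := hart
  have hq : ∀ p : Submodule A N, IsFiniteLength A (N ⧸ p) := fun p =>
    isFiniteLength_iff_isNoetherian_isArtinian.2 ⟨inferInstance, inferInstance⟩
  have key : ∀ p : Submodule A N, Function.Surjective (fmap O Q p.mkQ) := by
    intro p
    induction p using WellFoundedLT.induction with
    | _ p ih =>
    by_cases hp : p = ⊥
    · subst hp
      intro g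
      refine ⟨fmap O Q (Submodule.quotEquivOfEqBot ⊥ rfl).toLinearMap g, LinearMap.ext fun q => ?_⟩
      show (⊥ : Submodule A N).mkQ.lTensor O ((Submodule.quotEquivOfEqBot ⊥ rfl).toLinearMap.lTensor O (g q)) = g q
      rw [← LinearMap.comp_apply, ← LinearMap.lTensor_comp,
        show (⊥ : Submodule A N).mkQ.comp (Submodule.quotEquivOfEqBot ⊥ rfl).toLinearMap = LinearMap.id from
          Submodule.linearMap_qext _ (LinearMap.ext fun x => by simp), LinearMap.lTensor_id, LinearMap.id_apply]
    · obtain ⟨p', hcov⟩ := exists_covBy_of_wellFoundedGT (a := p) (fun h => hp h.eq_bot)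
      haveI : IsSimpleModule A (p ⧸ Submodule.comap p.subtype p') := covBy_iff_quot_is_simple hcov.le |>.1 hcov
      obtain ⟨e⟩ := exists_equiv_of_isSimple (A := A) (p ⧸ Submodule.comap p.subtype p')
      let j : (p ⧸ Submodule.comap p.subtype p') →ₗ[A] N ⧸ p' := Submodule.mapQ _ _ p.subtype le_rfl
      have hj : Function.Injective j := by
        rw [← LinearMap.ker_eq_bot]
        exact Submodule.ker_liftQ_eq_bot _ _ _ (le_of_eq (by rw [LinearMap.ker_comp, Submodule.ker_mkQ]))
      have hex : Function.Exact (j.comp e.toLinearMap) (Submodule.factor hcov.le) := by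
        refine LinearMap.exact_iff.2 ?_
        rw [LinearMap.range_comp, LinearEquiv.range, Submodule.map_top]
        refine le_antisymm (fun x hx => ?_) (LinearMap.range_le_iff_comap.2 (eq_top_iff.2 fun x _ => ?_))
        · obtain ⟨x, rfl⟩ := p'.mkQ_surjective x
          exact ⟨Submodule.Quotient.mk ⟨x, (Submodule.Quotient.mk_eq_zero p).1 hx⟩, rfl⟩
        · obtain ⟨⟨x, hx⟩, rfl⟩ := Submodule.mkQ_surjective _ x
          exact (Submodule.Quotient.mk_eq_zero p).2 hx
      intro g
      obtain ⟨g', rfl⟩ := fmap_surjective_of_simple_ker hD h3 hk (hq p') (hq p) (j.comp e.toLinearMap)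
        (Submodule.factor hcov.le) (hj.comp e.injective) (Submodule.factor_surjective _) hex g
      obtain ⟨g'', rfl⟩ := ih p' hcov.lt g'
      refine ⟨g'', LinearMap.ext fun q => ?_⟩
      show p.mkQ.lTensor O (g'' q) = (Submodule.factor hcov.le).lTensor O (p'.mkQ.lTensor O (g'' q))
      rw [← LinearMap.comp_apply, ← LinearMap.lTensor_comp, Submodule.factor_comp_mk]
  intro g
  let E := π.quotKerEquivOfSurjective hπ
  obtain ⟨g', hg'⟩ := key _ (fmap O Q E.symm.toLinearMap g)
  refine ⟨g', LinearMap.ext fun q => ?_⟩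
  have h1 : (LinearMap.ker π).mkQ.lTensor O (g' q) = E.symm.toLinearMap.lTensor O (g q) := LinearMap.congr_fun hg' q
  refine (LinearEquiv.lTensor O E.symm).injective (Eq.trans ?_ h1)
  show E.symm.toLinearMap.lTensor O (π.lTensor O (g' q)) = _
  rw [← LinearMap.comp_apply, ← LinearMap.lTensor_comp]
  congr 2
  exact LinearMap.ext fun x => by simp [E]

include hD h3 hk in
/-- depth three on the fibre makes evaluation on the fibre onto -/
theorem ev_residue_surjective_of_depth_three [IsLocalRing O] [IsLocalHom (algebraMap A O)] [IsNoetherianRing A] :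
    Function.Surjective (ev A O Q (A ⧸ maximalIdeal A)) :=
  ev_residue_surjective_of_tower fun p =>
    fmap_surjective_of_depth_three hD h3 hk (isFiniteLength_quotient_pow p) _ (Submodule.factor_surjective _)

end Fibre

end Groth.L10.RelCan.Core
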