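import Groth.Agent.L10.RelCan.FibreGlue

/-!
Reflexive powers after base change as maps from the predual, and what relative Serre condition two says about them.
-/

set_option autoImplicit false
set_option maxSynthPendingDepth 4
set_option linter.style.haveILetI false
set_option linter.unusedSectionVars false
set_option backward.defeqAttrib.useBackward true
set_option backward.isDefEq.respectTransparency false
set_option backward.isDefEq.respectTransparency.types false
universe u

open CategoryTheory CategoryTheory.Limits AlgebraicGeometry TopologicalSpace IsLocalRing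
open scoped TensorProduct

noncomputable section

namespace Groth.L10.RelCan

section Stalk

variable {X X' S : Scheme.{u}} [IsLocallyNoetherian X]

set_option maxHeartbeats 1000000 in
/-- the dual of a pullback at a point where the local ring becomes a quotient by a base ideal -/
theorem exists_dualPullEquiv [IsLocallyNoetherian X'] (f : X ⟶ S) (p : X' ⟶ X) {G : X.Modules} (hG : Coh.IsCoh G)
    (x' : X') (J : Ideal (S.presheaf.stalk (f (p x'))))
    (hs : Function.Surjective (p.stalkMap x').hom)
    (hk : RingHom.ker (p.stalkMap x').hom = J.map (f.stalkMap (p x')).hom) :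
    letI := algStalk f (p x')
    letI : Module (X.presheaf.stalk (p x')) ((Groth.L00.Stk.F X' x').obj (RefHull.dual ((Scheme.Modules.pullback p).obj G))) :=
      Module.compHom _ (p.stalkMap x').hom
    Nonempty ((Groth.L00.Stk.F X' x').obj (RefHull.dual ((Scheme.Modules.pullback p).obj G)) ≃ₗ[X.presheaf.stalk (p x')]
      Core.Fn (S.presheaf.stalk (f (p x'))) (X.presheaf.stalk (p x')) ((Groth.L00.Stk.F X (p x')).obj G)
        (S.presheaf.stalk (f (p x')) ⧸ J)) := by
  let O := X.presheaf.stalk (p x')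
  let O' := X'.presheaf.stalk x'
  let Q := (Groth.L00.Stk.F X (p x')).obj G
  let P := (Scheme.Modules.pullback p).obj G
  letI := algStalk f (p x')
  letI : Algebra O O' := (p.stalkMap x').hom.toAlgebra
  letI : Module O ((Groth.L00.Stk.F X' x').obj (RefHull.dual P)) := Module.compHom _ (p.stalkMap x').hom
  haveI : IsScalarTower O O' ((Groth.L00.Stk.F X' x').obj (RefHull.dual P)) := .of_algebraMap_smul fun _ _ => rfl
  have hPc : Coh.IsCoh P := Groth.L16.AffineBC.isCoh_pullback p hG
  let σ : (Groth.L00.Stk.F X' x').obj P ≃ₗ[O'] O' ⊗[O] Q :=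
    ((Groth.L00.PullStalk.stalkIso p x').app G).toLinearEquiv
  let E : (Groth.L00.Stk.F X' x').obj (RefHull.dual P) ≃ₗ[O'] (Q →ₗ[O] O') :=
    ((dualStalk hPc x').trans (LinearEquiv.congrLeft O' O' σ)).trans (LinearMap.liftBaseChangeEquiv O').symm
  obtain ⟨T, -⟩ := nonempty_quot_equiv (A := S.presheaf.stalk (f (p x'))) J (O' := O') hs hk
  exact ⟨(E.restrictScalars O).trans (LinearEquiv.congrRight T)⟩

/-- relative Serre condition two makes reduction of maps onto and the maps flat -/
theorem ev_bijective_of_relSkAt [IsLocallyNoetherian S] (f : X ⟶ S) [LocallyOfFiniteType f] (hS : RelCanon.IsSkMor f 2)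
    {G : X.Modules} (hG : Coh.IsCoh G) (y : X)
    (hinv : ∀ z, z ∈ RelCanon.gorLocus f → RelCanon.InvertibleAt G z)
    (hcod : ∀ z, z ⤳ y → f z = f y → z ∉ RelCanon.gorLocus f →
      (2 : WithBot ℕ∞) ≤ ringKrullDim ((f.fiber (f z)).presheaf.stalk (f.asFiber z)))
    (h : RelCanon.RelSkAt f 2 (RefHull.dual G) y) :
    letI := algStalk f y
    Function.Bijective (Core.ev (S.presheaf.stalk (f y)) (X.presheaf.stalk y) ((Groth.L00.Stk.F X y).obj G)
      (S.presheaf.stalk (f y) ⧸ maximalIdeal (S.presheaf.stalk (f y)))) := by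
  letI := algStalk f y
  haveI : Module.Finite (X.presheaf.stalk y) ((Groth.L00.Stk.F X y).obj G) :=
    Groth.L06.SupportStalk.finite_stalk G hG y
  refine Core.ev_residue_bijective_of_hasSk (fibreData f hS hG y hinv hcod) ?_
  exact (skAt_fibre_iff f (RefHull.dual G) (Groth.L15.Ref.isCoh_dual hG) 2 y
    ((Groth.L00.Stk.F X y).obj G →ₗ[X.presheaf.stalk y] X.presheaf.stalk y)
    (fun a g => LinearMap.ext fun q => Algebra.smul_def a (g q)) (dualStalk hG y)).1 h.2

/-- maps which are free of rank one on the fibre are invertible at the point -/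
theorem invertibleAt_of_fibre [IsLocallyNoetherian S] (f : X ⟶ S) [LocallyOfFiniteType f] [Flat f]
    {G : X.Modules} (hG : Coh.IsCoh G) (y : X)
    (hev : letI := algStalk f y
      Function.Bijective (Core.ev (S.presheaf.stalk (f y)) (X.presheaf.stalk y) ((Groth.L00.Stk.F X y).obj G)
        (S.presheaf.stalk (f y) ⧸ maximalIdeal (S.presheaf.stalk (f y)))))
    (hfree : letI := algStalk f y
      Nonempty (Core.Fn (S.presheaf.stalk (f y)) (X.presheaf.stalk y) ((Groth.L00.Stk.F X y).obj G)
        (S.presheaf.stalk (f y) ⧸ maximalIdeal (S.presheaf.stalk (f y))) ≃ₗ[X.presheaf.stalk y]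
        X.presheaf.stalk y ⊗[S.presheaf.stalk (f y)]
          (S.presheaf.stalk (f y) ⧸ maximalIdeal (S.presheaf.stalk (f y))))) :
    RelCanon.InvertibleAt (RefHull.dual G) y := by
  letI := algStalk f y
  haveI := isLocalHom_algStalk f y
  haveI := flat_algStalk f y
  let O := X.presheaf.stalk y
  let Q := (Groth.L00.Stk.F X y).obj G
  haveI : Module.Finite O Q := Groth.L06.SupportStalk.finite_stalk G hG y
  haveI : Module.Flat (S.presheaf.stalk (f y)) (Q →ₗ[O] O) := Core.flat hev.2
  haveI : Module.Finite O (Q →ₗ[O] O) := by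
    haveI : Module.Finite O ((Groth.L00.Stk.F X y).obj (RefHull.dual G)) :=
      Groth.L06.SupportStalk.finite_stalk _ (Groth.L15.Ref.isCoh_dual hG) y
    exact Module.Finite.equiv (dualStalk hG y)
  obtain ⟨θ⟩ := hfree
  obtain ⟨e⟩ := Core.nonempty_equiv_of_fibre (A := S.presheaf.stalk (f y)) ((LinearEquiv.ofBijective _ hev).trans θ)
  exact invertibleAt_of_stalk (Groth.L15.Ref.isCoh_dual hG) y ((dualStalk hG y).trans e)

end Stalk

section Family

variable {A : Type u} [CommRing A] [IsNoetherianRing A] {Y : Scheme.{u}} [Y.Over (Spec (CommRingCat.of A))]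
  [IsProper (Y ↘ Spec (CommRingCat.of A))] {d : ℕ}

variable (hS : RelCanon.IsSkMor (Y ↘ Spec (CommRingCat.of A)) 2)
  (hd : Cyc.HasRelDim (Y ↘ Spec (CommRingCat.of A)) d) (ω : Y.Modules)
  (hω : RelCanon.IsDualizingSheaf A Y d ω)

set_option maxHeartbeats 1600000 in
include hS hd hω in
/-- reflexive powers are duals of coherent modules invertible on the Gorenstein locus -/
theorem exists_predual (m : ℤ) : ∃ G : Y.Modules, Coh.IsCoh G ∧ RelCanon.refPowZ ω m = RefHull.dual G ∧
    ∀ z, z ∈ RelCanon.gorLocus (Y ↘ Spec (CommRingCat.of A)) → RelCanon.InvertibleAt G z := by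
  haveI := hS.1
  haveI : IsLocallyNoetherian Y := LocallyOfFiniteType.isLocallyNoetherian (Y ↘ Spec (CommRingCat.of A))
  have hωc : Coh.IsCoh ω := (isCoh_and_nontrivial d hd ω hω).1
  let U := gorOpen A Y
  have hpow : ∀ (G : Y.Modules), Coh.IsCoh G → ∀ n, Coh.IsCoh (CohB1.tensorPow G n) := fun G hG n => by
    induction n with
    | zero => exact Groth.L16.CohClosedPush.isCoh_structure
    | succ n ih => exact Groth.L15.Ref.isCoh_tensorMod ih hG
  have hinv : ∀ (G : Y.Modules), Coh.IsCoh G → PicF.IsInvertible (G.restrict U.ι) →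
      ∀ z ∈ U, RelCanon.InvertibleAt G z := fun G hG hi z hz =>
    invertibleAt_of_pullback U.ι hG ⟨z, hz⟩ (by
      exact (RelCanon.isInvertible_iff_invertibleAt _).1
        (Groth.L18.Ample.isInvertible_of_iso ((Scheme.Modules.restrictFunctorIsoPullback U.ι).app G) hi) ⟨z, hz⟩)
  have hU := isInvertible_omega_gorOpen hd ω hω
  cases m with
  | ofNat n =>
    exact ⟨RefHull.dual (CohB1.tensorPow ω n), Groth.L15.Ref.isCoh_dual (hpow ω hωc n), rfl,
      hinv _ (Groth.L15.Ref.isCoh_dual (hpow ω hωc n)) (Groth.L18.Ample.isInvertible_of_iso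
        (RefFun.dualIso (Groth.L00.Tensor.tensorPowRestrict U.ι ω n) ≪≫ dualRestrict U.ι _)
        (isInvertible_dual (Groth.L18.Ample.isInvertible_tensorPow hU n)))⟩
  | negSucc n =>
    have hc := Groth.L15.Ref.isCoh_dual hωc
    exact ⟨RefHull.dual (CohB1.tensorPow (RefHull.dual ω) (n + 1)), Groth.L15.Ref.isCoh_dual (hpow _ hc _), rfl,
      hinv _ (Groth.L15.Ref.isCoh_dual (hpow _ hc _)) (Groth.L18.Ample.isInvertible_of_iso
        (RefFun.dualIso (Groth.L00.Tensor.tensorPowIso (dualRestrict U.ι ω) (n + 1) ≪≫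
          Groth.L00.Tensor.tensorPowRestrict U.ι (RefHull.dual ω) (n + 1)) ≪≫ dualRestrict U.ι _)
        (isInvertible_dual (Groth.L18.Ample.isInvertible_tensorPow (isInvertible_dual hU) (n + 1))))⟩

variable (hG : GorCodim (Y ↘ Spec (CommRingCat.of A)))
  {B : Type u} [CommRing B] [IsNoetherianRing B] [Algebra A B] {Y' : Scheme.{u}}
  [Y'.Over (Spec (CommRingCat.of B))] {p : Y' ⟶ Y}
  (hp : IsPullback p (Y' ↘ Spec (CommRingCat.of B)) (Y ↘ Spec (CommRingCat.of A))
    (Spec.map (CommRingCat.ofHom (algebraMap A B))))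
  (ω' : Y'.Modules) (hω' : RelCanon.IsDualizingSheaf B Y' d ω')

set_option maxHeartbeats 1600000 in
include hS hd hω hG hp hω' in
/-- the reflexive power after base change is the dual of the pulled back predual -/
theorem nonempty_dual_pullback_refPowZ (m : ℤ) {G : Y.Modules} (hGc : Coh.IsCoh G)
    (hGeq : RelCanon.refPowZ ω m = RefHull.dual G)
    (hinv : ∀ z, z ∈ RelCanon.gorLocus (Y ↘ Spec (CommRingCat.of A)) → RelCanon.InvertibleAt G z) :
    Nonempty (RefHull.dual ((Scheme.Modules.pullback p).obj G) ≅ RelCanon.refPowZ ω' m) := by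
  let f := Y ↘ Spec (CommRingCat.of A)
  let f' := Y' ↘ Spec (CommRingCat.of B)
  haveI := hS.1
  haveI : IsProper f' := MorphismProperty.of_isPullback hp (inferInstanceAs (IsProper f))
  haveI : IsLocallyNoetherian Y := LocallyOfFiniteType.isLocallyNoetherian f
  haveI : IsLocallyNoetherian Y' := LocallyOfFiniteType.isLocallyNoetherian f'
  haveI : Flat f' := MorphismProperty.of_isPullback hp (inferInstanceAs (Flat f))
  haveI : CompactSpace Y' := QuasiCompact.compactSpace_of_compactSpace f'
  haveI : IsNoetherian Y' := {}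
  obtain ⟨⟨E⟩, -⟩ := nonempty_pullback_refPowZ hS hd ω hω hG hp ω' hω' m
  rw [hGeq] at E
  let U : Y.Opens := gorOpen A Y
  let U' : Y'.Opens := p ⁻¹ᵁ U
  let q := p ∣_ U
  let P := (Scheme.Modules.pullback p).obj G
  let W := (Scheme.Modules.pullback p).obj (RefHull.dual G)
  have hPc : Coh.IsCoh P := Groth.L16.AffineBC.isCoh_pullback p hGc
  have hω'c : Coh.IsCoh ω' :=
    (isCoh_and_nontrivial d (Groth.L22.Cyc.hasRelDim_baseChange hp hd) ω' (by exact hω')).1
  haveI : Coh.IsQCoh (RefHull.dual P) := (Groth.L15.Ref.isCoh_dual hPc).1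
  haveI : Coh.IsQCoh (RelCanon.refPowZ ω' m) := (isCoh_refPowZ hω'c m).1
  have hGU : PicF.IsInvertible (G.restrict U.ι) := isInvertible_restrict_of_invertibleAt G U hinv
  obtain ⟨e1⟩ := Groth.L22.Adjunction.nonempty_dual_pullback q hGU
  let e2 : W.restrict U'.ι ≅ RefHull.dual (P.restrict U'.ι) :=
    restrictPull p U (RefHull.dual G) ≪≫ (Scheme.Modules.pullback q).mapIso (dualRestrict U.ι G).symm ≪≫ e1.symm ≪≫
      (RefFun.dualIso (restrictPull p U G)).symm
  have hWU : PicF.IsInvertible (W.restrict U'.ι) :=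
    Groth.L18.Ample.isInvertible_of_iso e2.symm (isInvertible_dual
      (Groth.L18.Ample.isInvertible_of_iso (restrictPull p U G).symm (Groth.L18.Ample.isInvertible_pullback q hGU)))
  obtain ⟨eD⟩ := nonempty_ddual_invertible hWU
  refine nonempty_iso_of_pairs U' _ _ (fun x hx => ?_)
    (fun x hx => pairs_refPowZ (F := ω') hω'c m x (pairs_structure hS hG hp x hx))
    ((dualRestrict U'.ι P).symm ≪≫ e2.symm ≪≫ eD.symm ≪≫ ddualRestrict U'.ι W ≪≫
      (Scheme.Modules.restrictFunctor U'.ι).mapIso E)
  obtain ⟨b, hbm, c, hcm, hb, hc⟩ := pairs_structure hS hG hp x hx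
  haveI : Coh.IsQCoh (Coh.structureModule Y') := (Groth.L16.CohClosedPush.isCoh_structure (X := Y')).1
  let σ := Groth.L15.Ref.strE (X := Y') x
  obtain ⟨h1, h2⟩ := regular_pair_homSh (F := P) (G := Coh.structureModule Y') hPc x ((σ.isSMulRegular_congr b).1 hb)
    (((QuotSMulTop.congr b σ).isSMulRegular_congr c).1 hc)
  exact ⟨b, hbm, c, hcm, h1, h2⟩

end Family

end Groth.L10.RelCan
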