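import Mathlib.Algebra.Category.ModuleCat.Abelian
import Mathlib.Algebra.Category.ModuleCat.Colimits
import Mathlib.Algebra.Category.ModuleCat.Limits
import Mathlib.CategoryTheory.Abelian.Basic

/-!
Maps out of a cocontinuous functor on modules are linear families of maps out of its value at the ring.
-/

set_option autoImplicit false
set_option linter.style.haveILetI false
set_option backward.isDefEq.respectTransparency false
universe u v w

open CategoryTheory CategoryTheory.Limits

noncomputable section

namespace Groth.L10.RelCan.EW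

variable {A : Type u} [CommRing A]

/-- the ring as a module -/
abbrev one (A : Type u) [CommRing A] : ModuleCat.{u} A := ModuleCat.of A A

/-- the map out of the ring with a given value at one -/
abbrev el (N : ModuleCat.{u} A) (n : N) : one A ⟶ N := ModuleCat.ofHom (LinearMap.toSpanSingleton A N n)

theorem el_comp {N N' : ModuleCat.{u} A} (n : N) (g : N ⟶ N') : el N n ≫ g = el N' (g n) :=
  ModuleCat.hom_ext (LinearMap.ext_ring (by simp [el]))

theorem el_add (N : ModuleCat.{u} A) (m n : N) : el N (m + n) = el N m + el N n :=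
  ModuleCat.hom_ext (LinearMap.ext_ring (by simp [el]))

theorem el_zero (N : ModuleCat.{u} A) : el N 0 = 0 :=
  ModuleCat.hom_ext (LinearMap.ext_ring (by simp [el]))

theorem el_smul (N : ModuleCat.{u} A) (a : A) (n : N) : el N (a • n) = (a • 𝟙 (one A)) ≫ el N n :=
  ModuleCat.hom_ext (LinearMap.ext_ring (by simp [el]))

/-- the free cover -/
abbrev cover (N : ModuleCat.{u} A) : (∐ fun _ : N => one A) ⟶ N := Sigma.desc (el N)

instance (N : ModuleCat.{u} A) : Epi (cover N) := by
  rw [ModuleCat.epi_iff_surjective]
  intro n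
  refine ⟨Sigma.ι (fun _ : N => one A) n (1 : A), ?_⟩
  have h : Sigma.ι (fun _ : N => one A) n ≫ cover N = el N n := Sigma.ι_desc _ _
  exact (ConcreteCategory.congr_hom h (1 : A)).trans (one_smul A n)

theorem span_eq_top (ι : Type u) :
    Submodule.span A (Set.range fun i : ι => Sigma.ι (fun _ : ι => one A) i (1 : A)) = ⊤ := by
  let S := Submodule.span A (Set.range fun i : ι => Sigma.ι (fun _ : ι => one A) i (1 : A))
  have h : (ModuleCat.ofHom S.mkQ : (∐ fun _ : ι => one A) ⟶ ModuleCat.of A _) = 0 := by
    refine Sigma.hom_ext _ _ fun i => ModuleCat.hom_ext (LinearMap.ext_ring ?_)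
    exact (Submodule.Quotient.mk_eq_zero S).2 (Submodule.subset_span ⟨i, rfl⟩)
  refine Submodule.eq_top_iff'.2 fun x => (Submodule.Quotient.mk_eq_zero S).1 ?_
  exact ConcreteCategory.congr_hom h x

variable {C : Type v} [Category.{w} C] [Abelian C] (T : ModuleCat.{u} A ⥤ C) [T.Additive]
  [PreservesColimitsOfSize.{u, u} T]

omit [Abelian C] [T.Additive] in
theorem preservesFiniteColimits : PreservesFiniteColimits T := by
  haveI : PreservesColimitsOfSize.{0, 0} T := preservesColimitsOfSize_shrink.{0, u, 0, u} T
  exact PreservesColimitsOfSize.preservesFiniteColimits T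

theorem epi_map_cover (N : ModuleCat.{u} A) : Epi (T.map (cover N)) :=
  haveI := preservesFiniteColimits T
  inferInstance

theorem hom_ext {N : ModuleCat.{u} A} {X : C} (a b : T.obj N ⟶ X)
    (h : ∀ n : N, T.map (el N n) ≫ a = T.map (el N n) ≫ b) : a = b := by
  haveI := epi_map_cover T N
  rw [← cancel_epi (T.map (cover N))]
  refine (isColimitOfHasCoproductOfPreservesColimit T (fun _ : N => one A)).hom_ext fun ⟨n⟩ => ?_
  change T.map (Sigma.ι (fun _ : N => one A) n) ≫ _ = T.map (Sigma.ι (fun _ : N => one A) n) ≫ _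
  rw [← Category.assoc, ← Category.assoc, ← T.map_comp, Sigma.ι_desc]
  exact h n

theorem exists_desc {N : ModuleCat.{u} A} {X : C} (r : N → (T.obj (one A) ⟶ X))
    (hadd : ∀ m n, r (m + n) = r m + r n) (hsmul : ∀ (a : A) n, r (a • n) = T.map (a • 𝟙 (one A)) ≫ r n) :
    ∃ γ : T.obj N ⟶ X, ∀ n, T.map (el N n) ≫ γ = r n := by
  let L : ModuleCat.{u} A := ∐ fun _ : N => one A
  let hcol := isColimitOfHasCoproductOfPreservesColimit T (fun _ : N => one A)
  let dd : T.obj L ⟶ X := hcol.desc (Cofan.mk X r)
  have hd : ∀ n, T.map (Sigma.ι (fun _ : N => one A) n) ≫ dd = r n := fun n => hcol.fac (Cofan.mk X r) ⟨n⟩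
  have h0 : r 0 = 0 := by simpa using hadd 0 0
  have key : ∀ l : L, T.map (el L l) ≫ dd = r (cover N l) := by
    intro l
    have hl : l ∈ Submodule.span A (Set.range fun i : N => Sigma.ι (fun _ : N => one A) i (1 : A)) := by
      rw [span_eq_top]; trivial
    induction hl using Submodule.span_induction with
    | mem x hx =>
      obtain ⟨n, rfl⟩ := hx
      have hι : el L (Sigma.ι (fun _ : N => one A) n (1 : A)) = Sigma.ι (fun _ : N => one A) n :=
        ModuleCat.hom_ext (LinearMap.ext_ring (one_smul A _))
      have hc : cover N (Sigma.ι (fun _ : N => one A) n (1 : A)) = n :=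
        (ConcreteCategory.congr_hom (Sigma.ι_desc (el N) n) (1 : A)).trans (one_smul A n)
      rw [hι, hd, hc]
    | zero => rw [el_zero, T.map_zero, zero_comp, map_zero, h0]
    | add x y _ _ hx hy => rw [el_add, T.map_add, Preadditive.add_comp, hx, hy, map_add, hadd]
    | smul a x _ hx => rw [el_smul, T.map_comp, Category.assoc, hx, map_smul, hsmul]
  haveI := preservesFiniteColimits T
  let π := cover N
  let hco : IsColimit (CokernelCofork.ofπ π (kernel.condition π)) :=
    Abelian.epiIsCokernelOfKernel (Fork.ofι (kernel.ι π) (by simp)) (kernelIsKernel π)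
  let hT := CokernelCofork.mapIsColimit _ hco T
  have hker : T.map (kernel.ι π) ≫ dd = 0 := by
    refine hom_ext T _ _ fun k => ?_
    rw [← Category.assoc, ← T.map_comp, el_comp, key, comp_zero]
    rw [show cover N (kernel.ι π k) = 0 from ConcreteCategory.congr_hom (kernel.condition π) k, h0]
  obtain ⟨γ, hγ⟩ := CokernelCofork.IsColimit.desc' hT dd hker
  refine ⟨γ, fun n => ?_⟩
  rw [← hd, ← hγ]
  change T.map (el N n) ≫ γ = T.map (Sigma.ι (fun _ : N => one A) n) ≫ T.map π ≫ γ
  rw [← Category.assoc, ← T.map_comp, Sigma.ι_desc]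

end Groth.L10.RelCan.EW
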