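import Groth.Agent.L10.RelCan.CMEnd
import Mathlib.Algebra.Category.ModuleCat.Ext.HasExt
import Mathlib.Algebra.Homology.DerivedCategory.Ext.ExactSequences
import Mathlib.Algebra.Homology.ShortComplex.ModuleCat
import Mathlib.Algebra.Module.FinitePresentation

/-!
Modules without self-extensions, through presentations.
-/

set_option autoImplicit false
set_option linter.style.haveILetI false
set_option maxSynthPendingDepth 4
set_option backward.defeqAttrib.useBackward true
set_option backward.isDefEq.respectTransparency false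
set_option backward.isDefEq.respectTransparency.types false
universe u

open CategoryTheory CategoryTheory.Limits

attribute [local instance] HasDerivedCategory.standard

noncomputable section

namespace Groth.L10.RelCan

open _root_.L02.FibDepth (Semi)

/-- every map from the kernel of a presentation extends -/
def Ext1Zero (R : Type u) [CommRing R] (M : Type u) [AddCommGroup M] [Module R M] : Prop :=
  ∀ (a : ℕ) (π : (Fin a → R) →ₗ[R] M), Function.Surjective π →
    ∀ g : LinearMap.ker π →ₗ[R] M, ∃ h : (Fin a → R) →ₗ[R] M, ∀ k : LinearMap.ker π, h k = g k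

/-- the only cohomology module of an object without self-maps of degree one -/
theorem ext1Zero_of_single {A : Type u} [CommRing A] (K : Dual.D A) (m : ℤ)
    (hz : ∀ i : ℤ, i ≠ m → Subsingleton (Dual.HD A K i))
    (hK : Subsingleton (K ⟶ K⟦(1 : ℤ)⟧)) : Ext1Zero A (Dual.HD A K m) := by
  haveI : K.IsGE m := (DerivedCategory.isGE_iff K m).2 fun i hi =>
    haveI := hz i (by omega); ModuleCat.isZero_of_subsingleton _
  haveI : K.IsLE m := (DerivedCategory.isLE_iff K m).2 fun i hi =>
    haveI := hz i (by omega); ModuleCat.isZero_of_subsingleton _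
  obtain ⟨e₀⟩ := Groth.L10.exists_iso_single_H (A := ModuleCat.{u} A) K m
  let H : ModuleCat.{u} A := (DerivedCategory.homologyFunctor (ModuleCat.{u} A) m).obj K
  let H0 := (DerivedCategory.singleFunctor (ModuleCat.{u} A) 0).obj H
  let e : K⟦m⟧ ≅ H0 := (shiftFunctor _ m).mapIso e₀ ≪≫
    ((DerivedCategory.singleFunctors (ModuleCat.{u} A)).shiftIso m 0 m (by omega)).app H
  haveI : HasExt.{u + 1} (ModuleCat.{u} A) := HasExt.standard _
  haveI : Subsingleton (H0 ⟶ H0⟦(1 : ℤ)⟧) := by
    refine subsingleton_of_forall_eq 0 fun w => ?_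
    obtain ⟨v, hv⟩ := (shiftFunctor (Dual.D A) m).map_surjective
      (e.hom ≫ w ≫ (e.inv)⟦(1 : ℤ)⟧' ≫ (shiftComm K m (1 : ℤ)).hom)
    rw [hK.elim v 0, Functor.map_zero] at hv
    rw [← cancel_epi e.hom, ← cancel_mono ((e.inv)⟦(1 : ℤ)⟧'), ← cancel_mono (shiftComm K m (1 : ℤ)).hom]
    simpa using hv.symm
  haveI : Subsingleton (Abelian.Ext H H 1) := Abelian.Ext.homEquiv.subsingleton
  intro a π hπ g
  have hS := LinearMap.shortExact_shortComplexKer (f := π) hπ
  obtain ⟨x, hx⟩ := Abelian.Ext.contravariant_sequence_exact₁ hS H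
    (Abelian.Ext.mk₀ (ModuleCat.ofHom g : π.shortComplexKer.X₁ ⟶ H)) (add_zero 1)
    (Subsingleton.elim (α := Abelian.Ext H H 1) _ _)
  obtain ⟨h, rfl⟩ := Abelian.Ext.addEquiv₀.symm.surjective x
  rw [Abelian.Ext.addEquiv₀_symm_apply, Abelian.Ext.mk₀_comp_mk₀] at hx
  refine ⟨h.hom, fun k => ?_⟩
  exact LinearMap.congr_fun (congrArg ModuleCat.Hom.hom ((Abelian.Ext.mk₀_bijective _ _).1 hx)) k

/-- localisation -/
theorem Ext1Zero.isLocalized {A : Type u} [CommRing A] [IsNoetherianRing A] {B : Type u} [CommRing B] [Algebra A B]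
    (S : Submonoid A) [IsLocalization S B] {H H' : Type u} [AddCommGroup H] [Module A H] [Module.Finite A H]
    [AddCommGroup H'] [Module A H'] [Module B H'] [IsScalarTower A B H'] (j : H →ₗ[A] H') [IsLocalizedModule S j]
    (h : Ext1Zero A H) : Ext1Zero B H' := by
  obtain ⟨n, π, hπ⟩ := Module.Finite.exists_fin' A H
  let ι : (Fin n → A) →ₗ[A] (Fin n → B) := (Algebra.linearMap A B).compLeft (Fin n)
  let eB := Pi.basisFun B (Fin n)
  let eA := Pi.basisFun A (Fin n)
  let π₀ : (Fin n → B) →ₗ[B] H' := eB.constr B fun i => j (π (eA i))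
  have hιb : ∀ i, ι (eA i) = eB i := fun i => funext fun l => by
    simp [ι, eA, eB, Pi.single_apply, apply_ite (algebraMap A B)]
  have hcomm : ∀ v, π₀ (ι v) = j (π v) := fun v =>
    LinearMap.congr_fun (eA.ext (f₁ := (π₀.restrictScalars A).comp ι) (f₂ := j.comp π) fun i => by
      simp only [LinearMap.comp_apply, LinearMap.coe_restrictScalars, hιb, π₀, Module.Basis.constr_basis]) v
  have hu : ∀ s : S, IsUnit (algebraMap A B s) := fun s => IsLocalization.map_units B s
  have hπ₀ : Function.Surjective π₀ := fun y => by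
    obtain ⟨⟨x, s⟩, hs⟩ := IsLocalizedModule.surj S j y
    obtain ⟨v, rfl⟩ := hπ x
    obtain ⟨c, hc⟩ := hu s
    refine ⟨(c⁻¹ : Bˣ) • ι v, ?_⟩
    rw [Units.smul_def, map_smul, hcomm, ← hs, Submonoid.smul_def, ← IsScalarTower.algebraMap_smul B (s : A) y, ← hc,
      smul_smul, Units.inv_mul, one_smul]
  -- extension along the localised presentation
  have key : ∀ g : LinearMap.ker π₀ →ₗ[B] H', ∃ φ : (Fin n → B) →ₗ[B] H', ∀ k : LinearMap.ker π₀, φ k = g k := by
    intro g
    let incl : LinearMap.ker π →ₗ[A] LinearMap.ker π₀ :=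
      { toFun := fun v => ⟨ι v, by rw [LinearMap.mem_ker, hcomm, LinearMap.mem_ker.1 v.2, map_zero]⟩
        map_add' := fun v w => Subtype.ext (map_add ι (v : Fin n → A) w)
        map_smul' := fun c v => Subtype.ext (map_smul ι c (v : Fin n → A)) }
    haveI : Module.FinitePresentation A (LinearMap.ker π) := Module.finitePresentation_of_finite _ _
    obtain ⟨g', s, hs⟩ := Module.FinitePresentation.exists_lift_of_isLocalizedModule S j
      ((g.restrictScalars A).comp incl)
    obtain ⟨h', hh'⟩ := h n π hπ g'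
    obtain ⟨c, hc⟩ := hu s
    let φ : (Fin n → B) →ₗ[B] H' := eB.constr B fun i => (c⁻¹ : Bˣ) • j (h' (eA i))
    have hφ : ∀ v, φ (ι v) = (c⁻¹ : Bˣ) • j (h' v) := fun v =>
      LinearMap.congr_fun (eA.ext (f₁ := (φ.restrictScalars A).comp ι)
        (f₂ := ((LinearMap.lsmul B H' (c⁻¹ : Bˣ).val).restrictScalars A).comp (j.comp h')) fun i => by
          simp only [LinearMap.comp_apply, LinearMap.coe_restrictScalars, hιb, φ, Module.Basis.constr_basis]
          rfl) v
    have hA : ∀ v : LinearMap.ker π, φ (ι v) = g (incl v) := fun v => by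
      rw [hφ, hh', show j (g' v) = (s : A) • g (incl v) from LinearMap.congr_fun hs v,
        ← IsScalarTower.algebraMap_smul B (s : A) (g (incl v)), ← hc, Units.smul_def, smul_smul, Units.inv_mul, one_smul]
    refine ⟨φ, fun k => ?_⟩
    -- clear denominators
    obtain ⟨t, ht⟩ := IsLocalization.exist_integer_multiples_of_finite S fun i => (k : Fin n → B) i
    choose v hv using ht
    have hvk : ι v = algebraMap A B t • (k : Fin n → B) := funext fun i => by
      simp only [ι, LinearMap.compLeft_apply, Function.comp_apply, Algebra.linearMap_apply, hv, Pi.smul_apply,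
        smul_eq_mul, Algebra.smul_def]
    have h0 : j (π v) = j 0 := by rw [← hcomm, hvk, map_smul, LinearMap.mem_ker.1 k.2, smul_zero, map_zero]
    obtain ⟨t', ht'⟩ := (IsLocalizedModule.eq_iff_exists S j).1 h0
    let v' : LinearMap.ker π := ⟨(t' : A) • v, by
      rw [LinearMap.mem_ker, map_smul, ← Submonoid.smul_def, ht', smul_zero]⟩
    obtain ⟨d, hd⟩ : IsUnit (algebraMap A B t' * algebraMap A B t) := (hu t').mul (hu t)
    have hv' : incl v' = (d : B) • k := Subtype.ext (by
      show ι ((t' : A) • v) = (d : B) • (k : Fin n → B)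
      rw [map_smul, hvk, ← IsScalarTower.algebraMap_smul B (t' : A), smul_smul, hd])
    have h1 := hA v'
    have h1' : φ ((d : B) • (k : Fin n → B)) = g ((d : B) • k) :=
      (congrArg φ (congrArg Subtype.val hv').symm).trans (h1.trans (congrArg g hv'))
    rw [map_smul, map_smul, ← Units.smul_def, ← Units.smul_def] at h1'
    exact (smul_left_cancel_iff d).1 h1'
  -- any other presentation
  intro a π' hπ' g
  obtain ⟨u, hu'⟩ : ∃ u : (Fin a → B) →ₗ[B] (Fin n → B), π₀.comp u = π' :=
    Module.projective_lifting_property π₀ π' hπ₀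
  obtain ⟨w, hw⟩ : ∃ w : (Fin n → B) →ₗ[B] (Fin a → B), π'.comp w = π₀ :=
    Module.projective_lifting_property π' π₀ hπ'
  obtain ⟨φ, hφ⟩ := key (g.comp ((w.comp (LinearMap.ker π₀).subtype).codRestrict _ fun k => by
    rw [LinearMap.mem_ker]
    exact (LinearMap.congr_fun hw (k : Fin n → B)).trans k.2))
  have hd : ∀ x, x - w (u x) ∈ LinearMap.ker π' := fun x => by
    rw [LinearMap.mem_ker, map_sub, ← LinearMap.comp_apply, hw, ← LinearMap.comp_apply, hu', sub_self]
  refine ⟨φ.comp u + g.comp ((LinearMap.id - w.comp u).codRestrict _ hd), fun k => ?_⟩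
  have huk : u k ∈ LinearMap.ker π₀ := by
    rw [LinearMap.mem_ker, ← LinearMap.comp_apply, hu', LinearMap.mem_ker.1 k.2]
  rw [LinearMap.add_apply, LinearMap.comp_apply, LinearMap.comp_apply, hφ ⟨u k, huk⟩, LinearMap.comp_apply, ← map_add]
  exact congrArg g (Subtype.ext (add_sub_cancel (w (u (k : Fin a → B))) (k : Fin a → B)))

/-- transport along a semilinear equivalence over a surjection -/
theorem Ext1Zero.of_semi {R M S N : Type u} [CommRing R] [AddCommGroup M] [Module R M] [CommRing S]
    [AddCommGroup N] [Module S N] (E : Semi R M S N) (h : Ext1Zero R M) : Ext1Zero S N := by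
  intro a π hπ g
  let ι : (Fin a → R) → (Fin a → S) := fun v i => E.φ (v i)
  let eR := Pi.basisFun R (Fin a)
  let eS := Pi.basisFun S (Fin a)
  have hιs : ∀ (r : R) v, ι (r • v) = E.φ r • ι v := fun r v => funext fun i => map_mul E.φ r (v i)
  let π₁ : (Fin a → R) →ₗ[R] M :=
    { toFun := fun v => E.e.symm (π (ι v))
      map_add' := fun v w => by
        rw [show ι (v + w) = ι v + ι w from funext fun i => map_add E.φ (v i) (w i), map_add, map_add]
      map_smul' := fun r v => E.e.injective (by simp [E.map_smul, hιs]) }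
  have hπ₁ : Function.Surjective π₁ := fun x => by
    obtain ⟨w, hw⟩ := hπ (E.e x)
    choose v hv using fun i => E.surj (w i)
    refine ⟨v, ?_⟩
    show E.e.symm (π (ι v)) = x
    rw [show ι v = w from funext hv, hw, E.e.symm_apply_apply]
  have hmem : ∀ v : LinearMap.ker π₁, ι v ∈ LinearMap.ker π := fun v => by
    have := congrArg E.e (LinearMap.mem_ker.1 v.2)
    rwa [map_zero, show π₁ (v : Fin a → R) = E.e.symm (π (ι v)) from rfl, E.e.apply_symm_apply,
      ← LinearMap.mem_ker] at this
  let g₁ : LinearMap.ker π₁ →ₗ[R] M :=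
    { toFun := fun v => E.e.symm (g ⟨ι v, hmem v⟩)
      map_add' := fun v w => by
        rw [← map_add, ← map_add]
        exact congrArg _ (congrArg g (Subtype.ext (funext fun i => map_add E.φ _ _)))
      map_smul' := fun r v => E.e.injective (by
        rw [RingHom.id_apply, E.map_smul, E.e.apply_symm_apply, E.e.apply_symm_apply, ← map_smul]
        exact congrArg g (Subtype.ext (hιs r v))) }
  obtain ⟨h₁, hh₁⟩ := h a π₁ hπ₁ g₁
  let φ : (Fin a → S) →ₗ[S] N := eS.constr S fun i => E.e (h₁ (eR i))
  have hφ : ∀ v, φ (ι v) = E.e (h₁ v) := fun v => by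
    conv_rhs => rw [pi_eq_sum_univ' v]
    rw [pi_eq_sum_univ' (ι v), map_sum, map_sum, map_sum]
    refine Finset.sum_congr rfl fun i _ => ?_
    rw [map_smul, map_smul, E.map_smul]
    have hb : φ (Pi.single i (1 : S)) = E.e (h₁ (Pi.single i (1 : R))) := by
      rw [← Pi.basisFun_apply, ← Pi.basisFun_apply]
      exact eS.constr_basis S (fun i => E.e (h₁ (eR i))) i
    rw [hb]
  refine ⟨φ, fun k => ?_⟩
  choose v hv using fun i => E.surj ((k : Fin a → S) i)
  have hk : ι v = k := funext hv
  have hv1 : v ∈ LinearMap.ker π₁ := by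
    rw [LinearMap.mem_ker]
    show E.e.symm (π (ι v)) = 0
    rw [hk, LinearMap.mem_ker.1 k.2, map_zero]
  rw [← hk, hφ, hh₁ ⟨v, hv1⟩]
  exact (E.e.apply_symm_apply _).trans (congrArg g (Subtype.ext hk))

/-- the criterion over a ring from one for a quotient -/
theorem Ext1Zero.extend_of_semi {R M S N : Type u} [CommRing R] [AddCommGroup M] [Module R M] [CommRing S]
    [AddCommGroup N] [Module S N] (E : Semi R M S N) (I : Ideal R) (hI : RingHom.ker E.φ ≤ I) (h : Ext1Zero S N)
    (a : ℕ) (π : (Fin a → R) →ₗ[R] M) (hπ : Function.Surjective π) (g : LinearMap.ker π →ₗ[R] M)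
    (hg : ∀ k : LinearMap.ker π, (k : Fin a → R) ∈ I • (⊤ : Submodule R (Fin a → R)) → g k = 0) :
    ∃ h : (Fin a → R) →ₗ[R] M, ∀ k : LinearMap.ker π, h k = g k := by
  letI : Algebra R S := E.φ.toAlgebra
  letI : Module R N := Module.compHom N E.φ
  haveI : IsScalarTower R S N := IsScalarTower.of_algebraMap_smul fun _ _ => rfl
  let e : M ≃ₗ[R] N := { E.e with map_smul' := fun r x => E.map_smul r x }
  let ι : (Fin a → R) →ₗ[R] (Fin a → S) := (Algebra.linearMap R S).compLeft (Fin a)
  let eR := Pi.basisFun R (Fin a)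
  let eS := Pi.basisFun S (Fin a)
  let π' : (Fin a → S) →ₗ[S] N := eS.constr S fun i => e (π (eR i))
  have hιb : ∀ i, ι (eR i) = eS i := fun i => funext fun l => by
    simp [ι, eR, eS, Pi.single_apply, apply_ite (algebraMap R S)]
  have hcomm : ∀ v, π' (ι v) = e (π v) := fun v =>
    LinearMap.congr_fun (eR.ext (f₁ := (π'.restrictScalars R).comp ι) (f₂ := e.toLinearMap.comp π) fun i => by
      simp only [LinearMap.comp_apply, LinearMap.coe_restrictScalars, LinearEquiv.coe_coe, hιb, π',
        Module.Basis.constr_basis]) v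
  have hπ' : Function.Surjective π' := fun y => by
    obtain ⟨v, hv⟩ := hπ (e.symm y)
    exact ⟨ι v, by rw [hcomm, hv, e.apply_symm_apply]⟩
  let incl : LinearMap.ker π →ₗ[R] LinearMap.ker π' :=
    { toFun := fun v => ⟨ι v, by rw [LinearMap.mem_ker, hcomm, LinearMap.mem_ker.1 v.2, map_zero]⟩
      map_add' := fun v w => Subtype.ext (map_add ι (v : Fin a → R) w)
      map_smul' := fun c v => Subtype.ext (map_smul ι c (v : Fin a → R)) }
  have hincl : Function.Surjective incl := fun y => by
    choose v hv using fun i => E.surj ((y : Fin a → S) i)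
    have hy : ι v = y := funext hv
    exact ⟨⟨v, LinearMap.mem_ker.2 (e.injective (by rw [← hcomm, hy, LinearMap.mem_ker.1 y.2, map_zero]))⟩,
      Subtype.ext hy⟩
  have hker : LinearMap.ker incl ≤ LinearMap.ker g := fun v hv => by
    refine LinearMap.mem_ker.2 (hg v ?_)
    rw [pi_eq_sum_univ' (v : Fin a → R)]
    refine Submodule.sum_mem _ fun i _ => Submodule.smul_mem_smul (hI (RingHom.mem_ker.2 ?_)) trivial
    exact congrFun (congrArg Subtype.val (LinearMap.mem_ker.1 hv)) i
  let g₀ : LinearMap.ker π' →ₗ[R] N :=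
    e.toLinearMap.comp (((LinearMap.ker incl).liftQ g hker).comp
      (incl.quotKerEquivOfSurjective hincl).symm.toLinearMap)
  have hg₀ : ∀ v, g₀ (incl v) = e (g v) := fun v => by
    show e ((LinearMap.ker incl).liftQ g hker ((incl.quotKerEquivOfSurjective hincl).symm (incl v))) = _
    rw [show incl v = incl.quotKerEquivOfSurjective hincl (Submodule.Quotient.mk v) from rfl,
      LinearEquiv.symm_apply_apply]
    rfl
  obtain ⟨h', hh'⟩ := h a π' hπ'
    { toFun := g₀
      map_add' := map_add g₀
      map_smul' := fun s y => by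
        obtain ⟨r, rfl⟩ := E.surj s
        exact (congrArg g₀ (IsScalarTower.algebraMap_smul S r y)).trans (map_smul g₀ r y) }
  refine ⟨e.symm.toLinearMap.comp ((h'.restrictScalars R).comp ι), fun k => e.injective ?_⟩
  show e (e.symm (h' (ι k))) = e (g k)
  rw [e.apply_symm_apply]
  exact (hh' (incl k)).trans (hg₀ k)

end Groth.L10.RelCan
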