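import Groth.Agent.L10.RelCan.FibreGlue
import Groth.Agent.S18699

/-!
Regular pairs in the local rings at the generisations of a point from one closed fibre.
-/

set_option autoImplicit false
set_option maxSynthPendingDepth 4
set_option linter.style.haveILetI false
set_option linter.unusedSectionVars false
set_option linter.unusedVariables false
set_option backward.defeqAttrib.useBackward true
set_option backward.isDefEq.respectTransparency false
set_option backward.isDefEq.respectTransparency.types false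
universe u

open CategoryTheory CategoryTheory.Limits AlgebraicGeometry TopologicalSpace IsLocalRing
open scoped TensorProduct Pointwise

noncomputable section

namespace Groth.L10.RelCan

/-- a regular pair on a ring stays one in a localisation -/
theorem regular_pair_localization {O : Type u} [CommRing O] {T : Type u} [CommRing T] [Algebra O T] (M : Submonoid O)
    [IsLocalization M T] {b c : O} (hb : IsSMulRegular O b) (hc : IsSMulRegular (QuotSMulTop b O) c) :
    IsSMulRegular T (algebraMap O T b) ∧ IsSMulRegular (QuotSMulTop (algebraMap O T b) T) (algebraMap O T c) := by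
  refine ⟨IsSMulRegular.of_right_eq_zero_of_smul fun x hx => ?_, ?_⟩
  · obtain ⟨r, s, rfl⟩ := IsLocalization.exists_mk'_eq M x
    rw [smul_eq_mul, IsLocalization.mul_mk'_eq_mk'_of_mul, IsLocalization.mk'_eq_zero_iff] at hx
    obtain ⟨t, ht⟩ := hx
    refine (IsLocalization.mk'_eq_zero_iff _ _).2 ⟨t, hb.right_eq_zero_of_smul ?_⟩
    rw [smul_eq_mul, ← ht]; ring
  · refine (isSMulRegular_quotient_iff_mem_of_smul_mem _ _).2 fun x hx => ?_
    obtain ⟨y, -, hy⟩ := (Submodule.mem_smul_pointwise_iff_exists _ _ _).1 hx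
    obtain ⟨r, s, rfl⟩ := IsLocalization.exists_mk'_eq M x
    obtain ⟨r', s', rfl⟩ := IsLocalization.exists_mk'_eq M y
    rw [smul_eq_mul, smul_eq_mul, IsLocalization.mul_mk'_eq_mk'_of_mul, IsLocalization.mul_mk'_eq_mk'_of_mul,
      IsLocalization.eq] at hy
    obtain ⟨t, ht⟩ := hy
    have h1 : (t : O) * s' * r ∈ b • (⊤ : Submodule O O) := by
      refine (isSMulRegular_quotient_iff_mem_of_smul_mem _ _).1 hc _ ?_
      refine (Submodule.mem_smul_pointwise_iff_exists _ _ _).2 ⟨(t : O) * s * r', trivial, ?_⟩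
      rw [smul_eq_mul, smul_eq_mul]
      linear_combination ht
    obtain ⟨w, -, hw⟩ := (Submodule.mem_smul_pointwise_iff_exists _ _ _).1 h1
    refine (Submodule.mem_smul_pointwise_iff_exists _ _ _).2 ⟨IsLocalization.mk' T w (t * s' * s), trivial, ?_⟩
    rw [smul_eq_mul] at hw ⊢
    rw [IsLocalization.mul_mk'_eq_mk'_of_mul, hw, IsLocalization.eq]
    exact ⟨1, by push_cast; ring⟩

variable {X S : Scheme.{u}}

set_option maxHeartbeats 1600000 in
/-- Serre's condition two on one closed fibre gives pairs at every generisation outside an open of codimension two there -/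
theorem exists_pair_generization (f : X ⟶ S) [IsLocallyNoetherian X] [IsLocallyNoetherian S]
    (hS : RelCanon.IsSkMor f 2) (U : X.Opens) (y : X)
    (hdim : ∀ z, z ⤳ y → f z = f y → z ∉ U →
      (2 : WithBot ℕ∞) ≤ ringKrullDim ((f.fiber (f z)).presheaf.stalk (f.asFiber z)))
    (x : X) (hxy : x ⤳ y) (hxU : x ∉ U) :
    ∃ b ∈ maximalIdeal (X.presheaf.stalk x), ∃ c ∈ maximalIdeal (X.presheaf.stalk x),
      IsSMulRegular (X.presheaf.stalk x) b ∧ IsSMulRegular (QuotSMulTop b (X.presheaf.stalk x)) c := by
  haveI := hS.1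
  haveI := hS.2.1
  let O := X.presheaf.stalk y
  let At := S.presheaf.stalk (f y)
  letI := algStalk f y
  haveI := isLocalHom_algStalk f y
  haveI := flat_algStalk f y
  let C : Set (PrimeSpectrum O) := (X.fromSpecStalk y) ⁻¹' (U : Set X)ᶜ
  have hC : IsClosed C := U.2.isClosed_compl.preimage (X.fromSpecStalk y).continuous
  let J : Ideal O := PrimeSpectrum.vanishingIdeal C
  have hJ : ∀ P : PrimeSpectrum O, J ≤ P.asIdeal → X.fromSpecStalk y P ∉ U := fun P hP => by
    have : P ∈ closure C := by
      rw [← PrimeSpectrum.zeroLocus_vanishingIdeal_eq_closure]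
      exact hP
    rwa [hC.closure_eq] at this
  let K := O ⊗[At] (At ⧸ maximalIdeal At)
  haveI : Module.Finite O K := inferInstance
  have hsk : LocCoh.HasSk 2 O K :=
    (skAt_fibre_iff f (Coh.structureModule X) Groth.L16.CohClosedPush.isCoh_structure 2 y O
      (fun a m => Algebra.smul_def a m) (Groth.L15.Ref.strE y).symm).1
      (skAt_of_iso (Groth.L29.LocFree.pullbackUnitIso _).symm (hS.2.2 y))
  have hdepth : (2 : ℕ∞) ≤ LocCoh.idealDepth J K := by
    refine Groth.Agent.S18699.result 2 O K J hsk fun p hp hps => ?_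
    have hI : (maximalIdeal At).map (algebraMap At O) ≤ p.asIdeal :=
      (Core.map_le_annihilator O).trans (Module.annihilator_le_of_mem_support hps)
    obtain ⟨h1, h2, -, h4⟩ := fibreDim f y p.asIdeal hI
    rw [Core.supportDim_of_nowhereZero _ (Core.map_le_annihilator O)
      (fun P0 h0 => ⟨1 ⊗ₜ 1, fun t ht => Core.residue_tmul_ne_zero h0.1.2 ht⟩) p.asIdeal, ← h4]
    exact hdim _ h1 h2 (hJ p hp)
  have hxm : X.fromSpecStalk y (closedPoint O) ∉ U := by
    rw [Scheme.fromSpecStalk_closedPoint]
    exact fun h => hxU (hxy.mem_open U.2 h)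
  have hJm : J ≤ maximalIdeal O :=
    le_trans (PrimeSpectrum.vanishingIdeal_anti_mono (Set.singleton_subset_iff.2 (show closedPoint O ∈ C from hxm)))
      (PrimeSpectrum.vanishingIdeal_singleton _).le
  haveI : Nontrivial K := nontrivial_of_ne ((1 : O) ⊗ₜ[At] (1 : At ⧸ maximalIdeal At)) 0 fun h =>
    Core.residue_tmul_ne_zero (P0 := maximalIdeal O) Core.map_maximalIdeal_le
      (fun h1 => (maximalIdeal.isMaximal O).ne_top ((Ideal.eq_top_iff_one _).2 h1)) (t := (1 : O)) ((one_smul O _).trans h)
  obtain ⟨b, c, hbJ, hcJ, hb, hc⟩ : ∃ b c, b ∈ J ∧ c ∈ J ∧ IsSMulRegular K b ∧ IsSMulRegular (QuotSMulTop b K) c := by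
    rw [LocCoh.idealDepth, if_neg (fun h => Groth.L04.smul_top_ne_top_of_nontrivial (maximalIdeal.isMaximal O).ne_top
      (top_le_iff.1 (h.ge.trans (Submodule.smul_mono hJm le_rfl))))] at hdepth
    have h1 : (1 : ℕ∞) < ⨆ (rs : List O) (_ : RingTheory.Sequence.IsWeaklyRegular K rs ∧ ∀ r ∈ rs, r ∈ J),
        (rs.length : ℕ∞) := lt_of_lt_of_le (by norm_num) hdepth
    simp only [lt_iSup_iff] at h1
    obtain ⟨rs, ⟨hreg, hmem⟩, hlt⟩ := h1
    match rs, hreg, hmem, hlt with
    | [], _, _, hlt => simp at hlt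
    | [_], _, _, hlt => simp at hlt
    | a :: a' :: _, hreg, hmem, _ =>
      rw [RingTheory.Sequence.isWeaklyRegular_cons_iff, RingTheory.Sequence.isWeaklyRegular_cons_iff] at hreg
      exact ⟨a, a', hmem a (by simp), hmem a' (by simp), hreg.1, hreg.2.1⟩
  have hbO : IsSMulRegular O b :=
    ((TensorProduct.AlgebraTensorModule.rid At O O).isSMulRegular_congr b).1 (Hartogs.regular_tensor hb At)
  haveI : Module.Flat At (QuotSMulTop b O) :=
    Groth.L01.ArtinianFlatRegular.flat_quotSMulTop fun L _ _ => Hartogs.regular_tensor hb L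
  obtain ⟨e⟩ := Groth.L01.ArtinianFlatRegular.nonempty_quotSMulTop_tensor (A := At) (M := O) b (At ⧸ maximalIdeal At)
  have hcO : IsSMulRegular (QuotSMulTop b O) c :=
    ((TensorProduct.AlgebraTensorModule.rid At O (QuotSMulTop b O)).isSMulRegular_congr c).1
      (Hartogs.regular_tensor ((e.isSMulRegular_congr c).1 hc) At)
  let P : Ideal O := (maximalIdeal (X.presheaf.stalk x)).comap (X.presheaf.stalkSpecializes hxy).hom
  letI : Algebra O (X.presheaf.stalk x) := (X.presheaf.stalkSpecializes hxy).hom.toAlgebra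
  haveI : IsLocalization P.primeCompl (X.presheaf.stalk x) := isLocalization_spec hxy P rfl
  have hJP : J ≤ P := by
    intro a ha
    have hp : (PrimeSpectrum.comap (X.presheaf.stalkSpecializes hxy).hom (closedPoint (X.presheaf.stalk x))) ∈ C := by
      show X.fromSpecStalk y _ ∉ U
      have e := congrArg (fun φ : Spec (X.presheaf.stalk x) ⟶ X => φ (closedPoint (X.presheaf.stalk x)))
        (Scheme.SpecMap_stalkSpecializes_fromSpecStalk (X := X) hxy)
      rw [show X.fromSpecStalk y (PrimeSpectrum.comap (X.presheaf.stalkSpecializes hxy).hom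
        (closedPoint (X.presheaf.stalk x))) = x from e.trans Scheme.fromSpecStalk_closedPoint]
      exact hxU
    exact (PrimeSpectrum.mem_vanishingIdeal _ _).1 ha _ hp
  obtain ⟨h1, h2⟩ := regular_pair_localization (T := X.presheaf.stalk x) P.primeCompl hbO hcO
  exact ⟨_, hJP hbJ, _, hJP hcJ, h1, h2⟩

end Groth.L10.RelCan
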