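import Groth.Agent.L10.RelCan.FibreGlue

/-!
Hartogs at one point: regular pairs at the generisations outside an open determine the stalk.
-/

set_option autoImplicit false
set_option maxSynthPendingDepth 4
set_option linter.style.haveILetI false
set_option linter.unusedSectionVars false
set_option backward.defeqAttrib.useBackward true
set_option backward.isDefEq.respectTransparency false
set_option backward.isDefEq.respectTransparency.types false
universe u

open CategoryTheory CategoryTheory.Limits AlgebraicGeometry TopologicalSpace IsLocalRing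
open scoped TensorProduct Pointwise

noncomputable section

namespace Groth.L10.RelCan

variable {X : Scheme.{u}}

set_option maxHeartbeats 1600000 in
/-- the stalk at a point is that of the direct image of the restriction to the open -/
theorem bijective_unit_of_pairs [IsLocallyNoetherian X] (U : X.Opens) (G : X.Modules) [Coh.IsQCoh G] [QuasiCompact U.ι]
    (y : X) (h : ∀ x : X, x ⤳ y → x ∉ U →
      ∃ b ∈ maximalIdeal (X.presheaf.stalk x), ∃ c ∈ maximalIdeal (X.presheaf.stalk x),
        IsSMulRegular (G.presheaf.stalk x) b ∧ IsSMulRegular (QuotSMulTop b (G.presheaf.stalk x)) c) :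
    Function.Bijective (stk ((Scheme.Modules.restrictAdjunction U.ι).unit.app G) y) := by
  let η : G ⟶ (Scheme.Modules.pushforward U.ι).obj ((Scheme.Modules.restrictFunctor U.ι).obj G) :=
    (Scheme.Modules.restrictAdjunction U.ι).unit.app G
  haveI : Coh.IsQCoh ((Scheme.Modules.pushforward U.ι).obj ((Scheme.Modules.restrictFunctor U.ι).obj G)) :=
    haveI : Coh.IsQCoh ((Scheme.Modules.restrictFunctor U.ι).obj G) := Scheme.Modules.isQuasicoherent_restrictFunctor _ G
    Groth.L16.QcqsPush.isQCoh_push _ U.ι
  have hgood : ∀ x : X, x ∈ U → Function.Bijective (stk η x) := fun x hx => by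
    have h1 : (Scheme.Modules.restrictFunctor U.ι).map η ≫
        (Scheme.Modules.restrictAdjunction U.ι).counit.app _ = 𝟙 _ :=
      (Scheme.Modules.restrictAdjunction U.ι).left_triangle_components G
    haveI : IsIso ((Scheme.Modules.restrictAdjunction U.ι).counit.app ((Scheme.Modules.restrictFunctor U.ι).obj G)) :=
      inferInstance
    haveI : IsIso ((Scheme.Modules.restrictFunctor U.ι).map η) := IsIso.of_isIso_fac_right h1
    haveI : IsIso ((Groth.L21.Mod.stalkF X (U.ι ⟨x, hx⟩)).map η) :=
      (NatIso.isIso_map_iff (Groth.L21.Mod.restrictStalkF U.ι ⟨x, hx⟩) η).1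
        (inferInstanceAs (IsIso ((Groth.L21.Mod.stalkF _ _).map ((Scheme.Modules.restrictFunctor U.ι).map η))))
    exact (ConcreteCategory.bijective_of_isIso _ :
      Function.Bijective ((Groth.L21.Mod.stalkF X (U.ι ⟨x, hx⟩)).map η))
  haveI := (Groth.L00.AlgQCoh.isQCoh_kernel_cokernel η (show Coh.IsQCoh G from inferInstance)
    (inferInstance : Coh.IsQCoh ((Scheme.Modules.pushforward U.ι).obj ((Scheme.Modules.restrictFunctor U.ι).obj G)))).1
  haveI := (Groth.L00.AlgQCoh.isQCoh_kernel_cokernel η (show Coh.IsQCoh G from inferInstance)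
    (inferInstance : Coh.IsQCoh ((Scheme.Modules.pushforward U.ι).obj ((Scheme.Modules.restrictFunctor U.ι).obj G)))).2
  have hK : ∀ x, x ⤳ y → IsZero ((Groth.L00.Stk.F X x).obj (kernel η)) := fun x => by
    refine generization_induction (P := fun x => x ⤳ y → IsZero ((Groth.L00.Stk.F X x).obj (kernel η))) ?_ x
    intro x hx hxy
    by_cases hxU : x ∈ U
    · haveI : Mono ((Groth.L00.Stk.F X x).map η) := (ModuleCat.mono_iff_injective _).2 (hgood x hxU).1
      exact (isZero_kernel_of_mono ((Groth.L00.Stk.F X x).map η)).of_iso (PreservesKernel.iso _ η)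
    · obtain ⟨b, hbm, c, -, hb, -⟩ := h x hxy hxU
      have hN : NoTors (X.presheaf.stalk x) ((kernel η).presheaf.stalk x) :=
        (noTors_of_regular hbm hb).of_injective (stk (kernel.ι η) x) ((ModuleCat.mono_iff_injective _).1 inferInstance)
      haveI : Subsingleton ((Groth.L00.Stk.F X x).obj (kernel η)) :=
        subsingleton_of_forall_eq 0 fun v => hN v fun a ha =>
          torsion_of_generizations _ x (fun z hz hne => hx z hz hne (hz.trans hxy)) v a ha
      exact ModuleCat.isZero_of_subsingleton _
  have hinj : ∀ x, x ⤳ y → Function.Injective (stk η x) := fun x hxy => by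
    haveI : Mono ((Groth.L00.Stk.F X x).map η) :=
      Preadditive.mono_of_isZero_kernel _ ((hK x hxy).of_iso (PreservesKernel.iso _ η).symm)
    exact (ModuleCat.mono_iff_injective _).1 inferInstance
  have hC : ∀ x, x ⤳ y → IsZero ((Groth.L00.Stk.F X x).obj (cokernel η)) := fun x => by
    refine generization_induction (P := fun x => x ⤳ y → IsZero ((Groth.L00.Stk.F X x).obj (cokernel η))) ?_ x
    intro x hx hxy
    suffices hs : Function.Surjective (stk η x) by
      haveI : Epi ((Groth.L00.Stk.F X x).map η) := (ModuleCat.epi_iff_surjective _).2 hs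
      exact (isZero_cokernel_of_epi ((Groth.L00.Stk.F X x).map η)).of_iso (PreservesCokernel.iso _ η)
    by_cases hxU : x ∈ U
    · exact (hgood x hxU).2
    obtain ⟨b, hbm, c, hcm, hb, hc⟩ := h x hxy hxU
    refine surjective_of_pair hbm hcm hb hc _ (hinj x hxy) (noTors_push_open U _ x hxU) fun r a ha => ?_
    obtain ⟨n, hn⟩ := torsion_of_generizations (cokernel η) x (fun z hz hne => hx z hz hne (hz.trans hxy))
      ((Groth.L00.Stk.F X x).map (cokernel.π η) r) a ha
    refine ⟨n, ?_⟩
    replace hn : (Groth.L00.Stk.F X x).map (cokernel.π η) (a ^ n • r) = 0 := (map_smul _ _ _).trans hn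
    exact ((ShortComplex.exact_of_g_is_cokernel (ShortComplex.mk η (cokernel.π η) (cokernel.condition η))
      (cokernelIsCokernel η)).map (Groth.L00.Stk.F X x)).moduleCat_range_eq_ker.ge (LinearMap.mem_ker.2 hn)
  haveI : Epi ((Groth.L00.Stk.F X y).map η) :=
    Preadditive.epi_of_isZero_cokernel _ ((hC y specializes_rfl).of_iso (PreservesCokernel.iso _ η).symm)
  exact ⟨hinj y specializes_rfl, (ModuleCat.epi_iff_surjective _).1 inferInstance⟩

/-- modules with regular pairs outside an open and isomorphic on it have the same stalk -/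
theorem nonempty_stalkEquiv_of_pairs [IsNoetherian X] (U : X.Opens) (G H : X.Modules) [Coh.IsQCoh G] [Coh.IsQCoh H]
    (y : X)
    (hG : ∀ x : X, x ⤳ y → x ∉ U → ∃ b ∈ maximalIdeal (X.presheaf.stalk x), ∃ c ∈ maximalIdeal (X.presheaf.stalk x),
      IsSMulRegular (G.presheaf.stalk x) b ∧ IsSMulRegular (QuotSMulTop b (G.presheaf.stalk x)) c)
    (hH : ∀ x : X, x ⤳ y → x ∉ U → ∃ b ∈ maximalIdeal (X.presheaf.stalk x), ∃ c ∈ maximalIdeal (X.presheaf.stalk x),
      IsSMulRegular (H.presheaf.stalk x) b ∧ IsSMulRegular (QuotSMulTop b (H.presheaf.stalk x)) c)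
    (e : G.restrict U.ι ≅ H.restrict U.ι) :
    Nonempty ((Groth.L00.Stk.F X y).obj G ≃ₗ[X.presheaf.stalk y] (Groth.L00.Stk.F X y).obj H) :=
  ⟨(LinearEquiv.ofBijective _ (bijective_unit_of_pairs U G y hG)).trans
    ((((Groth.L00.Stk.F X y).mapIso ((Scheme.Modules.pushforward U.ι).mapIso e)).toLinearEquiv).trans
      (LinearEquiv.ofBijective _ (bijective_unit_of_pairs U H y hH)).symm)⟩

/-- relative Serre conditions only depend on the stalk -/
theorem relSkAt_of_stalkEquiv {S : Scheme.{u}} (f : X ⟶ S) [IsLocallyNoetherian X] {F F' : X.Modules} (hF : Coh.IsCoh F)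
    (hF' : Coh.IsCoh F') {k : ℕ} {y : X}
    (e : (Groth.L00.Stk.F X y).obj F' ≃ₗ[X.presheaf.stalk y] (Groth.L00.Stk.F X y).obj F)
    (h : RelCanon.RelSkAt f k F y) : RelCanon.RelSkAt f k F' y := by
  refine ⟨?_, ?_⟩
  · letI := FlatMod.moduleStalkOver f F y
    letI := FlatMod.moduleStalkOver f F' y
    haveI : Module.Flat (S.presheaf.stalk (f y)) (F.presheaf.stalk y) := h.1
    let e' : F'.presheaf.stalk y ≃ₗ[S.presheaf.stalk (f y)] F.presheaf.stalk y :=
      { e.toAddEquiv with map_smul' := fun a v => e.map_smul ((f.stalkMap y).hom a) v }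
    exact Module.Flat.of_linearEquiv e'
  · let M := (Groth.L00.Stk.F X y).obj F
    letI : Module (S.presheaf.stalk (f y)) M := Module.compHom _ (f.stalkMap y).hom
    exact (skAt_fibre_iff f F' hF' k y M (fun a m => rfl) e).2
      ((skAt_fibre_iff f F hF k y M (fun a m => rfl) (LinearEquiv.refl _ _)).1 h.2)

end Groth.L10.RelCan
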