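import Groth.Agent.L10.RelCan.FibreThree
import Groth.Agent.L10.RelCan.GenPairs
import Groth.Agent.L10.RelCan.GenStalk

/-!
A coherent extension of the reflexive power of the fibre makes its double dual satisfy relative Serre condition two.
-/

set_option autoImplicit false
set_option maxSynthPendingDepth 4
set_option linter.style.haveILetI false
set_option linter.unusedSectionVars false
set_option linter.unusedVariables false
set_option backward.defeqAttrib.useBackward true
set_option backward.isDefEq.respectTransparency false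
set_option backward.isDefEq.respectTransparency.types false
universe u

open CategoryTheory CategoryTheory.Limits AlgebraicGeometry TopologicalSpace IsLocalRing
open scoped TensorProduct

noncomputable section

namespace Groth.L10.RelCan

namespace Core

variable {A : Type u} [CommRing A] [IsLocalRing A] {O : Type u} [CommRing O] [Algebra A O] [IsNoetherianRing O]
  {Q : Type u} [AddCommGroup Q] [Module O Q] [Module.Finite O Q]
  {M : Type u} [AddCommGroup M] [Module A M] [Module O M] [IsScalarTower A O M] [Module.Finite O M]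

set_option maxHeartbeats 800000 in
/-- a module with the expected fibre surjects onto the maps out of its dual -/
theorem ev_surjective_of_predual (hD : FibreData A O Q) (e : Q ≃ₗ[O] (M →ₗ[O] O))
    (hM : LocCoh.HasSk 2 O (M ⊗[A] (A ⧸ maximalIdeal A)))
    (dich : ∀ (P : Ideal O) [P.IsPrime], (maximalIdeal A).map (algebraMap A O) ≤ P → Triv (Q := M) P ∨
      (2 : WithBot ℕ∞) ≤ ringKrullDim (Localization.AtPrime P ⧸
        ((maximalIdeal A).map (algebraMap A O)).map (algebraMap O (Localization.AtPrime P)))) :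
    Function.Surjective (ev A O Q (A ⧸ maximalIdeal A)) ∧
      LocCoh.HasSk 2 O (Fn A O Q (A ⧸ maximalIdeal A)) := by
  let μ : M →ₗ[O] (Q →ₗ[O] O) := e.toLinearMap.flip
  let φ : M ⊗[A] (A ⧸ maximalIdeal A) →ₗ[O] Fn A O Q (A ⧸ maximalIdeal A) :=
    (ev A O Q (A ⧸ maximalIdeal A)).comp (TensorProduct.AlgebraTensorModule.map μ LinearMap.id)
  have hφ : ∀ (x : M) (q : Q), φ (x ⊗ₜ 1) q = e q x ⊗ₜ[A] (1 : A ⧸ maximalIdeal A) := fun x q => rfl
  haveI : Module.Finite O (M ⊗[A] (A ⧸ maximalIdeal A)) :=
    Module.Finite.of_surjective ((TensorProduct.AlgebraTensorModule.mk A O M (A ⧸ maximalIdeal A)).flip 1)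
      (exists_tmul_one _)
  have hb : Function.Bijective φ := by
    refine bijective_to_maps' hD φ (map_le_annihilator _) hM fun P _ hP => (dich P hP).imp_left ?_
    rintro ⟨m0, ε, hs, hm⟩
    let q0 : Q := e.symm ε
    have hq : ∀ q : Q, e q0 m0 • q = e q m0 • q0 := fun q => e.injective (LinearMap.ext fun x => by
      rw [map_smul, map_smul, LinearMap.smul_apply, LinearMap.smul_apply, e.apply_symm_apply, ← map_smul (e q),
        hm x, map_smul, smul_eq_mul, smul_eq_mul, mul_comm])
    have hs' : e q0 m0 ∉ P := by rwa [e.apply_symm_apply]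
    refine ⟨⟨q0, (LinearMap.applyₗ m0).comp e.toLinearMap, hs', hq⟩, fun z hz => ?_, fun g => ?_⟩
    · obtain ⟨x, rfl⟩ := exists_tmul_one _ z
      refine ⟨ε m0, hs, ?_⟩
      have h1 : ε x ∈ (maximalIdeal A).map (algebraMap A O) := by
        have h2 := LinearMap.congr_fun hz q0
        rw [hφ, e.apply_symm_apply] at h2
        exact tmul_one_eq_zero _ h2
      rw [TensorProduct.smul_tmul', hm x, ← TensorProduct.smul_tmul']
      exact Module.mem_annihilator.1 (map_le_annihilator _ h1) _
    · obtain ⟨o, ho⟩ := exists_tmul_one _ (g q0)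
      refine ⟨e q0 m0, hs', (o • m0) ⊗ₜ 1, LinearMap.ext fun q => ?_⟩
      rw [hφ, LinearMap.smul_apply, ← map_smul, hq q, map_smul g, ← ho, TensorProduct.smul_tmul', map_smul, smul_eq_mul,
        smul_eq_mul, mul_comm]
  exact ⟨fun g => let ⟨z, hz⟩ := hb.2 g; ⟨_, hz⟩, hasSk_congr (LinearEquiv.ofBijective φ hb) hM⟩

end Core

variable {X S : Scheme.{u}}

set_option maxHeartbeats 1600000 in
/-- double duals of extensions of sheaves with Serre's condition two on the fibre satisfy it relatively -/
theorem relSkAt_ddual_of_fibre [IsLocallyNoetherian X] [IsLocallyNoetherian S] (f : X ⟶ S) [Flat f] [LocallyOfFiniteType f]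
    (hS : RelCanon.IsSkMor f 2) {M : X.Modules} (hMc : Coh.IsCoh M) (y : X)
    (hinvM : ∀ z, z ∈ RelCanon.gorLocus f → RelCanon.InvertibleAt M z)
    (hinvG : ∀ z, z ∈ RelCanon.gorLocus f → RelCanon.InvertibleAt (RefHull.dual M) z)
    (hcod : ∀ z, z ⤳ y → f z = f y → z ∉ RelCanon.gorLocus f →
      (2 : WithBot ℕ∞) ≤ ringKrullDim ((f.fiber (f z)).presheaf.stalk (f.asFiber z)))
    (hM2 : RelCanon.SkAt 2 ((Scheme.Modules.pullback (f.fiberι (f y))).obj M) (f.asFiber y)) :
    RelCanon.RelSkAt f 2 (RefHull.ddual M) y := by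
  let At := S.presheaf.stalk (f y)
  let O := X.presheaf.stalk y
  letI := algStalk f y
  have hGc : Coh.IsCoh (RefHull.dual M) := Groth.L15.Ref.isCoh_dual hMc
  let Q := (Groth.L00.Stk.F X y).obj (RefHull.dual M)
  let My := (Groth.L00.Stk.F X y).obj M
  haveI : Module.Finite O Q := Groth.L06.SupportStalk.finite_stalk _ hGc y
  haveI : Module.Finite O My := Groth.L06.SupportStalk.finite_stalk _ hMc y
  letI : Module At My := Module.compHom _ (f.stalkMap y).hom
  haveI : IsScalarTower At O My := IsScalarTower.of_algebraMap_smul fun _ _ => rfl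
  obtain ⟨h1, h2⟩ := Core.ev_surjective_of_predual (fibreData f hS hGc y hinvG hcod) (dualStalk hMc y)
    ((skAt_fibre_iff f M hMc 2 y My (fun _ _ => rfl) (LinearEquiv.refl _ _)).1 hM2)
    (fun P _ hP => fibreDich f hMc y hinvM 2 hcod P hP)
  exact relSkAt_of_ev_surjective f hGc y h1 h2

/-- coherent extensions of the restriction of a sheaf with the same stalk -/
theorem relSkAt_of_restrict_iso [IsNoetherian X] [IsLocallyNoetherian S] (f : X ⟶ S) (hS : RelCanon.IsSkMor f 2)
    (U : X.Opens) {P P' : X.Modules} (hP : Coh.IsCoh P) (hP' : Coh.IsCoh P') (y : X)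
    (hdim : ∀ z, z ⤳ y → f z = f y → z ∉ U →
      (2 : WithBot ℕ∞) ≤ ringKrullDim ((f.fiber (f z)).presheaf.stalk (f.asFiber z)))
    (e : (RefHull.ddual P').restrict U.ι ≅ (RefHull.ddual P).restrict U.ι)
    (h : RelCanon.RelSkAt f 2 (RefHull.ddual P) y) : RelCanon.RelSkAt f 2 (RefHull.ddual P') y := by
  have hc := Groth.L15.Ref.isCoh_dual (Groth.L15.Ref.isCoh_dual hP)
  have hc' := Groth.L15.Ref.isCoh_dual (Groth.L15.Ref.isCoh_dual hP')
  haveI : Coh.IsQCoh (RefHull.ddual P) := hc.1
  haveI : Coh.IsQCoh (RefHull.ddual P') := hc'.1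
  obtain ⟨σ⟩ := nonempty_stalkEquiv_of_pairs U (RefHull.ddual P') (RefHull.ddual P) y
    (fun x hx hxU => pairs_ddual P' hP' x (exists_pair_generization f hS U y hdim x hx hxU))
    (fun x hx hxU => pairs_ddual P hP x (exists_pair_generization f hS U y hdim x hx hxU)) e
  exact relSkAt_of_stalkEquiv f hc hc' σ h

end Groth.L10.RelCan
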