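import Groth.Agent.L10.RelCan.Ext1
import Groth.Agent.L10.RelCan.DepthThree
import Groth.Agent.L10.RelCan.CMEnd

/-!
No self-extensions across primes of depth three.
-/

set_option autoImplicit false
set_option maxSynthPendingDepth 4
set_option linter.style.haveILetI false
set_option linter.unusedSectionVars false
set_option linter.unusedVariables false
set_option backward.defeqAttrib.useBackward true
set_option backward.isDefEq.respectTransparency false
set_option backward.isDefEq.respectTransparency.types false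
universe u

open IsLocalRing
open scoped TensorProduct Pointwise

noncomputable section

namespace Groth.L10.RelCan

open Core (PairAt RegAt)

variable {R : Type u} [CommRing R] {P : Ideal R} [P.IsPrime]

/-- elementwise pairs from pairs on any localisation -/
theorem pairAt_of_regular {T : Type u} [CommRing T] [Algebra R T] [IsLocalization P.primeCompl T]
    {X XT : Type u} [AddCommGroup X] [Module R X] [AddCommGroup XT] [Module R XT] [Module T XT] [IsScalarTower R T XT]
    (g : X →ₗ[R] XT) [IsLocalizedModule P.primeCompl g] {β γ : R}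
    (hb : IsSMulRegular XT (algebraMap R T β)) (hc : IsSMulRegular (QuotSMulTop (algebraMap R T β) XT) (algebraMap R T γ)) :
    PairAt P β γ X := by
  have hu : ∀ (t : R), t ∉ P → ∀ v w : XT, t • v = t • w → v = w := fun t ht v w h =>
    ((Module.End.isUnit_iff _).1 (IsLocalizedModule.map_units g (⟨t, ht⟩ : P.primeCompl))).1 h
  have hker : ∀ z : X, g z = 0 → ∃ t ∉ P, t • z = 0 := fun z hz => by
    obtain ⟨⟨t, ht⟩, e⟩ := IsLocalizedModule.exists_of_eq (S := P.primeCompl) (hz.trans (map_zero g).symm)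
    exact ⟨t, ht, e.trans (smul_zero _)⟩
  refine ⟨fun x ⟨t, ht, h0⟩ => hker x ?_, fun x y ⟨t, ht, h0⟩ => ?_⟩
  · refine hb.right_eq_zero_of_smul ?_
    rw [algebraMap_smul, ← map_smul]
    exact hu t ht _ _ (by rw [← map_smul, h0, map_zero, smul_zero])
  · have h1 : γ • g x = β • g y := by
      rw [← map_smul, ← map_smul, ← sub_eq_zero, ← map_sub]
      exact hu t ht _ _ (by rw [← map_smul, h0, map_zero, smul_zero])
    have h2 : g x ∈ algebraMap R T β • (⊤ : Submodule T XT) := by
      refine (isSMulRegular_quotient_iff_mem_of_smul_mem _ _).1 hc (g x) ?_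
      refine (Submodule.mem_smul_pointwise_iff_exists _ _ _).2 ⟨g y, trivial, ?_⟩
      rw [algebraMap_smul, algebraMap_smul, h1]
    obtain ⟨w, -, hw⟩ := (Submodule.mem_smul_pointwise_iff_exists _ _ _).1 h2
    rw [algebraMap_smul] at hw
    obtain ⟨⟨z, s⟩, hs⟩ := IsLocalizedModule.surj P.primeCompl g w
    change (s : R) • w = g z at hs
    obtain ⟨t', ht', h3⟩ := hker ((s : R) • x - β • z) (by
      rw [map_sub, map_smul, map_smul, ← hs, ← hw, smul_comm, sub_self])
    exact ⟨t' • z, t' * s, Core.mul_notMem ht' s.2, by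
      rw [smul_sub, sub_eq_zero] at h3
      rw [mul_smul, h3, smul_comm]⟩

set_option maxHeartbeats 800000 in
/-- extension up to a non-member, from no self-extensions of the localisation -/
theorem exists_smul_extend [IsNoetherianRing R] {T : Type u} [CommRing T] [Algebra R T] [IsLocalization P.primeCompl T]
    {M MT : Type u} [AddCommGroup M] [Module R M] [AddCommGroup MT] [Module R MT] [Module T MT] [IsScalarTower R T MT]
    (j : M →ₗ[R] MT) [IsLocalizedModule P.primeCompl j] (hT : Ext1Zero T MT) {a : ℕ} (π : (Fin a → R) →ₗ[R] M)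
    (hπ : Function.Surjective π) (g : LinearMap.ker π →ₗ[R] M) :
    ∃ t ∉ P, ∃ h : (Fin a → R) →ₗ[R] M, ∀ k : LinearMap.ker π, h k = t • g k := by
  let S := P.primeCompl
  let ι : (Fin a → R) →ₗ[R] (Fin a → T) := (Algebra.linearMap R T).compLeft (Fin a)
  let eR := Pi.basisFun R (Fin a)
  let eT := Pi.basisFun T (Fin a)
  let πT : (Fin a → T) →ₗ[T] MT := eT.constr T fun i => j (π (eR i))
  have hιb : ∀ i, ι (eR i) = eT i := fun i => funext fun l => by
    simp [ι, eR, eT, Pi.single_apply, apply_ite (algebraMap R T)]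
  have hcomm : ∀ v, πT (ι v) = j (π v) := fun v =>
    LinearMap.congr_fun (eR.ext (f₁ := (πT.restrictScalars R).comp ι) (f₂ := j.comp π) fun i => by
      simp only [LinearMap.comp_apply, LinearMap.coe_restrictScalars, hιb, πT, Module.Basis.constr_basis]) v
  have hu : ∀ s : S, IsUnit (algebraMap R T s) := fun s => IsLocalization.map_units T s
  have hunit : ∀ (N : Type u) [AddCommGroup N] [Module R N] [Module T N] [IsScalarTower R T N] (s : S),
      Function.Bijective fun v : N => (s : R) • v := fun N _ _ _ _ s => by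
    obtain ⟨c, hc⟩ := hu s
    have : (fun v : N => (s : R) • v) = fun v => (c : T) • v := funext fun v => by
      rw [hc, algebraMap_smul]
    rw [this]
    exact ⟨fun v w h => by
        have h' := congrArg (fun z : N => ((c⁻¹ : Tˣ) : T) • z) h
        simpa only [smul_smul, Units.inv_mul, one_smul] using h',
      fun v => ⟨((c⁻¹ : Tˣ) : T) • v, by simp only [smul_smul, Units.mul_inv, one_smul]⟩⟩
  have hπT : Function.Surjective πT := fun y => by
    obtain ⟨⟨x, s⟩, hs⟩ := IsLocalizedModule.surj S j y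
    obtain ⟨v, rfl⟩ := hπ x
    obtain ⟨c, hc⟩ := hu s
    refine ⟨(c⁻¹ : Tˣ) • ι v, ?_⟩
    rw [Units.smul_def, map_smul, hcomm, ← hs, Submonoid.smul_def, ← IsScalarTower.algebraMap_smul T (s : R) y, ← hc,
      smul_smul, Units.inv_mul, one_smul]
  let incl : LinearMap.ker π →ₗ[R] LinearMap.ker πT :=
    { toFun := fun v => ⟨ι v, by rw [LinearMap.mem_ker, hcomm, LinearMap.mem_ker.1 v.2, map_zero]⟩
      map_add' := fun v w => Subtype.ext (map_add ι (v : Fin a → R) w)
      map_smul' := fun c v => Subtype.ext (map_smul ι c (v : Fin a → R)) }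
  haveI : IsLocalizedModule S incl := by
    refine ⟨fun s => (Module.End.isUnit_iff _).2 (hunit _ s), fun k => ?_, fun {v w} h => ?_⟩
    · obtain ⟨t, ht⟩ := IsLocalization.exist_integer_multiples_of_finite S fun i => (k : Fin a → T) i
      choose v hv using ht
      have hvk : ι v = (t : R) • (k : Fin a → T) := funext fun i => hv i
      have h0 : j (π v) = j 0 := by
        rw [← hcomm, hvk, ← algebraMap_smul T (t : R), map_smul, LinearMap.mem_ker.1 k.2, smul_zero, map_zero]
      obtain ⟨t', ht'⟩ := (IsLocalizedModule.eq_iff_exists S j).1 h0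
      refine ⟨⟨⟨(t' : R) • v, by rw [LinearMap.mem_ker, map_smul, ← Submonoid.smul_def, ht', smul_zero]⟩, t' * t⟩,
        Subtype.ext ?_⟩
      show ((t' * t : S) : R) • (k : Fin a → T) = ι ((t' : R) • v)
      rw [map_smul, hvk, Submonoid.coe_mul, mul_smul]
    · have h' : ∀ i, ∃ c : S, (c : R) * (v : Fin a → R) i = (c : R) * (w : Fin a → R) i := fun i =>
        (IsLocalization.eq_iff_exists S T).1 (congrFun (congrArg Subtype.val h) i)
      choose c hc using h'
      refine ⟨∏ i, c i, Subtype.ext (funext fun i => ?_)⟩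
      show ((∏ i, c i : S) : R) * (v : Fin a → R) i = ((∏ i, c i : S) : R) * (w : Fin a → R) i
      rw [Submonoid.coe_finsetProd, ← Finset.prod_erase_mul _ _ (Finset.mem_univ i), mul_assoc, hc, ← mul_assoc]
  have hMT : ∀ s : S, IsUnit ((algebraMap R (Module.End R MT)) s) := fun s => (Module.End.isUnit_iff _).2 (hunit _ s)
  let gR : LinearMap.ker πT →ₗ[R] MT := IsLocalizedModule.lift S incl (j.comp g) hMT
  have hgR : ∀ k, gR (incl k) = j (g k) := fun k =>
    LinearMap.congr_fun (IsLocalizedModule.lift_comp S incl (j.comp g) hMT) k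
  obtain ⟨hT', hh⟩ := hT a πT hπT (gR.extendScalarsOfIsLocalization S T)
  choose z hz using fun i => IsLocalizedModule.surj S j (hT' (eT i))
  obtain ⟨s, hs, hsd⟩ := Core.exists_prod_notMem (P := P) (fun i => ((z i).2 : R)) fun i => (z i).2.2
  choose c hc using hsd
  let h₀ : (Fin a → R) →ₗ[R] M := eR.constr R fun i => c i • (z i).1
  have hh₀ : ∀ v, j (h₀ v) = s • hT' (ι v) := fun v =>
    LinearMap.congr_fun (eR.ext (f₁ := j.comp h₀) (f₂ := s • (hT'.restrictScalars R).comp ι) fun i => by
      simp only [LinearMap.comp_apply, LinearMap.smul_apply, LinearMap.coe_restrictScalars, hιb, h₀,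
        Module.Basis.constr_basis, map_smul]
      rw [← hz i, Submonoid.smul_def, smul_smul, ← hc i]) v
  obtain ⟨m, r, hr⟩ := Submodule.fg_iff_exists_fin_generating_family.1
    (IsNoetherian.noetherian (⊤ : Submodule R (LinearMap.ker π)))
  have hd : ∀ l, ∃ t : S, (t : R) • (h₀ (r l) - s • g (r l)) = 0 := fun l => by
    obtain ⟨t, ht⟩ := (IsLocalizedModule.eq_zero_iff S j).1 (show j (h₀ (r l) - s • g (r l)) = 0 by
      rw [map_sub, map_smul, hh₀, sub_eq_zero]
      refine congrArg (s • ·) ?_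
      exact ((hh (incl (r l))).trans (hgR (r l))))
    exact ⟨t, ht⟩
  choose t ht using hd
  obtain ⟨u, hu', hud⟩ := Core.exists_prod_notMem (P := P) (fun l => (t l : R)) fun l => (t l).2
  choose e he using hud
  have heq : u • h₀.comp (LinearMap.ker π).subtype = (u * s) • g := LinearMap.ext_on_range hr fun l => by
    show u • h₀ (r l) = (u * s) • g (r l)
    rw [mul_smul, ← sub_eq_zero, ← smul_sub, he l, mul_smul, ht, smul_zero]
  exact ⟨u * s, Core.mul_notMem hu' hs, u • h₀, fun k => LinearMap.congr_fun heq k⟩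

set_option maxHeartbeats 1600000 in
/-- no self-extensions, from the primes without them and primes of depth three -/
theorem ext1Zero_of_primes [IsNoetherianRing R] {M : Type u} [AddCommGroup M] [Module R M] [Module.Finite R M]
    (hend : EndIsScalar R M)
    (h : ∀ (P : Ideal R) [P.IsPrime],
      (∀ (a : ℕ) (π : (Fin a → R) →ₗ[R] M), Function.Surjective π → ∀ g : LinearMap.ker π →ₗ[R] M,
        ∃ t ∉ P, ∃ h : (Fin a → R) →ₗ[R] M, ∀ k : LinearMap.ker π, h k = t • g k) ∨
      (Nontrivial (LocalizedModule P.primeCompl R) ∧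
        (3 : ℕ∞) ≤ LocCoh.depth (Localization.AtPrime P) (LocalizedModule P.primeCompl R) ∧
        ∃ β ∈ P, ∃ γ ∈ P, PairAt P β γ R ∧ PairAt P β γ M)) : Ext1Zero R M := by
  intro a π hπ g
  haveI hwf : WellFoundedLT (PrimeSpectrum R) :=
    StrictMono.wellFoundedLT (f := fun Q : PrimeSpectrum R => Q.asIdeal.height)
      fun Q R hlt => Ideal.height_strict_mono_of_isPrime hlt
  let T : ((Fin a → R) →ₗ[R] M) →ₗ[R] (LinearMap.ker π →ₗ[R] M) :=
    LinearMap.lcomp R M (LinearMap.ker π).subtype
  let 𝔞 : Ideal R := (LinearMap.range T).comap (LinearMap.toSpanSingleton R _ g)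
  have hmem : ∀ r : R, r ∈ 𝔞 ↔ ∃ h : (Fin a → R) →ₗ[R] M, ∀ k : LinearMap.ker π, h k = r • g k := fun r =>
    ⟨fun ⟨h, hh⟩ => ⟨h, fun k => LinearMap.congr_fun hh k⟩, fun ⟨h, hh⟩ => ⟨h, LinearMap.ext hh⟩⟩
  have key : ∀ P : PrimeSpectrum R, ¬ 𝔞 ≤ P.asIdeal := by
    intro P
    induction P using hwf.induction with
    | _ P ih =>
    intro hle
    rcases h P.asIdeal with hlift | ⟨hnt, hdepth, β, hβ, γ, hγ, hpR, hpM⟩
    · obtain ⟨t, ht, h', hh'⟩ := hlift a π hπ g
      exact ht (hle ((hmem t).2 ⟨h', hh'⟩))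
    let P' := P.asIdeal
    have hlow : ∀ x ∈ P', ∃ n : ℕ, ∃ t ∉ P', t * x ^ n ∈ 𝔞 := fun x hx =>
      Core.exists_pow_mul_mem 𝔞 P' (fun Q hQ hlt => ih ⟨Q, hQ⟩ hlt) hx
    obtain ⟨n1, t1, ht1, hb1⟩ := hlow β hβ
    obtain ⟨n2, t2, ht2, hb2⟩ := hlow γ hγ
    have hB1 : t1 * t2 * β ^ (n1 + 1) ∈ 𝔞 := by
      have := Ideal.mul_mem_left 𝔞 (t2 * β) hb1
      convert this using 1
      ring
    have hC1 : t1 * t2 * γ ^ (n2 + 1) ∈ 𝔞 := by
      have := Ideal.mul_mem_left 𝔞 (t1 * γ) hb2
      convert this using 1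
      ring
    have hβn : β ^ (n1 + 1) ∈ P' := Ideal.pow_mem_of_mem P' hβ _ n1.succ_pos
    have hγn : γ ^ (n2 + 1) ∈ P' := Ideal.pow_mem_of_mem P' hγ _ n2.succ_pos
    have hRB : PairAt P' (β ^ (n1 + 1)) (γ ^ (n2 + 1)) R := (hpR.pow_left (n1 + 1)).pow_right (n2 + 1)
    have hMB : PairAt P' (β ^ (n1 + 1)) (γ ^ (n2 + 1)) M := (hpM.pow_left (n1 + 1)).pow_right (n2 + 1)
    generalize β ^ (n1 + 1) = B at hβn hRB hMB hB1
    generalize γ ^ (n2 + 1) = C at hγn hRB hMB hC1
    obtain ⟨H1, hH1⟩ := (hmem _).1 hB1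
    obtain ⟨H2, hH2⟩ := (hmem _).1 hC1
    -- maps killing the kernel are scalars after the presentation
    have hscal : ∀ D : (Fin a → R) →ₗ[R] M, (∀ k : LinearMap.ker π, D k = 0) → ∃ e : R, D = e • π := fun D hD => by
      obtain ⟨e, he⟩ := hend.2 (((LinearMap.ker π).liftQ D fun k hk => LinearMap.mem_ker.2 (hD ⟨k, hk⟩)).comp
        (π.quotKerEquivOfSurjective hπ).symm.toLinearMap)
      refine ⟨e, LinearMap.ext fun v => ?_⟩
      have h1 := LinearMap.congr_fun he (π v)
      simp only [LinearMap.smul_apply, LinearMap.id_apply, LinearMap.comp_apply] at h1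
      rw [LinearMap.smul_apply, h1]
      show D v = (LinearMap.ker π).liftQ D _ ((π.quotKerEquivOfSurjective hπ).symm (π v))
      rw [show π v = π.quotKerEquivOfSurjective hπ (Submodule.Quotient.mk v) from rfl, LinearEquiv.symm_apply_apply]
      rfl
    obtain ⟨e, he⟩ := hscal (C • H1 - B • H2) fun k => by
      rw [LinearMap.sub_apply, LinearMap.smul_apply, LinearMap.smul_apply, hH1, hH2, smul_smul, smul_smul, ← sub_smul,
        show C * (t1 * t2 * B) - B * (t1 * t2 * C) = 0 by ring, zero_smul]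
    obtain ⟨s, hs, x, y, hxy⟩ := Core.exists_mem_of_torsion hnt hdepth hβn hγn hRB e fun r hr => by
      obtain ⟨n, t', ht', hh⟩ := hlow r hr
      obtain ⟨H, hH⟩ := (hmem _).1 hh
      obtain ⟨x1, hx1⟩ := hscal ((t' * r ^ n) • H1 - (t1 * t2 * B) • H) fun k => by
        rw [LinearMap.sub_apply, LinearMap.smul_apply, LinearMap.smul_apply, hH1, hH, smul_smul, smul_smul, mul_comm,
          sub_self]
      obtain ⟨x2, hx2⟩ := hscal ((t' * r ^ n) • H2 - (t1 * t2 * C) • H) fun k => by
        rw [LinearMap.sub_apply, LinearMap.smul_apply, LinearMap.smul_apply, hH2, hH, smul_smul, smul_smul, mul_comm,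
          sub_self]
      refine ⟨n, t', ht', -x2, x1, hend.1 (LinearMap.ext fun m => ?_)⟩
      obtain ⟨v, rfl⟩ := hπ m
      have e1 := LinearMap.congr_fun hx1 v
      have e2 := LinearMap.congr_fun hx2 v
      have e0 := LinearMap.congr_fun he v
      simp only [LinearMap.sub_apply, LinearMap.smul_apply, LinearMap.id_apply, smul_eq_mul] at e0 e1 e2 ⊢
      rw [mul_smul, ← e0, add_smul, mul_smul B, mul_smul C, neg_smul, ← e1, ← e2]
      module
    -- the final pair
    let u := s • H1 - y • π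
    let w := s • H2 + x • π
    have hpH : PairAt P' B C ((Fin a → R) →ₗ[R] M) := hMB.hom
    obtain ⟨z, s', hs', hz⟩ := hpH.2 u w ⟨1, fun h1 => P.2.ne_top ((Ideal.eq_top_iff_one _).2 h1), by
      rw [one_smul]
      show C • (s • H1 - y • π) - B • (s • H2 + x • π) = 0
      have : s • (C • H1 - B • H2) = (B * x + C * y) • π := by
        rw [he, smul_smul]
        exact congrArg (fun r : R => r • π) (by simpa only [smul_eq_mul] using hxy)
      linear_combination (norm := module) this⟩
    have hzk : ∀ k : LinearMap.ker π, B • (z k - (s' * s * (t1 * t2)) • g k) = 0 := fun k => by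
      have h1 := LinearMap.congr_fun hz k
      simp only [u, LinearMap.smul_apply, LinearMap.sub_apply, LinearMap.mem_ker.1 k.2, smul_zero, sub_zero] at h1
      rw [smul_sub, ← h1, hH1, smul_smul, smul_smul, smul_smul, ← sub_smul,
        show s' * s * (t1 * t2 * B) - B * (s' * s * (t1 * t2)) = 0 by ring, zero_smul]
    obtain ⟨m, r, hr⟩ := Submodule.fg_iff_exists_fin_generating_family.1
      (IsNoetherian.noetherian (⊤ : Submodule R (LinearMap.ker π)))
    choose t ht hk using fun l => hMB.1 (z (r l) - (s' * s * (t1 * t2)) • g (r l))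
      ⟨1, fun h1 => P.2.ne_top ((Ideal.eq_top_iff_one _).2 h1), by rw [one_smul, hzk]⟩
    obtain ⟨v, hv, hvd⟩ := Core.exists_prod_notMem t ht
    choose c hc using hvd
    have heq : v • z.comp (LinearMap.ker π).subtype = (v * (s' * s * (t1 * t2))) • g := LinearMap.ext_on_range hr fun l => by
      show v • z (r l) = (v * (s' * s * (t1 * t2))) • g (r l)
      rw [mul_smul, ← sub_eq_zero, ← smul_sub, hc l, mul_smul, hk, smul_zero]
    exact Core.mul_notMem hv (Core.mul_notMem (Core.mul_notMem hs' hs) (Core.mul_notMem ht1 ht2))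
      (hle ((hmem _).2 ⟨v • z, fun k => LinearMap.congr_fun heq k⟩))
  by_cases htop : 𝔞 = ⊤
  · obtain ⟨h', hh⟩ := (hmem 1).1 (htop ▸ trivial)
    exact ⟨h', fun k => (hh k).trans (one_smul R _)⟩
  · obtain ⟨m, hm, hle⟩ := Ideal.exists_le_maximal 𝔞 htop
    exact absurd hle (key ⟨m, hm.isPrime⟩)

end Groth.L10.RelCan
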