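import Groth.Agent.L10.RelCan.DepthSheaf
import Groth.Agent.L10.RelCan.ExtLift
import Groth.Agent.L15.Ref.FreeLocus

/-!
Regular pairs at points where a module is the direct image of its restriction to an open.
-/

set_option autoImplicit false
set_option maxSynthPendingDepth 4
set_option linter.style.haveILetI false
set_option linter.unusedSectionVars false
set_option linter.unusedVariables false
set_option backward.defeqAttrib.useBackward true
set_option backward.isDefEq.respectTransparency false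
set_option backward.isDefEq.respectTransparency.types false
universe u

open CategoryTheory CategoryTheory.Limits AlgebraicGeometry TopologicalSpace IsLocalRing
open scoped TensorProduct Pointwise
open Groth.L18.Frame (rs rs_rs)
open Groth.L20.ModStalk (germ_rs)

noncomputable section

namespace Groth.L10.RelCan

open Core (PairAt)

variable {X : Scheme.{u}}

set_option maxHeartbeats 1600000 in
/-- a regular pair of local rings spreads to a neighbourhood -/
theorem exists_nhd_regular_pair [IsLocallyNoetherian X] (x : X) {b c : X.presheaf.stalk x}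
    (hb : IsSMulRegular (X.presheaf.stalk x) b) (hc : IsSMulRegular (QuotSMulTop b (X.presheaf.stalk x)) c) :
    ∃ (N : X.Opens) (hxN : x ∈ N) (β γ : Γ(X, N)), X.presheaf.germ N x hxN β = b ∧ X.presheaf.germ N x hxN γ = c ∧
      ∀ (z : X) (hz : z ∈ N), IsSMulRegular (X.presheaf.stalk z) (X.presheaf.germ N z hz β) ∧
        IsSMulRegular (QuotSMulTop (X.presheaf.germ N z hz β) (X.presheaf.stalk z)) (X.presheaf.germ N z hz γ) := by
  obtain ⟨W₁, hW₁, β₁, rfl⟩ := TopCat.Presheaf.exists_germ_eq (F := X.presheaf) (x := x) b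
  obtain ⟨W₂, hW₂, γ₂, rfl⟩ := TopCat.Presheaf.exists_germ_eq (F := X.presheaf) (x := x) c
  obtain ⟨V, hV, hxV, hVW⟩ := exists_isAffineOpen_mem_and_subset (x := x) (U := W₁ ⊓ W₂) ⟨hW₁, hW₂⟩
  have h₁ : V ≤ W₁ := fun z hz => (hVW hz).1
  have h₂ : V ≤ W₂ := fun z hz => (hVW hz).2
  let R := Γ(X, V)
  haveI : IsNoetherianRing R := IsLocallyNoetherian.component_noetherian ⟨V, hV⟩
  let β : R := X.presheaf.map (homOfLE h₁).op β₁
  let γ : R := X.presheaf.map (homOfLE h₂).op γ₂
  have hβx : X.presheaf.germ V x hxV β = X.presheaf.germ W₁ x hW₁ β₁ :=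
    TopCat.Presheaf.germ_res_apply X.presheaf (homOfLE h₁) x hxV β₁
  have hγx : X.presheaf.germ V x hxV γ = X.presheaf.germ W₂ x hW₂ γ₂ :=
    TopCat.Presheaf.germ_res_apply X.presheaf (homOfLE h₂) x hxV γ₂
  let p := (hV.primeIdealOf ⟨x, hxV⟩).asIdeal
  letI := X.presheaf.algebra_section_stalk ⟨x, hxV⟩
  haveI : IsLocalization.AtPrime (X.presheaf.stalk x) p := hV.isLocalization_stalk ⟨x, hxV⟩
  haveI : IsLocalizedModule p.primeCompl (Algebra.linearMap R (X.presheaf.stalk x)) :=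
    (isLocalizedModule_iff_isLocalization' _ _).2 inferInstance
  obtain ⟨hreg, hpair⟩ := pairAt_of_regular (P := p) (T := X.presheaf.stalk x)
    (Algebra.linearMap R (X.presheaf.stalk x)) (β := β) (γ := γ)
    (by rw [show algebraMap R (X.presheaf.stalk x) β = _ from hβx]; exact hb)
    (by rw [show algebraMap R (X.presheaf.stalk x) β = _ from hβx,
      show algebraMap R (X.presheaf.stalk x) γ = _ from hγx]; exact hc)
  have hp1 : (1 : R) ∉ p := fun h => (hV.primeIdealOf ⟨x, hxV⟩).2.ne_top ((Ideal.eq_top_iff_one _).2 h)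
  obtain ⟨m, r, hr⟩ := Submodule.fg_iff_exists_fin_generating_family.1
    (IsNoetherian.noetherian (LinearMap.ker (LinearMap.mulLeft R β)))
  choose t ht hk using fun l => hreg (r l) ⟨1, hp1, by
    have hl : r l ∈ LinearMap.ker (LinearMap.mulLeft R β) := hr ▸ Submodule.subset_span ⟨l, rfl⟩
    rw [one_smul]; exact hl⟩
  obtain ⟨T₁, hT₁, hT₁d⟩ := Core.exists_prod_notMem t ht
  have hann : ∀ z, β * z = 0 → T₁ * z = 0 := fun z hz => by
    have : LinearMap.ker (LinearMap.mulLeft R β) ≤ LinearMap.ker (LinearMap.mulLeft R T₁) := by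
      rw [← hr, Submodule.span_le]
      rintro _ ⟨l, rfl⟩
      obtain ⟨a, ha⟩ := hT₁d l
      show T₁ * r l = 0
      rw [ha, mul_assoc, show t l * r l = 0 from hk l, mul_zero]
    exact this hz
  obtain ⟨m', r', hr'⟩ := Submodule.fg_iff_exists_fin_generating_family.1
    (IsNoetherian.noetherian (Submodule.comap (LinearMap.mulLeft R γ) (Ideal.span {β})))
  choose y hy using fun l => Ideal.mem_span_singleton'.1
    (show γ * r' l ∈ Ideal.span {β} from
      (show r' l ∈ Submodule.comap (LinearMap.mulLeft R γ) (Ideal.span {β}) from hr'.le (Submodule.subset_span ⟨l, rfl⟩)))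
  choose w t' ht' hk' using fun l => hpair (r' l) (y l) ⟨1, hp1, by
    rw [one_smul, smul_eq_mul, smul_eq_mul, ← hy l, mul_comm, sub_self]⟩
  obtain ⟨T₂, hT₂, hT₂d⟩ := Core.exists_prod_notMem t' ht'
  have hdiv : ∀ z, γ * z ∈ Ideal.span {β} → T₂ * z ∈ Ideal.span {β} := fun z hz => by
    have : Submodule.comap (LinearMap.mulLeft R γ) (Ideal.span {β}) ≤
        Submodule.comap (LinearMap.mulLeft R T₂) (Ideal.span {β}) := by
      rw [← hr', Submodule.span_le]
      rintro _ ⟨l, rfl⟩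
      obtain ⟨a, ha⟩ := hT₂d l
      show T₂ * r' l ∈ Ideal.span {β}
      rw [ha, mul_assoc, show t' l * r' l = β * w l from hk' l, mul_left_comm]
      exact Ideal.mul_mem_right _ _ (Ideal.subset_span rfl)
    exact this hz
  let N := X.basicOpen (T₁ * T₂)
  have hNV : N ≤ V := X.basicOpen_le _
  have hxN : x ∈ N := by
    rw [Scheme.mem_basicOpen _ _ x hxV]
    exact IsLocalization.map_units (X.presheaf.stalk x) (⟨T₁ * T₂, Core.mul_notMem hT₁ hT₂⟩ : p.primeCompl)
  refine ⟨N, hxN, X.presheaf.map (homOfLE hNV).op β, X.presheaf.map (homOfLE hNV).op γ,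
    (TopCat.Presheaf.germ_res_apply X.presheaf _ x hxN β).trans hβx,
    (TopCat.Presheaf.germ_res_apply X.presheaf _ x hxN γ).trans hγx, fun z hz => ?_⟩
  rw [TopCat.Presheaf.germ_res_apply X.presheaf (homOfLE hNV) z hz β, TopCat.Presheaf.germ_res_apply X.presheaf (homOfLE hNV) z hz γ]
  letI : Algebra R (X.presheaf.stalk z) := X.presheaf.algebra_section_stalk ⟨z, hNV hz⟩
  haveI : IsLocalization.AtPrime (X.presheaf.stalk z) (hV.primeIdealOf ⟨z, hNV hz⟩).asIdeal :=
    hV.isLocalization_stalk ⟨z, hNV hz⟩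
  let S := (hV.primeIdealOf ⟨z, hNV hz⟩).asIdeal.primeCompl
  have hu : IsUnit (algebraMap R (X.presheaf.stalk z) (T₁ * T₂)) := (Scheme.mem_basicOpen _ _ z (hNV hz)).1 hz
  rw [map_mul, IsUnit.mul_iff] at hu
  refine ⟨IsSMulRegular.of_right_eq_zero_of_smul fun v hv => ?_, (isSMulRegular_quotient_iff_mem_of_smul_mem _ _).2
    fun v hv => ?_⟩
  · obtain ⟨a, s, rfl⟩ := IsLocalization.exists_mk'_eq S v
    change algebraMap R (X.presheaf.stalk z) β * _ = 0 at hv
    rw [IsLocalization.mul_mk'_eq_mk'_of_mul, IsLocalization.mk'_eq_zero_iff] at hv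
    obtain ⟨q, hq⟩ := hv
    have h0 : T₁ * ((q : R) * a) = 0 := hann _ (by rw [← hq]; ring)
    refine (IsUnit.mul_right_eq_zero hu.1).1 ?_
    rw [IsLocalization.mul_mk'_eq_mk'_of_mul, IsLocalization.mk'_eq_zero_iff]
    exact ⟨q, by rw [← h0]; ring⟩
  · obtain ⟨v', -, hv'⟩ := (Submodule.mem_smul_pointwise_iff_exists _ _ _).1 hv
    obtain ⟨a, s, rfl⟩ := IsLocalization.exists_mk'_eq S v
    obtain ⟨a', s', rfl⟩ := IsLocalization.exists_mk'_eq S v'
    change algebraMap R (X.presheaf.stalk z) β * _ = algebraMap R (X.presheaf.stalk z) γ * _ at hv'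
    rw [IsLocalization.mul_mk'_eq_mk'_of_mul, IsLocalization.mul_mk'_eq_mk'_of_mul, IsLocalization.eq] at hv'
    obtain ⟨q, hq⟩ := hv'
    obtain ⟨k, hk⟩ := Ideal.mem_span_singleton'.1 (hdiv ((q : R) * (s' : R) * a)
      (Ideal.mem_span_singleton'.2 ⟨(q : R) * s * a', by linear_combination hq⟩))
    obtain ⟨i, hi⟩ := hu.2
    refine (Submodule.mem_smul_pointwise_iff_exists _ _ _).2
      ⟨(i⁻¹ : (X.presheaf.stalk z)ˣ) * IsLocalization.mk' (X.presheaf.stalk z) k (q * s' * s), trivial, ?_⟩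
    refine (Units.mul_right_inj i).1 ?_
    show (i : X.presheaf.stalk z) * (algebraMap R (X.presheaf.stalk z) β * _) = (i : X.presheaf.stalk z) * _
    rw [mul_left_comm, ← mul_assoc (i : X.presheaf.stalk z), Units.mul_inv, one_mul, hi,
      IsLocalization.mul_mk'_eq_mk'_of_mul, IsLocalization.mul_mk'_eq_mk'_of_mul, IsLocalization.eq]
    exact ⟨1, by push_cast; linear_combination (s : R) * hk⟩

theorem sec_eq_of_stalk {G : X.Modules} {O : X.Opens} {s s' : Γ(G, O)}
    (h : ∀ (z : X) (hz : z ∈ O), G.presheaf.germ O z hz s = G.presheaf.germ O z hz s') : s = s' :=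
  Groth.L15.Ref.sec_ext h

set_option maxHeartbeats 1600000 in
/-- pairs of the local ring are regular on a module which is the direct image from an open on which they are -/
theorem regular_pair_of_unit [IsLocallyNoetherian X] (V : X.Opens) (G : X.Modules)
    [IsIso ((Scheme.Modules.restrictAdjunction V.ι).unit.app G)]
    (hV : ∀ z ∈ V, ∀ b c : X.presheaf.stalk z, IsSMulRegular (X.presheaf.stalk z) b →
      IsSMulRegular (QuotSMulTop b (X.presheaf.stalk z)) c →
      IsSMulRegular (G.presheaf.stalk z) b ∧ IsSMulRegular (QuotSMulTop b (G.presheaf.stalk z)) c)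
    (x : X) {b c : X.presheaf.stalk x}
    (hb : IsSMulRegular (X.presheaf.stalk x) b) (hc : IsSMulRegular (QuotSMulTop b (X.presheaf.stalk x)) c) :
    IsSMulRegular (G.presheaf.stalk x) b ∧ IsSMulRegular (QuotSMulTop b (G.presheaf.stalk x)) c := by
  obtain ⟨N, hxN, β, γ, rfl, rfl, hN⟩ := exists_nhd_regular_pair x hb hc
  have hbij : ∀ O : X.Opens, Function.Bijective (rs G (V.ι.image_preimage_le O)) := fun O => by
    have h := (Scheme.Modules.Hom.isIso_iff_isIso_app.1
      (inferInstance : IsIso ((Scheme.Modules.restrictAdjunction V.ι).unit.app G))) O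
    rw [ConcreteCategory.isIso_iff_bijective, Scheme.Modules.restrictAdjunction_unit_app_app] at h
    exact h
  have hzV : ∀ {O : X.Opens} {z : X}, z ∈ V.ι ''ᵁ (V.ι ⁻¹ᵁ O) → z ∈ V := fun {O z} hz => by
    obtain ⟨w, -, rfl⟩ := hz
    exact w.2
  have hbs : ∀ {O : X.Opens} (hO : O ≤ N) (z : X) (hz : z ∈ O) (s : Γ(G, O)),
      G.presheaf.germ O z hz ((X.presheaf.map (homOfLE hO).op β : Γ(X, O)) • s) =
        X.presheaf.germ N z (hO hz) β • G.presheaf.germ O z hz s := fun {O} hO z hz s => by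
    rw [Groth.L20.ModStalk.germ_smul, TopCat.Presheaf.germ_res_apply]
  have hcs : ∀ {O : X.Opens} (hO : O ≤ N) (z : X) (hz : z ∈ O) (s : Γ(G, O)),
      G.presheaf.germ O z hz ((X.presheaf.map (homOfLE hO).op γ : Γ(X, O)) • s) =
        X.presheaf.germ N z (hO hz) γ • G.presheaf.germ O z hz s := fun {O} hO z hz s => by
    rw [Groth.L20.ModStalk.germ_smul, TopCat.Presheaf.germ_res_apply]
  refine ⟨IsSMulRegular.of_right_eq_zero_of_smul fun v hv => ?_,
    (isSMulRegular_quotient_iff_mem_of_smul_mem _ _).2 fun v hv => ?_⟩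
  · obtain ⟨O₀, hO₀, hxO₀, s, rfl⟩ := Groth.L15.Ref.exists_rep hxN v
    rw [← hbs hO₀ x hxO₀ s] at hv
    obtain ⟨O, hxO, i, i₀, e⟩ := TopCat.Presheaf.germ_eq G.presheaf x hxO₀ hxO₀ _ 0 (hv.trans (map_zero _).symm)
    have hsO : rs G i.le s = 0 := by
      refine (hbij O).1 (sec_eq_of_stalk fun z hz => ?_)
      have hzO : z ∈ O := V.ι.image_preimage_le O hz
      rw [germ_rs, germ_rs, germ_rs, map_zero]
      refine (hV z (hzV hz) _ _ (hN z (hO₀ (i.le hzO))).1 (hN z (hO₀ (i.le hzO))).2).1.right_eq_zero_of_smul ?_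
      rw [← hbs hO₀ z (i.le hzO) s, ← TopCat.Presheaf.germ_res_apply G.presheaf i z hzO, e, map_zero, map_zero]
    rw [← germ_rs G i.le hxO s, hsO, map_zero]
  · obtain ⟨v', -, hv'⟩ := (Submodule.mem_smul_pointwise_iff_exists _ _ _).1 hv
    obtain ⟨O₁, hO₁, hxO₁, m, rfl⟩ := Groth.L15.Ref.exists_rep hxN v
    obtain ⟨O₂, hO₂, hxO₂, n, rfl⟩ := Groth.L15.Ref.exists_rep hxN v'
    rw [← hbs hO₂ x hxO₂ n, ← hcs hO₁ x hxO₁ m] at hv'
    obtain ⟨O, hxO, i, j, e⟩ := TopCat.Presheaf.germ_eq G.presheaf x hxO₂ hxO₁ _ _ hv'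
    let O' := V.ι ''ᵁ (V.ι ⁻¹ᵁ O)
    have hO'O : O' ≤ O := V.ι.image_preimage_le O
    have hON : O ≤ N := i.le.trans hO₂
    have hdiv : ∀ (z : X) (hz : z ∈ O'), ∃ w : G.presheaf.stalk z,
        X.presheaf.germ N z (hON (hO'O hz)) β • w = G.presheaf.germ O₁ z (j.le (hO'O hz)) m := fun z hz => by
      have hzO := hO'O hz
      obtain ⟨h1, h2⟩ := hV z (hzV hz) _ _ (hN z (hON hzO)).1 (hN z (hON hzO)).2
      obtain ⟨w, -, hw⟩ := (Submodule.mem_smul_pointwise_iff_exists _ _ _).1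
        ((isSMulRegular_quotient_iff_mem_of_smul_mem _ _).1 h2 (G.presheaf.germ O₁ z (j.le hzO) m)
          ((Submodule.mem_smul_pointwise_iff_exists _ _ _).2 ⟨G.presheaf.germ O₂ z (i.le hzO) n, trivial, by
            rw [← hbs hO₂ z (i.le hzO) n, ← hcs hO₁ z (j.le hzO) m, ← TopCat.Presheaf.germ_res_apply G.presheaf i z hzO,
              ← TopCat.Presheaf.germ_res_apply G.presheaf j z hzO, e]⟩))
      exact ⟨w, hw⟩
    have hloc : ∀ z : O', ∃ (W : X.Opens) (_ : W ≤ O') (_ : z.1 ∈ W) (w : Γ(G, W)), ∀ (q : X) (hq : q ∈ W) (hq' : q ∈ O'),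
        X.presheaf.germ N q (hON (hO'O hq')) β • G.presheaf.germ W q hq w =
          G.presheaf.germ O₁ q (j.le (hO'O hq')) m := by
      rintro ⟨z, hz⟩
      obtain ⟨w, hw⟩ := hdiv z hz
      obtain ⟨W₀, hW₀, hzW₀, s, rfl⟩ := Groth.L15.Ref.exists_rep hz w
      rw [← hbs ((hW₀.trans hO'O).trans hON) z hzW₀ s] at hw
      obtain ⟨W, hzW, a, a', e'⟩ := TopCat.Presheaf.germ_eq G.presheaf z hzW₀ (j.le (hO'O hz)) _ _ hw
      refine ⟨W, a.le.trans hW₀, hzW, rs G a.le s, fun q hq hq' => ?_⟩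
      rw [germ_rs, ← hbs ((hW₀.trans hO'O).trans hON) q (a.le hq) s, ← TopCat.Presheaf.germ_res_apply G.presheaf a q hq,
        e', TopCat.Presheaf.germ_res_apply]
    choose W hWO hzW w hw using hloc
    obtain ⟨g, hg⟩ := Groth.L16.HomSh.exists_glue G W hWO
      (fun z hz => Opens.mem_iSup.2 ⟨⟨z, hz⟩, hzW ⟨z, hz⟩⟩) w fun a a' => sec_eq_of_stalk fun q hq => by
        have hq' : q ∈ O' := hWO a hq.1
        rw [germ_rs, germ_rs]
        exact (hV q (hzV hq') _ _ (hN q (hON (hO'O hq'))).1 (hN q (hON (hO'O hq'))).2).1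
          ((hw a q hq.1 hq').trans (hw a' q hq.2 hq').symm)
    obtain ⟨g', hg'⟩ := (hbij O).2 g
    refine (Submodule.mem_smul_pointwise_iff_exists _ _ _).2 ⟨G.presheaf.germ O x hxO g', trivial, ?_⟩
    rw [← hbs hON x hxO g', ← germ_rs G j.le hxO m]
    refine congrArg _ ((hbij O).1 (sec_eq_of_stalk fun q hq => ?_))
    rw [germ_rs, germ_rs, hbs hON q (hO'O hq) g', germ_rs, ← germ_rs G (V.ι.image_preimage_le O) hq g', hg',
      ← germ_rs G (hWO ⟨q, hq⟩) (hzW ⟨q, hq⟩) g, hg ⟨q, hq⟩]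
    exact hw ⟨q, hq⟩ q (hzW ⟨q, hq⟩) hq

end Groth.L10.RelCan
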