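import Groth.Agent.L10.RelCan.CMExt
import Groth.Agent.L10.RelCan.CMEnd
import Groth.Agent.L10.RelCan.EndPairs
import Groth.Agent.L10.RelCan.ExtLift
import Groth.Agent.L10.RelCan.PairsUnit
import Groth.Agent.L10.RelCan.PushOmega
import Groth.Agent.L10.RelCan.Along
import Groth.Agent.L06.FlatFibre
import Groth.Agent.L17.CohClass
import Groth.Agent.S19826
import Groth.Agent.L10.ShriekLoc.StalkSemi

/-!
Vanishing of the self-extensions of the relative canonical sheaf over fibres with Serre's condition three.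
-/

set_option autoImplicit false
set_option maxSynthPendingDepth 4
set_option linter.style.haveILetI false
set_option linter.unusedSectionVars false
set_option linter.unusedVariables false
set_option backward.defeqAttrib.useBackward true
set_option backward.isDefEq.respectTransparency false
set_option backward.isDefEq.respectTransparency.types false
universe u

open CategoryTheory CategoryTheory.Limits AlgebraicGeometry TopologicalSpace IsLocalRing
open scoped TensorProduct Pointwise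
open Groth.L18.Frame (rs)
open Groth.L20.ModStalk (germ_rs)

noncomputable section

namespace Groth.L10.RelCan

/-- endomorphisms free of rank one are scalars -/
theorem endIsScalar_of_equiv {R M : Type u} [CommRing R] [AddCommGroup M] [Module R M]
    (Φ : (M →ₗ[R] M) ≃ₗ[R] R) : EndIsScalar R M := by
  let u := Φ.symm 1
  have hu : ∀ g : M →ₗ[R] M, g = Φ g • u := fun g => Φ.injective (by
    rw [map_smul, Φ.apply_symm_apply, smul_eq_mul, mul_one])
  let a := Φ LinearMap.id
  let b := Φ (u.comp u)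
  have h1 : (LinearMap.id : M →ₗ[R] M) = a • u := hu _
  have hab : a * b = 1 := by
    have h2 : Φ (LinearMap.id.comp u) = 1 := by rw [LinearMap.id_comp, Φ.apply_symm_apply]
    rwa [h1, LinearMap.smul_comp, map_smul, smul_eq_mul] at h2
  have hΦ : ∀ r : R, Φ (r • LinearMap.id) = r * a := fun r => map_smul Φ r _
  refine ⟨fun r r' h => ?_, fun g => ⟨Φ g * b, ?_⟩⟩
  · have h' := congrArg (fun x => Φ x * b) h
    simp only [hΦ, mul_assoc, hab, mul_one] at h'
    exact h'
  · refine Φ.injective ?_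
    rw [hΦ, mul_assoc, mul_comm b a, hab, mul_one]

variable {A : Type u} [CommRing A] [IsNoetherianRing A] {Y : Scheme.{u}} [Y.Over (Spec (CommRingCat.of A))]
  [IsProper (Y ↘ Spec (CommRingCat.of A))] {d : ℕ}
  (hS : RelCanon.IsSkMor (Y ↘ Spec (CommRingCat.of A)) 2)
  (hd : Cyc.HasRelDim (Y ↘ Spec (CommRingCat.of A)) d) (ω : Y.Modules)
  (hω : RelCanon.IsDualizingSheaf A Y d ω)

include hS hd hω in
theorem endIsScalar_dualizing (x : Y) : EndIsScalar (Y.presheaf.stalk x) (ω.presheaf.stalk x) := by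
  haveI := hS.1
  haveI : IsLocallyNoetherian Y := LocallyOfFiniteType.isLocallyNoetherian (Y ↘ Spec (CommRingCat.of A))
  have hωc : Coh.IsCoh ω := (isCoh_and_nontrivial d hd ω hω).1
  haveI := hωc.1
  obtain ⟨e⟩ := Groth.Agent.S19826.result A Y d hS hd ω hω
  exact endIsScalar_of_equiv ((homE hωc x).symm.trans
    (((Groth.L00.Stk.F Y x).mapIso e).toLinearEquiv.trans (Groth.L15.Ref.strE x).symm))

include hS in
/-- depth three at the points which are not Cohen–Macaulay -/
theorem three_le_depth_of_not_cm (x : Y) (hx : ¬ MoreMor.IsCMAt (Y ↘ Spec (CommRingCat.of A)) x)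
    (h3 : RelCanon.SkAt 3 (Coh.structureModule ((Y ↘ Spec (CommRingCat.of A)).fiber ((Y ↘ Spec (CommRingCat.of A)) x)))
      ((Y ↘ Spec (CommRingCat.of A)).asFiber x)) :
    (3 : ℕ∞) ≤ LocCoh.depth (Y.presheaf.stalk x) (Y.presheaf.stalk x) := by
  let f := Y ↘ Spec (CommRingCat.of A)
  haveI := hS.1
  haveI : IsLocallyNoetherian Y := LocallyOfFiniteType.isLocallyNoetherian f
  haveI : LocallyOfFiniteType (f.fiberToSpecResidueField (f x)) :=
    MorphismProperty.pullback_snd f ((Spec (CommRingCat.of A)).fromSpecResidueField (f x)) inferInstance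
  haveI : IsLocallyNoetherian (f.fiber (f x)) :=
    LocallyOfFiniteType.isLocallyNoetherian (f.fiberToSpecResidueField (f x))
  let Ov := (f.fiber (f x)).presheaf.stalk (f.asFiber x)
  have hk : LocCoh.HasSk 3 Ov Ov :=
    Groth.L29.SchStalk.hasSk_congr (Groth.L15.Ref.strE (f.asFiber x)).symm h3
  have hd3 := three_le_of_not_cm hS x hx
  have h1 : (3 : ℕ∞) ≤ LocCoh.depth Ov Ov := by
    have h := Groth.L19.SkLocal.min_le_depth_of_local hk
    rw [min_eq_left (show ((3 : ℕ) : WithBot ℕ∞) ≤ ringKrullDim Ov from hd3)] at h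
    exact WithBot.coe_le_coe.1 h
  have key : ∀ (s : Spec (CommRingCat.of A)) (v : f.fiber s), f.fiberι s v = x →
      IsNoetherianRing ((f.fiber s).presheaf.stalk v) →
      (3 : ℕ∞) ≤ LocCoh.depth ((f.fiber s).presheaf.stalk v) ((f.fiber s).presheaf.stalk v) →
      (3 : ℕ∞) ≤ LocCoh.depth (Y.presheaf.stalk x) (Y.presheaf.stalk x) := by
    intro s v hvx hN h
    subst hvx
    haveI := hN
    let B := Y.presheaf.stalk (f.fiberι s v)
    let At := (Spec (CommRingCat.of A)).presheaf.stalk (f (f.fiberι s v))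
    letI := algStalk f (f.fiberι s v)
    haveI := isLocalHom_algStalk f (f.fiberι s v)
    haveI := flat_algStalk f (f.fiberι s v)
    obtain ⟨hsurj, hker⟩ := Groth.L18.stalkMap_fiberι f s v
    let e : EGA4.FibRing At B ≃+* (f.fiber s).presheaf.stalk v :=
      (Ideal.quotEquivOfEq hker.symm).trans (RingHom.quotientKerEquivOfSurjective hsurj)
    haveI : Nontrivial (EGA4.FibRing At B) := e.toEquiv.nontrivial
    haveI : IsLocalRing (EGA4.FibRing At B) := e.symm.isLocalRing
    refine le_trans h (le_trans ?_ (le_trans le_add_self (Groth.L06.FlatFibre.depth_add_le At B)))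
    rw [Groth.L06.FlatFibre.depth_eq_of_ringEquiv e]
  exact key (f x) (f.asFiber x) (Scheme.Hom.fiberι_asFiber f x) inferInstance h1

set_option maxHeartbeats 3200000 in
include hS hd hω in
/-- no self-extensions of the dualizing sheaf at any point -/
theorem ext1Zero_dualizing
    (hS3 : ∀ y : Y, RelCanon.SkAt 3 (Coh.structureModule ((Y ↘ Spec (CommRingCat.of A)).fiber
      ((Y ↘ Spec (CommRingCat.of A)) y))) ((Y ↘ Spec (CommRingCat.of A)).asFiber y)) (y : Y) :
    Ext1Zero (Y.presheaf.stalk y) (ω.presheaf.stalk y) := by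
  let f := Y ↘ Spec (CommRingCat.of A)
  haveI := hS.1
  haveI : IsLocallyNoetherian Y := LocallyOfFiniteType.isLocallyNoetherian f
  haveI : LocallyOfFinitePresentation f := LocallyOfFinitePresentation.iff_locallyOfFiniteType.mpr inferInstance
  have hωc : Coh.IsCoh ω := (isCoh_and_nontrivial d hd ω hω).1
  haveI := hωc.1
  let V : Y.Opens := ⟨{z | MoreMor.IsCMAt f z}, _root_.L02.CMMor.isOpen_cmLocus f⟩
  haveI := isIso_unit_dualizing hd ω hω V fun z hz => le_trans (by norm_num) (three_le_of_not_cm hS z hz)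
  haveI := Groth.L15.Ref.finite_stalk hωc y
  let O := Y.presheaf.stalk y
  let W := (Groth.L00.Stk.F Y y).obj ω
  refine ext1Zero_of_primes (endIsScalar_dualizing hS hd ω hω y) fun P hP => ?_
  let z := Y.fromSpecStalk y (⟨P, hP⟩ : PrimeSpectrum O)
  have hzy : z ⤳ y := by
    rw [← Set.mem_ofPred_eq (p := fun w => w ⤳ y), ← Y.range_fromSpecStalk]
    exact ⟨_, rfl⟩
  have hPz : (maximalIdeal (Y.presheaf.stalk z)).comap (Y.presheaf.stalkSpecializes hzy).hom = P := by
    have e := congrArg (fun φ : Spec (Y.presheaf.stalk z) ⟶ Y => φ (closedPoint (Y.presheaf.stalk z)))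
      (Scheme.SpecMap_stalkSpecializes_fromSpecStalk (X := Y) hzy)
    have h2 : Y.fromSpecStalk y (PrimeSpectrum.comap (Y.presheaf.stalkSpecializes hzy).hom
        (closedPoint (Y.presheaf.stalk z))) = Y.fromSpecStalk y (⟨P, hP⟩ : PrimeSpectrum O) :=
      e.trans Scheme.fromSpecStalk_closedPoint
    exact congrArg PrimeSpectrum.asIdeal ((Y.fromSpecStalk y).isEmbedding.injective h2)
  let Oz := Y.presheaf.stalk z
  let Wz := (Groth.L00.Stk.F Y z).obj ω
  letI : Algebra O Oz := (Y.presheaf.stalkSpecializes hzy).hom.toAlgebra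
  haveI : IsLocalization P.primeCompl Oz := isLocalization_spec hzy P hPz
  letI : Module O Wz := Module.compHom _ (Y.presheaf.stalkSpecializes hzy).hom
  haveI : IsScalarTower O Oz Wz := .of_algebraMap_smul fun _ _ => rfl
  haveI := isLocalizedModule_spMap ω hzy P hPz
  by_cases hz : MoreMor.IsCMAt f z
  · refine .inl fun a π hπ g => ?_
    exact exists_smul_extend (T := Oz) (spMap ω hzy) (ext1Zero_stalk_of_cm hd ω hω z hz) π hπ g
  refine .inr ?_
  have hdepth := three_le_depth_of_not_cm hS z hz (hS3 z)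
  obtain ⟨b, hbm, c, hcm, hb, hc⟩ :=
    exists_pair_stalk f hS z (le_trans (by norm_num) (three_le_of_not_cm hS z hz))
  obtain ⟨hbW, hcW⟩ := regular_pair_of_unit V ω (fun w hw b' c' hb' hc' => by
      haveI := Groth.L15.Ref.finite_stalk hωc w
      exact regular_pair_of_endIsScalar (endIsScalar_stalk_of_cm hd ω hω w hw) (ext1Zero_stalk_of_cm hd ω hω w hw)
        hb' hc') z hb hc
  -- numerators
  obtain ⟨β, u, rfl⟩ := IsLocalization.exists_mk'_eq P.primeCompl b
  obtain ⟨γ, v, rfl⟩ := IsLocalization.exists_mk'_eq P.primeCompl c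
  have hu := IsLocalization.map_units Oz u
  have hv := IsLocalization.map_units Oz v
  have eβ : algebraMap O Oz β = algebraMap O Oz u * IsLocalization.mk' Oz β u := by
    rw [mul_comm, IsLocalization.mk'_spec]
  have eγ : algebraMap O Oz γ = algebraMap O Oz v * IsLocalization.mk' Oz γ v := by
    rw [mul_comm, IsLocalization.mk'_spec]
  have scale : ∀ (N : Type u) [AddCommGroup N] [Module Oz N], IsSMulRegular N (IsLocalization.mk' Oz β u) →
      IsSMulRegular (QuotSMulTop (IsLocalization.mk' Oz β u) N) (IsLocalization.mk' Oz γ v) →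
      IsSMulRegular N (algebraMap O Oz β) ∧
        IsSMulRegular (QuotSMulTop (algebraMap O Oz β) N) (algebraMap O Oz γ) := fun N _ _ h1 h2 => by
    obtain ⟨i, hi⟩ := hu
    obtain ⟨j, hj⟩ := hv
    refine ⟨fun p q h => ?_, (isSMulRegular_quotient_iff_mem_of_smul_mem _ _).2 fun p hp => ?_⟩
    · rw [eβ, ← hi] at h
      simp only [mul_smul] at h
      exact h1 ((smul_left_cancel_iff i).1 h)
    · obtain ⟨q, -, hq⟩ := (Submodule.mem_smul_pointwise_iff_exists _ _ _).1 hp
      obtain ⟨q', -, hq'⟩ := (Submodule.mem_smul_pointwise_iff_exists _ _ _).1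
        ((isSMulRegular_quotient_iff_mem_of_smul_mem _ _).1 h2 p ((Submodule.mem_smul_pointwise_iff_exists _ _ _).2
          ⟨((j⁻¹ : Ozˣ) : Oz) • (i : Oz) • q, trivial, by
            rw [smul_comm, ← mul_smul (IsLocalization.mk' Oz β u), mul_comm (IsLocalization.mk' Oz β u), hi, ← eβ,
              hq, eγ, ← hj, mul_smul, smul_smul ((j⁻¹ : Ozˣ) : Oz), Units.inv_mul, one_smul]⟩))
      refine (Submodule.mem_smul_pointwise_iff_exists _ _ _).2 ⟨((i⁻¹ : Ozˣ) : Oz) • q', trivial, ?_⟩
      rw [eβ, ← hi, mul_smul, smul_comm (IsLocalization.mk' Oz β u), smul_smul, Units.mul_inv, one_smul, hq']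
  haveI hlm : IsLocalizedModule P.primeCompl (Algebra.linearMap O Oz) :=
    (isLocalizedModule_iff_isLocalization' _ _).2 inferInstance
  obtain ⟨hb1, hc1⟩ := scale Oz hb hc
  obtain ⟨hb2, hc2⟩ := scale Wz hbW hcW
  -- the localised ring
  haveI hnt : Nontrivial (LocalizedModule P.primeCompl O) :=
    (IsLocalizedModule.iso P.primeCompl (Algebra.linearMap O Oz)).toEquiv.nontrivial
  refine ⟨hnt, ?_, β, (IsLocalization.AtPrime.mk'_mem_maximal_iff Oz P β u).1 hbm, γ,
    (IsLocalization.AtPrime.mk'_mem_maximal_iff Oz P γ v).1 hcm, pairAt_of_regular (T := Oz) (Algebra.linearMap O Oz) hb1 hc1,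
    pairAt_of_regular (T := Oz) (spMap ω hzy) hb2 hc2⟩
  let L := Localization.AtPrime P
  let eL : LocalizedModule P.primeCompl O ≃ₗ[L] L :=
    (IsLocalizedModule.iso P.primeCompl (Algebra.linearMap O L)).extendScalarsOfIsLocalization P.primeCompl L
  rw [LocCoh.depth, Groth.L04.idealDepth_congr eL, show LocCoh.idealDepth (maximalIdeal L) L = LocCoh.depth L L from rfl,
    Groth.L06.FlatFibre.depth_eq_of_ringEquiv (IsLocalization.algEquiv P.primeCompl Oz L).toRingEquiv]
  exact hdepth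

end Groth.L10.RelCan

namespace Groth.L10.RelCan

variable {X : Scheme.{u}}

set_option maxHeartbeats 1600000 in
/-- extensions split locally when the stalk has no self-extensions -/
theorem exists_split [IsLocallyNoetherian X] (S : ShortComplex X.Modules) (hS : S.ShortExact)
    (h1 : Coh.IsCoh S.X₁) (h3 : Coh.IsCoh S.X₃) (y : X)
    (e : (Groth.L00.Stk.F X y).obj S.X₁ ≃ₗ[X.presheaf.stalk y] (Groth.L00.Stk.F X y).obj S.X₃)
    (hext : Ext1Zero (X.presheaf.stalk y) (S.X₃.presheaf.stalk y)) :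
    ∃ (N : X.Opens), y ∈ N ∧ ∃ g : Γ(RefHull.homSh S.X₃ S.X₂, N),
      ∀ (z : X) (hz : z ∈ N) (m : S.X₃.presheaf.stalk z), stk S.g z (g.1 ⟨z, hz⟩ m) = m := by
  let O := X.presheaf.stalk y
  haveI := h3.1
  haveI := h1.1
  have h2 : Coh.IsCoh S.X₂ := Groth.L17.CohClass.isCoh_of_shortExact S hS h1 h3
  haveI := h2.1
  haveI := hS.mono_f
  haveI := hS.epi_g
  let F := Groth.L00.Stk.F X y
  let fs : F.obj S.X₁ →ₗ[O] F.obj S.X₂ := (F.map S.f).hom
  let gs : F.obj S.X₂ →ₗ[O] F.obj S.X₃ := (F.map S.g).hom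
  have hfi : Function.Injective fs := (ModuleCat.mono_iff_injective (F.map S.f)).1 inferInstance
  have hgs : Function.Surjective gs := (ModuleCat.epi_iff_surjective (F.map S.g)).1 inferInstance
  have hex : LinearMap.range fs = LinearMap.ker gs :=
    ((ShortComplex.Exact.map hS.exact F).moduleCat_range_eq_ker :)
  haveI : Module.Finite O (F.obj S.X₃) := Groth.L15.Ref.finite_stalk h3 y
  obtain ⟨a, π, hπ⟩ := Module.Finite.exists_fin' O (F.obj S.X₃)
  obtain ⟨lift, hlift⟩ := Module.projective_lifting_property gs π hgs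
  have hmem : ∀ k : LinearMap.ker π, lift k ∈ LinearMap.range fs := fun k => by
    rw [hex, LinearMap.mem_ker, ← LinearMap.comp_apply, hlift, LinearMap.mem_ker.1 k.2]
  let g₀ : LinearMap.ker π →ₗ[O] F.obj S.X₁ :=
    (LinearEquiv.ofInjective fs hfi).symm.toLinearMap.comp ((lift.comp (LinearMap.ker π).subtype).codRestrict _ hmem)
  obtain ⟨h, hh⟩ := hext a π hπ (e.toLinearMap.comp g₀)
  let σ₀ : (Fin a → O) →ₗ[O] F.obj S.X₂ := lift - fs.comp (e.symm.toLinearMap.comp h)
  have hle : LinearMap.ker π ≤ LinearMap.ker σ₀ := fun k hk => by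
    rw [LinearMap.mem_ker]
    show lift k - fs (e.symm (h k)) = 0
    rw [sub_eq_zero, show h k = e (g₀ ⟨k, hk⟩) from hh ⟨k, hk⟩, e.symm_apply_apply]
    exact (congrArg Subtype.val ((LinearEquiv.ofInjective fs hfi).apply_symm_apply ⟨lift k, hmem ⟨k, hk⟩⟩)).symm
  let σ : F.obj S.X₃ →ₗ[O] F.obj S.X₂ :=
    ((LinearMap.ker π).liftQ σ₀ hle).comp (π.quotKerEquivOfSurjective hπ).symm.toLinearMap
  have hσ : ∀ m, gs (σ m) = m := fun m => by
    obtain ⟨v, rfl⟩ := hπ m
    show gs ((LinearMap.ker π).liftQ σ₀ hle ((π.quotKerEquivOfSurjective hπ).symm (π v))) = _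
    rw [show π v = π.quotKerEquivOfSurjective hπ (Submodule.Quotient.mk v) from rfl, LinearEquiv.symm_apply_apply]
    show gs (lift v - fs (e.symm (h v))) = π v
    rw [map_sub, show gs (lift v) = π v from LinearMap.congr_fun hlift v,
      show gs (fs (e.symm (h v))) = 0 from LinearMap.mem_ker.1 (hex ▸ LinearMap.mem_range_self fs _), sub_zero]
  -- spread out
  obtain ⟨θ, hθ⟩ := (Groth.L15.Ref.evalStalk_bijective S.X₃ S.X₂ h3 y).2 σ
  obtain ⟨W₀, hW₀, s, rfl⟩ := TopCat.Presheaf.exists_germ_eq (F := (RefHull.homSh S.X₃ S.X₂).presheaf) (x := y) θ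
  rw [RefHull.evalStalk_germ] at hθ
  obtain ⟨V, hV, hyV, hVW⟩ := exists_isAffineOpen_mem_and_subset (x := y) (U := W₀) hW₀
  have hVW' : V ≤ W₀ := hVW
  haveI : IsNoetherianRing Γ(X, V) := IsLocallyNoetherian.component_noetherian ⟨V, hV⟩
  haveI := Groth.L20.ModStalk.finite_sections S.X₃ h3 hV
  obtain ⟨n, ms, hms⟩ := Submodule.fg_iff_exists_fin_generating_family.1
    (Module.Finite.fg_top (R := Γ(X, V)) (M := Γ(S.X₃, V)))
  have hpt : ∀ i, ∃ (N : X.Opens), y ∈ N ∧ ∃ hNV : N ≤ V, ∀ (z : X) (hz : z ∈ N),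
      stk S.g z (s.1 ⟨z, hVW' (hNV hz)⟩ (S.X₃.presheaf.germ V z (hNV hz) (ms i))) =
        S.X₃.presheaf.germ V z (hNV hz) (ms i) := fun i => by
    have hy : S.X₃.presheaf.germ V y hyV (S.g.app V (Groth.L15.Ref.secOf s hVW' (ms i))) =
        S.X₃.presheaf.germ V y hyV (ms i) := by
      refine (DerSch.stalkFunctor_map_germ y S.g V hyV _).symm.trans ?_
      have h1 : S.X₂.presheaf.germ V y hyV (Groth.L15.Ref.secOf s hVW' (ms i)) = σ (S.X₃.presheaf.germ V y hyV (ms i)) :=
        (Groth.L15.Ref.germ_secOf s hVW' (ms i) y hyV).trans (LinearMap.congr_fun hθ _)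
      rw [h1]
      exact hσ _
    obtain ⟨N, hyN, i₁, i₂, heq⟩ := TopCat.Presheaf.germ_eq S.X₃.presheaf y hyV hyV _ _ hy
    refine ⟨N, hyN, i₁.le, fun z hz => ?_⟩
    rw [← Groth.L15.Ref.germ_secOf s hVW' (ms i) z (i₁.le hz)]
    refine (DerSch.stalkFunctor_map_germ z S.g V (i₁.le hz) _).trans ?_
    rw [← TopCat.Presheaf.germ_res_apply S.X₃.presheaf i₁ z hz, heq, TopCat.Presheaf.germ_res_apply]
  choose N hyN hNV hN using hpt
  let N' : X.Opens := ⟨(V : Set X) ∩ ⋂ i, (N i : Set X), V.2.inter (isOpen_iInter_of_finite fun i => (N i).2)⟩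
  have hN'W : N' ≤ W₀ := fun z hz => hVW' hz.1
  refine ⟨N', ⟨hyV, Set.mem_iInter.2 hyN⟩, (RefHull.homSh S.X₃ S.X₂).presheaf.map (homOfLE hN'W).op s,
    fun z hz m => ?_⟩
  show stk S.g z (s.1 ⟨z, hN'W hz⟩ m) = m
  have hzV : z ∈ V := hz.1
  letI := Groth.L20.ModStalk.stalkModule S.X₃ hzV
  letI := X.presheaf.algebra_section_stalk (⟨z, hzV⟩ : V)
  haveI : IsScalarTower Γ(X, V) (X.presheaf.stalk z) (S.X₃.presheaf.stalk z) :=
    IsScalarTower.of_algebraMap_smul fun _ _ => rfl
  haveI := hV.isLocalization_stalk ⟨z, hzV⟩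
  haveI := Groth.L20.ModStalk.isLocalizedModule_germ S.X₃ hV hzV
  let G₁ : S.X₃.presheaf.stalk z →ₗ[X.presheaf.stalk z] S.X₃.presheaf.stalk z :=
    (stk S.g z).comp (s.1 ⟨z, hN'W hz⟩)
  suffices G₁ = LinearMap.id from LinearMap.congr_fun this m
  have hsec : (G₁.restrictScalars Γ(X, V)).comp (Groth.L20.ModStalk.germₗ S.X₃ hzV) =
      Groth.L20.ModStalk.germₗ S.X₃ hzV := LinearMap.ext_on_range hms fun i => hN i z (Set.mem_iInter.1 hz.2 i)
  refine LinearMap.ext fun w => ?_
  obtain ⟨⟨q, t⟩, hq⟩ := IsLocalizedModule.surj (hV.primeIdealOf ⟨z, hzV⟩).asIdeal.primeCompl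
    (Groth.L20.ModStalk.germₗ S.X₃ hzV) w
  obtain ⟨c, hc⟩ := IsLocalization.map_units (X.presheaf.stalk z) t
  refine (smul_left_cancel_iff c).1 ?_
  rw [Units.smul_def, Units.smul_def, LinearMap.id_apply, ← map_smul, hc]
  have hq' : algebraMap Γ(X, V) (X.presheaf.stalk z) t • w = Groth.L20.ModStalk.germₗ S.X₃ hzV q := hq
  rw [hq']
  exact LinearMap.congr_fun hsec q

open Groth.L10.ShriekLoc L02.FibDepth in
/-- stalks of a module are the stalks of its restriction, semilinearly -/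
theorem nonempty_semi_restrict_symm {U : Scheme.{u}} (j : U ⟶ X) [IsOpenImmersion j] (M : X.Modules) (y : U) :
    Nonempty (Semi (X.presheaf.stalk (j y)) (M.presheaf.stalk (j y)) (U.presheaf.stalk y)
      ((M.restrict j).presheaf.stalk y)) := by
  let σ := (asIso (j.stalkMap y)).commRingCatIsoToRingEquiv
  let e : (M.restrict j).presheaf.stalk y ≃+ M.presheaf.stalk (j y) :=
    ((Scheme.Modules.restrictStalkNatIso j y).app M).addCommGroupIsoToAddEquiv
  refine ⟨⟨σ.toRingHom, σ.surjective, e.symm, fun r m => e.injective ?_⟩⟩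
  suffices key0 : ∀ r m, e (r • m) = σ.symm r • e m by
    rw [key0, e.apply_symm_apply, e.apply_symm_apply]
    exact congrArg (· • m) (σ.symm_apply_apply r).symm
  intro r m
  obtain ⟨V₁, hy₁, r₁, rfl⟩ := U.presheaf.exists_germ_eq r
  obtain ⟨V₂, hy₂, m₂, rfl⟩ := TopCat.Presheaf.exists_germ_eq (M.restrict j).presheaf m
  let V := V₁ ⊓ V₂
  have hy : y ∈ V := ⟨hy₁, hy₂⟩
  let r' : Γ(U, V) := U.presheaf.map (homOfLE (inf_le_left : V ≤ V₁)).op r₁
  let m' : Γ(M.restrict j, V) := (M.restrict j).presheaf.map (homOfLE (inf_le_right : V ≤ V₂)).op m₂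
  rw [← TopCat.Presheaf.germ_res_apply U.presheaf (homOfLE (inf_le_left : V ≤ V₁)) y hy r₁,
    ← TopCat.Presheaf.germ_res_apply (M.restrict j).presheaf (homOfLE (inf_le_right : V ≤ V₂)) y hy m₂]
  change e (U.presheaf.germ V y hy r' • (M.restrict j).presheaf.germ V y hy m') =
    σ.symm (U.presheaf.germ V y hy r') • e ((M.restrict j).presheaf.germ V y hy m')
  rw [← Groth.L20.ModStalk.germ_smul (M.restrict j) hy r' m']
  have key : ∀ z : Γ(M.restrict j, V), e ((M.restrict j).presheaf.germ V y hy z) =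
      M.presheaf.germ (j ''ᵁ V) (j y) ⟨y, hy, rfl⟩ (show Γ(M, j ''ᵁ V) from z) := fun z =>
    congrArg (fun g => (ConcreteCategory.hom g) z) (Scheme.Modules.germ_restrictStalkNatIso_hom_app j y M hy)
  rw [key, key]
  have hσ : σ.symm (U.presheaf.germ V y hy r') =
      X.presheaf.germ (j ''ᵁ V) (j y) ⟨y, hy, rfl⟩ ((j.appIso V).inv r') := by
    rw [RingEquiv.symm_apply_eq]
    exact (stalkMap_germ_inv j y hy r').symm
  rw [hσ, ← Groth.L20.ModStalk.germ_smul M]
  rfl

end Groth.L10.RelCan
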