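import Groth.Agent.L10.RelCan.CoreAlg
import Groth.Agent.L10.RelCan.DepthSheaf

/-!
Serre's condition two on the closed fibre makes reduction of modules of maps onto.
-/

set_option autoImplicit false
set_option maxSynthPendingDepth 4
set_option linter.style.haveILetI false
set_option linter.unusedSectionVars false
set_option linter.unusedVariables false
set_option backward.defeqAttrib.useBackward true
set_option backward.isDefEq.respectTransparency false
set_option backward.isDefEq.respectTransparency.types false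
universe u

open IsLocalRing
open scoped TensorProduct Pointwise

noncomputable section

namespace Groth.L10.RelCan.Core

section General

variable {R : Type u} [CommRing R] {G H : Type u} [AddCommGroup G] [Module R G] [AddCommGroup H] [Module R H]

theorem smul_mk_eq {P : Ideal R} [P.IsPrime] (a0 : R) (u : P.primeCompl) (n : ℕ) (x : LocalizedModule P.primeCompl H) :
    IsLocalization.mk' (Localization.AtPrime P) a0 u ^ n • x =
      IsLocalization.mk' (Localization.AtPrime P) 1 u ^ n • (a0 ^ n • x) := by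
  rw [IsLocalization.mk'_eq_mul_mk'_one (M := P.primeCompl) (S := Localization.AtPrime P) a0 u, mul_comm, mul_pow, mul_smul,
    ← map_pow, algebraMap_smul]

/-- off a prime an ideal contains a power times a non-member, if it is in no smaller prime -/
theorem exists_pow_mul_mem (J : Ideal R) (P : Ideal R) [P.IsPrime] (h : ∀ Q : Ideal R, Q.IsPrime → Q < P → ¬ J ≤ Q)
    {a : R} (ha : a ∈ P) : ∃ n : ℕ, ∃ t ∉ P, t * a ^ n ∈ J := by
  by_contra! hc
  obtain ⟨Q, hQ, hJQ, hd⟩ := Ideal.exists_le_prime_disjoint J (P.primeCompl ⊔ Submonoid.powers a) (by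
    rw [Set.disjoint_left]
    rintro x hxJ hx
    obtain ⟨t, ht, _, ⟨n, rfl⟩, rfl⟩ := Submonoid.mem_sup.1 hx
    exact hc n t ht hxJ)
  have hQP : Q ≤ P := fun x hx => by
    by_contra hxP
    exact Set.disjoint_left.1 hd hx (Submonoid.mem_sup_left hxP)
  have haQ : a ∉ Q := fun h' => Set.disjoint_left.1 hd h' (Submonoid.mem_sup_right (Submonoid.mem_powers a))
  exact h Q hQ (lt_of_le_of_ne hQP fun e => haQ (e ▸ ha)) hJQ

/-- bijectivity at a prime, on elements -/
def LocBij (φ : G →ₗ[R] H) (P : Ideal R) : Prop :=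
  (∀ z, φ z = 0 → ∃ t ∉ P, t • z = 0) ∧ (∀ h, ∃ t ∉ P, ∃ z, φ z = t • h)

/-- bijectivity from the good primes and regular pairs at the others -/
theorem bijective_of_pairs [IsNoetherianRing R] (φ : G →ₗ[R] H)
    (h : ∀ (P : Ideal R) [P.IsPrime], LocBij φ P ∨
      ((∃ b ∈ maximalIdeal (Localization.AtPrime P), ∃ c ∈ maximalIdeal (Localization.AtPrime P),
          IsSMulRegular (LocalizedModule P.primeCompl G) b ∧
          IsSMulRegular (QuotSMulTop b (LocalizedModule P.primeCompl G)) c) ∧
        NoTors (Localization.AtPrime P) (LocalizedModule P.primeCompl H))) : Function.Bijective φ := by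
  haveI hwf : WellFoundedLT (PrimeSpectrum R) :=
    StrictMono.wellFoundedLT (f := fun Q : PrimeSpectrum R => Q.asIdeal.height)
      fun Q R hlt => Ideal.height_strict_mono_of_isPrime hlt
  have key : ∀ P : PrimeSpectrum R, LocBij φ P.asIdeal := by
    intro P
    induction P using hwf.induction with
    | _ P ih =>
    rcases h P.asIdeal with hP | ⟨⟨b, hbm, c, hcm, hb, hc⟩, hH⟩
    · exact hP
    let S := P.asIdeal.primeCompl
    let φP : LocalizedModule S G →ₗ[Localization S] LocalizedModule S H := LocalizedModule.map S φ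
    have hmap : ∀ (z : G) (s : S), φP (LocalizedModule.mk z s) = LocalizedModule.mk (φ z) s :=
      fun z s => LocalizedModule.map_mk S φ z s
    have hG := noTors_of_regular hbm hb
    have hpow : ∀ (J : Ideal R), (∀ Q : Ideal R, Q.IsPrime → Q < P.asIdeal → ¬ J ≤ Q) →
        ∀ a ∈ P.asIdeal, ∃ n : ℕ, ∃ t ∉ P.asIdeal, t * a ^ n ∈ J := fun J hJ a ha => exists_pow_mul_mem J _ hJ ha
    have hinj : Function.Injective φP := by
      rw [injective_iff_map_eq_zero]
      intro x
      induction x using LocalizedModule.induction_on with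
      | _ z s =>
      intro hx
      rw [hmap] at hx
      obtain ⟨⟨t, ht⟩, h0⟩ := LocalizedModule.mk_eq.1 (hx.trans (LocalizedModule.zero_mk 1).symm)
      simp only [Submonoid.smul_def, one_smul, smul_zero] at h0
      refine hG _ fun a ha => ?_
      obtain ⟨a0, u, rfl⟩ := IsLocalization.exists_mk'_eq S a
      have ha0 : a0 ∈ P.asIdeal := (IsLocalization.AtPrime.mk'_mem_maximal_iff (Localization.AtPrime P.asIdeal) P.asIdeal a0 u).1 ha
      obtain ⟨n, t', ht', hmem⟩ := hpow (Module.annihilator R (Submodule.span R {t • z})) (fun Q hQ hlt hle => by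
        obtain ⟨t'', ht'', h''⟩ := (ih ⟨Q, hQ⟩ hlt).1 (t • z) (by rw [map_smul]; exact h0)
        refine ht'' (hle (Submodule.mem_annihilator_span_singleton _ _ |>.2 h''))) a0 ha0
      refine ⟨n, ?_⟩
      rw [smul_mk_eq, LocalizedModule.smul'_mk, (?_ : LocalizedModule.mk (a0 ^ n • z) s = 0), smul_zero]
      refine (LocalizedModule.mk_eq.2 ⟨⟨t' * t, mul_mem ht' ht⟩, ?_⟩ : LocalizedModule.mk (a0 ^ n • z) s = LocalizedModule.mk 0 1).trans
        (LocalizedModule.zero_mk 1)
      simp only [Submonoid.smul_def, Submonoid.coe_one, one_smul, smul_zero]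
      have := (Submodule.mem_annihilator_span_singleton _ _).1 hmem
      simp only [smul_smul] at this ⊢
      rw [← this]; ring_nf
    have hsurj : Function.Surjective φP := by
      refine surjective_of_pair hbm hcm hb hc φP hinj hH fun r a ha => ?_
      induction r using LocalizedModule.induction_on with
      | _ y s =>
      obtain ⟨a0, u, rfl⟩ := IsLocalization.exists_mk'_eq S a
      have ha0 : a0 ∈ P.asIdeal := (IsLocalization.AtPrime.mk'_mem_maximal_iff (Localization.AtPrime P.asIdeal) P.asIdeal a0 u).1 ha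
      obtain ⟨n, t', ht', hmem⟩ := hpow ((LinearMap.range φ).comap (LinearMap.toSpanSingleton R H y)) (fun Q hQ hlt hle => by
        obtain ⟨t'', ht'', z, hz⟩ := (ih ⟨Q, hQ⟩ hlt).2 y
        exact ht'' (hle ⟨z, hz⟩)) a0 ha0
      obtain ⟨z, hz⟩ := hmem
      refine ⟨n, ?_⟩
      rw [smul_mk_eq, LocalizedModule.smul'_mk]
      refine Submodule.smul_mem _ _ ⟨LocalizedModule.mk z (⟨t', ht'⟩ * s), ?_⟩
      rw [hmap, LocalizedModule.mk_eq]
      refine ⟨1, ?_⟩
      change φ z = (t' * a0 ^ n) • y at hz
      simp only [Submonoid.smul_def, Submonoid.coe_one, one_smul, Submonoid.coe_mul, hz, smul_smul]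
      ring_nf
    refine ⟨fun z hz => ?_, fun y => ?_⟩
    · have h0 : LocalizedModule.mk z (1 : S) = 0 := hinj (by rw [hmap, hz, LocalizedModule.zero_mk, map_zero])
      obtain ⟨⟨t, ht⟩, h0⟩ := LocalizedModule.mk_eq.1 (h0.trans (LocalizedModule.zero_mk 1).symm)
      exact ⟨t, ht, by simpa [Submonoid.smul_def] using h0⟩
    · obtain ⟨x, hx⟩ := hsurj (LocalizedModule.mk y (1 : S))
      induction x using LocalizedModule.induction_on with
      | _ z s =>
      rw [hmap] at hx
      obtain ⟨⟨t, ht⟩, h0⟩ := LocalizedModule.mk_eq.1 hx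
      refine ⟨t * (s : R), mul_mem (s := S) ht s.2, t • z, ?_⟩
      simpa [Submonoid.smul_def, smul_smul] using h0
  refine ⟨(injective_iff_map_eq_zero φ).2 fun z hz => ?_, fun y => ?_⟩
  · by_contra hne
    obtain ⟨m, hm, hle⟩ := Ideal.exists_le_maximal (Module.annihilator R (Submodule.span R {z})) fun e =>
      hne (by simpa using (Submodule.mem_annihilator_span_singleton z (1 : R)).1 ((Ideal.eq_top_iff_one _).1 e))
    obtain ⟨t, ht, h0⟩ := (key ⟨m, hm.isPrime⟩).1 z hz
    exact ht (hle ((Submodule.mem_annihilator_span_singleton _ _).2 h0))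
  · by_contra hne
    obtain ⟨m, hm, hle⟩ := Ideal.exists_le_maximal ((LinearMap.range φ).comap (LinearMap.toSpanSingleton R H y)) fun e => by
      obtain ⟨z, hz⟩ : (1 : R) ∈ (LinearMap.range φ).comap (LinearMap.toSpanSingleton R H y) := e ▸ trivial
      exact hne ⟨z, by simpa using hz⟩
    obtain ⟨t, ht, z, hz⟩ := (key ⟨m, hm.isPrime⟩).2 y
    exact ht (hle ⟨z, hz⟩)

/-- a module killed by an ideal, nowhere zero on its zero set, has the dimension of that zero set -/
theorem supportDim_of_nowhereZero [Module.Finite R G] (I : Ideal R) (hI : I ≤ Module.annihilator R G)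
    (hnt : ∀ P0 ∈ I.minimalPrimes, ∃ z : G, ∀ t ∉ P0, t • z ≠ 0) (P : Ideal R) [P.IsPrime] :
    Module.supportDim (Localization.AtPrime P) (LocalizedModule P.primeCompl G) =
      ringKrullDim (Localization.AtPrime P ⧸ I.map (algebraMap R (Localization.AtPrime P))) := by
  let RP := Localization.AtPrime P
  let GP := LocalizedModule P.primeCompl G
  haveI : Module.Finite RP GP :=
    Module.Finite.of_isLocalizedModule P.primeCompl (LocalizedModule.mkLinearMap P.primeCompl G)
  have hsupp : Module.support RP GP = Module.support RP (RP ⧸ I.map (algebraMap R RP)) := by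
    rw [show Module.support RP (RP ⧸ I.map (algebraMap R RP)) = PrimeSpectrum.zeroLocus (I.map (algebraMap R RP)) by
      rw [Module.support_eq_zeroLocus, Ideal.annihilator_quotient]]
    refine Set.Subset.antisymm ?_ fun Q hQ => ?_
    · rw [Module.support_eq_zeroLocus]
      refine PrimeSpectrum.zeroLocus_anti_mono (Ideal.map_le_iff_le_comap.2 fun r hr => Module.mem_annihilator.2 fun x => ?_)
      induction x using LocalizedModule.induction_on with
      | _ z s => rw [algebraMap_smul, LocalizedModule.smul'_mk, Module.mem_annihilator.1 (hI hr) z, LocalizedModule.zero_mk]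
    · have hQR : I ≤ Q.asIdeal.comap (algebraMap R RP) := Ideal.map_le_iff_le_comap.1 hQ
      obtain ⟨P0, hP0, hP0Q⟩ := Ideal.exists_minimalPrimes_le hQR
      obtain ⟨z, hz⟩ := hnt P0 hP0
      refine Module.mem_support_iff'.2 ⟨LocalizedModule.mk z 1, fun r hr h0 => ?_⟩
      obtain ⟨r0, u, rfl⟩ := IsLocalization.exists_mk'_eq P.primeCompl r
      have hr0 : r0 ∉ Q.asIdeal.comap (algebraMap R RP) := fun h1 => hr (by
        rw [IsLocalization.mk'_eq_mul_mk'_one (M := P.primeCompl) (S := RP) r0 u]
        exact Ideal.mul_mem_right _ _ h1)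
      have h2 : (r0 : R) • (LocalizedModule.mk z (1 : P.primeCompl) : GP) = 0 := by
        rw [← algebraMap_smul RP r0, ← IsLocalization.mk'_spec RP r0 u, mul_comm, mul_smul, h0, smul_zero]
      rw [LocalizedModule.smul'_mk, ← LocalizedModule.zero_mk 1, LocalizedModule.mk_eq] at h2
      obtain ⟨⟨t, ht⟩, h3⟩ := h2
      simp only [Submonoid.smul_def, one_smul, smul_zero, smul_smul] at h3
      have hne : (Q.asIdeal.comap (algebraMap R RP)).IsPrime := inferInstance
      refine hz (t * r0) (fun hm => ?_) (by simpa using h3)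
      rcases hne.mem_or_mem (hP0Q hm) with h4 | h4
      · exact ht ((Ideal.comap_mono (le_maximalIdeal Q.isPrime.ne_top)).trans_eq
          (IsLocalization.AtPrime.under_maximalIdeal RP P) h4)
      · exact hr0 h4
  have hd : Module.supportDim RP GP = ringKrullDim (RP ⧸ I.map (algebraMap R RP)) := by
    rw [Module.supportDim, hsupp, ← Module.supportDim_quotient_eq_ringKrullDim, Module.supportDim]
  exact hd

/-- depth at primes where the zero set is large -/
theorem le_depth_of_hasSk [IsNoetherianRing R] [Module.Finite R G] (I : Ideal R) (hI : I ≤ Module.annihilator R G)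
    {n : ℕ} (hG : LocCoh.HasSk n R G) (hnt : ∀ P0 ∈ I.minimalPrimes, ∃ z : G, ∀ t ∉ P0, t • z ≠ 0)
    (P : Ideal R) [P.IsPrime]
    (hdim : (n : WithBot ℕ∞) ≤ ringKrullDim (Localization.AtPrime P ⧸ I.map (algebraMap R (Localization.AtPrime P)))) :
    Nontrivial (LocalizedModule P.primeCompl G) ∧
      (n : ℕ∞) ≤ LocCoh.depth (Localization.AtPrime P) (LocalizedModule P.primeCompl G) := by
  haveI : Module.Finite (Localization.AtPrime P) (LocalizedModule P.primeCompl G) :=
    Module.Finite.of_isLocalizedModule P.primeCompl (LocalizedModule.mkLinearMap P.primeCompl G)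
  have hd := supportDim_of_nowhereZero I hI hnt P
  refine ⟨(Module.supportDim_ne_bot_iff_nontrivial (R := Localization.AtPrime P)
    (M := LocalizedModule P.primeCompl G)).1 fun hb => ?_, ?_⟩
  · rw [hd] at hb
    rw [hb] at hdim
    exact absurd hdim (by simp)
  · have h2 := hG P
    rw [hd, min_eq_left (show ((n : ℕ) : WithBot ℕ∞) ≤ _ from hdim)] at h2
    exact WithBot.coe_le_coe.1 h2

/-- a module killed by an ideal, nowhere zero on its zero set, has regular pairs at primes of dimension two -/
theorem exists_pair_of_hasSk [IsNoetherianRing R] [Module.Finite R G] (I : Ideal R) (hI : I ≤ Module.annihilator R G)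
    (hG : LocCoh.HasSk 2 R G) (hnt : ∀ P0 ∈ I.minimalPrimes, ∃ z : G, ∀ t ∉ P0, t • z ≠ 0)
    (P : Ideal R) [P.IsPrime] (hIP : I ≤ P)
    (hdim : (2 : WithBot ℕ∞) ≤ ringKrullDim (Localization.AtPrime P ⧸ I.map (algebraMap R (Localization.AtPrime P)))) :
    ∃ b ∈ maximalIdeal (Localization.AtPrime P), ∃ c ∈ maximalIdeal (Localization.AtPrime P),
      IsSMulRegular (LocalizedModule P.primeCompl G) b ∧
        IsSMulRegular (QuotSMulTop b (LocalizedModule P.primeCompl G)) c := by
  haveI : Module.Finite (Localization.AtPrime P) (LocalizedModule P.primeCompl G) :=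
    Module.Finite.of_isLocalizedModule P.primeCompl (LocalizedModule.mkLinearMap P.primeCompl G)
  obtain ⟨h1, h2⟩ := le_depth_of_hasSk I hI hG hnt P hdim
  haveI := h1
  exact Hartogs.exists_pair h2

theorem ringKrullDim_quotient_minimal_le (I P0 : Ideal R) [P0.IsPrime] (h : P0 ∈ I.minimalPrimes) :
    ringKrullDim (Localization.AtPrime P0 ⧸ I.map (algebraMap R (Localization.AtPrime P0))) ≤ 0 := by
  let RP := Localization.AtPrime P0
  haveI : Ring.KrullDimLE 0 (RP ⧸ I.map (algebraMap R RP)) := Ring.KrullDimLE.mk₀ fun J hJ => by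
    let J' := J.comap (Ideal.Quotient.mk (I.map (algebraMap R RP)))
    have hle : I.map (algebraMap R RP) ≤ J' := fun x hx => by
      show Ideal.Quotient.mk _ x ∈ J
      rw [Ideal.Quotient.eq_zero_iff_mem.2 hx]; exact J.zero_mem
    have heq : J' = maximalIdeal RP := by
      have h1 : J'.comap (algebraMap R RP) ≤ P0 :=
        (Ideal.comap_mono (le_maximalIdeal (Ideal.IsPrime.ne_top inferInstance))).trans_eq (IsLocalization.AtPrime.under_maximalIdeal RP P0)
      have h2 : P0 ≤ J'.comap (algebraMap R RP) := h.2 ⟨inferInstance, Ideal.map_le_iff_le_comap.1 hle⟩ h1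
      rw [← IsLocalization.map_comap P0.primeCompl RP J']
      show Ideal.map _ (Ideal.comap (algebraMap R RP) J') = _
      rw [le_antisymm h1 h2, Localization.AtPrime.map_eq_maximalIdeal]
    haveI : J'.IsMaximal := heq ▸ maximalIdeal.isMaximal RP
    have := Ideal.map_eq_top_or_isMaximal_of_surjective (Ideal.Quotient.mk (I.map (algebraMap R RP))) Ideal.Quotient.mk_surjective ‹J'.IsMaximal›
    rw [Ideal.map_comap_of_surjective _ Ideal.Quotient.mk_surjective] at this
    exact this.resolve_left hJ.ne_top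
  exact Ring.krullDimLE_iff.1 ‹_›

end General

section Fibre

variable {A : Type u} [CommRing A] [IsLocalRing A] {O : Type u} [CommRing O] [Algebra A O] [IsNoetherianRing O]
  {Q : Type u} [AddCommGroup Q] [Module O Q] [Module.Finite O Q]

/-- free of rank one at the prime, on elements -/
def Triv (P : Ideal O) : Prop := ∃ (q0 : Q) (ε : Q →ₗ[O] O), ε q0 ∉ P ∧ ∀ q, ε q0 • q = ε q • q0

variable (A O Q) in
/-- the primes of the closed fibre are free points or of dimension two -/
structure FibreData : Prop where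
  dich : ∀ (P : Ideal O) [P.IsPrime], (maximalIdeal A).map (algebraMap A O) ≤ P → Triv (Q := Q) P ∨
    (2 : WithBot ℕ∞) ≤ ringKrullDim (Localization.AtPrime P ⧸
      ((maximalIdeal A).map (algebraMap A O)).map (algebraMap O (Localization.AtPrime P)))
  sk : LocCoh.HasSk 2 O (O ⊗[A] (A ⧸ maximalIdeal A))

variable (hD : FibreData A O Q)

theorem residue_tmul_ne_zero {P0 : Ideal O} (hP0 : (maximalIdeal A).map (algebraMap A O) ≤ P0) {t : O} (ht : t ∉ P0) :
    t • ((1 : O) ⊗ₜ[A] (1 : A ⧸ maximalIdeal A)) ≠ 0 := fun h0 => by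
  rw [TensorProduct.smul_tmul', smul_eq_mul, mul_one] at h0
  exact ht (hP0 (tmul_one_eq_zero _ h0))

include hD in
theorem exists_pair_residue (P : Ideal O) [P.IsPrime] (hP : (maximalIdeal A).map (algebraMap A O) ≤ P)
    (hdim : (2 : WithBot ℕ∞) ≤ ringKrullDim (Localization.AtPrime P ⧸
      ((maximalIdeal A).map (algebraMap A O)).map (algebraMap O (Localization.AtPrime P)))) :
    ∃ b ∈ maximalIdeal (Localization.AtPrime P), ∃ c ∈ maximalIdeal (Localization.AtPrime P),
      IsSMulRegular (LocalizedModule P.primeCompl (O ⊗[A] (A ⧸ maximalIdeal A))) b ∧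
        IsSMulRegular (QuotSMulTop b (LocalizedModule P.primeCompl (O ⊗[A] (A ⧸ maximalIdeal A)))) c :=
  exists_pair_of_hasSk _ (map_le_annihilator O) hD.sk
    (fun P0 h0 => ⟨1 ⊗ₜ 1, fun t ht => residue_tmul_ne_zero h0.1.2 ht⟩) P hP hdim

include hD in
theorem noTors_maps (P : Ideal O) [P.IsPrime] (hP : (maximalIdeal A).map (algebraMap A O) ≤ P)
    (hdim : (2 : WithBot ℕ∞) ≤ ringKrullDim (Localization.AtPrime P ⧸
      ((maximalIdeal A).map (algebraMap A O)).map (algebraMap O (Localization.AtPrime P)))) :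
    NoTors (Localization.AtPrime P) (LocalizedModule P.primeCompl (Fn A O Q (A ⧸ maximalIdeal A))) := by
  obtain ⟨b, hbm, -, -, hb, -⟩ := exists_pair_residue hD P hP hdim
  refine noTors_of_regular hbm (IsSMulRegular.of_right_eq_zero_of_smul fun x hx => ?_)
  obtain ⟨n, v, hv⟩ := Submodule.fg_iff_exists_fin_generating_family.1 (Module.Finite.fg_top (R := O) (M := Q))
  induction x using LocalizedModule.induction_on with
  | _ g s =>
  have h1 : ∀ i, ∃ t ∉ P, t • g (v i) = 0 := fun i => by
    let e : LocalizedModule P.primeCompl (Fn A O Q (A ⧸ maximalIdeal A)) →ₗ[Localization P.primeCompl]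
        LocalizedModule P.primeCompl (O ⊗[A] (A ⧸ maximalIdeal A)) :=
      LocalizedModule.map P.primeCompl (LinearMap.applyₗ (v i))
    have he : e (LocalizedModule.mk g s) = 0 := hb.right_eq_zero_of_smul (by rw [← map_smul, hx, map_zero])
    rw [show e (LocalizedModule.mk g s) = LocalizedModule.mk (g (v i)) s from LocalizedModule.map_mk _ _ _ _,
      ← LocalizedModule.zero_mk 1, LocalizedModule.mk_eq] at he
    obtain ⟨⟨t, ht⟩, h0⟩ := he
    exact ⟨t, ht, by simpa only [Submonoid.smul_def, one_smul, smul_zero] using h0⟩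
  choose t ht h0 using h1
  rw [← LocalizedModule.zero_mk 1, LocalizedModule.mk_eq]
  refine ⟨⟨∏ i, t i, prod_mem (S := P.primeCompl) fun i _ => ht i⟩, ?_⟩
  simp only [Submonoid.smul_def, one_smul, smul_zero]
  refine LinearMap.ext_on_range hv fun i => ?_
  rw [LinearMap.smul_apply, LinearMap.zero_apply, ← Finset.mul_prod_erase Finset.univ t (Finset.mem_univ i),
    mul_comm, mul_smul, h0, smul_zero]

include hD in
/-- a module with Serre's condition two, equal to the maps into the fibre at good points, equals them -/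
theorem bijective_to_maps' {G : Type u} [AddCommGroup G] [Module O G] [Module.Finite O G]
    (φ : G →ₗ[O] Fn A O Q (A ⧸ maximalIdeal A))
    (hI : (maximalIdeal A).map (algebraMap A O) ≤ Module.annihilator O G) (hG : LocCoh.HasSk 2 O G)
    (hloc : ∀ (P : Ideal O) [P.IsPrime], (maximalIdeal A).map (algebraMap A O) ≤ P → (Triv (Q := Q) P ∧ LocBij φ P) ∨
      (2 : WithBot ℕ∞) ≤ ringKrullDim (Localization.AtPrime P ⧸
        ((maximalIdeal A).map (algebraMap A O)).map (algebraMap O (Localization.AtPrime P)))) :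
    Function.Bijective φ := by
  let I := (maximalIdeal A).map (algebraMap A O)
  have hnt : ∀ P0 ∈ I.minimalPrimes, ∃ z : G, ∀ t ∉ P0, t • z ≠ 0 := by
    intro P0 h0
    haveI := h0.1.1
    obtain ⟨hT, hL⟩ := (hloc P0 h0.1.2).resolve_right fun hd =>
      absurd (hd.trans (ringKrullDim_quotient_minimal_le I P0 h0)) (by norm_num)
    obtain ⟨q0, ε, hs, -⟩ := id hT
    obtain ⟨u, hu, z, hz⟩ := hL.2 (ε.smulRight ((1 : O) ⊗ₜ[A] (1 : A ⧸ maximalIdeal A)))
    refine ⟨z, fun t ht h' => residue_tmul_ne_zero h0.1.2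
      (fun hmem => ((h0.1.1.mem_or_mem hmem).elim (fun h'' => (h0.1.1.mem_or_mem h'').elim ht hu) hs :)) (t := t * u * ε q0) ?_⟩
    have h1 := congrArg (fun f : Fn A O Q (A ⧸ maximalIdeal A) => f q0) (congrArg (t • ·) hz.symm)
    simp only [← map_smul, h', map_zero, LinearMap.smul_apply, LinearMap.smulRight_apply, LinearMap.zero_apply,
      smul_smul] at h1
    exact h1
  refine bijective_of_pairs φ fun P _ => ?_
  by_cases hP : I ≤ P
  · rcases hloc P hP with ⟨-, hL⟩ | hd
    · exact .inl hL
    · exact .inr ⟨exists_pair_of_hasSk I hI hG hnt P hP hd, noTors_maps hD P hP hd⟩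
  · obtain ⟨t, htI, htP⟩ := SetLike.not_le_iff_exists.1 hP
    refine .inl ⟨fun z _ => ⟨t, htP, Module.mem_annihilator.1 (hI htI) z⟩, fun y => ⟨t, htP, 0, ?_⟩⟩
    rw [map_zero]
    exact (LinearMap.ext fun q => (Module.mem_annihilator.1 (map_le_annihilator O htI) (y q))).symm

include hD in
/-- a module with Serre's condition two, equal to the maps into the fibre at free points, equals them -/
theorem bijective_to_maps {G : Type u} [AddCommGroup G] [Module O G] [Module.Finite O G]
    (φ : G →ₗ[O] Fn A O Q (A ⧸ maximalIdeal A))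
    (hI : (maximalIdeal A).map (algebraMap A O) ≤ Module.annihilator O G) (hG : LocCoh.HasSk 2 O G)
    (hloc : ∀ (P : Ideal O) [P.IsPrime], (maximalIdeal A).map (algebraMap A O) ≤ P → Triv (Q := Q) P → LocBij φ P) :
    Function.Bijective φ :=
  bijective_to_maps' hD φ hI hG fun P _ hP => (hD.dich P hP).imp_left fun hT => ⟨hT, hloc P hP hT⟩

theorem finite_maps (N : Type u) [AddCommGroup N] [Module A N] [Module.Finite O (O ⊗[A] N)] :
    Module.Finite O (Fn A O Q N) := by
  obtain ⟨b, p, hp⟩ := Module.Finite.exists_fin' O Q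
  exact Module.Finite.of_injective (LinearMap.lcomp O _ p) fun g g' h => LinearMap.ext fun q => by
    obtain ⟨v, rfl⟩ := hp q
    exact LinearMap.congr_fun h v

include hD in
/-- Serre's condition two on the reduction makes the evaluation on the closed fibre bijective -/
theorem ev_residue_bijective_of_hasSk (hG : LocCoh.HasSk 2 O ((Q →ₗ[O] O) ⊗[A] (A ⧸ maximalIdeal A))) :
    Function.Bijective (ev A O Q (A ⧸ maximalIdeal A)) := by
  haveI : Module.Finite O (Q →ₗ[O] O) := by
    obtain ⟨b, p, hp⟩ := Module.Finite.exists_fin' O Q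
    exact Module.Finite.of_injective (LinearMap.lcomp O O p) fun g g' h => LinearMap.ext fun q => by
      obtain ⟨v, rfl⟩ := hp q
      exact LinearMap.congr_fun h v
  haveI : Module.Finite O ((Q →ₗ[O] O) ⊗[A] (A ⧸ maximalIdeal A)) :=
    Module.Finite.of_surjective ((TensorProduct.AlgebraTensorModule.mk A O (Q →ₗ[O] O) (A ⧸ maximalIdeal A)).flip 1)
      (exists_tmul_one _)
  refine bijective_to_maps hD _ (map_le_annihilator _) hG fun P _ hP hT => ?_
  obtain ⟨q0, ε, hs, hq⟩ := hT
  refine ⟨fun z hz => ?_, fun g => ?_⟩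
  · obtain ⟨g, rfl⟩ := exists_tmul_one _ z
    refine ⟨ε q0, hs, ?_⟩
    have h1 : g q0 ∈ (maximalIdeal A).map (algebraMap A O) := tmul_one_eq_zero _ (LinearMap.congr_fun hz q0)
    have h2 : ε q0 • g = g q0 • ε := LinearMap.ext fun q => by
      rw [LinearMap.smul_apply, LinearMap.smul_apply, ← map_smul, hq q, map_smul, smul_eq_mul, smul_eq_mul, mul_comm]
    rw [TensorProduct.smul_tmul', h2, ← TensorProduct.smul_tmul']
    exact Module.mem_annihilator.1 (map_le_annihilator _ h1) _
  · obtain ⟨o, ho⟩ := exists_tmul_one _ (g q0)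
    refine ⟨ε q0, hs, (o • ε) ⊗ₜ 1, LinearMap.ext fun q => ?_⟩
    rw [ev_tmul, LinearMap.smul_apply, LinearMap.smul_apply, smul_eq_mul, mul_comm, ← smul_eq_mul,
      ← TensorProduct.smul_tmul', ho, ← map_smul, ← map_smul, hq q]

variable {N : Type u} [AddCommGroup N] [Module A N]

theorem add_tk (π : N →ₗ[A] A ⧸ maximalIdeal A) (g g' : Fn A O Q N) :
    (1 : A) • fmap O Q π (g + g') = (1 : A) • fmap O Q π g + (1 : A) • fmap O Q π g' := by
  rw [one_smul, one_smul, one_smul, map_add]

theorem smul_tk (π : N →ₗ[A] A ⧸ maximalIdeal A) (r : O) (g : Fn A O Q N) :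
    (1 : A) • fmap O Q π (r • g) = r • ((1 : A) • fmap O Q π g) := by
  rw [one_smul, one_smul, map_smul]

variable (O Q) in
/-- maps into a base change, reduced to the closed fibre -/
def red (π : N →ₗ[A] A ⧸ maximalIdeal A) :
    Fn A O Q N ⊗[A] (A ⧸ maximalIdeal A) →ₗ[O] Fn A O Q (A ⧸ maximalIdeal A) :=
  TensorProduct.AlgebraTensorModule.lift
    { toFun := fun g => Submodule.liftQ (maximalIdeal A) (LinearMap.toSpanSingleton A _ (fmap O Q π g)) fun a ha => by
        refine LinearMap.ext fun q => ?_
        show a • fmap O Q π g q = 0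
        rw [← algebraMap_smul O a]
        exact Module.mem_annihilator.1 (map_le_annihilator O (Ideal.mem_map_of_mem _ ha)) _
      map_add' := fun g g' => Submodule.linearMap_qext _ (LinearMap.ext_ring (add_tk π g g'))
      map_smul' := fun r g => Submodule.linearMap_qext _ (LinearMap.ext_ring (smul_tk π r g)) }

theorem red_tmul (π : N →ₗ[A] A ⧸ maximalIdeal A) (g : Fn A O Q N) :
    red O Q π (g ⊗ₜ 1) = fmap O Q π g := one_smul A _

include hD in
/-- Serre's condition two on the reduction of maps into a base change makes reduction onto -/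
theorem fmap_surjective_of_hasSk [Module.Finite A N] (π : N →ₗ[A] A ⧸ maximalIdeal A) (hπ : Function.Surjective π)
    (hker : LinearMap.ker π ≤ maximalIdeal A • ⊤)
    (hG : LocCoh.HasSk 2 O (Fn A O Q N ⊗[A] (A ⧸ maximalIdeal A))) : Function.Surjective (fmap O Q π) := by
  haveI : Module.Finite O (O ⊗[A] N) := inferInstance
  haveI : Module.Finite O (Fn A O Q N) := finite_maps N
  haveI : Module.Finite O (Fn A O Q N ⊗[A] (A ⧸ maximalIdeal A)) :=
    Module.Finite.of_surjective ((TensorProduct.AlgebraTensorModule.mk A O (Fn A O Q N) (A ⧸ maximalIdeal A)).flip 1)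
      (exists_tmul_one _)
  have hb : Function.Bijective (red O Q π) := by
    refine bijective_to_maps hD _ (map_le_annihilator _) hG fun P _ hP hT => ?_
    obtain ⟨q0, ε, hs, hq⟩ := hT
    have hsm : ∀ (N' : Type u) [AddCommGroup N'] [Module A N'] (h : Fn A O Q N'), ε q0 • h = ε.smulRight (h q0) :=
      fun N' _ _ h => LinearMap.ext fun q => by
        rw [LinearMap.smul_apply, LinearMap.smulRight_apply, ← map_smul, hq q, map_smul]
    refine ⟨fun z hz => ?_, fun g => ?_⟩
    · obtain ⟨g, rfl⟩ := exists_tmul_one _ z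
      refine ⟨ε q0, hs, ?_⟩
      rw [red_tmul] at hz
      obtain ⟨w, hw⟩ := (lTensor_exact O (LinearMap.exact_subtype_ker_map π) hπ (g q0)).1 (LinearMap.congr_fun hz q0)
      rw [TensorProduct.smul_tmul', hsm, ← hw]
      clear hw hz
      induction w using TensorProduct.induction_on with
      | zero => simp
      | add w w' h h' =>
        rw [map_add, show ε.smulRight (_ + _) = ε.smulRight _ + ε.smulRight _ from LinearMap.ext fun q => smul_add _ _ _,
          TensorProduct.add_tmul, h, h', add_zero]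
      | tmul o x =>
        rw [LinearMap.lTensor_tmul, Submodule.subtype_apply]
        have hx := hker x.2
        generalize (x : N) = y at hx
        refine Submodule.smul_induction_on hx (fun a ha n _ => ?_) (fun y y' hy hy' => ?_)
        · rw [TensorProduct.tmul_smul, show ε.smulRight (a • (o ⊗ₜ[A] n)) = a • ε.smulRight (o ⊗ₜ[A] n) from
            LinearMap.ext fun q => smul_comm _ _ _, ← algebraMap_smul O a, ← TensorProduct.smul_tmul']
          exact Module.mem_annihilator.1 (map_le_annihilator _ (Ideal.mem_map_of_mem _ ha)) _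
        · rw [TensorProduct.tmul_add, show ε.smulRight (_ + _) = ε.smulRight _ + ε.smulRight _ from
            LinearMap.ext fun q => smul_add _ _ _, TensorProduct.add_tmul, hy, hy', add_zero]
    · obtain ⟨ξ, hξ⟩ := LinearMap.lTensor_surjective O hπ (g q0)
      refine ⟨ε q0, hs, ε.smulRight ξ ⊗ₜ 1, ?_⟩
      rw [red_tmul, hsm]
      refine LinearMap.ext fun q => ?_
      show (TensorProduct.AlgebraTensorModule.lTensor O O π) (ε q • ξ) = ε q • g q0
      rw [map_smul, ← hξ]
      rfl
  intro g
  obtain ⟨z, hz⟩ := hb.2 g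
  obtain ⟨g', rfl⟩ := exists_tmul_one _ z
  exact ⟨g', (red_tmul π g').symm.trans hz⟩

end Fibre

end Groth.L10.RelCan.Core
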