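import Groth.Agent.L10.RelCan.FibreIndex
import Groth.Agent.L10.RelCan.DepthThree

/-!
Relative Serre condition two of reflexive powers from Serre's condition three on the fibre.
-/

set_option autoImplicit false
set_option maxSynthPendingDepth 4
set_option linter.style.haveILetI false
set_option linter.unusedSectionVars false
set_option backward.defeqAttrib.useBackward true
set_option backward.isDefEq.respectTransparency false
set_option backward.isDefEq.respectTransparency.types false
universe u

open CategoryTheory CategoryTheory.Limits AlgebraicGeometry TopologicalSpace IsLocalRing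
open scoped TensorProduct

noncomputable section

namespace Groth.L10.RelCan

theorem hasSk_mono {R M : Type u} [CommRing R] [AddCommGroup M] [Module R M] {k l : ℕ} (h : k ≤ l)
    (hM : LocCoh.HasSk l R M) : LocCoh.HasSk k R M := fun P _ =>
  (min_le_min (by exact_mod_cast h) le_rfl).trans (hM P)

theorem hasSk_congr {R M N : Type u} [CommRing R] [AddCommGroup M] [Module R M] [Module.Finite R M] [AddCommGroup N]
    [Module R N] (e : M ≃ₗ[R] N) {k : ℕ} (h : LocCoh.HasSk k R M) : LocCoh.HasSk k R N :=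
  (({ φ := RingHom.id R, surj := Function.surjective_id, e := e.toAddEquiv,
      map_smul := fun r m => e.map_smul r m } : L02.FibDepth.Semi R M R N).hasSk_iff k).1 h

/-- a flat module of maps with Serre's condition two on the fibre -/
theorem relSkAt_of_ev_surjective {X S : Scheme.{u}} [IsLocallyNoetherian X] [IsLocallyNoetherian S] (f : X ⟶ S)
    [Flat f] {G : X.Modules} (hG : Coh.IsCoh G) (y : X)
    (hev : letI := algStalk f y
      Function.Surjective (Core.ev (S.presheaf.stalk (f y)) (X.presheaf.stalk y) ((Groth.L00.Stk.F X y).obj G)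
        (S.presheaf.stalk (f y) ⧸ maximalIdeal (S.presheaf.stalk (f y)))))
    (hk : letI := algStalk f y
      LocCoh.HasSk 2 (X.presheaf.stalk y) (Core.Fn (S.presheaf.stalk (f y)) (X.presheaf.stalk y)
        ((Groth.L00.Stk.F X y).obj G) (S.presheaf.stalk (f y) ⧸ maximalIdeal (S.presheaf.stalk (f y))))) :
    RelCanon.RelSkAt f 2 (RefHull.dual G) y := by
  let At := S.presheaf.stalk (f y)
  let O := X.presheaf.stalk y
  letI := algStalk f y
  haveI := isLocalHom_algStalk f y
  haveI := flat_algStalk f y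
  let Q := (Groth.L00.Stk.F X y).obj G
  haveI : Module.Finite O Q := Groth.L06.SupportStalk.finite_stalk G hG _
  haveI : Module.Flat At (Q →ₗ[O] O) := Core.flat hev
  refine ⟨?_, ?_⟩
  · letI := FlatMod.moduleStalkOver f (RefHull.dual G) y
    let e : (RefHull.dual G).presheaf.stalk y ≃ₗ[At] (Q →ₗ[O] O) :=
      { (dualStalk hG y).toAddEquiv with
        map_smul' := fun a v => ((dualStalk hG y).map_smul ((f.stalkMap y).hom a) v).trans (algebraMap_smul O a _) }
    exact Module.Flat.of_linearEquiv e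
  · haveI := Core.finite_maps (A := At) (O := O) (Q := Q) (At ⧸ maximalIdeal At)
    exact (skAt_fibre_iff f (RefHull.dual G) (Groth.L15.Ref.isCoh_dual hG) 2 y (Q →ₗ[O] O)
      (fun a g => LinearMap.ext fun q => Algebra.smul_def a (g q)) (dualStalk hG y)).2
      (hasSk_congr (LinearEquiv.ofBijective _ ⟨Core.ev_residue_injective hev, hev⟩).symm hk)

variable {A : Type u} [CommRing A] [IsNoetherianRing A] {Y : Scheme.{u}} [Y.Over (Spec (CommRingCat.of A))]
  [IsProper (Y ↘ Spec (CommRingCat.of A))] {d : ℕ}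

variable (hS : RelCanon.IsSkMor (Y ↘ Spec (CommRingCat.of A)) 2)
  (hd : Cyc.HasRelDim (Y ↘ Spec (CommRingCat.of A)) d) (ω : Y.Modules)
  (hω : RelCanon.IsDualizingSheaf A Y d ω) (hG : GorCodim (Y ↘ Spec (CommRingCat.of A)))
  (s : Spec (CommRingCat.of A)) (ωt : ((Y ↘ Spec (CommRingCat.of A)).fiber s).Modules)
  (hωt : @RelCanon.IsDualizingSheaf ((Spec (CommRingCat.of A)).residueField s) _ ((Y ↘ Spec (CommRingCat.of A)).fiber s)
    ⟨(Y ↘ Spec (CommRingCat.of A)).fiberToSpecResidueField s⟩ d ωt)

set_option maxHeartbeats 1600000 in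
include hS hd hω hG hωt in
theorem relSkAt_refPowZ_of_fibre_S3 (m : ℤ) (v : (Y ↘ Spec (CommRingCat.of A)).fiber s)
    (hG2 : ∀ z, (Y ↘ Spec (CommRingCat.of A)) z =
        (Y ↘ Spec (CommRingCat.of A)) ((Y ↘ Spec (CommRingCat.of A)).fiberι s v) →
      z ∉ RelCanon.gorLocus (Y ↘ Spec (CommRingCat.of A)) →
      (3 : WithBot ℕ∞) ≤ ringKrullDim (((Y ↘ Spec (CommRingCat.of A)).fiber ((Y ↘ Spec (CommRingCat.of A)) z)).presheaf.stalk
        ((Y ↘ Spec (CommRingCat.of A)).asFiber z)))
    (h3 : RelCanon.SkAt 3 (RelCanon.refPowZ ωt m) v) :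
    RelCanon.RelSkAt (Y ↘ Spec (CommRingCat.of A)) 2 (RelCanon.refPowZ ω m)
      ((Y ↘ Spec (CommRingCat.of A)).fiberι s v) := by
  let f := Y ↘ Spec (CommRingCat.of A)
  haveI := hS.1
  haveI : IsLocallyNoetherian Y := LocallyOfFiniteType.isLocallyNoetherian f
  let k := (Spec (CommRingCat.of A)).residueField s
  letI : Algebra A k := (Spec.preimage ((Spec (CommRingCat.of A)).fromSpecResidueField s)).hom.toAlgebra
  letI : (f.fiber s).Over (Spec (CommRingCat.of k)) := ⟨f.fiberToSpecResidueField s⟩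
  have hp : IsPullback (f.fiberι s) ((f.fiber s) ↘ Spec (CommRingCat.of k)) f
      (Spec.map (CommRingCat.ofHom (algebraMap A k))) := by
    rw [show Spec.map (CommRingCat.ofHom (algebraMap A k)) = (Spec (CommRingCat.of A)).fromSpecResidueField s from
      Spec.map_preimage _]
    exact IsPullback.of_hasPullback _ _
  haveI : LocallyOfFiniteType ((f.fiber s) ↘ Spec (CommRingCat.of k)) :=
    MorphismProperty.of_isPullback hp inferInstance
  haveI : IsLocallyNoetherian (f.fiber s) :=
    LocallyOfFiniteType.isLocallyNoetherian ((f.fiber s) ↘ Spec (CommRingCat.of k))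
  obtain ⟨G, hGc, hGeq, hinv⟩ := exists_predual hS hd ω hω m
  obtain ⟨eR⟩ := nonempty_dual_pullback_refPowZ hS hd ω hω hG hp ωt hωt m hGc hGeq hinv
  rw [hGeq]
  let y := f.fiberι s v
  let O := Y.presheaf.stalk y
  let At := (Spec (CommRingCat.of A)).presheaf.stalk (f y)
  let Ov := (f.fiber s).presheaf.stalk v
  letI := algStalk f y
  haveI := isLocalHom_algStalk f y
  haveI := flat_algStalk f y
  let Q := (Groth.L00.Stk.F Y y).obj G
  haveI : Module.Finite O Q := Groth.L06.SupportStalk.finite_stalk G hGc _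
  letI : Algebra O Ov := ((f.fiberι s).stalkMap v).hom.toAlgebra
  obtain ⟨hsurj, hker⟩ := Groth.L18.stalkMap_fiberι f s v
  let N := (Groth.L00.Stk.F (f.fiber s) v).obj (RefHull.dual ((Scheme.Modules.pullback (f.fiberι s)).obj G))
  letI : Module O N := Module.compHom _ ((f.fiberι s).stalkMap v).hom
  obtain ⟨Φ⟩ := exists_dualPullEquiv f (f.fiberι s) hGc v (maximalIdeal At) hsurj hker
  haveI := Core.finite_maps (A := At) (O := O) (Q := Q) (At ⧸ maximalIdeal At)
  let eN := ((Groth.L00.Stk.F (f.fiber s) v).mapIso eR).toLinearEquiv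
  let SE : L02.FibDepth.Semi O (Core.Fn At O Q (At ⧸ maximalIdeal At)) Ov
      ((RelCanon.refPowZ ωt m).presheaf.stalk v) :=
    { φ := algebraMap O Ov, surj := hsurj, e := Φ.symm.toAddEquiv.trans eN.toAddEquiv,
      map_smul := fun r g => (congrArg eN (Φ.symm.map_smul r g)).trans (eN.map_smul (algebraMap O Ov r) (Φ.symm g)) }
  have hk : LocCoh.HasSk 3 O (Core.Fn At O Q (At ⧸ maximalIdeal At)) := (SE.hasSk_iff 3).2 h3
  exact relSkAt_of_ev_surjective f hGc y
    (Core.ev_residue_surjective_of_depth_three (fibreData f hS hGc y hinv fun z _ _ hz => hG z hz)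
      (fun P _ hP => fibreDich f hGc y hinv 3 (fun z _ hz hz' => hG2 z hz hz') P hP) hk)
    (hasSk_mono (by norm_num) hk)

set_option maxHeartbeats 1600000 in
include hS hd hω hG hωt in
/-- with a fibre of depth three, invertibility is seen on the fibre -/
theorem invertibleAt_refPowZ_iff_fibre_S3 (m : ℤ) (v : (Y ↘ Spec (CommRingCat.of A)).fiber s)
    (hG2 : ∀ z, (Y ↘ Spec (CommRingCat.of A)) z =
        (Y ↘ Spec (CommRingCat.of A)) ((Y ↘ Spec (CommRingCat.of A)).fiberι s v) →
      z ∉ RelCanon.gorLocus (Y ↘ Spec (CommRingCat.of A)) →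
      (3 : WithBot ℕ∞) ≤ ringKrullDim (((Y ↘ Spec (CommRingCat.of A)).fiber ((Y ↘ Spec (CommRingCat.of A)) z)).presheaf.stalk
        ((Y ↘ Spec (CommRingCat.of A)).asFiber z)))
    (h3 : RelCanon.SkAt 3 (Coh.structureModule ((Y ↘ Spec (CommRingCat.of A)).fiber s)) v) :
    RelCanon.InvertibleAt (RelCanon.refPowZ ω m) ((Y ↘ Spec (CommRingCat.of A)).fiberι s v) ↔
      RelCanon.InvertibleAt (RelCanon.refPowZ ωt m) v := by
  let f := Y ↘ Spec (CommRingCat.of A)
  refine ⟨fun h => ?_, fun h => (invertibleAt_refPowZ_iff_fibre hS hd ω hω hG s ωt hωt m v ?_).2 h⟩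
  · let k := (Spec (CommRingCat.of A)).residueField s
    letI : Algebra A k := (Spec.preimage ((Spec (CommRingCat.of A)).fromSpecResidueField s)).hom.toAlgebra
    letI : (f.fiber s).Over (Spec (CommRingCat.of k)) := ⟨f.fiberToSpecResidueField s⟩
    have hp : IsPullback (f.fiberι s) ((f.fiber s) ↘ Spec (CommRingCat.of k)) f
        (Spec.map (CommRingCat.ofHom (algebraMap A k))) := by
      rw [show Spec.map (CommRingCat.ofHom (algebraMap A k)) = (Spec (CommRingCat.of A)).fromSpecResidueField s from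
        Spec.map_preimage _]
      exact IsPullback.of_hasPullback _ _
    exact invertibleAt_refPowZ_pullback hS hd ω hω hG hp ωt hωt m v h
  · obtain ⟨e⟩ := exists_stalk_equiv_of_invertibleAt h
    let Ov := (f.fiber s).presheaf.stalk v
    refine relSkAt_refPowZ_of_fibre_S3 hS hd ω hω hG s ωt hωt m v hG2 ?_
    haveI : Module.Finite Ov ((Groth.L00.Stk.F (f.fiber s) v).obj (Coh.structureModule (f.fiber s))) :=
      Module.Finite.equiv (Groth.L15.Ref.strE v)
    refine hasSk_congr (M := (Groth.L00.Stk.F (f.fiber s) v).obj (Coh.structureModule (f.fiber s)))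
      ((Groth.L15.Ref.strE v).symm.trans e.symm) ?_
    exact h3

end Groth.L10.RelCan
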