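import Groth.Agent.L01.ArtinianFlatRegular
import Groth.Agent.L04.FibFlat
import Groth.Prelude.Def_CAlg
import Mathlib.RingTheory.Filtration
import Mathlib.LinearAlgebra.TensorProduct.Finiteness

/-!
Extension across a point of fibre depth at least two, for tensor products with a flat module.
-/

set_option autoImplicit false
set_option linter.style.haveILetI false
set_option backward.isDefEq.respectTransparency false
set_option backward.isDefEq.respectTransparency.types false
universe u

open IsLocalRing RingTheory.Sequence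
open scoped TensorProduct Pointwise

noncomputable section

namespace Groth.L10.RelCan.Hartogs

open Groth.L01.ArtinianFlatRegular (LT flat_quotSMulTop nonempty_quotSMulTop_tensor)

variable {A S : Type u} [CommRing A] [IsLocalRing A] [CommRing S] [IsLocalRing S] [IsNoetherianRing S]
  [Algebra A S] [IsLocalHom (algebraMap A S)]
  {N : Type u} [AddCommGroup N] [Module A N] [Module S N] [IsScalarTower A S N] [Module.Finite S N]

omit [IsLocalRing S] [IsNoetherianRing S] [IsLocalHom (algebraMap A S)] [Module.Finite S N] in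
theorem regular_killed [Module.Flat A N] {b : S} (hb : IsSMulRegular (N ⊗[A] (A ⧸ maximalIdeal A)) b)
    (n : ℕ) (L : Type u) [AddCommGroup L] [Module A L] (hL : ∀ a ∈ maximalIdeal A ^ n, ∀ y : L, a • y = 0) :
    IsSMulRegular (N ⊗[A] L) b := by
  classical
  induction n generalizing L with
  | zero =>
    haveI : Subsingleton L := ⟨fun x y => by
      rw [← one_smul A x, ← one_smul A y, hL 1 (by simp) x, hL 1 (by simp) y]⟩
    intro x y _
    exact Subsingleton.elim x y
  | succ n ih =>
    let L' : Submodule A L := maximalIdeal A • ⊤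
    have h' : IsSMulRegular (N ⊗[A] L') b := ih L' fun a ha y => Subtype.ext (by
      show a • (y : L) = 0
      refine Submodule.smul_induction_on y.2 (fun c hc x _ => ?_) (fun x x' hx hx' => ?_)
      · rw [smul_smul]; exact hL _ (by rw [pow_succ]; exact Ideal.mul_mem_mul ha hc) x
      · rw [smul_add, hx, hx', add_zero])
    have hq : IsSMulRegular (N ⊗[A] (L ⧸ L')) b :=
      Groth.L01.ArtinianFlatRegular.isSMulRegular_of_torsion hb _ fun y a => by
        obtain ⟨y, rfl⟩ := Submodule.mkQ_surjective _ y
        exact (Submodule.Quotient.mk_eq_zero _).mpr (Submodule.smul_mem_smul a.2 Submodule.mem_top)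
    refine isSMulRegular_iff_right_eq_zero_of_smul.mpr fun z hz => ?_
    have h1 : LT S N L'.mkQ z = 0 :=
      isSMulRegular_iff_right_eq_zero_of_smul.mp hq _ (by rw [← map_smul, hz, map_zero])
    obtain ⟨w, rfl⟩ := ((lTensor_exact N (LinearMap.exact_subtype_mkQ L') L'.mkQ_surjective) z).mp h1
    have h2 : b • w = 0 := by
      refine Module.Flat.lTensor_preserves_injective_linearMap L'.subtype L'.injective_subtype ?_
      rw [map_zero]
      exact ((LT S N L'.subtype).map_smul b w).trans hz
    rw [isSMulRegular_iff_right_eq_zero_of_smul.mp h' w h2, map_zero]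

/-- An element regular on the closed fibre of a flat module is regular after tensoring with any module. -/
theorem regular_tensor [Module.Flat A N] {b : S} (hb : IsSMulRegular (N ⊗[A] (A ⧸ maximalIdeal A)) b)
    (M : Type u) [AddCommGroup M] [Module A M] : IsSMulRegular (N ⊗[A] M) b := by
  classical
  refine isSMulRegular_iff_right_eq_zero_of_smul.mpr fun z hz => ?_
  obtain ⟨M', hM', hz0⟩ := TensorProduct.exists_finite_submodule_right_of_setFinite ({z} : Set (N ⊗[A] M))
    (Set.finite_singleton z)
  obtain ⟨z', rfl⟩ := Set.singleton_subset_iff.1 hz0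
  haveI := hM'
  have hz' : b • z' = 0 := by
    refine Module.Flat.lTensor_preserves_injective_linearMap M'.subtype M'.injective_subtype ?_
    rw [map_zero]
    exact ((LT S N M'.subtype).map_smul b z').trans hz
  suffices z' = 0 by rw [this, map_zero]
  haveI := Groth.L04.FibFlat.finite_tensor (A := A) (B := S) N M'
  let I : Ideal S := (maximalIdeal A).map (algebraMap A S)
  have hI : I ≠ ⊤ := fun h => (maximalIdeal.isMaximal S).ne_top (eq_top_iff.2 (h.ge.trans
    (Ideal.map_le_iff_le_comap.2 fun a ha => map_nonunit (algebraMap A S) a ha)))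
  have hmem : z' ∈ ⨅ n : ℕ, I ^ n • (⊤ : Submodule S (N ⊗[A] M')) := by
    rw [Submodule.mem_iInf]
    intro n
    let P : Submodule A M' := (maximalIdeal A) ^ n • ⊤
    have h1 : LT S N P.mkQ z' = 0 :=
      isSMulRegular_iff_right_eq_zero_of_smul.mp (regular_killed hb n (M' ⧸ P) fun a ha y => by
        obtain ⟨y, rfl⟩ := Submodule.mkQ_surjective _ y
        exact (Submodule.Quotient.mk_eq_zero _).mpr (Submodule.smul_mem_smul ha Submodule.mem_top)) _
        (by rw [← map_smul, hz', map_zero])
    obtain ⟨w, rfl⟩ := ((lTensor_exact N (LinearMap.exact_subtype_mkQ P) P.mkQ_surjective) z').mp h1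
    clear h1 hz' hz0 hz
    induction w using TensorProduct.induction_on with
    | zero => rw [map_zero]; exact zero_mem _
    | add x y hx hy => rw [map_add]; exact add_mem hx hy
    | tmul x p =>
      rw [LinearMap.lTensor_tmul]
      obtain ⟨p, hp⟩ := p
      change x ⊗ₜ[A] p ∈ _
      refine Submodule.smul_induction_on hp (fun a ha m _ => ?_) fun m m' hm hm' => ?_
      · rw [TensorProduct.tmul_smul, ← algebraMap_smul S a]
        refine Submodule.smul_mem_smul ?_ Submodule.mem_top
        rw [← Ideal.map_pow]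
        exact Ideal.mem_map_of_mem _ ha
      · rw [TensorProduct.tmul_add]; exact add_mem hm hm'
  rwa [Ideal.iInf_pow_smul_eq_bot_of_isLocalRing I hI, Submodule.mem_bot] at hmem

/-- no element of the tensor product is killed by powers of the whole maximal ideal -/
theorem eq_zero_of_torsion [Module.Flat A N] {b : S} (hbm : b ∈ maximalIdeal S)
    (hb : IsSMulRegular (N ⊗[A] (A ⧸ maximalIdeal A)) b) (M : Type u) [AddCommGroup M] [Module A M]
    (z : N ⊗[A] M) (hz : ∀ a ∈ maximalIdeal S, ∃ n : ℕ, a ^ n • z = 0) : z = 0 := by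
  obtain ⟨n, hn⟩ := hz b hbm
  exact isSMulRegular_iff_right_eq_zero_of_smul.mp ((regular_tensor hb M).pow n) z hn

variable {M : Type u} [AddCommGroup M] [Module A M] {R : Type u} [AddCommGroup R] [Module S R]

/-- a map out of the tensor product which is surjective off the closed point is surjective -/
theorem surjective_of_depth_two [Module.Flat A N] {b c : S} (hbm : b ∈ maximalIdeal S) (hcm : c ∈ maximalIdeal S)
    (hb : IsSMulRegular (N ⊗[A] (A ⧸ maximalIdeal A)) b)
    (hc : IsSMulRegular (QuotSMulTop b (N ⊗[A] (A ⧸ maximalIdeal A))) c)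
    (φ : N ⊗[A] M →ₗ[S] R)
    (hker : ∀ z, φ z = 0 → ∀ a ∈ maximalIdeal S, ∃ n : ℕ, a ^ n • z = 0)
    (htor : ∀ r : R, (∀ a ∈ maximalIdeal S, ∃ n : ℕ, a ^ n • r = 0) → r = 0)
    (hcoker : ∀ r : R, ∀ a ∈ maximalIdeal S, ∃ n : ℕ, a ^ n • r ∈ LinearMap.range φ) :
    Function.Surjective φ := by
  have hinj : Function.Injective φ := (injective_iff_map_eq_zero _).2 fun z hz =>
    eq_zero_of_torsion hbm hb M z (hker z hz)
  have hbM := regular_tensor (A := A) hb M
  haveI : Module.Flat A (QuotSMulTop b N) := flat_quotSMulTop fun L _ _ => regular_tensor hb L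
  obtain ⟨e⟩ := nonempty_quotSMulTop_tensor (A := A) (M := N) b (A ⧸ maximalIdeal A)
  have hc' : IsSMulRegular (QuotSMulTop b N ⊗[A] (A ⧸ maximalIdeal A)) c := by
    intro x y hxy
    refine e.symm.injective (hc ?_)
    show c • e.symm x = c • e.symm y
    rw [← map_smul, ← map_smul]
    exact congrArg e.symm hxy
  -- one step
  have step : ∀ r : R, b • r ∈ LinearMap.range φ → r ∈ LinearMap.range φ := by
    rintro r ⟨f, hf⟩
    obtain ⟨e'⟩ := nonempty_quotSMulTop_tensor (A := A) (M := N) b M
    let π := Submodule.mkQ (b • (⊤ : Submodule S (N ⊗[A] M)))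
    have h0 : π f = 0 := by
      refine e'.injective ?_
      rw [map_zero]
      refine eq_zero_of_torsion hcm hc' M _ fun a ha => ?_
      obtain ⟨n, g, hg⟩ := hcoker r a ha
      refine ⟨n, ?_⟩
      rw [← map_smul, ← map_smul]
      refine (congrArg e' ?_).trans (map_zero e')
      refine (Submodule.Quotient.mk_eq_zero _).2 ?_
      rw [show a ^ n • f = b • g from hinj (by rw [map_smul, map_smul, hf, hg, smul_comm])]
      exact Submodule.smul_mem_pointwise_smul _ _ _ Submodule.mem_top
    obtain ⟨f', -, hf'⟩ := (Submodule.mem_smul_pointwise_iff_exists _ _ _).1 ((Submodule.Quotient.mk_eq_zero _).1 h0)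
    refine ⟨f', (sub_eq_zero.1 (htor (r - φ f') fun a ha => ?_)).symm⟩
    obtain ⟨n, g, hg⟩ := hcoker r a ha
    refine ⟨n, ?_⟩
    have hg' : g = a ^ n • f' := hbM (hinj (by
      show φ (b • g) = φ (b • a ^ n • f')
      rw [map_smul, hg, smul_comm, ← hf, ← hf', ← map_smul, smul_comm]))
    rw [smul_sub, ← hg, ← map_smul, hg', sub_self]
  intro r
  obtain ⟨n, hn⟩ := hcoker r b hbm
  induction n generalizing r with
  | zero => obtain ⟨z, hz⟩ := hn; exact ⟨z, hz.trans (by rw [pow_zero, one_smul])⟩
  | succ n ih => exact ih r (step _ (by rwa [smul_smul, ← pow_succ']))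

omit [IsLocalHom (algebraMap A S)] [IsNoetherianRing S] in
/-- the two regular elements supplied by depth two -/
theorem exists_pair {F : Type u} [AddCommGroup F] [Module S F] [Module.Finite S F] [Nontrivial F]
    (h : 2 ≤ LocCoh.depth S F) :
    ∃ b ∈ maximalIdeal S, ∃ c ∈ maximalIdeal S, IsSMulRegular F b ∧ IsSMulRegular (QuotSMulTop b F) c := by
  have hne : (maximalIdeal S) • (⊤ : Submodule S F) ≠ ⊤ :=
    (Submodule.top_ne_ideal_smul_of_le_jacobson_annihilator (maximalIdeal_le_jacobson _)).symm
  rw [LocCoh.depth, LocCoh.idealDepth, if_neg hne] at h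
  have h1 : (1 : ℕ∞) < ⨆ (rs : List S) (_ : IsWeaklyRegular F rs ∧ ∀ r ∈ rs, r ∈ maximalIdeal S),
      (rs.length : ℕ∞) := lt_of_lt_of_le (by norm_num) h
  simp only [lt_iSup_iff] at h1
  obtain ⟨rs, ⟨hreg, hm⟩, hlt⟩ := h1
  match rs, hreg, hm, hlt with
  | [], _, _, hlt => simp at hlt
  | [_], _, _, hlt => simp at hlt
  | b :: c :: _, hreg, hm, _ =>
    obtain ⟨hb, hrest⟩ := (isWeaklyRegular_cons_iff F _ _).1 hreg
    exact ⟨b, hm b (by simp), c, hm c (by simp), hb, ((isWeaklyRegular_cons_iff _ _ _).1 hrest).1⟩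

end Groth.L10.RelCan.Hartogs
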