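import Groth.Agent.L10.RelCan.HomPush
import Groth.Agent.L10.RelCan.GenStalk
import Groth.Agent.L16.CohSupport

/-!
Maps between modules determined by their restriction to an open, at one stalk.
-/

set_option autoImplicit false
set_option maxSynthPendingDepth 4
set_option linter.style.haveILetI false
set_option linter.unusedSectionVars false
set_option backward.defeqAttrib.useBackward true
set_option backward.isDefEq.respectTransparency false
set_option backward.isDefEq.respectTransparency.types false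
universe u

open CategoryTheory CategoryTheory.Limits AlgebraicGeometry TopologicalSpace IsLocalRing
open scoped TensorProduct

noncomputable section

namespace Groth.L10.RelCan

variable {X : Scheme.{u}}

theorem bad_subset_support [IsLocallyNoetherian X] {G H : X.Modules} (φ : G ⟶ H) (z : X) :
    ¬ Function.Bijective (stk φ z) ↔ z ∈ CohB1.support (kernel φ) ∪ CohB1.support (cokernel φ) := by
  constructor
  · intro hb
    by_contra hno
    rw [Set.mem_union, not_or] at hno
    haveI : Subsingleton ((Groth.L00.Stk.F X z).obj (kernel φ)) := not_not.1 hno.1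
    haveI : Subsingleton ((Groth.L00.Stk.F X z).obj (cokernel φ)) := not_not.1 hno.2
    haveI : Mono ((Groth.L00.Stk.F X z).map φ) := Preadditive.mono_of_isZero_kernel _
      ((ModuleCat.isZero_of_subsingleton _).of_iso (PreservesKernel.iso _ φ).symm)
    haveI : Epi ((Groth.L00.Stk.F X z).map φ) := Preadditive.epi_of_isZero_cokernel _
      ((ModuleCat.isZero_of_subsingleton _).of_iso (PreservesCokernel.iso _ φ).symm)
    exact hb ⟨(ModuleCat.mono_iff_injective ((Groth.L00.Stk.F X z).map φ)).1 inferInstance,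
      (ModuleCat.epi_iff_surjective ((Groth.L00.Stk.F X z).map φ)).1 inferInstance⟩
  · intro hz hb
    haveI : IsIso ((Groth.L00.Stk.F X z).map φ) := (ConcreteCategory.isIso_iff_bijective _).2 hb
    rcases hz with hz | hz
    · exact hz (ModuleCat.subsingleton_of_isZero
        ((isZero_kernel_of_mono ((Groth.L00.Stk.F X z).map φ)).of_iso (PreservesKernel.iso _ φ)))
    · exact hz (ModuleCat.subsingleton_of_isZero
        ((isZero_cokernel_of_epi ((Groth.L00.Stk.F X z).map φ)).of_iso (PreservesCokernel.iso _ φ)))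

theorem isClosed_bad [IsLocallyNoetherian X] {G H : X.Modules} (hG : Coh.IsCoh G) (hH : Coh.IsCoh H) (φ : G ⟶ H) :
    IsClosed {z : X | ¬ Function.Bijective (stk φ z)} := by
  haveI := (Groth.L00.AlgQCoh.isQCoh_kernel_cokernel φ hG.1 hH.1).2
  rw [show {z : X | ¬ Function.Bijective (stk φ z)} = _ from Set.ext (bad_subset_support φ)]
  exact (Groth.L16.CohSupport.isClosed_support _ (@Groth.L16.CohSupport.isCoh_kernel _ _ _ _ hG hH.1 φ).2).union
    (Groth.L16.CohSupport.isClosed_support _ (Groth.L14.Quot.isFT_of_epi (cokernel.π φ) hH.2))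

/-- bijectivity at a stalk spreads to a neighbourhood -/
theorem exists_nhd_bijective [IsLocallyNoetherian X] {G H : X.Modules} (hG : Coh.IsCoh G) (hH : Coh.IsCoh H)
    (φ : G ⟶ H) : IsOpen {z : X | Function.Bijective (stk φ z)} := by
  simpa only [Set.compl_ofPred, not_not] using (isClosed_bad hG hH φ).isOpen_compl

set_option maxHeartbeats 1600000 in
/-- a map is bijective at a point where both modules are direct images from an open and it is bijective at the
generisations in the open -/
theorem bijective_of_units [IsNoetherian X] (U : X.Opens) {G H : X.Modules} (hG : Coh.IsCoh G) (hH : Coh.IsCoh H)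
    (φ : G ⟶ H) (y : X)
    (hGy : Function.Bijective (stk ((Scheme.Modules.restrictAdjunction U.ι).unit.app G) y))
    (hHy : Function.Bijective (stk ((Scheme.Modules.restrictAdjunction U.ι).unit.app H) y))
    (hφ : ∀ z, z ⤳ y → z ∈ U → Function.Bijective (stk φ z)) : Function.Bijective (stk φ y) := by
  let adj := Scheme.Modules.restrictAdjunction U.ι
  let P : X.Modules → X.Modules := fun G => (Scheme.Modules.pushforward U.ι).obj ((Scheme.Modules.restrictFunctor U.ι).obj G)
  let ψ : P G ⟶ P H := (Scheme.Modules.pushforward U.ι).map ((Scheme.Modules.restrictFunctor U.ι).map φ)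
  obtain ⟨N, hyN, hN⟩ : ∃ N : X.Opens, y ∈ N ∧ ∀ z ∈ N, z ∈ U → Function.Bijective (stk φ z) := by
    obtain ⟨T, hTf, hTc, hTi, hT⟩ :=
      TopologicalSpace.NoetherianSpace.exists_finite_set_isClosed_irreducible (isClosed_bad hG hH φ)
    let T' := {Z ∈ T | ∃ β, IsGenericPoint β Z ∧ β ∈ U}
    refine ⟨⟨(⋃₀ T')ᶜ, (Set.sUnion_eq_biUnion ▸ (hTf.subset (Set.sep_subset _ _)).isClosed_biUnion fun Z hZ => hTc Z hZ.1 : IsClosed (⋃₀ T')).isOpen_compl⟩,
      fun ⟨Z, ⟨hZ, β, hβ, hβU⟩, hyZ⟩ => ?_, fun z hzN hzU => not_not.1 fun hbad => ?_⟩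
    · have h1 : β ∈ {z : X | ¬ Function.Bijective (stk φ z)} := by rw [hT]; exact ⟨Z, hZ, hβ.mem⟩
      exact h1 (hφ β (hβ.specializes hyZ) hβU)
    · obtain ⟨Z, hZ, hzZ⟩ : z ∈ ⋃₀ T := by rw [← hT]; exact hbad
      obtain ⟨β, hβ⟩ := QuasiSober.sober (hTi Z hZ) (hTc Z hZ)
      exact hzN ⟨Z, ⟨hZ, β, hβ, (hβ.specializes hzZ).mem_open U.2 hzU⟩, hzZ⟩
  have happ : ∀ O : X.Opens, O ≤ N → Function.Bijective (ψ.app O) := fun O hO =>
    Groth.L15.Ref.app_bijective_of_stalk φ (V := U.ι ''ᵁ (U.ι ⁻¹ᵁ O)) fun z hz => by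
      obtain ⟨w, hw, rfl⟩ := hz
      exact hN _ (hO hw) w.2
  have hψ : Function.Bijective (stk ψ y) := by
    refine ⟨(injective_iff_map_eq_zero _).2 fun v hv => ?_, fun v => ?_⟩
    · obtain ⟨O, hO, s, rfl⟩ := TopCat.Presheaf.exists_germ_eq (F := (P G).presheaf) (x := y) v
      obtain ⟨O', hyO', i, j, h⟩ := TopCat.Presheaf.germ_eq (P H).presheaf y hO (show y ∈ N ⊓ O from ⟨hyN, hO⟩)
        (ψ.app O s) 0 (((DerSch.stalkFunctor_map_germ y ψ O hO s).symm.trans hv).trans (map_zero _).symm)
      rw [← TopCat.Presheaf.germ_res_apply (P G).presheaf i y hyO' s]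
      have h0 : ψ.app O' ((P G).presheaf.map i.op s) = 0 := by
        rw [map_zero] at h
        exact (congr($(ψ.mapPresheaf.naturality i.op) s)).trans h
      rw [show (P G).presheaf.map i.op s = 0 from
        (happ O' (le_trans j.le inf_le_left)).1 (h0.trans (map_zero _).symm), map_zero]
    · obtain ⟨O, hO, s, rfl⟩ := TopCat.Presheaf.exists_germ_eq (F := (P H).presheaf) (x := y) v
      obtain ⟨r, hr⟩ := (happ (N ⊓ O) inf_le_left).2 ((P H).presheaf.map (homOfLE inf_le_right).op s)
      refine ⟨(P G).presheaf.germ (N ⊓ O) y ⟨hyN, hO⟩ r, (DerSch.stalkFunctor_map_germ y ψ _ _ r).trans ?_⟩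
      rw [← TopCat.Presheaf.germ_res_apply (P H).presheaf (homOfLE inf_le_right) y ⟨hyN, hO⟩ s]
      exact congrArg _ hr
  have hsq : φ ≫ adj.unit.app H = adj.unit.app G ≫ ψ := adj.unit.naturality φ
  have h : (stk (adj.unit.app H) y : _ → _) ∘ stk φ y = stk ψ y ∘ stk (adj.unit.app G) y := funext fun v => by
    have := congr(((Groth.L00.Stk.F X y).map $hsq).hom v)
    rwa [Functor.map_comp, Functor.map_comp] at this
  exact (Function.Bijective.of_comp_iff' hHy _).1 (h ▸ hψ.comp hGy)

/-- a map is bijective at a point when it is on an open and both modules have regular pairs outside it -/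
theorem bijective_of_pairs_on [IsNoetherian X] (U : X.Opens) {G H : X.Modules} (hG : Coh.IsCoh G) (hH : Coh.IsCoh H)
    (φ : G ⟶ H) (y : X)
    (hGp : ∀ x : X, x ⤳ y → x ∉ U → ∃ b ∈ maximalIdeal (X.presheaf.stalk x), ∃ c ∈ maximalIdeal (X.presheaf.stalk x),
      IsSMulRegular (G.presheaf.stalk x) b ∧ IsSMulRegular (QuotSMulTop b (G.presheaf.stalk x)) c)
    (hHp : ∀ x : X, x ⤳ y → x ∉ U → ∃ b ∈ maximalIdeal (X.presheaf.stalk x), ∃ c ∈ maximalIdeal (X.presheaf.stalk x),
      IsSMulRegular (H.presheaf.stalk x) b ∧ IsSMulRegular (QuotSMulTop b (H.presheaf.stalk x)) c)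
    (hφ : ∀ z, z ⤳ y → z ∈ U → Function.Bijective (stk φ z)) : Function.Bijective (stk φ y) :=
  haveI := hG.1
  haveI := hH.1
  bijective_of_units U hG hH φ y (bijective_unit_of_pairs U G y hGp) (bijective_unit_of_pairs U H y hHp) hφ

end Groth.L10.RelCan
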