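import Groth.Agent.L10.RelCan.DepthSheaf
import Groth.Agent.L15.Ref.Stalk
import Groth.Agent.L16.HomSh.Adjunction
import Groth.Agent.L00.StalkFunctor
import Groth.Agent.L17.Approx.Extend

/-!
Sheaves of maps into a direct image from an open, and evaluation at stalks.
-/

set_option autoImplicit false
set_option linter.style.haveILetI false
set_option linter.unusedSectionVars false
set_option maxSynthPendingDepth 4
set_option backward.defeqAttrib.useBackward true
set_option backward.isDefEq.respectTransparency false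
set_option backward.isDefEq.respectTransparency.types false
universe u

open CategoryTheory CategoryTheory.Limits AlgebraicGeometry TopologicalSpace
open scoped TensorProduct

noncomputable section

namespace Groth.L10.RelCan

open Groth.L16.HomSh (homMod curryEquiv tensorHomAdj evalMod)
open Groth.L00.Tensor (tensorMap)

variable {X : Scheme.{u}}

theorem bijective_stk_unit (U : X.Opens) (G : X.Modules) (x : X) (hx : x ∈ U) :
    Function.Bijective (stk ((Scheme.Modules.restrictAdjunction U.ι).unit.app G) x) := by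
  let η := (Scheme.Modules.restrictAdjunction U.ι).unit.app G
  have h1 : (Scheme.Modules.restrictFunctor U.ι).map η ≫
      (Scheme.Modules.restrictAdjunction U.ι).counit.app _ = 𝟙 _ :=
    (Scheme.Modules.restrictAdjunction U.ι).left_triangle_components G
  haveI : IsIso ((Scheme.Modules.restrictAdjunction U.ι).counit.app ((Scheme.Modules.restrictFunctor U.ι).obj G)) :=
    inferInstance
  haveI : IsIso ((Scheme.Modules.restrictFunctor U.ι).map η) := IsIso.of_isIso_fac_right h1
  haveI : IsIso ((Groth.L21.Mod.stalkF X (U.ι ⟨x, hx⟩)).map η) :=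
    (NatIso.isIso_map_iff (Groth.L21.Mod.restrictStalkF U.ι ⟨x, hx⟩) η).1
      (inferInstanceAs (IsIso ((Groth.L21.Mod.stalkF _ _).map ((Scheme.Modules.restrictFunctor U.ι).map η))))
  exact (ConcreteCategory.bijective_of_isIso _ :
    Function.Bijective ((Groth.L21.Mod.stalkF X (U.ι ⟨x, hx⟩)).map η))

theorem bijective_stk_tensorMap {L M M' : X.Modules} (u : M ⟶ M') (x : X) (h : Function.Bijective (stk u x)) :
    Function.Bijective (stk (tensorMap (𝟙 L) u) x) := by
  haveI : IsIso ((Groth.L00.Stk.F X x).map u) := (ConcreteCategory.isIso_iff_bijective _).2 h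
  let φ := ((Groth.L00.Stk.F X x).map (𝟙 L)).hom
  let ψ := ((Groth.L00.Stk.F X x).map u).hom
  have hφ : Function.Bijective φ := ConcreteCategory.bijective_of_isIso ((Groth.L00.Stk.F X x).map (𝟙 L))
  let e := TensorProduct.congr (LinearEquiv.ofBijective φ hφ) (LinearEquiv.ofBijective ψ h)
  haveI : IsIso (ModuleCat.ofHom (TensorProduct.map φ ψ)) := by
    refine (ConcreteCategory.isIso_iff_bijective _).2 ?_
    exact e.bijective
  haveI : IsIso ((Groth.L00.Stk.τ x L M).hom ≫ (Groth.L00.Stk.F X x).map (tensorMap (𝟙 L) u)) := by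
    rw [← Groth.L00.Stk.τ_natural]; infer_instance
  haveI := IsIso.of_isIso_comp_left (Groth.L00.Stk.τ x L M).hom ((Groth.L00.Stk.F X x).map (tensorMap (𝟙 L) u))
  exact ConcreteCategory.bijective_of_isIso ((Groth.L00.Stk.F X x).map (tensorMap (𝟙 L) u))

/-- maps into a direct image from an open are known on the open -/
theorem bijective_restrict_of_isIso_unit (U : X.Opens) {N : X.Modules}
    [IsIso ((Scheme.Modules.restrictAdjunction U.ι).unit.app N)] (P : X.Modules) :
    Function.Bijective fun g : P ⟶ N => (Scheme.Modules.restrictFunctor U.ι).map g := by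
  let adj := Scheme.Modules.restrictAdjunction U.ι
  have h : ∀ g : P ⟶ N, adj.homEquiv _ _ ((Scheme.Modules.restrictFunctor U.ι).map g) = g ≫ adj.unit.app N :=
    fun g => (adj.homEquiv_unit _ _ _).trans (adj.unit.naturality g).symm
  refine ⟨fun g g' e => (cancel_mono (adj.unit.app N)).1 ?_, fun β => ?_⟩
  · rw [← h, ← h]
    exact congrArg _ e
  · refine ⟨adj.homEquiv _ _ β ≫ inv (adj.unit.app N), (adj.homEquiv _ _).injective ?_⟩
    rw [h, Category.assoc, IsIso.inv_hom_id, Category.comp_id]

/-- maps into a direct image from an open form a direct image from the open -/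
theorem isIso_unit_homMod (U : X.Opens) (L N : X.Modules)
    [IsIso ((Scheme.Modules.restrictAdjunction U.ι).unit.app N)] :
    IsIso ((Scheme.Modules.restrictAdjunction U.ι).unit.app (homMod L N)) := by
  let adj := Scheme.Modules.restrictAdjunction U.ι
  let M := homMod L N
  let P := (Scheme.Modules.pushforward U.ι).obj ((Scheme.Modules.restrictFunctor U.ι).obj M)
  let u : M ⟶ P := adj.unit.app M
  let t : CohB1.tensorMod L M ⟶ CohB1.tensorMod L P := tensorMap (𝟙 L) u
  haveI : IsIso ((Scheme.Modules.restrictFunctor U.ι).map t) :=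
    Groth.L17.Approx.isIso_restrict_of_bijective t U fun O hO =>
      Groth.L15.Ref.app_bijective_of_stalk t fun z hz =>
        bijective_stk_tensorMap u z (bijective_stk_unit U M z (hO hz))
  obtain ⟨α, hα⟩ := (bijective_restrict_of_isIso_unit U (CohB1.tensorMod L P)).2
    (inv ((Scheme.Modules.restrictFunctor U.ι).map t) ≫ (Scheme.Modules.restrictFunctor U.ι).map (evalMod L N))
  replace hα : (Scheme.Modules.restrictFunctor U.ι).map α = inv ((Scheme.Modules.restrictFunctor U.ι).map t) ≫
    (Scheme.Modules.restrictFunctor U.ι).map (evalMod L N) := hα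
  let r : P ⟶ M := curryEquiv L P N α
  have h1 : u ≫ r = 𝟙 M := by
    refine (curryEquiv L M N).symm.injective ?_
    have hnat : (curryEquiv L M N).symm (u ≫ r) = t ≫ α := by
      show tensorMap (𝟙 L) (u ≫ r) ≫ evalMod L N = t ≫ α
      rw [show tensorMap (𝟙 L) (u ≫ r) = tensorMap (𝟙 L) u ≫ tensorMap (𝟙 L) r by
        rw [← Groth.L00.Tensor.tensorMap_comp, Category.comp_id], Category.assoc]
      exact congrArg (t ≫ ·) ((curryEquiv L P N).symm_apply_apply α)
    rw [hnat]
    refine (bijective_restrict_of_isIso_unit U _).1 ?_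
    show (Scheme.Modules.restrictFunctor U.ι).map (t ≫ α) = (Scheme.Modules.restrictFunctor U.ι).map _
    rw [Functor.map_comp, hα, IsIso.hom_inv_id_assoc]
    show _ = (Scheme.Modules.restrictFunctor U.ι).map (tensorMap (𝟙 L) (𝟙 M) ≫ evalMod L N)
    rw [Groth.L00.Tensor.tensorMap_id, Category.id_comp]
  refine ⟨r, h1, ?_⟩
  haveI hu : IsIso ((Scheme.Modules.restrictFunctor U.ι).map u) :=
    IsIso.of_isIso_fac_right (adj.left_triangle_components M)
  refine (adj.homEquiv _ _).symm.injective ?_
  show (adj.homEquiv P _).symm (r ≫ u) = (adj.homEquiv P _).symm (𝟙 P)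
  simp only [Adjunction.homEquiv_counit, Functor.map_comp, Category.assoc]
  rw [show (Scheme.Modules.restrictFunctor U.ι).map r = inv ((Scheme.Modules.restrictFunctor U.ι).map u) from
    IsIso.eq_inv_of_hom_inv_id (by rw [← Functor.map_comp, h1, CategoryTheory.Functor.map_id]),
    IsIso.inv_hom_id_assoc, CategoryTheory.Functor.map_id, Category.id_comp]

/-- evaluation -/
def evHom (L N : X.Modules) : CohB1.tensorMod L (RefHull.homSh L N) ⟶ N :=
  tensorMap (𝟙 L) (Groth.L15.Ref.toHomMod L N) ≫ evalMod L N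

/-- evaluation at stalks -/
theorem evHom_stalk (L N : X.Modules) (x : X) (l : L.presheaf.stalk x) (φ : (RefHull.homSh L N).presheaf.stalk x) :
    stk (evHom L N) x ((Groth.L00.Stk.τ x L (RefHull.homSh L N)).hom (l ⊗ₜ φ)) = RefHull.evalStalk L N x φ l := by
  obtain ⟨U, hU, m, s, rfl, rfl⟩ := Groth.L00.StalkTensor.exists_pair
    (Groth.L00.Tensor.pre L) (Groth.L00.Tensor.pre (RefHull.homSh L N)) x l φ
  have h1 : stk (evHom L N) x ((Groth.L00.Stk.τ x L (RefHull.homSh L N)).hom
      (Groth.L00.StalkTensor.germ (Groth.L00.Tensor.pre L) x hU m ⊗ₜ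
        Groth.L00.StalkTensor.germ (Groth.L00.Tensor.pre (RefHull.homSh L N)) x hU s)) =
      N.presheaf.germ U x hU ((evHom L N).app U (Groth.L18.GenLoc.tens L (RefHull.homSh L N) U m s)) :=
    (congrArg (stk (evHom L N) x) (Groth.L00.Stk.τfun_tmul x L (RefHull.homSh L N) hU m s)).trans
      (DerSch.stalkFunctor_map_germ x (evHom L N) U hU _)
  have h2 : (evHom L N).app U (Groth.L18.GenLoc.tens L (RefHull.homSh L N) U m s) =
      Groth.L15.Ref.secOf (show Γ(RefHull.homSh L N, U) from s) le_rfl (show Γ(L, U) from m) := by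
    show (evalMod L N).app U ((tensorMap (𝟙 L) (Groth.L15.Ref.toHomMod L N)).app U _) = _
    rw [Groth.L16.HomSh.tensorMap_tens, Groth.L16.HomSh.evalMod_tens, Groth.L15.Ref.toHomMod_app]
    exact congrArg (fun θ => Groth.L16.HomSh.ev θ le_rfl (show Γ(L, U) from m))
      ((Groth.L16.HomSh.secEquiv U).apply_symm_apply (Groth.L15.Ref.toSec U (show Γ(RefHull.homSh L N, U) from s)))
  refine h1.trans ?_
  rw [h2, Groth.L15.Ref.germ_secOf]
  refine Eq.trans ?_ (LinearMap.congr_fun (RefHull.evalStalk_germ L N x hU (show Γ(RefHull.homSh L N, U) from s)) _).symm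
  rfl

/-- evaluation is bijective where the source is isomorphic to a target with scalar endomorphisms -/
theorem bijective_evHom_of_equiv [IsLocallyNoetherian X] {L N : X.Modules} (hL : Coh.IsCoh L) [Coh.IsQCoh N] (x : X)
    (e : (Groth.L00.Stk.F X x).obj L ≃ₗ[X.presheaf.stalk x] (Groth.L00.Stk.F X x).obj N)
    (hend : Function.Bijective fun a : X.presheaf.stalk x =>
      a • (LinearMap.id : N.presheaf.stalk x →ₗ[X.presheaf.stalk x] N.presheaf.stalk x)) :
    Function.Bijective (stk (evHom L N) x) ∧
      Nonempty ((Groth.L00.Stk.F X x).obj (RefHull.homSh L N) ≃ₗ[X.presheaf.stalk x] X.presheaf.stalk x) := by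
  let O := X.presheaf.stalk x
  let Φ : O ≃ₗ[O] (N.presheaf.stalk x →ₗ[O] N.presheaf.stalk x) :=
    LinearEquiv.ofBijective (LinearMap.toSpanSingleton O _ LinearMap.id) hend
  let σ : (Groth.L00.Stk.F X x).obj (RefHull.homSh L N) ≃ₗ[O] O :=
    (homE hL x).trans ((LinearEquiv.congrLeft (N.presheaf.stalk x) O e).trans Φ.symm)
  refine ⟨?_, ⟨σ⟩⟩
  let T : ((Groth.L00.Stk.F X x).obj L ⊗[O] (Groth.L00.Stk.F X x).obj (RefHull.homSh L N)) ≃ₗ[O]
      (Groth.L00.Stk.F X x).obj (CohB1.tensorMod L (RefHull.homSh L N)) :=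
    (Groth.L00.Stk.τ x L (RefHull.homSh L N)).toLinearEquiv
  let E : ((Groth.L00.Stk.F X x).obj L ⊗[O] (Groth.L00.Stk.F X x).obj (RefHull.homSh L N)) ≃ₗ[O]
      (Groth.L00.Stk.F X x).obj N :=
    (TensorProduct.congr (LinearEquiv.refl O _) σ).trans ((TensorProduct.rid O _).trans e)
  have h : (stk (evHom L N) x).comp T.toLinearMap = E.toLinearMap := TensorProduct.ext' fun l φ => by
    refine (evHom_stalk L N x l φ).trans ?_
    show RefHull.evalStalk L N x φ l = e (σ φ • l)
    have h0 : Φ (σ φ) = LinearEquiv.congrLeft (N.presheaf.stalk x) O e (homE hL x φ) := Φ.apply_symm_apply _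
    have h3 := LinearMap.congr_fun h0 (e l)
    rw [map_smul]
    refine Eq.trans ?_ h3.symm
    show RefHull.evalStalk L N x φ l = RefHull.evalStalk L N x φ (e.symm (e l))
    rw [e.symm_apply_apply]
  have h' : (stk (evHom L N) x : _ → _) ∘ T = E := funext fun z => LinearMap.congr_fun h z
  exact (Function.Bijective.of_comp_iff _ T.bijective).1 (h' ▸ E.bijective)

end Groth.L10.RelCan
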