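import Groth.Agent.L10.RelCan.RootLift
import Groth.Agent.L10.RelCan.FibreThree
import Groth.Agent.L10.RelCan.GenPairs
import Groth.Agent.L10.RelCan.GenStalk
import Groth.Agent.L00.KFlatStalk

/-!
Sheaves invertible on the fibre with an invertible power of order prime to the residue characteristic are invertible.
-/

set_option autoImplicit false
set_option maxSynthPendingDepth 4
set_option linter.style.haveILetI false
set_option linter.unusedSectionVars false
set_option linter.unusedVariables false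
set_option backward.defeqAttrib.useBackward true
set_option backward.isDefEq.respectTransparency false
set_option backward.isDefEq.respectTransparency.types false
universe u

open CategoryTheory CategoryTheory.Limits AlgebraicGeometry TopologicalSpace IsLocalRing
open scoped TensorProduct

noncomputable section

namespace Groth.L10.RelCan

namespace Core

/-- a nowhere vanishing form of degree r on a module with an invertible double dual of the r-th power of its dual -/
theorem exists_form {O : Type u} [CommRing O] {Q W : Type u} [AddCommGroup Q] [Module O Q] [AddCommGroup W] [Module O W]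
    (σ : W ≃ₗ[O] (Q →ₗ[O] O)) (T : ℕ → Type u) [∀ n, AddCommGroup (T n)] [∀ n, Module O (T n)]
    (e0 : T 0 ≃ₗ[O] O) (e : ∀ n, T (n + 1) ≃ₗ[O] T n ⊗[O] W) (r : ℕ) {D : Type u} [AddCommGroup D] [Module O D]
    (δ : D ≃ₗ[O] (T r →ₗ[O] O)) (θ : (D →ₗ[O] O) ≃ₗ[O] O) :
    ∃ τ : Q → O, (∀ (c : O) q, τ (c • q) = c ^ r * τ q) ∧
      ∀ (P : Ideal O) [P.IsPrime] (q0 : Q) (ε : Q →ₗ[O] O), ε q0 ∉ P → τ q0 ∉ P := by
  let pw : ∀ n, Q → (T n →ₗ[O] O) := fun n q =>
    Nat.rec (motive := fun n => T n →ₗ[O] O) e0.toLinearMap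
      (fun n φ => (LinearMap.mul' O O).comp ((TensorProduct.map φ ((LinearMap.applyₗ q).comp σ.toLinearMap)).comp
        (e n).toLinearMap)) n
  have hsucc : ∀ n q t w, pw (n + 1) q ((e n).symm (t ⊗ₜ w)) = pw n q t * σ w q := fun n q t w => by
    show LinearMap.mul' O O (TensorProduct.map _ _ (e n ((e n).symm (t ⊗ₜ w)))) = _
    rw [LinearEquiv.apply_symm_apply, TensorProduct.map_tmul, LinearMap.mul'_apply]
    rfl
  have hhom : ∀ n (c : O) q, pw n (c • q) = c ^ n • pw n q := by
    intro n c q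
    induction n with
    | zero => rw [pow_zero, one_smul]; rfl
    | succ n ih =>
      refine LinearMap.ext fun x => ?_
      obtain ⟨z, rfl⟩ := (e n).symm.surjective x
      induction z using TensorProduct.induction_on with
      | zero => simp
      | add a b ha hb => rw [map_add, map_add, map_add, ha, hb]
      | tmul t w =>
        rw [hsucc, LinearMap.smul_apply, hsucc, ih, LinearMap.smul_apply, map_smul, smul_eq_mul, smul_eq_mul, smul_eq_mul]
        ring
  let γ : D →ₗ[O] O := θ.symm 1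
  refine ⟨fun q => γ (δ.symm (pw r q)), fun c q => by
    simp only [hhom, map_smul, smul_eq_mul], fun P hP q0 ε he h => ?_⟩
  have hw : ∀ n, ∃ t : T n, pw n q0 t = ε q0 ^ n := fun n => by
    induction n with
    | zero => exact ⟨e0.symm 1, by rw [pow_zero]; exact e0.apply_symm_apply 1⟩
    | succ n ih =>
      obtain ⟨t, ht⟩ := ih
      exact ⟨(e n).symm (t ⊗ₜ σ.symm ε), by rw [hsucc, ht, σ.apply_symm_apply, pow_succ]⟩
  obtain ⟨t, ht⟩ := hw r
  let φ : D →ₗ[O] O := (LinearMap.applyₗ t).comp δ.toLinearMap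
  have h1 : φ (δ.symm (pw r q0)) = θ φ * γ (δ.symm (pw r q0)) := by
    have h2 : φ = θ φ • γ := θ.injective (by rw [map_smul, θ.apply_symm_apply, smul_eq_mul, mul_one])
    exact LinearMap.congr_fun h2 _
  have h3 : φ (δ.symm (pw r q0)) = ε q0 ^ r := by
    show δ (δ.symm (pw r q0)) t = _
    rw [δ.apply_symm_apply, ht]
  exact he (hP.mem_of_pow_mem r (by rw [← h3, h1]; exact Ideal.mul_mem_left _ _ h))

end Core

variable {X S : Scheme.{u}}

set_option maxHeartbeats 1600000 in
/-- invertibility lifts from the fibre along powers prime to the residue characteristic -/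
theorem invertibleAt_dual_of_power [IsLocallyNoetherian X] [IsLocallyNoetherian S] (f : X ⟶ S) [Flat f]
    [LocallyOfFiniteType f] (hS : RelCanon.IsSkMor f 2) {G : X.Modules} (hG : Coh.IsCoh G) (y : X)
    (hinv : ∀ z, z ∈ RelCanon.gorLocus f → RelCanon.InvertibleAt G z)
    (hcod : ∀ z, z ⤳ y → f z = f y → z ∉ RelCanon.gorLocus f →
      (2 : WithBot ℕ∞) ≤ ringKrullDim ((f.fiber (f z)).presheaf.stalk (f.asFiber z)))
    (s : ℕ) (hs : s ≠ 0) (hsk : (s : S.residueField (f y)) ≠ 0)
    (hpow : RelCanon.InvertibleAt (RelCanon.refPowZ (RefHull.dual G) (s : ℤ)) y)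
    (hfree : letI := algStalk f y
      Nonempty (Core.Fn (S.presheaf.stalk (f y)) (X.presheaf.stalk y) ((Groth.L00.Stk.F X y).obj G)
        (S.presheaf.stalk (f y) ⧸ maximalIdeal (S.presheaf.stalk (f y))) ≃ₗ[X.presheaf.stalk y]
        X.presheaf.stalk y ⊗[S.presheaf.stalk (f y)]
          (S.presheaf.stalk (f y) ⧸ maximalIdeal (S.presheaf.stalk (f y))))) :
    RelCanon.InvertibleAt (RefHull.dual G) y := by
  let At := S.presheaf.stalk (f y)
  let O := X.presheaf.stalk y
  letI := algStalk f y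
  haveI := isLocalHom_algStalk f y
  haveI := flat_algStalk f y
  let Q := (Groth.L00.Stk.F X y).obj G
  haveI : Module.Finite O Q := Groth.L06.SupportStalk.finite_stalk G hG y
  have hD := fibreData f hS hG y hinv hcod
  have hu : IsUnit (s : O) := by
    have h1 : IsUnit (s : At) := by
      refine IsLocalRing.notMem_maximalIdeal.1 fun h => hsk ?_
      show (s : IsLocalRing.ResidueField At) = 0
      rw [← map_natCast (IsLocalRing.residue At)]
      exact (IsLocalRing.residue_eq_zero_iff _).2 h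
    have := h1.map (algebraMap At O)
    rwa [map_natCast] at this
  have hc : Coh.IsCoh (RefHull.dual G) := Groth.L15.Ref.isCoh_dual hG
  have hpc : ∀ n, Coh.IsCoh (CohB1.tensorPow (RefHull.dual G) n) := fun n => by
    induction n with
    | zero => exact Groth.L16.CohClosedPush.isCoh_structure
    | succ n ih => exact Groth.L15.Ref.isCoh_tensorMod ih hc
  obtain ⟨eγ⟩ := exists_stalk_equiv_of_invertibleAt hpow
  obtain ⟨τ, hhom, hnv⟩ := Core.exists_form (Q := Q) (W := (Groth.L00.Stk.F X y).obj (RefHull.dual G)) (dualStalk hG y)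
    (fun n => (Groth.L00.Stk.F X y).obj (CohB1.tensorPow (RefHull.dual G) n)) (Groth.L15.Ref.strE y).symm
    (fun n => (Groth.L00.Stk.τ y (CohB1.tensorPow (RefHull.dual G) n) (RefHull.dual G)).toLinearEquiv.symm) s
    (dualStalk (hpc s) y) ((dualStalk (Groth.L15.Ref.isCoh_dual (hpc s)) y).symm.trans eγ)
  obtain ⟨θ⟩ := hfree
  have hev := Core.ev_surjective_of_root hD s τ hs hu hhom (fun P _ _ q0 ε he _ => hnv P q0 ε he) θ
  exact invertibleAt_of_fibre f hG y ⟨Core.ev_residue_injective hev, hev⟩ ⟨θ⟩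

/-- free fibres of maps from invertibility on the fibre -/
theorem exists_fibre_free [IsLocallyNoetherian X] (f : X ⟶ S) {G : X.Modules} (hG : Coh.IsCoh G) (y : X)
    [IsLocallyNoetherian (f.fiber (f y))]
    (h : RelCanon.InvertibleAt (RefHull.dual ((Scheme.Modules.pullback (f.fiberι (f y))).obj G)) (f.asFiber y)) :
    letI := algStalk f y
    Nonempty (Core.Fn (S.presheaf.stalk (f y)) (X.presheaf.stalk y) ((Groth.L00.Stk.F X y).obj G)
      (S.presheaf.stalk (f y) ⧸ maximalIdeal (S.presheaf.stalk (f y))) ≃ₗ[X.presheaf.stalk y]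
      X.presheaf.stalk y ⊗[S.presheaf.stalk (f y)]
        (S.presheaf.stalk (f y) ⧸ maximalIdeal (S.presheaf.stalk (f y)))) := by
  suffices key : ∀ (t : S) [IsLocallyNoetherian (f.fiber t)] (v : f.fiber t), f.fiberι t v = y →
      RelCanon.InvertibleAt (RefHull.dual ((Scheme.Modules.pullback (f.fiberι t)).obj G)) v →
      letI := algStalk f y
      Nonempty (Core.Fn (S.presheaf.stalk (f y)) (X.presheaf.stalk y) ((Groth.L00.Stk.F X y).obj G)
        (S.presheaf.stalk (f y) ⧸ maximalIdeal (S.presheaf.stalk (f y))) ≃ₗ[X.presheaf.stalk y]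
        X.presheaf.stalk y ⊗[S.presheaf.stalk (f y)]
          (S.presheaf.stalk (f y) ⧸ maximalIdeal (S.presheaf.stalk (f y)))) from
    key (f y) (f.asFiber y) (Scheme.Hom.fiberι_asFiber f y) h
  intro t _ v hv h1
  subst hv
  let O := X.presheaf.stalk (f.fiberι t v)
  let Ov := (f.fiber t).presheaf.stalk v
  letI := algStalk f (f.fiberι t v)
  letI : Algebra O Ov := ((f.fiberι t).stalkMap v).hom.toAlgebra
  obtain ⟨hsurj, hker⟩ := Groth.L18.stalkMap_fiberι f t v
  let N := (Groth.L00.Stk.F (f.fiber t) v).obj (RefHull.dual ((Scheme.Modules.pullback (f.fiberι t)).obj G))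
  letI : Module O N := Module.compHom _ ((f.fiberι t).stalkMap v).hom
  haveI : IsScalarTower O Ov N := .of_algebraMap_smul fun _ _ => rfl
  obtain ⟨Φ⟩ := exists_dualPullEquiv f (f.fiberι t) hG v (maximalIdeal (S.presheaf.stalk (f (f.fiberι t v)))) hsurj hker
  obtain ⟨T, -⟩ := nonempty_quot_equiv (A := S.presheaf.stalk (f (f.fiberι t v)))
    (maximalIdeal (S.presheaf.stalk (f (f.fiberι t v)))) (O' := Ov) hsurj hker
  obtain ⟨e⟩ := exists_stalk_equiv_of_invertibleAt h1
  exact ⟨Φ.symm.trans ((LinearEquiv.restrictScalars O e).trans T)⟩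

/-- invertibility passes between double duals isomorphic off codimension two -/
theorem invertibleAt_ddual_of_restrict_iso [IsNoetherian X] [IsLocallyNoetherian S] (f : X ⟶ S) (hS : RelCanon.IsSkMor f 2)
    (U : X.Opens) {P P' : X.Modules} (hP : Coh.IsCoh P) (hP' : Coh.IsCoh P') (y : X)
    (hdim : ∀ z, z ⤳ y → f z = f y → z ∉ U →
      (2 : WithBot ℕ∞) ≤ ringKrullDim ((f.fiber (f z)).presheaf.stalk (f.asFiber z)))
    (e : (RefHull.ddual P').restrict U.ι ≅ (RefHull.ddual P).restrict U.ι)
    (h : RelCanon.InvertibleAt (RefHull.ddual P) y) : RelCanon.InvertibleAt (RefHull.ddual P') y := by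
  have hc := Groth.L15.Ref.isCoh_dual (Groth.L15.Ref.isCoh_dual hP)
  have hc' := Groth.L15.Ref.isCoh_dual (Groth.L15.Ref.isCoh_dual hP')
  haveI : Coh.IsQCoh (RefHull.ddual P) := hc.1
  haveI : Coh.IsQCoh (RefHull.ddual P') := hc'.1
  obtain ⟨σ⟩ := nonempty_stalkEquiv_of_pairs U (RefHull.ddual P') (RefHull.ddual P) y
    (fun x hx hxU => pairs_ddual P' hP' x (exists_pair_generization f hS U y hdim x hx hxU))
    (fun x hx hxU => pairs_ddual P hP x (exists_pair_generization f hS U y hdim x hx hxU)) e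
  obtain ⟨τ⟩ := exists_stalk_equiv_of_invertibleAt h
  exact invertibleAt_of_stalk hc' y (σ.trans τ)

/-- reflexive powers of an invertible sheaf -/
theorem nonempty_refPowZ_tensorPow {L : X.Modules} (hL : PicF.IsInvertible L) (n : ℕ) :
    Nonempty (RelCanon.refPowZ L (n : ℤ) ≅ CohB1.tensorPow L n) :=
  nonempty_ddual_invertible (Groth.L18.Ample.isInvertible_tensorPow hL n)

/-- iterated reflexive powers where the sheaf is invertible -/
theorem nonempty_refPowZ_refPowZ_restrict (U : X.Opens) {F : X.Modules} (hF : PicF.IsInvertible (F.restrict U.ι))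
    (j k : ℕ) :
    Nonempty ((RelCanon.refPowZ (RelCanon.refPowZ F (j : ℤ)) (k : ℤ)).restrict U.ι ≅
      CohB1.tensorPow (F.restrict U.ι) (j * k)) := by
  obtain ⟨e1⟩ := nonempty_refPowZ_restrict U.ι (RelCanon.refPowZ F (j : ℤ)) (k : ℤ)
  obtain ⟨e2⟩ := nonempty_refPowZ_restrict U.ι F (j : ℤ)
  obtain ⟨e3⟩ := nonempty_refPowZ_tensorPow hF j
  obtain ⟨e4⟩ := nonempty_refPowZ_congr (e2.symm ≪≫ e3) (k : ℤ)
  obtain ⟨e5⟩ := nonempty_refPowZ_tensorPow (Groth.L18.Ample.isInvertible_tensorPow hF j) k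
  exact ⟨e1.symm ≪≫ e4 ≪≫ e5 ≪≫ Groth.L00.Tensor.tensorPowMul (F.restrict U.ι) j k⟩

end Groth.L10.RelCan
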