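import Groth.Agent.L10.RelCan.CommuteS2
import Groth.Agent.L18.AmplePull
import Groth.Agent.L18.KernelTensorGG
import Groth.Agent.L22.Adjunction.NormalDiv

/-!
Invertible modules satisfy relative Serre conditions; their reflexive powers are invertible.
-/

set_option autoImplicit false
set_option linter.style.haveILetI false
set_option backward.defeqAttrib.useBackward true
set_option backward.isDefEq.respectTransparency false
set_option backward.isDefEq.respectTransparency.types false
universe u

open CategoryTheory CategoryTheory.Limits AlgebraicGeometry TopologicalSpace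

noncomputable section

namespace Groth.L10.RelCan

theorem isInvertible_dual {X : Scheme.{u}} {L : X.Modules} (hL : PicF.IsInvertible L) :
    PicF.IsInvertible (RefHull.dual L) := by
  obtain ⟨N, hN, ⟨e⟩⟩ := Groth.L08.Cube.exists_inverse hL
  obtain ⟨d⟩ := Groth.L22.Adjunction.nonempty_dual_iso hL e
  exact Groth.L18.Ample.isInvertible_of_iso d.symm hN

theorem isInvertible_refPowZ {X : Scheme.{u}} {L : X.Modules} (hL : PicF.IsInvertible L) (m : ℤ) :
    PicF.IsInvertible (RelCanon.refPowZ L m) := by
  cases m with
  | ofNat n => exact isInvertible_dual (isInvertible_dual (Groth.L18.Ample.isInvertible_tensorPow hL n))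
  | negSucc n => exact isInvertible_dual (isInvertible_dual
      (Groth.L18.Ample.isInvertible_tensorPow (isInvertible_dual hL) (n + 1)))

theorem relSkAt_of_isInvertible {X S : Scheme.{u}} (f : X ⟶ S) (k : ℕ) (hf : RelCanon.IsSkMor f k)
    {L : X.Modules} (hL : PicF.IsInvertible L) (y : X) : RelCanon.RelSkAt f k L y := by
  haveI := hf.1
  refine ⟨?_, ?_⟩
  · letI := FlatMod.moduleStalkOver f L y
    letI : Algebra (S.presheaf.stalk (f y)) (X.presheaf.stalk y) := (f.stalkMap y).hom.toAlgebra
    haveI : Module.Flat (S.presheaf.stalk (f y)) (X.presheaf.stalk y) := (Flat.iff_flat_stalkMap f).1 hf.1 y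
    haveI : IsScalarTower (S.presheaf.stalk (f y)) (X.presheaf.stalk y) (L.presheaf.stalk y) :=
      IsScalarTower.of_algebraMap_smul fun _ _ => rfl
    obtain ⟨e⟩ := Groth.L18.KernelTensorGG.exists_stalk_equiv hL y
    let e' : X.presheaf.stalk y ≃ₗ[X.presheaf.stalk y] L.presheaf.stalk y := e
    exact Module.Flat.of_linearEquiv (e'.restrictScalars (S.presheaf.stalk (f y))).symm
  · let z := f.asFiber y
    let Ov := (f.fiber (f y)).presheaf.stalk z
    let σ : Ov ≃ₗ[Ov] (Coh.structureModule (f.fiber (f y))).presheaf.stalk z :=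
      LinearEquiv.ofBijective (LinearMap.toSpanSingleton Ov _ (Groth.L22.oneGerm z))
        ⟨(injective_iff_map_eq_zero _).2 fun a ha => Groth.L22.eq_zero_of_smul_oneGerm ha,
          Groth.L22.stalk_smul_oneGerm_surjective _⟩
    obtain ⟨e⟩ := Groth.L18.KernelTensorGG.exists_stalk_equiv (Groth.L18.Ample.isInvertible_pullback (f.fiberι (f y)) hL) z
    exact Groth.L29.SchStalk.hasSk_congr (σ.symm.trans e) (hf.2.2 y)

end Groth.L10.RelCan
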