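import Groth.Agent.L10.RelCan.IndexLift

/-!
The dual of the pulled back predual of the first reflexive power is invertible on a quasi-Gorenstein fibre.
-/

set_option autoImplicit false
set_option maxSynthPendingDepth 4
set_option linter.style.haveILetI false
set_option linter.unusedSectionVars false
set_option linter.unusedVariables false
set_option backward.defeqAttrib.useBackward true
set_option backward.isDefEq.respectTransparency false
set_option backward.isDefEq.respectTransparency.types false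
universe u

open CategoryTheory CategoryTheory.Limits AlgebraicGeometry TopologicalSpace IsLocalRing
open scoped TensorProduct

noncomputable section

namespace Groth.L10.RelCan

variable {A : Type u} [CommRing A] [IsNoetherianRing A] {Y : Scheme.{u}} [Y.Over (Spec (CommRingCat.of A))]
  [IsProper (Y ↘ Spec (CommRingCat.of A))] {d : ℕ}

set_option maxHeartbeats 1600000 in
theorem invertibleAt_dual_pullback_of_quasiGor (hS : RelCanon.IsSkMor (Y ↘ Spec (CommRingCat.of A)) 2)
    (hd : Cyc.HasRelDim (Y ↘ Spec (CommRingCat.of A)) d) (ω : Y.Modules)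
    (hω : RelCanon.IsDualizingSheaf A Y d ω) (t : Spec (CommRingCat.of A))
    (hG1 : ∀ y : Y, (Y ↘ Spec (CommRingCat.of A)) y = t → y ∉ RelCanon.gorLocus (Y ↘ Spec (CommRingCat.of A)) →
      (2 : WithBot ℕ∞) ≤ ringKrullDim (((Y ↘ Spec (CommRingCat.of A)).fiber ((Y ↘ Spec (CommRingCat.of A)) y)).presheaf.stalk
        ((Y ↘ Spec (CommRingCat.of A)).asFiber y)))
    (hqg : ∀ ωt : ((Y ↘ Spec (CommRingCat.of A)).fiber t).Modules,
      @RelCanon.IsDualizingSheaf ((Spec (CommRingCat.of A)).residueField t) _ ((Y ↘ Spec (CommRingCat.of A)).fiber t)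
        ⟨(Y ↘ Spec (CommRingCat.of A)).fiberToSpecResidueField t⟩ d ωt → PicF.IsInvertible ωt)
    {G : Y.Modules} (hGc : Coh.IsCoh G) (hGeq : RelCanon.refPowZ ω ((1 : ℕ) : ℤ) = RefHull.dual G)
    (hinv : ∀ z, z ∈ RelCanon.gorLocus (Y ↘ Spec (CommRingCat.of A)) → RelCanon.InvertibleAt G z)
    (v : (Y ↘ Spec (CommRingCat.of A)).fiber t) :
    RelCanon.InvertibleAt (RefHull.dual ((Scheme.Modules.pullback ((Y ↘ Spec (CommRingCat.of A)).fiberι t)).obj G)) v := by
  let f := Y ↘ Spec (CommRingCat.of A)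
  haveI := hS.1
  haveI : IsLocallyNoetherian Y := LocallyOfFiniteType.isLocallyNoetherian f
  haveI : LocallyOfFiniteType f := inferInstance
  let k := (Spec (CommRingCat.of A)).residueField t
  letI : Algebra A k := (Spec.preimage ((Spec (CommRingCat.of A)).fromSpecResidueField t)).hom.toAlgebra
  let Z := f.fiber t
  letI : Z.Over (Spec (CommRingCat.of k)) := ⟨f.fiberToSpecResidueField t⟩
  let p : Z ⟶ Y := f.fiberι t
  have hp : IsPullback p (Z ↘ Spec (CommRingCat.of k)) f (Spec.map (CommRingCat.ofHom (algebraMap A k))) := by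
    rw [show Spec.map (CommRingCat.ofHom (algebraMap A k)) = (Spec (CommRingCat.of A)).fromSpecResidueField t from
      Spec.map_preimage _]
    exact IsPullback.of_hasPullback _ _
  haveI : IsProper (Z ↘ Spec (CommRingCat.of k)) := MorphismProperty.of_isPullback hp (inferInstanceAs (IsProper f))
  haveI : IsLocallyNoetherian Z := LocallyOfFiniteType.isLocallyNoetherian (Z ↘ Spec (CommRingCat.of k))
  haveI : CompactSpace Z := QuasiCompact.compactSpace_of_compactSpace (Z ↘ Spec (CommRingCat.of k))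
  haveI : IsNoetherian Z := {}
  haveI := isLeftAdjoint (A := k) (Y := Z) (d := d) (Groth.L22.Cyc.hasRelDim_baseChange hp hd)
  have hω' := isDualizingSheaf_ω₀ k Z d
  let ωt := ω₀ k Z d
  have hωti : PicF.IsInvertible ωt := hqg ωt hω'
  haveI := isLeftAdjoint (A := A) (Y := Y) (d := d) hd
  let U := gorOpen A Y
  let U' : Z.Opens := p ⁻¹ᵁ U
  let q := p ∣_ U
  let L := ω.restrict U.ι
  have hL : PicF.IsInvertible L := isInvertible_omega_gorOpen hd ω hω
  haveI := (isCoh_and_nontrivial d hd ω hω).1.1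
  obtain ⟨lam, hlam⟩ := exists_bcMap_bijective hp hd U (fun x hx => ⟨hx.1, by haveI := hx.2; exact Groth.Agent.S0341.result _⟩)
    ω hω ωt hω'
  haveI : Coh.IsQCoh ωt := by obtain ⟨_, h, -⟩ := (isDualizingSheaf_iff ωt).1 hω'; exact h
  haveI : IsIso ((Scheme.Modules.restrictFunctor U'.ι).map lam) :=
    Groth.L17.Approx.isIso_restrict_of_bijective lam U' fun O hO =>
      Groth.L15.Ref.app_bijective_of_stalk lam fun z hz => hlam z (hO hz)
  let eω : ωt.restrict U'.ι ≅ (Scheme.Modules.pullback q).obj L :=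
    (asIso ((Scheme.Modules.restrictFunctor U'.ι).map lam)).symm ≪≫ restrictPull p U ω
  let P := (Scheme.Modules.pullback p).obj G
  have hPc : Coh.IsCoh P := Groth.L16.AffineBC.isCoh_pullback p hGc
  have hGU : PicF.IsInvertible (G.restrict U.ι) := isInvertible_restrict_of_invertibleAt G U hinv
  obtain ⟨e1⟩ := Groth.L22.Adjunction.nonempty_dual_pullback q hGU
  obtain ⟨e2⟩ := nonempty_refPowZ_restrict U.ι ω ((1 : ℕ) : ℤ)
  obtain ⟨e3⟩ := nonempty_refPowZ_tensorPow hL 1
  let eD : (RefHull.dual P).restrict U'.ι ≅ ωt.restrict U'.ι :=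
    (dualRestrict U'.ι P).symm ≪≫ RefFun.dualIso (restrictPull p U G) ≪≫ e1 ≪≫
      (Scheme.Modules.pullback q).mapIso (dualRestrict U.ι G ≪≫
        (Scheme.Modules.restrictFunctor U.ι).mapIso (eqToIso hGeq.symm) ≪≫ e2.symm ≪≫ e3 ≪≫
        Groth.L00.Tensor.tensorPowOne L) ≪≫ eω.symm
  obtain ⟨eDD⟩ := nonempty_ddual_invertible hωti
  have hpair : ∀ w : Z, w ∉ U' → ∃ b ∈ maximalIdeal (Z.presheaf.stalk w), ∃ c ∈ maximalIdeal (Z.presheaf.stalk w),
      IsSMulRegular (Z.presheaf.stalk w) b ∧ IsSMulRegular (QuotSMulTop b (Z.presheaf.stalk w)) c := by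
    intro w hw
    have hft : f (p w) = t := Scheme.Hom.fiberι_asFiber f (p w) ▸ by
      have : p w ∈ Set.range (f.fiberι t) := ⟨w, rfl⟩
      rw [f.range_fiberι] at this
      simpa using this
    have key : ∀ (s : Spec (CommRingCat.of A)) (w' : f.fiber s) (z : Y), f.fiberι s w' = z → f z = s →
        z ∉ RelCanon.gorLocus f → s = t →
        ∃ b ∈ maximalIdeal ((f.fiber s).presheaf.stalk w'), ∃ c ∈ maximalIdeal ((f.fiber s).presheaf.stalk w'),
          IsSMulRegular ((f.fiber s).presheaf.stalk w') b ∧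
            IsSMulRegular (QuotSMulTop b ((f.fiber s).presheaf.stalk w')) c := by
      intro s w' z hwz hzs hz hst
      subst hzs
      obtain rfl : w' = f.asFiber z :=
        (f.fiberι (f z)).isEmbedding.injective (hwz.trans (Scheme.Hom.fiberι_asFiber f z).symm)
      haveI : LocallyOfFiniteType (f.fiberToSpecResidueField (f z)) :=
        MorphismProperty.pullback_snd f ((Spec (CommRingCat.of A)).fromSpecResidueField (f z)) inferInstance
      haveI : IsLocallyNoetherian (f.fiber (f z)) :=
        LocallyOfFiniteType.isLocallyNoetherian (f.fiberToSpecResidueField (f z))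
      let R := (f.fiber (f z)).presheaf.stalk (f.asFiber z)
      let σ := Groth.L15.Ref.strE (X := f.fiber (f z)) (f.asFiber z)
      haveI : Module.Finite R ((Groth.L00.Stk.F _ (f.asFiber z)).obj (Coh.structureModule (f.fiber (f z)))) :=
        Module.Finite.equiv σ
      have h2 : LocCoh.HasSk 2 R R :=
        hasSk_congr (M := (Groth.L00.Stk.F _ (f.asFiber z)).obj (Coh.structureModule (f.fiber (f z)))) σ.symm (hS.2.2 z)
      exact Hartogs.exists_pair (two_le_depth h2 (Set.eq_univ_of_forall fun P =>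
        Module.mem_support_iff_of_finite.2 (by rw [Module.annihilator_eq_bot.mpr inferInstance]; exact bot_le))
          (hG1 z hst hz))
    exact key t w (p w) rfl hft hw rfl
  haveI : Coh.IsQCoh (RefHull.dual P) := (Groth.L15.Ref.isCoh_dual hPc).1
  have hωtc : Coh.IsCoh ωt := (isCoh_and_nontrivial d (Groth.L22.Cyc.hasRelDim_baseChange hp hd) ωt hω').1
  haveI : Coh.IsQCoh (RefHull.ddual ωt) := (Groth.L15.Ref.isCoh_dual (Groth.L15.Ref.isCoh_dual hωtc)).1
  obtain ⟨e⟩ := nonempty_stalkEquiv_of_pairs U' (RefHull.dual P) (RefHull.ddual ωt) v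
    (fun w _ hw => by
      obtain ⟨b, hbm, c, hcm, hb, hc⟩ := hpair w hw
      haveI : Coh.IsQCoh (Coh.structureModule Z) := (Groth.L16.CohClosedPush.isCoh_structure (X := Z)).1
      let σ := Groth.L15.Ref.strE (X := Z) w
      obtain ⟨h1, h2⟩ := regular_pair_homSh (F := P) (G := Coh.structureModule Z) hPc w ((σ.isSMulRegular_congr b).1 hb)
        (((QuotSMulTop.congr b σ).isSMulRegular_congr c).1 hc)
      exact ⟨b, hbm, c, hcm, h1, h2⟩)
    (fun w _ hw => pairs_ddual ωt hωtc w (hpair w hw))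
    (eD ≪≫ (Scheme.Modules.restrictFunctor U'.ι).mapIso eDD.symm)
  obtain ⟨τ⟩ := exists_stalk_equiv_of_invertibleAt ((RelCanon.isInvertible_iff_invertibleAt ωt).1 hωti v)
  exact invertibleAt_of_stalk (Groth.L15.Ref.isCoh_dual hPc) v
    (e.trans (((Groth.L00.Stk.F Z v).mapIso eDD).toLinearEquiv.trans τ))

end Groth.L10.RelCan
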