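import Groth.Agent.L10.RelCan.CMCase
import Groth.Agent.L10.RelCan.Compare
import Groth.Agent.L10.TopDual.Natural
import Groth.Agent.L29.BC.AdjTensorGlobal
import Groth.Agent.L29.BC.PerfectPush
import Groth.Agent.L29.DCoh.RHomBound
import Groth.Agent.L29.DCoh.RHomExists
import Groth.Agent.L10.RelPC.TensorPullMax

/-!
For a Cohen–Macaulay morphism the right adjoint of top cohomology is right exact.
-/

set_option autoImplicit false
set_option backward.defeqAttrib.useBackward true
set_option backward.isDefEq.respectTransparency false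
set_option backward.isDefEq.respectTransparency.types false
set_option linter.style.haveILetI false
universe u

open CategoryTheory CategoryTheory.Limits CategoryTheory.Pretriangulated AlgebraicGeometry DerivedCategory

attribute [local instance] HasDerivedCategory.standard

noncomputable section

namespace Groth.L10.RelCan

open Groth.L29 Groth.L29.DC Groth.L10.ShriekLoc
open Groth.L10.TopDual (baseD lowH)
open Groth.L10.TopDual.Rep (cohFunctor)
open Groth.L16.CohLinear (hmap hmap_comp hmap_id)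
open EW (one el)

variable {A : Type u} [CommRing A] [IsNoetherianRing A] {X : Scheme.{u}} [X.Over (Spec (CommRingCat.of A))]
  [IsProper (X ↘ Spec (CommRingCat.of A))]

theorem subsingleton_HH_above (d : ℕ) (hd : Cyc.HasRelDim (X ↘ Spec (CommRingCat.of A)) d)
    (M : X.Modules) (hM : Coh.IsQCoh M) (i : ℕ) (hi : d < i) : Subsingleton (Coh.HH X M i) :=
  Groth.L10.TopDual.subsingleton_HH_of_fibres (X ↘ Spec (CommRingCat.of A))
    (fun y => Groth.L10.TopDual.dim_le_of_components d fun Z hZ => (hd y Z hZ).le) M hM i hi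

set_option maxHeartbeats 1600000 in
/-- epimorphisms of modules give epimorphisms of dualizing modules -/
theorem epi_RR_map (d : ℕ) [(cohFunctor (X := X) A d).IsLeftAdjoint]
    (hCM : ∀ x : X, MoreMor.IsCMAt (X ↘ Spec (CommRingCat.of A)) x)
    (hd : Cyc.HasRelDim (X ↘ Spec (CommRingCat.of A)) d) {N N' : ModuleCat.{u} A} (g : N ⟶ N') [Epi g] :
    Epi ((RR A X d).map g) := by
  let f := X ↘ Spec (CommRingCat.of A)
  let R : CommRingCat.{u} := CommRingCat.of A
  let S := Spec R
  haveI := fun {P Q : Scheme.{u}} (k : P ⟶ Q) => Groth.L00.KFlat.hasLpull k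
  haveI := fun (R : CommRingCat.{u}) => Groth.L18.TildeF.tilde_preservesFiniteLimits (R := R)
  haveI : ∀ (U V : Scheme.{u}) (j : U ⟶ V) [IsOpenImmersion j],
      PreservesFiniteLimits (Scheme.Modules.restrictFunctor j) := fun U V j _ => inferInstance
  haveI : IsLocallyNoetherian X := LocallyOfFiniteType.isLocallyNoetherian f
  haveI : CompactSpace X := QuasiCompact.compactSpace_of_compactSpace f
  haveI : AlgebraicGeometry.IsNoetherian X := {}
  haveI : Flat f := (Flat.iff_flat_stalkMap f).2 fun x => (hCM x).1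
  haveI : LocallyOfFinitePresentation f := LocallyOfFinitePresentation.iff_locallyOfFiniteType.mpr inferInstance
  haveI : QuasiSeparatedSpace X := quasiSeparatedSpace_of_quasiSeparated f
  haveI : DCoh.HasRpush f := RpushQC.hasRpush f
  have h : DCoh.RpushPreservesQCoh f := fun K hK => RpushQC.isQCohD_Rpush f K hK
  haveI := Groth.Agent.S1766.result X S f h
  let F₀ := ObjectProperty.lift DCoh.IsQCohD (ObjectProperty.ι DCoh.IsQCohD ⋙ DCoh.Rpush f)
    (fun K => h K.obj K.property)
  let adj : DCoh.RpushQ f h ⊣ F₀.rightAdjoint := Adjunction.ofIsLeftAdjoint F₀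
  let a := F₀.rightAdjoint
  haveI : PreservesColimitsOfSize.{0, 0} (tilde.functor R) := tilde.adjunction.leftAdjoint_preservesColimits
  haveI := preservesBinaryBiproducts_of_preservesBinaryCoproducts (tilde.functor R)
  haveI : (tilde.functor R).Additive := Functor.additive_of_preservesBinaryBiproducts _
  let m : ℤ := -(d : ℤ)
  -- `a O` is concentrated in degree `-d`
  let O : DCoh.DQCoh S := (baseD A).obj (one A)
  let eO : O.obj ≅ DCoh.inD S (Coh.structureModule S) :=
    ((tilde.functor R).mapDerivedCategorySingleFunctor 0).app (ModuleCat.of A A) ≪≫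
      (DerivedCategory.singleFunctor S.Modules 0).mapIso tildeSelf
  let c : DEt.Compactification f := ⟨X, 𝟙 X, f, inferInstance, inferInstance, Category.id_comp f⟩
  obtain ⟨eid⟩ := nonempty_restrictD_id X (a.obj O).obj
  have hzero : ∀ i, i ≠ m → IsZero (DCoh.HD (a.obj O).obj i) := by
    intro i hi
    refine IsZero.of_iso ?_ ((DerivedCategory.homologyFunctor _ i).mapIso eid.symm)
    refine Groth.L21.Mod.isZero_iff_stalk_subsingleton _ |>.2 fun x => ?_
    obtain ⟨d', C, ⟨z, rfl⟩, hC⟩ := exists_chart_single c (hc := h) adj O ⟨eO⟩ x (hCM x)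
    obtain ⟨hfd, hz, -, -⟩ := hC z
    have hle := localFibreDim_le_of_components hd (C.jU z)
    have hge := le_localFibreDim hd (C.jU z)
    rw [hfd] at hle hge
    obtain rfl : d = d' := le_antisymm (by exact_mod_cast hge) (by exact_mod_cast hle)
    exact not_nontrivial_iff_subsingleton.1 (hz i hi)
  have haO : (a.obj O).obj.IsLE m := (DerivedCategory.isLE_iff _ _).2 fun i hi => hzero i (ne_of_gt hi)
  obtain ⟨E₀, ⟨eE₀⟩⟩ : ∃ E : CochainComplex X.Modules ℤ, Nonempty (DCoh.toD X E ≅ (a.obj O).obj) :=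
    ⟨_, ⟨DerivedCategory.Q.objObjPreimageIso _⟩⟩
  obtain ⟨E, hEk, ⟨eE⟩⟩ : ∃ E : CochainComplex X.Modules ℤ, DCoh.IsKFlat E ∧
      Nonempty (DCoh.toD X E ≅ DCoh.toD X E₀) := by
    obtain ⟨P, q, hP, -, hq, -⟩ := Groth.L00.KFlat.exists_resolution E₀
    haveI := (DerivedCategory.isIso_Q_map_iff_quasiIso _ q).2 hq
    exact ⟨P, hP, ⟨asIso (DerivedCategory.Q.map q)⟩⟩
  haveI : DCoh.HasLTensorCx E := Groth.L00.KFlat.hasLTensorCx E
  obtain ⟨Ψ⟩ := Groth.L29.BC.AdjTensor.nonempty_iso f adj (fun P hP => Groth.L29.BC.isPerfect_Rpush f hP) O ⟨eO⟩ E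
    ⟨eE ≪≫ eE₀⟩
  have hEle : (DCoh.toD X E).IsLE m := by
    haveI := haO
    exact DerivedCategory.TStructure.t.isLE_of_iso (eE ≪≫ eE₀).symm m
  -- triangles
  letI := Gen.commShiftRpush f
  haveI := Gen.isTriangulated_Rpush f
  haveI := RpushColim.additive_Rpush f
  letI := adj.rightAdjointCommShift ℤ
  haveI : adj.CommShift ℤ := adj.commShift_of_leftAdjoint ℤ
  haveI : a.IsTriangulated := adj.isTriangulated_rightAdjoint
  obtain ⟨C, p, q, hT⟩ := distinguished_cocone_triangle ((baseD A).map g)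
  let T := Triangle.mk ((baseD A).map g) p q
  have hTD : (DCoh.IsQCohD (X := S)).ι.mapTriangle.obj T ∈ distTriang _ :=
    (DCoh.IsQCohD (X := S)).ι.map_distinguished _ hT
  have hsingle : ∀ (M : ModuleCat.{u} A) (i : ℤ), i ≠ 0 → IsZero (DCoh.HD ((baseD A).obj M).obj i) := fun M i hi => by
    refine (TildeAlg.isZero_hd_iff (R := R) _ i).2 ?_
    rcases lt_or_gt_of_ne hi with h' | h'
    · exact DerivedCategory.isZero_of_isGE _ 0 i h'
    · exact DerivedCategory.isZero_of_isLE _ 0 i h'
  have hC0 : C.obj.IsLE (-1) := (DerivedCategory.isLE_iff _ _).2 fun i hi => by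
    let H := fun k => DerivedCategory.homologyFunctor S.Modules k
    have hex2 := DerivedCategory.HomologySequence.exact₃ _ hTD i (i + 1) rfl
    have h2 : IsZero ((H (i + 1)).obj ((baseD A).obj N).obj) := hsingle N (i + 1) (by omega)
    haveI : Epi ((H i).map ((DCoh.IsQCohD (X := S)).ι.mapTriangle.obj T).mor₂) := hex2.epi_f (h2.eq_of_tgt _ _)
    rcases eq_or_ne i 0 with rfl | hi0
    · have hex1 := DerivedCategory.HomologySequence.exact₂ _ hTD 0
      haveI : Epi ((H 0).map ((baseD A).map g).hom) := by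
        let ν : baseD A ⋙ (DCoh.IsQCohD (X := S)).ι ⋙ H 0 ≅ tilde.functor R :=
          Functor.isoWhiskerRight ((tilde.functor R).mapDerivedCategorySingleFunctor 0) (H 0) ≪≫
            Functor.associator _ _ _ ≪≫
              Functor.isoWhiskerLeft _ (DerivedCategory.singleFunctorCompHomologyFunctorIso S.Modules 0) ≪≫
                Functor.rightUnitor _
        haveI : Epi ((tilde.functor R).map g) := inferInstance
        change Epi ((baseD A ⋙ (DCoh.IsQCohD (X := S)).ι ⋙ H 0).map g)
        rw [← NatIso.naturality_2 ν g]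
        infer_instance
      refine IsZero.of_epi_eq_zero ((H 0).map ((DCoh.IsQCohD (X := S)).ι.mapTriangle.obj T).mor₂) ?_
      exact (cancel_epi ((H 0).map ((baseD A).map g).hom)).1 ((Functor.map_comp _ _ _).symm.trans
        ((congrArg (H 0).map (comp_distTriang_mor_zero₁₂ _ hTD)).trans
          ((Functor.map_zero _ _ _).trans comp_zero.symm)))
    · exact IsZero.of_epi ((H i).map ((DCoh.IsQCohD (X := S)).ι.mapTriangle.obj T).mor₂) (hsingle N' i hi0)
  -- the twisted inverse image of the cone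
  have haC : (a.obj C).obj.IsLE (-1 + m) := by
    haveI := hC0
    haveI := Groth.L10.RelPC.TensorPullMax.isLE_Lpull f C.obj (-1) hC0
    have h' := Groth.L29.DC.RHom.isLE_LTensorCx E m hEle ((DCoh.Lpull f).obj C.obj) (-1) ‹_›
    haveI : DerivedCategory.TStructure.t.IsLE
        ((((DCoh.IsQCohD (X := S)).ι ⋙ DCoh.Lpull f ⋙ DCoh.LTensorCx E)).obj C) (-1 + m) := h'
    exact DerivedCategory.TStructure.t.isLE_of_iso (Ψ.app C).symm _
  have hTa : (DCoh.IsQCohD (X := X)).ι.mapTriangle.obj (a.mapTriangle.obj T) ∈ distTriang _ :=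
    (DCoh.IsQCohD (X := X)).ι.map_distinguished _ (a.map_distinguished _ hT)
  haveI hlow : Epi ((lowH a d).map g) := by
    have hex := DerivedCategory.HomologySequence.exact₂ _ hTa m
    have hz : IsZero (DCoh.HD (a.obj C).obj m) := DerivedCategory.isZero_of_isLE _ (-1 + m) m (by omega)
    exact hex.epi_f (hz.eq_of_tgt _ _)
  -- comparison with the right adjoint
  obtain ⟨t, ht, htnat⟩ := Groth.L10.TopDual.exists_natural_trace (h := h) adj d
    (subsingleton_HH_above d hd)
  have hq : ∀ M, Coh.IsQCoh ((lowH a d).obj M) := fun M => (a.obj ((baseD A).obj M)).property _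
  choose θ hθ hθu using fun M => tr_spec M _ (hq M) (t M)
  haveI : IsIso (θ N') := by
    obtain ⟨θ', hθ', -⟩ := ht N' _ (isQCoh_RR A X d N') (tr A X d N')
    refine ⟨θ', ?_, ?_⟩
    · exact (ht N' _ (hq N') (t N')).unique (fun z => by rw [hmap_comp, ← hθ', ← hθ]) (fun z => by rw [hmap_id])
    · exact tr_ext (isQCoh_RR A X d N') _ _ fun z => by rw [hmap_comp, ← hθ, ← hθ', hmap_id]
  have hsq : (lowH a d).map g ≫ θ N' = θ N ≫ (RR A X d).map g := by
    refine tr_ext (hq N) _ _ fun z => ?_
    rw [hmap_comp, ← hθ, htnat, hmap_comp, tr_natural, ← hθ]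
  haveI : Epi (θ N ≫ (RR A X d).map g) := by rw [← hsq]; infer_instance
  exact epi_of_epi (θ N) _

/-- for a Cohen–Macaulay morphism the comparison is an isomorphism for every module -/
theorem isIso_cmp_of_cm (d : ℕ) [(cohFunctor (X := X) A d).IsLeftAdjoint]
    (hCM : ∀ x : X, MoreMor.IsCMAt (X ↘ Spec (CommRingCat.of A)) x)
    (hd : Cyc.HasRelDim (X ↘ Spec (CommRingCat.of A)) d) (N : ModuleCat.{u} A) :
    IsIso (cmp (X := X) (d := d) N) := by
  haveI : IsLocallyNoetherian X := LocallyOfFiniteType.isLocallyNoetherian (X ↘ Spec (CommRingCat.of A))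
  refine Groth.L17.BC.Classes.isIso_of_affine _ fun y => ⟨⊤, trivial, fun W _ hW => ?_⟩
  let T := Groth.L17.BC.TensorA.G (A := A) (ω₀ A X d)
  have hnat : ∀ {M M' : ModuleCat.{u} A} (g : M ⟶ M') (l : Γ(T.obj M, W)),
      (cmp M').app W ((T.map g).app W l) = ((RR A X d).map g).app W ((cmp M).app W l) :=
    fun g l => congr(($(cmp_natural g)).app W l)
  have hfree : ∀ ι : Type u, Function.Bijective ((cmp (X := X) (d := d) (ModuleCat.of A (ι →₀ A))).app W) := fun ι => by
    haveI := isIso_cmp_of_flat (X := X) (d := d) (ModuleCat.of A (ι →₀ A))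
    let c := asIso (cmp (X := X) (d := d) (ModuleCat.of A (ι →₀ A)))
    exact Function.bijective_iff_has_inverse.2 ⟨c.inv.app W,
      fun x => congr(($(c.hom_inv_id)).app W x), fun x => congr(($(c.inv_hom_id)).app W x)⟩
  have hcov : ∀ M : ModuleCat.{u} A, Function.Surjective ((cmp (X := X) (d := d) M).app W) := fun M => by
    let π : ModuleCat.of A (M →₀ A) ⟶ M := ModuleCat.ofHom (Finsupp.linearCombination A id)
    haveI : Epi π := (ModuleCat.epi_iff_surjective _).2 fun x => ⟨Finsupp.single x 1, by simp [π]⟩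
    haveI := epi_RR_map d hCM hd π
    haveI := fun M' => isQCoh_RR A X d M'
    intro s
    obtain ⟨r, rfl⟩ := Groth.L16.AffineBC.surjective_app_of_epi ((RR A X d).map π) hW s
    obtain ⟨l, rfl⟩ := (hfree M).2 r
    exact ⟨(T.map π).app W l, hnat _ _⟩
  refine ⟨(injective_iff_map_eq_zero _).2 fun z hz => ?_, hcov N⟩
  obtain ⟨ι, _, g, l, rfl⟩ := exists_finFree (A := A) (ω₀ A X d) hW N z
  rw [hnat] at hz
  obtain ⟨k, hk⟩ := Groth.L16.HomSh.exists_kernel_lift ((RR A X d).map g) _ hz
  let K : ModuleCat.{u} A := ModuleCat.of A (LinearMap.ker g.hom)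
  let ι' : K ⟶ ModuleCat.of A (ι →₀ A) := ModuleCat.ofHom (LinearMap.ker g.hom).subtype
  have hQ : Coh.IsQCoh (kernel ((RR A X d).map g)) :=
    (Groth.L00.AlgQCoh.isQCoh_kernel_cokernel _ (isQCoh_RR A X d _) (isQCoh_RR A X d _)).1
  obtain ⟨φ, hφ, -⟩ := tr_spec K _ hQ (LinearMap.codRestrict (LinearMap.ker g.hom)
    (tr A X d _ ∘ₗ Canon.HHlin A (kernel.ι ((RR A X d).map g)) d) fun z => by
      rw [LinearMap.mem_ker]
      refine (tr_natural g (hmap (kernel.ι ((RR A X d).map g)) d z)).symm.trans ?_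
      rw [← hmap_comp, kernel.condition, Groth.L10.TopDual.hmap_zero, map_zero])
  have hι : kernel.ι ((RR A X d).map g) = φ ≫ (RR A X d).map ι' := by
    refine tr_ext hQ _ _ fun z => ?_
    rw [hmap_comp, tr_natural, ← hφ z]
    rfl
  obtain ⟨w, hw⟩ := hcov K (φ.app W k)
  have hl : l = (T.map ι').app W w := by
    refine (hfree ι).1 ?_
    rw [hnat, hw, ← hk, hι]
    rfl
  rw [hl]
  change (T.map ι' ≫ T.map g).app W w = 0
  rw [← Functor.map_comp, show ι' ≫ g = 0 from ModuleCat.hom_ext (LinearMap.ext fun x => x.2), Functor.map_zero]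
  rfl

end Groth.L10.RelCan
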