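import Groth.Agent.L10.RelCan.RightExact
import Groth.Agent.L10.RelCan.Compare
import Groth.Agent.L10.TopDual.Natural
import Groth.Agent.L29.BC.AdjTensorGlobal
import Groth.Agent.L29.BC.PerfectPush
import Groth.Agent.L29.DCoh.RHomBound
import Groth.Agent.L29.DCoh.RHomExists
import Groth.Agent.L10.RelPC.TensorPullMax
import Groth.Agent.L17.FM.PCTensorGlobal

/-!
The right adjoint of top cohomology is right exact at the Cohen–Macaulay points of a flat morphism.
-/

set_option autoImplicit false
set_option backward.defeqAttrib.useBackward true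
set_option backward.isDefEq.respectTransparency false
set_option backward.isDefEq.respectTransparency.types false
set_option linter.style.haveILetI false
universe u

open CategoryTheory CategoryTheory.Limits CategoryTheory.Pretriangulated AlgebraicGeometry DerivedCategory

attribute [local instance] HasDerivedCategory.standard

noncomputable section

namespace Groth.L10.RelCan

open Groth.L29 Groth.L29.DC Groth.L10.ShriekLoc
open Groth.L10.TopDual (baseD lowH)
open Groth.L10.TopDual.Rep (cohFunctor)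
open Groth.L16.CohLinear (hmap hmap_comp hmap_id)
open EW (one el)

/-- a cohomology module vanishing at all points of an open vanishes there -/
theorem isZero_HD_restrict {X U : Scheme.{u}} [∀ (V W : Scheme.{u}) (j : V ⟶ W) [IsOpenImmersion j],
    PreservesFiniteLimits (Scheme.Modules.restrictFunctor j)] (j : U ⟶ X) [IsOpenImmersion j] {K : DCoh.D X} {i : ℤ}
    (h : ∀ z, IsZero ((Groth.L00.Stk.F X (j z)).obj (DCoh.HD K i))) :
    IsZero (DCoh.HD ((DCoh.restrictD j).obj K) i) := by
  refine IsZero.of_iso ?_ (HDResIso j K i)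
  refine (Groth.L00.Stk.isZero_iff _).2 fun z => ?_
  refine @ModuleCat.isZero_of_subsingleton _ _ _ (not_not.1 fun hne => ?_)
  have hz : z ∈ j ⁻¹' CohB1.support (DCoh.HD K i) := by
    rw [← Groth.L21.Mod.support_restrict]
    exact fun hs => hne hs
  exact hz (ModuleCat.subsingleton_of_isZero (h z))

/-- the derived tensor product of objects bounded above near a point -/
theorem isZero_stalk_LTensorCx {X U : Scheme.{u}} [∀ (V W : Scheme.{u}) (j : V ⟶ W) [IsOpenImmersion j],
    PreservesFiniteLimits (Scheme.Modules.restrictFunctor j)] (j : U ⟶ X) [IsOpenImmersion j]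
    (E : CochainComplex X.Modules ℤ) [DCoh.HasLTensorCx E] (c : ℤ)
    (hE : ((DCoh.restrictD j).obj (DCoh.toD X E)).IsLE c) (M : DCoh.D X) (p : ℤ) (hM : M.IsLE p) (i : ℤ)
    (hi : p + c < i) (z : U) :
    IsZero ((Groth.L00.Stk.F X (j z)).obj (DCoh.HD ((DCoh.LTensorCx E).obj M) i)) := by
  obtain ⟨P, q, hP, -, hq, -⟩ := Groth.L00.KFlat.exists_resolution (DerivedCategory.Q.objPreimage M)
  haveI := (DerivedCategory.isIso_Q_map_iff_quasiIso _ q).2 hq
  let eM : DCoh.toD X P ≅ M := asIso (DerivedCategory.Q.map q) ≪≫ DerivedCategory.Q.objObjPreimageIso M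
  obtain ⟨eT⟩ := nonempty_LTensorCx_iso E P hP
  let E' := ((Scheme.Modules.restrictFunctor j).mapHomologicalComplex (ComplexShape.up ℤ)).obj E
  let P' := ((Scheme.Modules.restrictFunctor j).mapHomologicalComplex (ComplexShape.up ℤ)).obj P
  haveI : DCoh.HasLTensorCx E' := Groth.L00.KFlat.hasLTensorCx E'
  obtain ⟨eT'⟩ := nonempty_LTensorCx_iso E' P' (isKFlat_restrict j hP)
  haveI hE' : (DCoh.toD U E').IsLE c :=
    DerivedCategory.TStructure.t.isLE_of_iso (Groth.L17.PCTensor.resF j E).symm _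
  haveI hP' : (DCoh.toD U P').IsLE p := (DerivedCategory.isLE_iff _ _).2 fun q hq =>
    Groth.L17.PCTensor.isZero_res j (Groth.L17.PCTensor.resF j P ≪≫ (DCoh.restrictD j).mapIso eM)
      (DerivedCategory.isZero_of_isLE M p q hq)
  haveI := Groth.L29.DC.RHom.isLE_LTensorCx E' c hE' (DCoh.toD U P') p hP'
  let e : (DCoh.LTensorCx E').obj (DCoh.toD U P') ≅ (DCoh.restrictD j).obj ((DCoh.LTensorCx E).obj M) :=
    eT' ≪≫ DerivedCategory.Q.mapIso (restrictTensorCxIso j P E) ≪≫ Groth.L17.PCTensor.resF j _ ≪≫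
      (DCoh.restrictD j).mapIso (eT.symm ≪≫ (DCoh.LTensorCx E).mapIso eM)
  exact Groth.L17.PCTensor.isZero_stalk j e (DerivedCategory.isZero_of_isLE _ (p + c) i hi) z

variable {A : Type u} [CommRing A] [IsNoetherianRing A] {X : Scheme.{u}} [X.Over (Spec (CommRingCat.of A))]
  [IsProper (X ↘ Spec (CommRingCat.of A))]

set_option maxHeartbeats 1600000 in
/-- epimorphisms of modules give epimorphisms of dualizing modules -/
theorem epi_stalk_RR_map [Flat (X ↘ Spec (CommRingCat.of A))] (d : ℕ) [(cohFunctor (X := X) A d).IsLeftAdjoint]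
    (x : X) (hx : MoreMor.IsCMAt (X ↘ Spec (CommRingCat.of A)) x)
    (hd : Cyc.HasRelDim (X ↘ Spec (CommRingCat.of A)) d) {N N' : ModuleCat.{u} A} (g : N ⟶ N') [Epi g] :
    Epi ((Groth.L00.Stk.F X x).map ((RR A X d).map g)) := by
  let f := X ↘ Spec (CommRingCat.of A)
  let R : CommRingCat.{u} := CommRingCat.of A
  let S := Spec R
  haveI := fun {P Q : Scheme.{u}} (k : P ⟶ Q) => Groth.L00.KFlat.hasLpull k
  haveI := fun (R : CommRingCat.{u}) => Groth.L18.TildeF.tilde_preservesFiniteLimits (R := R)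
  haveI : ∀ (U V : Scheme.{u}) (j : U ⟶ V) [IsOpenImmersion j],
      PreservesFiniteLimits (Scheme.Modules.restrictFunctor j) := fun U V j _ => inferInstance
  haveI : IsLocallyNoetherian X := LocallyOfFiniteType.isLocallyNoetherian f
  haveI : CompactSpace X := QuasiCompact.compactSpace_of_compactSpace f
  haveI : AlgebraicGeometry.IsNoetherian X := {}
  haveI : LocallyOfFinitePresentation f := LocallyOfFinitePresentation.iff_locallyOfFiniteType.mpr inferInstance
  haveI : QuasiSeparatedSpace X := quasiSeparatedSpace_of_quasiSeparated f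
  haveI : DCoh.HasRpush f := RpushQC.hasRpush f
  have h : DCoh.RpushPreservesQCoh f := fun K hK => RpushQC.isQCohD_Rpush f K hK
  haveI := Groth.Agent.S1766.result X S f h
  let F₀ := ObjectProperty.lift DCoh.IsQCohD (ObjectProperty.ι DCoh.IsQCohD ⋙ DCoh.Rpush f)
    (fun K => h K.obj K.property)
  let adj : DCoh.RpushQ f h ⊣ F₀.rightAdjoint := Adjunction.ofIsLeftAdjoint F₀
  let a := F₀.rightAdjoint
  haveI : PreservesColimitsOfSize.{0, 0} (tilde.functor R) := tilde.adjunction.leftAdjoint_preservesColimits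
  haveI := preservesBinaryBiproducts_of_preservesBinaryCoproducts (tilde.functor R)
  haveI : (tilde.functor R).Additive := Functor.additive_of_preservesBinaryBiproducts _
  let m : ℤ := -(d : ℤ)
  -- `a O` is concentrated in degree `-d`
  let O : DCoh.DQCoh S := (baseD A).obj (one A)
  let eO : O.obj ≅ DCoh.inD S (Coh.structureModule S) :=
    ((tilde.functor R).mapDerivedCategorySingleFunctor 0).app (ModuleCat.of A A) ≪≫
      (DerivedCategory.singleFunctor S.Modules 0).mapIso tildeSelf
  let c : DEt.Compactification f := ⟨X, 𝟙 X, f, inferInstance, inferInstance, Category.id_comp f⟩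
  obtain ⟨eid⟩ := nonempty_restrictD_id X (a.obj O).obj
  obtain ⟨d', Ch, hxC, hC⟩ := exists_chart_single c (hc := h) adj O ⟨eO⟩ x hx
  have hzero : ∀ z, ∀ i, i ≠ m → IsZero ((Groth.L00.Stk.F X (Ch.jU z)).obj (DCoh.HD (a.obj O).obj i)) := by
    intro z i hi
    obtain ⟨hfd, hz, -, -⟩ := hC z
    have hle := localFibreDim_le_of_components hd (Ch.jU z)
    have hge := le_localFibreDim hd (Ch.jU z)
    rw [hfd] at hle hge
    obtain rfl : d = d' := le_antisymm (by exact_mod_cast hge) (by exact_mod_cast hle)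
    refine IsZero.of_iso ?_ ((Groth.L00.Stk.F X _).mapIso ((DerivedCategory.homologyFunctor _ i).mapIso eid.symm))
    haveI := not_nontrivial_iff_subsingleton.1 (hz i hi)
    exact @ModuleCat.isZero_of_subsingleton _ _ _ ‹_›
  obtain ⟨E₀, ⟨eE₀⟩⟩ : ∃ E : CochainComplex X.Modules ℤ, Nonempty (DCoh.toD X E ≅ (a.obj O).obj) :=
    ⟨_, ⟨DerivedCategory.Q.objObjPreimageIso _⟩⟩
  obtain ⟨E, hEk, ⟨eE⟩⟩ : ∃ E : CochainComplex X.Modules ℤ, DCoh.IsKFlat E ∧
      Nonempty (DCoh.toD X E ≅ DCoh.toD X E₀) := by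
    obtain ⟨P, q, hP, -, hq, -⟩ := Groth.L00.KFlat.exists_resolution E₀
    haveI := (DerivedCategory.isIso_Q_map_iff_quasiIso _ q).2 hq
    exact ⟨P, hP, ⟨asIso (DerivedCategory.Q.map q)⟩⟩
  haveI : DCoh.HasLTensorCx E := Groth.L00.KFlat.hasLTensorCx E
  obtain ⟨Ψ⟩ := Groth.L29.BC.AdjTensor.nonempty_iso f adj (fun P hP => Groth.L29.BC.isPerfect_Rpush f hP) O ⟨eO⟩ E
    ⟨eE ≪≫ eE₀⟩
  have hEle : ((DCoh.restrictD Ch.jU).obj (DCoh.toD X E)).IsLE m := by
    refine (DerivedCategory.isLE_iff _ _).2 fun i hi => ?_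
    refine IsZero.of_iso ?_ ((DerivedCategory.homologyFunctor _ i).mapIso
      ((DCoh.restrictD Ch.jU).mapIso (eE ≪≫ eE₀)))
    exact isZero_HD_restrict Ch.jU fun z => hzero z i (ne_of_gt hi)
  -- triangles
  letI := Gen.commShiftRpush f
  haveI := Gen.isTriangulated_Rpush f
  haveI := RpushColim.additive_Rpush f
  letI := adj.rightAdjointCommShift ℤ
  haveI : adj.CommShift ℤ := adj.commShift_of_leftAdjoint ℤ
  haveI : a.IsTriangulated := adj.isTriangulated_rightAdjoint
  obtain ⟨C, p, q, hT⟩ := distinguished_cocone_triangle ((baseD A).map g)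
  let T := Triangle.mk ((baseD A).map g) p q
  have hTD : (DCoh.IsQCohD (X := S)).ι.mapTriangle.obj T ∈ distTriang _ :=
    (DCoh.IsQCohD (X := S)).ι.map_distinguished _ hT
  have hsingle : ∀ (M : ModuleCat.{u} A) (i : ℤ), i ≠ 0 → IsZero (DCoh.HD ((baseD A).obj M).obj i) := fun M i hi => by
    refine (TildeAlg.isZero_hd_iff (R := R) _ i).2 ?_
    rcases lt_or_gt_of_ne hi with h' | h'
    · exact DerivedCategory.isZero_of_isGE _ 0 i h'
    · exact DerivedCategory.isZero_of_isLE _ 0 i h'
  have hC0 : C.obj.IsLE (-1) := (DerivedCategory.isLE_iff _ _).2 fun i hi => by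
    let H := fun k => DerivedCategory.homologyFunctor S.Modules k
    have hex2 := DerivedCategory.HomologySequence.exact₃ _ hTD i (i + 1) rfl
    have h2 : IsZero ((H (i + 1)).obj ((baseD A).obj N).obj) := hsingle N (i + 1) (by omega)
    haveI : Epi ((H i).map ((DCoh.IsQCohD (X := S)).ι.mapTriangle.obj T).mor₂) := hex2.epi_f (h2.eq_of_tgt _ _)
    rcases eq_or_ne i 0 with rfl | hi0
    · have hex1 := DerivedCategory.HomologySequence.exact₂ _ hTD 0
      haveI : Epi ((H 0).map ((baseD A).map g).hom) := by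
        let ν : baseD A ⋙ (DCoh.IsQCohD (X := S)).ι ⋙ H 0 ≅ tilde.functor R :=
          Functor.isoWhiskerRight ((tilde.functor R).mapDerivedCategorySingleFunctor 0) (H 0) ≪≫
            Functor.associator _ _ _ ≪≫
              Functor.isoWhiskerLeft _ (DerivedCategory.singleFunctorCompHomologyFunctorIso S.Modules 0) ≪≫
                Functor.rightUnitor _
        haveI : Epi ((tilde.functor R).map g) := inferInstance
        change Epi ((baseD A ⋙ (DCoh.IsQCohD (X := S)).ι ⋙ H 0).map g)
        rw [← NatIso.naturality_2 ν g]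
        infer_instance
      refine IsZero.of_epi_eq_zero ((H 0).map ((DCoh.IsQCohD (X := S)).ι.mapTriangle.obj T).mor₂) ?_
      exact (cancel_epi ((H 0).map ((baseD A).map g).hom)).1 ((Functor.map_comp _ _ _).symm.trans
        ((congrArg (H 0).map (comp_distTriang_mor_zero₁₂ _ hTD)).trans
          ((Functor.map_zero _ _ _).trans comp_zero.symm)))
    · exact IsZero.of_epi ((H i).map ((DCoh.IsQCohD (X := S)).ι.mapTriangle.obj T).mor₂) (hsingle N' i hi0)
  -- the twisted inverse image of the cone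
  have haC : IsZero ((Groth.L00.Stk.F X x).obj (DCoh.HD (a.obj C).obj m)) := by
    haveI := hC0
    haveI := Groth.L10.RelPC.TensorPullMax.isLE_Lpull f C.obj (-1) hC0
    refine IsZero.of_iso ?_ ((Groth.L00.Stk.F X x).mapIso ((DerivedCategory.homologyFunctor _ m).mapIso (Ψ.app C)))
    obtain ⟨z, rfl⟩ := hxC
    exact isZero_stalk_LTensorCx Ch.jU E m hEle ((DCoh.Lpull f).obj C.obj) (-1) ‹_› m (by omega) z
  have hTa : (DCoh.IsQCohD (X := X)).ι.mapTriangle.obj (a.mapTriangle.obj T) ∈ distTriang _ :=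
    (DCoh.IsQCohD (X := X)).ι.map_distinguished _ (a.map_distinguished _ hT)
  haveI hlow : Epi ((Groth.L00.Stk.F X x).map ((lowH a d).map g)) := by
    have hex := (DerivedCategory.HomologySequence.exact₂ _ hTa m).map (Groth.L00.Stk.F X x)
    exact hex.epi_f (haC.eq_of_tgt _ _)
  -- comparison with the right adjoint
  obtain ⟨t, ht, htnat⟩ := Groth.L10.TopDual.exists_natural_trace (h := h) adj d
    (subsingleton_HH_above d hd)
  have hq : ∀ M, Coh.IsQCoh ((lowH a d).obj M) := fun M => (a.obj ((baseD A).obj M)).property _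
  choose θ hθ hθu using fun M => tr_spec M _ (hq M) (t M)
  haveI : IsIso (θ N') := by
    obtain ⟨θ', hθ', -⟩ := ht N' _ (isQCoh_RR A X d N') (tr A X d N')
    refine ⟨θ', ?_, ?_⟩
    · exact (ht N' _ (hq N') (t N')).unique (fun z => by rw [hmap_comp, ← hθ', ← hθ]) (fun z => by rw [hmap_id])
    · exact tr_ext (isQCoh_RR A X d N') _ _ fun z => by rw [hmap_comp, ← hθ, ← hθ', hmap_id]
  have hsq : (lowH a d).map g ≫ θ N' = θ N ≫ (RR A X d).map g := by
    refine tr_ext (hq N) _ _ fun z => ?_
    rw [hmap_comp, ← hθ, htnat, hmap_comp, tr_natural, ← hθ]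
  haveI : Epi ((Groth.L00.Stk.F X x).map (θ N) ≫ (Groth.L00.Stk.F X x).map ((RR A X d).map g)) := by
    rw [← Functor.map_comp, ← hsq, Functor.map_comp]; infer_instance
  exact epi_of_epi ((Groth.L00.Stk.F X x).map (θ N)) _


end Groth.L10.RelCan
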