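import Groth.Agent.L10.RelCan.DepthThree
import Mathlib.Algebra.Polynomial.Identities
import Mathlib.RingTheory.Ideal.MinimalPrime.Noetherian

/-!
Roots of order prime to the residue characteristic lift uniquely, so free fibres of maps lift when some power does.
-/

set_option autoImplicit false
set_option maxSynthPendingDepth 4
set_option linter.style.haveILetI false
set_option linter.unusedSectionVars false
set_option linter.unusedVariables false
set_option backward.defeqAttrib.useBackward true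
set_option backward.isDefEq.respectTransparency false
set_option backward.isDefEq.respectTransparency.types false
universe u

open IsLocalRing
open scoped TensorProduct Pointwise

noncomputable section

namespace Groth.L10.RelCan.Core

theorem RegAt.ext {R : Type u} [CommRing R] {P : Ideal R} [P.IsPrime] {β : R} {X X' X'' : Type u} [AddCommGroup X]
    [Module R X] [AddCommGroup X'] [Module R X'] [AddCommGroup X''] [Module R X''] (i : X' →ₗ[R] X) (p : X →ₗ[R] X'')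
    (hi : Function.Injective i) (hip : Function.Exact i p) (h' : RegAt P β X') (h'' : RegAt P β X'') :
    RegAt P β X := fun x ⟨t, ht, h0⟩ => by
  obtain ⟨s, hs, h1⟩ := h'' (p x) ⟨t, ht, by rw [← map_smul, ← map_smul, h0, map_zero]⟩
  obtain ⟨x', hx'⟩ := (hip (s • x)).1 (by rw [map_smul, h1])
  obtain ⟨s', hs', h2⟩ := h' x' ⟨t, ht, hi (by
    rw [map_smul, map_smul, hx', map_zero, smul_comm β s, smul_comm t s, h0, smul_zero])⟩
  exact ⟨s' * s, mul_notMem hs' hs, by rw [mul_smul, ← hx', ← map_smul, h2, map_zero]⟩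

theorem RegAt.equiv {R : Type u} [CommRing R] {P : Ideal R} [P.IsPrime] {β : R} {X X' : Type u} [AddCommGroup X]
    [Module R X] [AddCommGroup X'] [Module R X'] (e : X ≃ₗ[R] X') (h : RegAt P β X) : RegAt P β X' :=
  fun x ⟨t, ht, h0⟩ => by
    obtain ⟨s, hs, h1⟩ := h (e.symm x) ⟨t, ht, by rw [← map_smul, ← map_smul, h0, map_zero]⟩
    exact ⟨s, hs, e.symm.injective (by rw [map_smul, h1, map_zero])⟩

section Glue

variable {O : Type u} [CommRing O] [IsNoetherianRing O] (I : Ideal O) {G : Type u} [AddCommGroup G] [Module O G]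
  (w : Ideal O → O) (x : Ideal O → G)

/-- agreement with local data at a minimal prime -/
def Agree (η : Ideal O) (g : G) (t : O) : Prop := ∃ v ∉ η, v • (w η • g - t • x η) = 0

set_option maxHeartbeats 800000 in
/-- local data at the minimal primes glue across primes of depth two -/
theorem exists_glue (hw : ∀ η ∈ I.minimalPrimes, w η ∉ η)
    (hdet : ∀ y : G, (∀ η ∈ I.minimalPrimes, ∃ v ∉ η, v • y = 0) → y = 0)
    (hkill : ∀ t ∈ I, ∃ n : ℕ, ∀ y : G, t ^ n • y = 0)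
    (hloc : ∀ (P : Ideal O) [P.IsPrime], I ≤ P →
      (∃ t ∉ P, ∃ g, ∀ η ∈ I.minimalPrimes, η ≤ P → Agree w x η g t) ∨ ∃ β ∈ P, ∃ γ ∈ P, PairAt P β γ G) :
    ∃ g : G, ∀ η ∈ I.minimalPrimes, Agree w x η g 1 := by
  let 𝔞 : Ideal O :=
    { carrier := {t | ∃ g, ∀ η ∈ I.minimalPrimes, Agree w x η g t}
      zero_mem' := ⟨0, fun η hη => ⟨1, fun h => hη.1.1.ne_top ((Ideal.eq_top_iff_one _).2 h), by simp⟩⟩
      add_mem' := fun {t t'} ⟨g, hg⟩ ⟨g', hg'⟩ => ⟨g + g', fun η hη => by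
        obtain ⟨v, hv, h⟩ := hg η hη
        obtain ⟨v', hv', h'⟩ := hg' η hη
        refine ⟨v * v', (fun hm => (hη.1.1.mem_or_mem hm).elim hv hv'), ?_⟩
        rw [show (v * v') • (w η • (g + g') - (t + t') • x η) =
          v' • v • (w η • g - t • x η) + v • v' • (w η • g' - t' • x η) by module, h, h', smul_zero, smul_zero, add_zero]⟩
      smul_mem' := fun c t ⟨g, hg⟩ => ⟨c • g, fun η hη => by
        obtain ⟨v, hv, h⟩ := hg η hη
        refine ⟨v, hv, ?_⟩
        rw [smul_eq_mul, show v • (w η • c • g - (c * t) • x η) = c • v • (w η • g - t • x η) by module, h, smul_zero]⟩ }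
  haveI hwf : WellFoundedLT (PrimeSpectrum O) :=
    StrictMono.wellFoundedLT (f := fun Q : PrimeSpectrum O => Q.asIdeal.height)
      fun Q R hlt => Ideal.height_strict_mono_of_isPrime hlt
  have hfin : I.minimalPrimes.Finite := Ideal.finite_minimalPrimes_of_isNoetherianRing O I
  have key : ∀ P : PrimeSpectrum O, ¬ 𝔞 ≤ P.asIdeal := by
    intro P
    induction P using hwf.induction with
    | _ P ih =>
    intro hle
    let P' := P.asIdeal
    by_cases hP : I ≤ P'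
    · classical
      have hc : ∀ η ∈ I.minimalPrimes, ∃ c ∉ P', η ≤ P' ∨ ∀ y : G, ∃ v ∉ η, v • c • y = 0 := fun η hη => by
        by_cases hle : η ≤ P'
        · exact ⟨1, fun h => P.2.ne_top ((Ideal.eq_top_iff_one _).2 h), .inl hle⟩
        · obtain ⟨a, haη, haP⟩ := SetLike.not_le_iff_exists.1 hle
          haveI := hη.1.1
          obtain ⟨n, t, ht, hmem⟩ := exists_pow_mul_mem I η
            (fun Q hQ hlt hIQ => hlt.not_ge (hη.2 ⟨hQ, hIQ⟩ hlt.le)) haη
          obtain ⟨k, hk⟩ := hkill _ hmem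
          refine ⟨(a ^ n) ^ k, fun h => haP (P.2.mem_of_pow_mem n (P.2.mem_of_pow_mem k h)), .inr fun y =>
            ⟨t ^ k, fun h => ht (hη.1.1.mem_of_pow_mem k h), ?_⟩⟩
          rw [smul_smul, ← mul_pow, hk]
      choose c hcP hc using hc
      let C : O := ∏ η : hfin.toFinset, c η.1 (hfin.mem_toFinset.1 η.2)
      have hC : C ∉ P' := prod_mem (S := P'.primeCompl) fun η _ => hcP η.1 (hfin.mem_toFinset.1 η.2)
      have hlift : ∀ t ∉ P', ∀ g, (∀ η ∈ I.minimalPrimes, η ≤ P' → Agree w x η g t) → False := by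
        intro t ht g hg
        refine mul_notMem hC ht (hle ⟨C • g, fun η hη => ?_⟩)
        by_cases hηP : η ≤ P'
        · obtain ⟨v, hv, h⟩ := hg η hη hηP
          refine ⟨v, hv, ?_⟩
          rw [show v • (w η • C • g - (C * t) • x η) = C • v • (w η • g - t • x η) by module, h, smul_zero]
        · obtain ⟨v, hv, h⟩ := ((hc η hη).resolve_left hηP) (w η • g - t • x η)
          refine ⟨v, hv, ?_⟩
          have hCe : C = (∏ ξ ∈ Finset.univ.erase (⟨η, hfin.mem_toFinset.2 hη⟩ : hfin.toFinset),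
              c ξ.1 (hfin.mem_toFinset.1 ξ.2)) * c η hη := (Finset.prod_erase_mul _ _ (Finset.mem_univ _)).symm
          generalize (∏ ξ ∈ Finset.univ.erase (⟨η, hfin.mem_toFinset.2 hη⟩ : hfin.toFinset),
              c ξ.1 (hfin.mem_toFinset.1 ξ.2)) = D at hCe
          rw [show v • (w η • C • g - (C * t) • x η) = D • v • c η hη • (w η • g - t • x η) by rw [hCe]; module,
            h, smul_zero]
      rcases hloc P' hP with ⟨t, ht, g, hg⟩ | ⟨β, hβ, γ, hγ, hpair⟩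
      · exact hlift t ht g hg
      · have hlow : ∀ a ∈ P', ∃ n : ℕ, ∃ t ∉ P', t * a ^ n ∈ 𝔞 := fun a ha =>
          exists_pow_mul_mem 𝔞 P' (fun Q hQ hlt => ih ⟨Q, hQ⟩ hlt) ha
        obtain ⟨n1, t1, ht1, g1, hg1⟩ := hlow β hβ
        obtain ⟨n2, t2, ht2, g2, hg2⟩ := hlow γ hγ
        have hp := (hpair.pow_left n1).pow_right n2
        generalize β ^ n1 = B at hg1 hp
        generalize γ ^ n2 = C' at hg2 hp
        have he : C' • t2 • g1 - B • t1 • g2 = 0 := hdet _ fun η hη => by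
          obtain ⟨v, hv, h⟩ := hg1 η hη
          obtain ⟨v', hv', h'⟩ := hg2 η hη
          refine ⟨v * v' * w η, (fun hm => (hη.1.1.mem_or_mem hm).elim
            (fun hm' => (hη.1.1.mem_or_mem hm').elim hv hv') (hw η hη)), ?_⟩
          rw [show (v * v' * w η) • (C' • t2 • g1 - B • t1 • g2) =
              (C' * t2 * v') • v • (w η • g1 - (t1 * B) • x η) - (B * t1 * v) • v' • (w η • g2 - (t2 * C') • x η) by module,
            h, h', smul_zero, smul_zero, sub_zero]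
        obtain ⟨z, s, hs, hz⟩ := hp.2 (t2 • g1) (t1 • g2)
          ⟨1, fun h => P.2.ne_top ((Ideal.eq_top_iff_one _).2 h), by rw [he, smul_zero]⟩
        refine hlift (s * (t1 * t2)) (mul_notMem hs (mul_notMem ht1 ht2)) z fun η hη hηP => ?_
        obtain ⟨v, hv, h⟩ := hg1 η hη
        obtain ⟨u, hu, hu0⟩ := hp.1 (v • (w η • z - (s * (t1 * t2)) • x η))
          ⟨1, fun h => P.2.ne_top ((Ideal.eq_top_iff_one _).2 h), by
            rw [one_smul, show B • v • (w η • z - (s * (t1 * t2)) • x η) =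
              (v * w η) • B • z - (v * (s * (t1 * t2)) * B) • x η by module, ← hz,
              show (v * w η) • s • t2 • g1 - (v * (s * (t1 * t2)) * B) • x η =
                (s * t2) • v • (w η • g1 - (t1 * B) • x η) by module, h, smul_zero]⟩
        exact ⟨u * v, fun hm => (hη.1.1.mem_or_mem hm).elim (fun h' => hu (hηP h')) hv, by rw [mul_smul, hu0]⟩
    · obtain ⟨t, htI, htP⟩ := SetLike.not_le_iff_exists.1 hP
      obtain ⟨n, hn⟩ := hkill t htI
      refine htP (P.2.mem_of_pow_mem n (hle ⟨0, fun η hη => ⟨1, fun h => hη.1.1.ne_top ((Ideal.eq_top_iff_one _).2 h), ?_⟩⟩))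
      rw [hn, smul_zero, sub_zero, smul_zero]
  by_cases h : 𝔞 = ⊤
  · exact (h ▸ trivial : (1 : O) ∈ 𝔞)
  · obtain ⟨m, hm, hle⟩ := Ideal.exists_le_maximal 𝔞 h
    exact absurd hle (key ⟨m, hm.isPrime⟩)

end Glue

section Roots

variable {A : Type u} [CommRing A] [IsLocalRing A] {O : Type u} [CommRing O] [Algebra A O] [IsNoetherianRing O]
  [Module.Flat A O] {Q : Type u} [AddCommGroup Q] [Module O Q] [Module.Finite O Q]

theorem tmul_one_eq_iff (J : Ideal A) (a b : O) :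
    a ⊗ₜ[A] (1 : A ⧸ J) = b ⊗ₜ[A] (1 : A ⧸ J) ↔ a - b ∈ J.map (algebraMap A O) := by
  refine ⟨fun h => tmul_one_eq_zero _ (by rw [TensorProduct.sub_tmul, h, sub_self]), fun h => ?_⟩
  have key : ∀ c ∈ J.map (algebraMap A O), c ⊗ₜ[A] (1 : A ⧸ J) = 0 := by
    intro c hc
    refine Submodule.span_induction ?_ (TensorProduct.zero_tmul _ _) (fun y z _ _ hy hz => by
      rw [TensorProduct.add_tmul, hy, hz, add_zero]) (fun o y _ hy => ?_) hc
    · rintro _ ⟨j, hj, rfl⟩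
      rw [Algebra.algebraMap_eq_smul_one, TensorProduct.smul_tmul,
        show j • (1 : A ⧸ J) = 0 from by rw [Algebra.smul_def, mul_one]; exact Ideal.Quotient.eq_zero_iff_mem.2 hj,
        TensorProduct.tmul_zero]
    · rw [← TensorProduct.smul_tmul', hy, smul_zero]
  rw [← sub_eq_zero, ← TensorProduct.sub_tmul]
  exact key _ h

theorem smul_tmul_one (J : Ideal A) (c a : O) : c • (a ⊗ₜ[A] (1 : A ⧸ J)) = (c * a) ⊗ₜ[A] (1 : A ⧸ J) := by
  rw [TensorProduct.smul_tmul', smul_eq_mul]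

variable (hD : FibreData A O Q)

include hD in
theorem triv_of_minimal {η : Ideal O} (hη : η ∈ ((maximalIdeal A).map (algebraMap A O)).minimalPrimes) :
    Triv (Q := Q) η := by
  haveI := hη.1.1
  exact (hD.dich η hη.1.2).resolve_right fun hd =>
    absurd (hd.trans (ringKrullDim_quotient_minimal_le _ η hη)) (by norm_num)

include hD in
theorem exists_regAt (P : Ideal O) [P.IsPrime] (hP : (maximalIdeal A).map (algebraMap A O) ≤ P)
    (hmin : P ∉ ((maximalIdeal A).map (algebraMap A O)).minimalPrimes) :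
    ∃ β ∈ P, RegAt P β (O ⊗[A] (A ⧸ maximalIdeal A)) := by
  let I := (maximalIdeal A).map (algebraMap A O)
  let K := O ⊗[A] (A ⧸ maximalIdeal A)
  let L := Localization.AtPrime P
  have hdim : ((1 : ℕ) : WithBot ℕ∞) ≤ ringKrullDim (L ⧸ I.map (algebraMap O L)) := by
    obtain ⟨η, hη, hηP⟩ := Ideal.exists_minimalPrimes_le hP
    haveI := hη.1.1
    have hdisj : Disjoint (P.primeCompl : Set O) (η : Set O) :=
      Set.disjoint_left.2 fun a ha h => ha (hηP h)
    have hpr : (η.map (algebraMap O L)).IsPrime :=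
      IsLocalization.isPrime_of_isPrime_disjoint P.primeCompl L η hη.1.1 hdisj
    by_contra hlt
    haveI : Ring.KrullDimLE 0 (L ⧸ I.map (algebraMap O L)) := by
      refine Ring.krullDimLE_iff.2 ?_
      rw [not_le] at hlt
      generalize ringKrullDim (L ⧸ I.map (algebraMap O L)) = d at hlt ⊢
      induction d using WithBot.recBotCoe with
      | bot => exact bot_le
      | coe e =>
        norm_cast at hlt ⊢
        exact (ENat.lt_one_iff_eq_zero.1 hlt).le
    let q := Ideal.Quotient.mk (I.map (algebraMap O L))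
    have hker : RingHom.ker q ≤ η.map (algebraMap O L) := by rw [Ideal.mk_ker]; exact Ideal.map_mono hη.1.2
    haveI : (Ideal.map q (η.map (algebraMap O L))).IsPrime :=
      Ideal.map_isPrime_of_surjective Ideal.Quotient.mk_surjective hker
    haveI : (Ideal.map q (η.map (algebraMap O L))).IsMaximal := Ideal.IsPrime.isMaximal' ‹_›
    have hm : (η.map (algebraMap O L)).IsMaximal := by
      have := Ideal.comap_isMaximal_of_surjective q Ideal.Quotient.mk_surjective (K := Ideal.map q (η.map (algebraMap O L)))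
      rwa [Ideal.comap_map_of_surjective _ Ideal.Quotient.mk_surjective, ← RingHom.ker_eq_comap_bot, sup_eq_left.2 hker] at this
    have := IsLocalization.under_map_of_isPrime_disjoint P.primeCompl L hη.1.1 hdisj
    rw [IsLocalRing.eq_maximalIdeal hm] at this
    exact hmin ((this.symm.trans (IsLocalization.AtPrime.under_maximalIdeal L P)) ▸ hη)
  obtain ⟨hnt, hdepth⟩ := le_depth_of_hasSk (G := K) I (map_le_annihilator O)
    (show LocCoh.HasSk 1 O K from fun p _ => (min_le_min (by norm_num) le_rfl).trans (hD.sk p))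
    (fun P0 h0 => ⟨1 ⊗ₜ 1, fun t ht => residue_tmul_ne_zero h0.1.2 ht⟩) P hdim
  haveI := hnt
  haveI : Module.Finite L (LocalizedModule P.primeCompl K) :=
    Module.Finite.of_isLocalizedModule P.primeCompl (LocalizedModule.mkLinearMap P.primeCompl K)
  rw [LocCoh.depth, LocCoh.idealDepth, if_neg (Groth.L04.smul_top_ne_top_of_nontrivial
    (maximalIdeal.isMaximal L).ne_top)] at hdepth
  have h1 : (0 : ℕ∞) < ⨆ (rs : List L) (_ : RingTheory.Sequence.IsWeaklyRegular (LocalizedModule P.primeCompl K) rs ∧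
      ∀ r ∈ rs, r ∈ maximalIdeal L), (rs.length : ℕ∞) := lt_of_lt_of_le (by norm_num) hdepth
  simp only [lt_iSup_iff] at h1
  obtain ⟨rs, ⟨hreg, hmem⟩, hlt⟩ := h1
  match rs, hreg, hmem, hlt with
  | [], _, _, hlt => simp at hlt
  | b :: _, hreg, hmem, _ =>
    have hb := ((RingTheory.Sequence.isWeaklyRegular_cons_iff _ _ _).1 hreg).1
    have hbm := hmem b (by simp)
    obtain ⟨β, u, rfl⟩ := IsLocalization.exists_mk'_eq P.primeCompl b
    refine ⟨β, (IsLocalization.AtPrime.mk'_mem_maximal_iff L P β u).1 hbm, fun y hy => ?_⟩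
    refine (mk_eq_zero_iff y 1).1 (hb.right_eq_zero_of_smul ?_)
    have hu := IsLocalization.map_units L u
    refine hu.smul_eq_zero.1 ?_
    rw [← mul_smul, mul_comm, IsLocalization.mk'_spec, mk_smul_one]
    exact (mk_eq_zero_iff _ 1).2 hy

include hD in
theorem eq_zero_of_minimal {N : Type u} [AddCommGroup N] [Module A N] (hN : IsFiniteLength A N) (z : O ⊗[A] N)
    (h : ∀ η ∈ ((maximalIdeal A).map (algebraMap A O)).minimalPrimes, ∃ v ∉ η, v • z = 0) : z = 0 := by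
  let 𝔞 : Ideal O := LinearMap.ker (LinearMap.toSpanSingleton O _ z)
  haveI hwf : WellFoundedLT (PrimeSpectrum O) :=
    StrictMono.wellFoundedLT (f := fun Q : PrimeSpectrum O => Q.asIdeal.height)
      fun Q R hlt => Ideal.height_strict_mono_of_isPrime hlt
  have key : ∀ P : PrimeSpectrum O, ¬ 𝔞 ≤ P.asIdeal := by
    intro P
    induction P using hwf.induction with
    | _ P ih =>
    intro hle
    by_cases hP : (maximalIdeal A).map (algebraMap A O) ≤ P.asIdeal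
    · by_cases hmin : P.asIdeal ∈ ((maximalIdeal A).map (algebraMap A O)).minimalPrimes
      · obtain ⟨v, hv, h0⟩ := h _ hmin
        exact hv (hle h0)
      obtain ⟨β, hβ, hreg⟩ := exists_regAt hD P.asIdeal hP hmin
      have hregN : RegAt P.asIdeal β (O ⊗[A] N) := by
        clear h hle ih z 𝔞
        induction hN with
        | @of_subsingleton M _ _ _ =>
          haveI : Subsingleton (O ⊗[A] M) := inferInstance
          exact RegAt.subsingleton fun h => P.2.ne_top ((Ideal.eq_top_iff_one _).2 h)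
        | @of_simple_quotient M _ _ p _ _ ihp =>
          obtain ⟨e⟩ := exists_equiv_of_isSimple (A := A) (M ⧸ p)
          exact RegAt.ext (TensorProduct.AlgebraTensorModule.lTensor O O p.subtype)
            (TensorProduct.AlgebraTensorModule.lTensor O O p.mkQ)
            (Module.Flat.lTensor_preserves_injective_linearMap _ (Submodule.injective_subtype p))
            (lTensor_exact O (LinearMap.exact_subtype_mkQ p) p.mkQ_surjective) ihp
            (hreg.equiv (TensorProduct.AlgebraTensorModule.congr (LinearEquiv.refl O O) e))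
      obtain ⟨n, t, ht, hmem⟩ := exists_pow_mul_mem 𝔞 P.asIdeal (fun Q hQ hlt => ih ⟨Q, hQ⟩ hlt) hβ
      change (t * β ^ n) • z = 0 at hmem
      obtain ⟨s, hs, hs0⟩ := hregN.pow n z ⟨t, ht, by rw [← mul_smul, hmem]⟩
      exact hs (hle hs0)
    · obtain ⟨t, htI, htP⟩ := SetLike.not_le_iff_exists.1 hP
      obtain ⟨n, hn⟩ := exists_pow_mul_annihilator hN htI
      exact htP (P.2.mem_of_pow_mem n (hle (hn z)))
  by_cases h' : 𝔞 = ⊤
  · simpa using (show (1 : O) • z = 0 from (h' ▸ trivial : (1 : O) ∈ 𝔞))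
  · obtain ⟨m, hm, hle⟩ := Ideal.exists_le_maximal 𝔞 h'
    exact absurd hle (key ⟨m, hm.isPrime⟩)

include hD in
theorem mem_of_minimal (p : ℕ) [IsNoetherianRing A] (o : O)
    (h : ∀ η ∈ ((maximalIdeal A).map (algebraMap A O)).minimalPrimes,
      ∃ v ∉ η, v * o ∈ (maximalIdeal A ^ (p + 1)).map (algebraMap A O)) :
    o ∈ (maximalIdeal A ^ (p + 1)).map (algebraMap A O) := by
  refine tmul_one_eq_zero _ (eq_zero_of_minimal hD (isFiniteLength_quotient_pow p) _ fun η hη => ?_)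
  obtain ⟨v, hv, hm⟩ := h η hη
  refine ⟨v, hv, ?_⟩
  rw [smul_tmul_one, ← TensorProduct.zero_tmul O (1 : A ⧸ maximalIdeal A ^ (p + 1)), tmul_one_eq_iff, sub_zero]
  exact hm

variable (r : ℕ) (τ : Q → O)

variable (A) in
/-- a root of the form modulo an ideal -/
def IsRoot (J : Ideal A) (s : Fn A O Q (A ⧸ J)) : Prop :=
  ∀ q o, s q = o ⊗ₜ 1 → o ^ r - τ q ∈ J.map (algebraMap A O)

variable [IsNoetherianRing A] (hrpos : r ≠ 0) (hr : IsUnit (r : O)) (hhom : ∀ (c : O) q, τ (c • q) = c ^ r * τ q)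
  (hnv : ∀ (P : Ideal O) [P.IsPrime], (maximalIdeal A).map (algebraMap A O) ≤ P →
    ∀ (q0 : Q) (ε : Q →ₗ[O] O), ε q0 ∉ P → (∀ q, ε q0 • q = ε q • q0) → τ q0 ∉ P)

include hD hrpos hr hhom hnv in
set_option maxHeartbeats 1600000 in
/-- roots lift uniquely to the next level -/
theorem exists_root_lift (p : ℕ) (s : Fn A O Q (A ⧸ maximalIdeal A ^ (p + 1))) (hs : IsRoot A r τ _ s) :
    ∃ s' : Fn A O Q (A ⧸ maximalIdeal A ^ (p + 2)), IsRoot A r τ _ s' ∧
      fmap O Q (Submodule.factor (Ideal.pow_le_pow_right (by omega : p + 1 ≤ p + 2))) s' = s := by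
  classical
  let I := (maximalIdeal A).map (algebraMap A O)
  let π : (A ⧸ maximalIdeal A ^ (p + 2)) →ₗ[A] (A ⧸ maximalIdeal A ^ (p + 1)) :=
    Submodule.factor (Ideal.pow_le_pow_right (by omega : p + 1 ≤ p + 2))
  let J1 := (maximalIdeal A ^ (p + 1)).map (algebraMap A O)
  let J2 := (maximalIdeal A ^ (p + 2)).map (algebraMap A O)
  have hJ1I : J1 ≤ I := Ideal.map_mono (Ideal.pow_le_self (by omega))
  have hsq : ∀ a ∈ J1, ∀ b ∈ J1, a * b ∈ J2 := fun a ha b hb => by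
    refine Ideal.map_mono (Ideal.pow_le_pow_right (show p + 2 ≤ (p + 1) + (p + 1) by omega)) ?_
    rw [pow_add, Ideal.map_mul]
    exact Ideal.mul_mem_mul ha hb
  have hπ : ∀ o : O, π.lTensor O (o ⊗ₜ[A] (1 : A ⧸ maximalIdeal A ^ (p + 2))) = o ⊗ₜ 1 := fun o => rfl
  choose o ho using fun q => exists_tmul_one (maximalIdeal A ^ (p + 1)) (s q)
  have hroot : ∀ q, o q ^ r - τ q ∈ J1 := fun q => hs q _ (ho q).symm
  have hlin : ∀ (c : O) q q', c • q = q' → c * o q - o q' ∈ J1 := fun c q q' h => by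
    rw [← tmul_one_eq_iff, ← smul_tmul_one, ho, ho, ← map_smul, h]
  let W : Q → O := fun q => (r : O) * o q ^ (r - 1)
  let a' : Q → O := fun q => W q * o q + (τ q - o q ^ r)
  have hr0 : ∀ {η : Ideal O}, η.IsPrime → (r : O) ∉ η := fun hη h => hη.ne_top (Ideal.eq_top_of_isUnit_mem _ h hr)
  have hexp : ∀ X D : O, D ∈ J1 → (X + D) ^ r - (X ^ r + (r : O) * X ^ (r - 1) * D) ∈ J2 := fun X D hD => by
    obtain ⟨k, hk⟩ := Polynomial.powAddExpansion X D r
    rw [hk, show X ^ r + ↑r * X ^ (r - 1) * D + k * D ^ 2 - (X ^ r + ↑r * X ^ (r - 1) * D) = k * (D * D) by ring]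
    exact Ideal.mul_mem_left _ _ (hsq D hD D hD)
  have ha'1 : ∀ q, a' q - W q * o q ∈ J1 := fun q => by
    rw [show a' q - W q * o q = -(o q ^ r - τ q) by ring]; exact neg_mem (hroot q)
  have ha'r : ∀ q, a' q ^ r - W q ^ r * τ q ∈ J2 := fun q => by
    have h := hexp (W q * o q) (τ q - o q ^ r) (by rw [← neg_sub]; exact neg_mem (hroot q))
    have e : (r : O) * (W q * o q) ^ (r - 1) = W q ^ r := by
      rw [mul_pow, show (r : O) * (W q ^ (r - 1) * o q ^ (r - 1)) = W q ^ (r - 1) * W q by ring,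
        ← pow_succ, Nat.sub_add_cancel (Nat.one_le_iff_ne_zero.2 hrpos)]
    rw [e] at h
    rwa [show (W q * o q + (τ q - o q ^ r)) ^ r - ((W q * o q) ^ r + W q ^ r * (τ q - o q ^ r)) =
      a' q ^ r - W q ^ r * τ q by rw [mul_pow]; ring] at h
  -- values at free points
  have hgood : ∀ (η : Ideal O) [η.IsPrime], I ≤ η → ∀ (q0 : Q) (ε : Q →ₗ[O] O), ε q0 ∉ η →
      (∀ q, ε q0 • q = ε q • q0) → o q0 ∉ η ∧ W q0 ∉ η ∧ a' q0 ∉ η := by
    intro η _ hI q0 ε he hq
    have h1 : o q0 ∉ η := fun h => hnv η hI q0 ε he hq (by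
      rw [show τ q0 = o q0 ^ r - (o q0 ^ r - τ q0) by ring]
      exact sub_mem (Ideal.pow_mem_of_mem η h r (Nat.pos_of_ne_zero hrpos)) (hI (hJ1I (hroot q0))))
    have h2 : W q0 ∉ η := mul_notMem (hr0 inferInstance) fun h =>
      h1 (Ideal.IsPrime.mem_of_pow_mem inferInstance _ h)
    refine ⟨h1, h2, fun h => mul_notMem h2 h1 ?_⟩
    rw [show W q0 * o q0 = a' q0 - (a' q0 - W q0 * o q0) by ring]
    exact sub_mem h (hI (hJ1I (ha'1 q0)))
  choose qη εη hεη hqη using fun (η : I.minimalPrimes) => triv_of_minimal hD η.2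
  let w : Ideal O → O := fun η => if h : η ∈ I.minimalPrimes then εη ⟨η, h⟩ (qη ⟨η, h⟩) * W (qη ⟨η, h⟩) else 1
  let x : Ideal O → Fn A O Q (A ⧸ maximalIdeal A ^ (p + 2)) := fun η =>
    if h : η ∈ I.minimalPrimes then (εη ⟨η, h⟩).smulRight (a' (qη ⟨η, h⟩) ⊗ₜ 1) else 0
  have hwx : ∀ η (hη : η ∈ I.minimalPrimes), w η = εη ⟨η, hη⟩ (qη ⟨η, hη⟩) * W (qη ⟨η, hη⟩) ∧
      x η = (εη ⟨η, hη⟩).smulRight (a' (qη ⟨η, hη⟩) ⊗ₜ 1) := fun η hη => ⟨dif_pos hη, dif_pos hη⟩
  have hw : ∀ η ∈ I.minimalPrimes, w η ∉ η := fun η hη => by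
    haveI := hη.1.1
    rw [(hwx η hη).1]
    exact mul_notMem (hεη ⟨η, hη⟩) (hgood η hη.1.2 _ _ (hεη ⟨η, hη⟩) (hqη ⟨η, hη⟩)).2.1
  have hNlen := isFiniteLength_quotient_pow (A := A) (p + 1)
  have hdetF : ∀ (M : Type u) [AddCommGroup M] [Module A M], IsFiniteLength A M → ∀ y : Fn A O Q M,
      (∀ η ∈ I.minimalPrimes, ∃ v ∉ η, v • y = 0) → y = 0 := fun M _ _ hM y hy => LinearMap.ext fun q =>
    eq_zero_of_minimal hD hM (y q) fun η hη => by
      obtain ⟨v, hv, h⟩ := hy η hη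
      exact ⟨v, hv, LinearMap.congr_fun h q⟩
  obtain ⟨g, hg⟩ := exists_glue I w x hw (hdetF _ hNlen) (fun t ht => by
    obtain ⟨n, hn⟩ := exists_pow_mul_annihilator hNlen ht
    exact ⟨n, fun y => LinearMap.ext fun q => hn (y q)⟩) (fun P hP' hP => by
    rcases hD.dich P hP with ⟨q0, ε, he, hq⟩ | hd
    swap
    · obtain ⟨β, hβ, γ, hγ, hpair⟩ := exists_pairAt (P := P) (exists_pair_residue hD P hP hd)
      exact .inr ⟨β, hβ, γ, hγ, (pairAt_tensor hpair _ hNlen).hom⟩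
    refine .inl ⟨ε q0 * W q0, mul_notMem he (hgood P hP q0 ε he hq).2.1, ε.smulRight (a' q0 ⊗ₜ 1), fun η hη hηP => ?_⟩
    haveI := hη.1.1
    set q1 := qη ⟨η, hη⟩
    set ε1 := εη ⟨η, hη⟩
    obtain ⟨-, hW1, hA1⟩ := hgood η hη.1.2 q1 ε1 (hεη ⟨η, hη⟩) (hqη ⟨η, hη⟩)
    have he' : ε q0 ∉ η := fun h => he (hηP h)
    obtain ⟨-, hW0, -⟩ := hgood η hη.1.2 q0 ε he' hq
    set X := ε1 q1 * W q1 * ε q1 * a' q0
    set Y := ε q0 * W q0 * ε1 q1 * a' q1
    have hδ : X - Y ∈ J1 := by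
      have h1 := hlin (ε q0) q1 (ε q1 • q0) (hq q1)
      have h2 := hlin (ε q1) q0 (ε q1 • q0) rfl
      rw [show X - Y = ε1 q1 * W q1 * ε q1 * (a' q0 - W q0 * o q0) - ε q0 * W q0 * ε1 q1 * (a' q1 - W q1 * o q1) +
        ε1 q1 * W q1 * W q0 * ((ε q1 * o q0 - o (ε q1 • q0)) - (ε q0 * o q1 - o (ε q1 • q0))) by simp only [X, Y]; ring]
      exact add_mem (sub_mem (Ideal.mul_mem_left _ _ (ha'1 _)) (Ideal.mul_mem_left _ _ (ha'1 _)))
        (Ideal.mul_mem_left _ _ (sub_mem h2 h1))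
    have hpow : X ^ r - Y ^ r ∈ J2 := by
      have hτ : ε q0 ^ r * τ q1 = ε q1 ^ r * τ q0 := by rw [← hhom, ← hhom, hq q1]
      rw [show X ^ r - Y ^ r = (ε1 q1 * W q1 * ε q1) ^ r * (a' q0 ^ r - W q0 ^ r * τ q0) -
          (ε q0 * W q0 * ε1 q1) ^ r * (a' q1 ^ r - W q1 ^ r * τ q1) +
          (ε1 q1 * W q1 * W q0) ^ r * (ε q1 ^ r * τ q0 - ε q0 ^ r * τ q1) by simp only [X, Y, mul_pow]; ring,
        hτ, sub_self, mul_zero, add_zero]
      exact sub_mem (Ideal.mul_mem_left _ _ (ha'r _)) (Ideal.mul_mem_left _ _ (ha'r _))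
    have hv0 : (r : O) * Y ^ (r - 1) * (X - Y) ∈ J2 := by
      have h := hexp Y (X - Y) hδ
      rw [add_sub_cancel] at h
      rw [show (r : O) * Y ^ (r - 1) * (X - Y) =
        (X ^ r - Y ^ r) - (X ^ r - (Y ^ r + (r : O) * Y ^ (r - 1) * (X - Y))) by ring]
      exact sub_mem hpow h
    have hY : Y ∉ η := mul_notMem (mul_notMem (mul_notMem he' hW0) (hεη ⟨η, hη⟩)) hA1
    refine ⟨ε1 q1 * ((r : O) * Y ^ (r - 1)),
      mul_notMem (hεη ⟨η, hη⟩) (mul_notMem (hr0 inferInstance) fun h => hY (Ideal.IsPrime.mem_of_pow_mem inferInstance _ h)),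
      LinearMap.ext fun q => ?_⟩
    rw [(hwx η hη).1, (hwx η hη).2]
    generalize hF : (ε1 q1 * W q1) • ε.smulRight (a' q0 ⊗ₜ[A] (1 : A ⧸ maximalIdeal A ^ (p + 2))) -
      (ε q0 * W q0) • ε1.smulRight (a' q1 ⊗ₜ[A] (1 : A ⧸ maximalIdeal A ^ (p + 2))) = F
    have hF1 : ((r : O) * Y ^ (r - 1)) • F q1 = 0 := by
      rw [← hF]
      simp only [LinearMap.sub_apply, LinearMap.smul_apply, LinearMap.smulRight_apply, smul_tmul_one,
        ← TensorProduct.sub_tmul]
      rw [← TensorProduct.zero_tmul O (1 : A ⧸ maximalIdeal A ^ (p + 2)), tmul_one_eq_iff, sub_zero]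
      rwa [show (r : O) * Y ^ (r - 1) * (ε1 q1 * W q1 * (ε q1 * a' q0) - ε q0 * W q0 * (ε1 q1 * a' q1)) =
        (r : O) * Y ^ (r - 1) * (X - Y) by simp only [X, Y]; ring]
    rw [LinearMap.smul_apply, LinearMap.zero_apply, mul_comm (ε1 q1), mul_smul, ← map_smul F, hqη ⟨η, hη⟩ q, map_smul,
      smul_comm, hF1, smul_zero])
  refine ⟨g, fun q b hb => mem_of_minimal hD (p + 1) _ fun η hη => ?_, ?_⟩
  · haveI := hη.1.1
    obtain ⟨v, hv, h⟩ := hg η hη
    rw [(hwx η hη).1, (hwx η hη).2] at h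
    set q1 := qη ⟨η, hη⟩
    set ε1 := εη ⟨η, hη⟩
    obtain ⟨c, hc⟩ := exists_tmul_one _ (g q1)
    have h1 : v * (ε1 q1 * W q1 * c - ε1 q1 * a' q1) ∈ J2 := by
      have := LinearMap.congr_fun h q1
      simp only [LinearMap.smul_apply, LinearMap.sub_apply, LinearMap.smulRight_apply, LinearMap.zero_apply, one_smul,
        ← hc, smul_tmul_one, ← TensorProduct.sub_tmul] at this
      rwa [← TensorProduct.zero_tmul O (1 : A ⧸ maximalIdeal A ^ (p + 2)), tmul_one_eq_iff, sub_zero] at this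
    have h2 : ε1 q1 * b - ε1 q * c ∈ J2 := by
      rw [← tmul_one_eq_iff, ← smul_tmul_one, ← smul_tmul_one, ← hb, hc, ← map_smul, ← map_smul, hqη ⟨η, hη⟩ q]
    have hτ : ε1 q1 ^ r * τ q = ε1 q ^ r * τ q1 := by rw [← hhom, ← hhom, hqη ⟨η, hη⟩ q]
    refine ⟨(v * (ε1 q1 * W q1)) ^ r * ε1 q1 ^ r, mul_notMem (fun hm => ?_)
      (fun hm => hεη ⟨η, hη⟩ (hη.1.1.mem_of_pow_mem _ hm)), ?_⟩
    · have := hη.1.1.mem_of_pow_mem _ hm
      exact mul_notMem hv (by simpa only [(hwx η hη).1] using hw η hη) this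
    obtain ⟨k1, hk1⟩ := sub_dvd_pow_sub_pow (v * (ε1 q1 * W q1 * c)) (v * (ε1 q1 * a' q1)) r
    obtain ⟨k2, hk2⟩ := sub_dvd_pow_sub_pow (ε1 q1 * b) (ε1 q * c) r
    simp only [mul_pow] at hk1 hk2
    rw [show (v * (ε1 q1 * W q1)) ^ r * ε1 q1 ^ r * (b ^ r - τ q) =
      (v * (ε1 q1 * W q1)) ^ r * ((ε1 q1 * b - ε1 q * c) * k2) +
        ε1 q ^ r * ((v * (ε1 q1 * W q1 * c) - v * (ε1 q1 * a' q1)) * k1) +
        ε1 q ^ r * (v * ε1 q1) ^ r * (a' q1 ^ r - W q1 ^ r * τ q1) +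
        (v * (ε1 q1 * W q1)) ^ r * (ε1 q ^ r * τ q1 - ε1 q1 ^ r * τ q) by
        simp only [← hk1, ← hk2, mul_pow]; ring, hτ, sub_self, mul_zero, add_zero]
    refine add_mem (add_mem ?_ ?_) (Ideal.mul_mem_left _ _ (ha'r q1))
    · exact Ideal.mul_mem_left _ _ (Ideal.mul_mem_right _ _ h2)
    · rw [← mul_sub]
      exact Ideal.mul_mem_left _ _ (Ideal.mul_mem_right _ _ h1)
  · refine eq_of_sub_eq_zero (hdetF _ (isFiniteLength_quotient_pow p) _ fun η hη => ?_)
    haveI := hη.1.1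
    obtain ⟨v, hv, h⟩ := hg η hη
    rw [(hwx η hη).1, (hwx η hη).2] at h
    set q1 := qη ⟨η, hη⟩
    set ε1 := εη ⟨η, hη⟩
    refine ⟨ε1 q1 * (v * (ε1 q1 * W q1)),
      mul_notMem (hεη ⟨η, hη⟩) (mul_notMem hv (by simpa only [(hwx η hη).1] using hw η hη)), LinearMap.ext fun q => ?_⟩
    have h1 : (v * (ε1 q1 * W q1)) • (fmap O Q π g - s) q1 = 0 := by
      have := congrArg (TensorProduct.AlgebraTensorModule.lTensor O O π) (LinearMap.congr_fun h q1)
      simp only [LinearMap.smul_apply, LinearMap.sub_apply, LinearMap.smulRight_apply, LinearMap.zero_apply,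
        map_smul, map_sub, map_zero, one_smul] at this
      rw [show TensorProduct.AlgebraTensorModule.lTensor O O π (a' q1 ⊗ₜ[A] (1 : A ⧸ maximalIdeal A ^ (p + 2))) =
        (W q1 * o q1) ⊗ₜ[A] (1 : A ⧸ maximalIdeal A ^ (p + 1)) from (hπ _).trans
          ((tmul_one_eq_iff _ _ _).2 (ha'1 q1)), ← smul_tmul_one, ho] at this
      rw [← this]
      show (v * (ε1 q1 * W q1)) • (TensorProduct.AlgebraTensorModule.lTensor O O π (g q1) - s q1) = _
      module
    rw [LinearMap.smul_apply, LinearMap.zero_apply, mul_comm (ε1 q1), mul_smul, ← map_smul (fmap O Q π g - s),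
      hqη ⟨η, hη⟩ q, map_smul, smul_comm, h1, smul_zero]

theorem mk_one_of_map (J J' : Ideal A) (h : J ≤ J') (a : O) :
    (Submodule.factor h).lTensor O (a ⊗ₜ[A] (1 : A ⧸ J)) = a ⊗ₜ[A] (1 : A ⧸ J') := rfl

include hD hrpos hr hhom hnv in
set_option maxHeartbeats 1600000 in
/-- a free fibre of maps whose power lifts, lifts -/
theorem ev_surjective_of_root [IsLocalRing O] [IsLocalHom (algebraMap A O)]
    (θ : Fn A O Q (A ⧸ maximalIdeal A) ≃ₗ[O] O ⊗[A] (A ⧸ maximalIdeal A)) :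
    Function.Surjective (ev A O Q (A ⧸ maximalIdeal A)) := by
  classical
  let I := (maximalIdeal A).map (algebraMap A O)
  let K := O ⊗[A] (A ⧸ maximalIdeal A)
  let s0 : Fn A O Q (A ⧸ maximalIdeal A) := θ.symm (1 ⊗ₜ 1)
  have hgen : ∀ g, ∃ a : O, g = a • s0 := fun g => by
    obtain ⟨a, ha⟩ := exists_tmul_one _ (θ g)
    exact ⟨a, θ.injective (by rw [map_smul, θ.apply_symm_apply, smul_tmul_one, mul_one, ha])⟩
  choose o ho using fun q => exists_tmul_one (maximalIdeal A) (s0 q)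
  have hlin : ∀ (c : O) q q', c • q = q' → c * o q - o q' ∈ I := fun c q q' h => by
    rw [← tmul_one_eq_iff, ← smul_tmul_one, ho, ho, ← map_smul, h]
  have hr0 : ∀ (η : Ideal O) [η.IsPrime], (r : O) ∉ η :=
    fun η hη h => hη.ne_top (Ideal.eq_top_of_isUnit_mem _ h hr)
  have hov : ∀ (P : Ideal O) [P.IsPrime], I ≤ P → ∀ (q0 : Q) (ε : Q →ₗ[O] O), ε q0 ∉ P → o q0 ∉ P := by
    intro P _ hP q0 ε he ho0
    obtain ⟨a, ha⟩ := hgen (ε.smulRight ((1 : O) ⊗ₜ[A] (1 : A ⧸ maximalIdeal A)))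
    have h := LinearMap.congr_fun ha q0
    rw [LinearMap.smulRight_apply, smul_tmul_one, mul_one, LinearMap.smul_apply, ← ho, smul_tmul_one, tmul_one_eq_iff] at h
    refine he ?_
    rw [show ε q0 = (ε q0 - a * o q0) + a * o q0 by ring]
    exact add_mem (hP h) (Ideal.mul_mem_left _ _ ho0)
  have hmem : ∀ z : O, (∀ η ∈ I.minimalPrimes, ∃ v ∉ η, v * z ∈ I) → z ∈ I := fun z hz => by
    have := mem_of_minimal hD 0 z (fun η hη => by rw [zero_add, pow_one]; exact hz η hη)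
    rwa [zero_add, pow_one] at this
  choose qη εη hεη hqη using fun (η : I.minimalPrimes) => triv_of_minimal hD η.2
  have hsimp : IsSimpleModule A (A ⧸ maximalIdeal A) :=
    isSimpleModule_iff_isCoatom.2 (maximalIdeal.isMaximal A).out
  have hlen : IsFiniteLength A (A ⧸ maximalIdeal A) := isFiniteLength_of_isSimple _
  -- the two sides agree up to a unit on the fibre
  have glue : ∀ (f1 f2 : Q → O), (∀ η : I.minimalPrimes, f1 (qη η) ∉ η.1) →
      (∀ (P : Ideal O) [P.IsPrime], I ≤ P → ∀ (q0 : Q) (ε : Q →ₗ[O] O), ε q0 ∉ P → (∀ q, ε q0 • q = ε q • q0) →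
        f1 q0 ∉ P ∧ ∀ q, ε q0 ^ r * (f1 q * f2 q0 - f1 q0 * f2 q) ∈ I) →
      ∃ c : O, ∀ η : I.minimalPrimes, ∃ v ∉ η.1, v * (f1 (qη η) * c - f2 (qη η)) ∈ I := by
    intro f1 f2 h1 h2
    let w : Ideal O → O := fun η => if h : η ∈ I.minimalPrimes then f1 (qη ⟨η, h⟩) else 1
    let x : Ideal O → K := fun η => if h : η ∈ I.minimalPrimes then f2 (qη ⟨η, h⟩) ⊗ₜ 1 else 0
    have hwx : ∀ η (hη : η ∈ I.minimalPrimes), w η = f1 (qη ⟨η, hη⟩) ∧ x η = f2 (qη ⟨η, hη⟩) ⊗ₜ 1 :=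
      fun η hη => ⟨dif_pos hη, dif_pos hη⟩
    obtain ⟨g, hg⟩ := exists_glue I w x (fun η hη => by rw [(hwx η hη).1]; exact h1 ⟨η, hη⟩)
      (eq_zero_of_minimal hD hlen) (fun t ht => exists_pow_mul_annihilator hlen ht) (fun P hP' hP => by
        rcases hD.dich P hP with ⟨q0, ε, he, hq⟩ | hd
        swap
        · obtain ⟨β, hβ, γ, hγ, hpair⟩ := exists_pairAt (P := P) (exists_pair_residue hD P hP hd)
          exact .inr ⟨β, hβ, γ, hγ, hpair⟩
        obtain ⟨hf, hrel⟩ := h2 P hP q0 ε he hq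
        refine .inl ⟨f1 q0, hf, f2 q0 ⊗ₜ 1, fun η hη hηP => ⟨ε q0 ^ r, fun h => he (hηP (hη.1.1.mem_of_pow_mem _ h)), ?_⟩⟩
        rw [(hwx η hη).1, (hwx η hη).2, smul_tmul_one, smul_tmul_one, ← TensorProduct.sub_tmul, smul_tmul_one,
          ← TensorProduct.zero_tmul O (1 : A ⧸ maximalIdeal A), tmul_one_eq_iff, sub_zero]
        exact hrel _)
    obtain ⟨c, rfl⟩ := exists_tmul_one _ g
    refine ⟨c, fun η => ?_⟩
    obtain ⟨v, hv, h⟩ := hg η.1 η.2
    refine ⟨v, hv, ?_⟩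
    rw [(hwx η.1 η.2).1, (hwx η.1 η.2).2, one_smul, smul_tmul_one, ← TensorProduct.sub_tmul, smul_tmul_one,
      ← TensorProduct.zero_tmul O (1 : A ⧸ maximalIdeal A), tmul_one_eq_iff, sub_zero] at h
    exact h
  have hrel : ∀ (q0 : Q) (ε : Q →ₗ[O] O), (∀ q, ε q0 • q = ε q • q0) → ∀ q,
      ε q0 ^ r * (τ q * o q0 ^ r - τ q0 * o q ^ r) ∈ I := by
    intro q0 ε hq q
    have hτ : ε q0 ^ r * τ q = ε q ^ r * τ q0 := by rw [← hhom, ← hhom, hq q]
    have h1 : ε q * o q0 - ε q0 * o q ∈ I := by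
      have := sub_mem (hlin (ε q) q0 _ rfl) (hlin (ε q0) q (ε q • q0) (hq q))
      rwa [sub_sub_sub_cancel_right] at this
    obtain ⟨k, hk⟩ := sub_dvd_pow_sub_pow (ε q * o q0) (ε q0 * o q) r
    rw [show ε q0 ^ r * (τ q * o q0 ^ r - τ q0 * o q ^ r) =
      τ q0 * ((ε q * o q0) ^ r - (ε q0 * o q) ^ r) + (ε q0 ^ r * τ q - ε q ^ r * τ q0) * o q0 ^ r by ring,
      hτ, sub_self, zero_mul, add_zero, hk]
    exact Ideal.mul_mem_left _ _ (Ideal.mul_mem_right _ _ h1)
  haveI := fun η : I.minimalPrimes => η.2.1.1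
  obtain ⟨c, hc⟩ := glue τ (fun q => o q ^ r) (fun η => hnv _ η.2.1.2 _ _ (hεη η) (hqη η))
    fun P _ hP q0 ε he hq => ⟨hnv P hP q0 ε he hq, hrel q0 ε hq⟩
  obtain ⟨c', hc'⟩ := glue (fun q => o q ^ r) τ
    (fun η h => hov _ η.2.1.2 _ _ (hεη η) ((η.2.1.1).mem_of_pow_mem _ h))
    fun P hP' hP q0 ε he hq => ⟨fun h => hov P hP q0 ε he (hP'.mem_of_pow_mem _ h), fun q => by
      have := neg_mem (hrel q0 ε hq q)
      rwa [← mul_neg, neg_sub, mul_comm (τ q0), mul_comm (τ q)] at this⟩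
  have hcu : IsUnit c := by
    have h1 : c * c' - 1 ∈ I := hmem _ fun η hη => by
      obtain ⟨v, hv, h⟩ := hc ⟨η, hη⟩
      obtain ⟨v', hv', h'⟩ := hc' ⟨η, hη⟩
      refine ⟨v * v' * τ (qη ⟨η, hη⟩), (fun hm => (hη.1.1.mem_or_mem hm).elim
        (fun hm' => (hη.1.1.mem_or_mem hm').elim hv hv') (@hnv η hη.1.1 hη.1.2 _ _ (hεη ⟨η, hη⟩) (hqη ⟨η, hη⟩))), ?_⟩
      rw [show v * v' * τ (qη ⟨η, hη⟩) * (c * c' - 1) =
        (v' * c') * (v * (τ (qη ⟨η, hη⟩) * c - o (qη ⟨η, hη⟩) ^ r)) +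
          v * (v' * (o (qη ⟨η, hη⟩) ^ r * c' - τ (qη ⟨η, hη⟩))) by ring]
      exact add_mem (Ideal.mul_mem_left _ _ h) (Ideal.mul_mem_left _ _ h')
    by_contra hcu
    have h2 : c * c' - 1 ∈ maximalIdeal O := map_maximalIdeal_le h1
    exact (maximalIdeal.isMaximal O).ne_top ((Ideal.eq_top_iff_one _).2 (by
      rw [show (1 : O) = c * c' - (c * c' - 1) by ring]
      exact sub_mem (Ideal.mul_mem_right _ _ hcu) h2))
  let τ' : Q → O := fun q => c * τ q
  have hroot0 : ∀ q, o q ^ r - τ' q ∈ I := fun q => hmem _ fun η hη => by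
    obtain ⟨v, hv, h⟩ := hc ⟨η, hη⟩
    refine ⟨v * εη ⟨η, hη⟩ (qη ⟨η, hη⟩) ^ r * τ (qη ⟨η, hη⟩), (fun hm => (hη.1.1.mem_or_mem hm).elim
      (fun hm' => (hη.1.1.mem_or_mem hm').elim hv fun h => hεη ⟨η, hη⟩ (hη.1.1.mem_of_pow_mem _ h))
      (@hnv η hη.1.1 hη.1.2 _ _ (hεη ⟨η, hη⟩) (hqη ⟨η, hη⟩))), ?_⟩
    rw [show v * εη ⟨η, hη⟩ (qη ⟨η, hη⟩) ^ r * τ (qη ⟨η, hη⟩) * (o q ^ r - τ' q) =
      -(v * (εη ⟨η, hη⟩ (qη ⟨η, hη⟩) ^ r * (τ q * o (qη ⟨η, hη⟩) ^ r - τ (qη ⟨η, hη⟩) * o q ^ r))) -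
        εη ⟨η, hη⟩ (qη ⟨η, hη⟩) ^ r * τ q * (v * (τ (qη ⟨η, hη⟩) * c - o (qη ⟨η, hη⟩) ^ r)) by
        simp only [τ']; ring]
    exact sub_mem (neg_mem (Ideal.mul_mem_left _ _ (hrel _ _ (hqη ⟨η, hη⟩) q))) (Ideal.mul_mem_left _ _ h)
  have hhom' : ∀ (a : O) q, τ' (a • q) = a ^ r * τ' q := fun a q => by simp only [τ', hhom]; ring
  have hnv' : ∀ (P : Ideal O) [P.IsPrime], I ≤ P → ∀ (q0 : Q) (ε : Q →ₗ[O] O), ε q0 ∉ P →
      (∀ q, ε q0 • q = ε q • q0) → τ' q0 ∉ P := fun P hP' hP q0 ε he hq h =>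
    (hP'.mem_or_mem h).elim (fun hc => hP'.ne_top (Ideal.eq_top_of_isUnit_mem _ hc hcu)) (hnv P hP q0 ε he hq)
  refine ev_residue_surjective_of_tower fun p => ?_
  suffices key : ∃ s, IsRoot A r τ' _ s ∧
      fmap O Q (Submodule.factor (Ideal.pow_le_self p.succ_ne_zero : maximalIdeal A ^ (p + 1) ≤ maximalIdeal A)) s = s0 by
    obtain ⟨s, -, hs⟩ := key
    intro g
    obtain ⟨a, rfl⟩ := hgen g
    exact ⟨a • s, by rw [map_smul, hs]⟩
  induction p with
  | zero =>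
    have hle : maximalIdeal A ≤ maximalIdeal A ^ (0 + 1) := by rw [zero_add, pow_one]
    refine ⟨fmap O Q (Submodule.factor hle) s0, fun q b hb => ?_, LinearMap.ext fun q => ?_⟩
    · rw [fmap_apply, ← ho, mk_one_of_map, tmul_one_eq_iff, zero_add, pow_one] at hb
      rw [zero_add, pow_one]
      obtain ⟨k, hk⟩ := sub_dvd_pow_sub_pow (o q) b r
      rw [show b ^ r - τ' q = (o q ^ r - τ' q) - (o q ^ r - b ^ r) by ring, hk]
      exact sub_mem (hroot0 q) (Ideal.mul_mem_right _ _ hb)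
    · show (Submodule.factor _).lTensor O ((Submodule.factor hle).lTensor O (s0 q)) = s0 q
      rw [← ho, mk_one_of_map, mk_one_of_map]
  | succ p ih =>
    obtain ⟨s, hs, hs0⟩ := ih
    obtain ⟨s', hs', hπ⟩ := exists_root_lift hD r τ' hrpos hr hhom' hnv' p s hs
    refine ⟨s', hs', LinearMap.ext fun q => ?_⟩
    rw [← hs0, ← hπ]
    obtain ⟨a, ha⟩ := exists_tmul_one _ (s' q)
    show (Submodule.factor _).lTensor O (s' q) = (Submodule.factor _).lTensor O ((Submodule.factor _).lTensor O (s' q))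
    rw [← ha, mk_one_of_map, mk_one_of_map, mk_one_of_map]

end Roots

end Groth.L10.RelCan.Core
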