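import Groth.Agent.L02.CMMor.FlatDepth
import Groth.Agent.L02.CMMor.BaseChange
import Groth.Agent.L02.CMMor.Groupoid
import Groth.Agent.L02.FibDepth.Semi
import Groth.Agent.L04.FibStalk
import Groth.Agent.L06.FlatFibre
import Groth.Agent.L06.SupportStalk
import Groth.Agent.L00.PullStalk
import Groth.Agent.L07.GeomRk.Sk
import Groth.Agent.L16.AffineBC.Pullback
import Groth.Agent.L20.ModStalk
import Groth.Prelude.Def_RelCanon

/-!
Serre conditions of modules along flat morphisms with Cohen–Macaulay fibres and along changes of the base field.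
-/

set_option autoImplicit false
set_option linter.style.haveILetI false
set_option backward.defeqAttrib.useBackward true
set_option backward.isDefEq.respectTransparency false
set_option backward.isDefEq.respectTransparency.types false
universe u

open CategoryTheory CategoryTheory.Limits AlgebraicGeometry TopologicalSpace IsLocalRing
open scoped TensorProduct

noncomputable section

namespace Groth.L10.RelCan.SkPull

open L02.FibDepth

/-- depth at least `min (k, dim)` -/
def Good (k : ℕ) (R M : Type u) [CommRing R] [IsLocalRing R] [AddCommGroup M] [Module R M] : Prop :=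
  min (k : WithBot ℕ∞) (Module.supportDim R M) ≤ ((LocCoh.depth R M : ℕ∞) : WithBot ℕ∞)

theorem good_iff_of_semi {k : ℕ} {R M S N : Type u} [CommRing R] [IsLocalRing R] [AddCommGroup M] [Module R M]
    [Module.Finite R M] [CommRing S] [IsLocalRing S] [AddCommGroup N] [Module S N] (E : Semi R M S N) :
    Good k R M ↔ Good k S N := by
  rw [Good, Good, E.depth_eq, E.supportDim_eq]

/-- localized sections against stalks -/
theorem exists_semi_stalk {Z : Scheme.{u}} (M : Z.Modules) [Coh.IsQCoh M] {W : Z.Opens} (hW : IsAffineOpen W)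
    {z : Z} (hz : z ∈ W) :
    Nonempty (Semi (Localization.AtPrime (hW.primeIdealOf ⟨z, hz⟩).asIdeal)
      (LocalizedModule (hW.primeIdealOf ⟨z, hz⟩).asIdeal.primeCompl Γ(M, W))
      (Z.presheaf.stalk z) (M.presheaf.stalk z)) := by
  let q := (hW.primeIdealOf ⟨z, hz⟩).asIdeal
  letI := Groth.L20.ModStalk.stalkModule M hz
  haveI := Groth.L20.ModStalk.isLocalizedModule_germ M hW hz
  letI := Z.presheaf.algebra_section_stalk ⟨z, hz⟩
  haveI : IsLocalization q.primeCompl (Z.presheaf.stalk z) := hW.isLocalization_stalk ⟨z, hz⟩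
  haveI : IsScalarTower Γ(Z, W) (Z.presheaf.stalk z) (M.presheaf.stalk z) :=
    IsScalarTower.of_algebraMap_smul fun _ _ => rfl
  let ε : Localization.AtPrime q ≃ₐ[Γ(Z, W)] Z.presheaf.stalk z := IsLocalization.algEquiv q.primeCompl _ _
  let g := IsLocalizedModule.linearEquiv q.primeCompl (LocalizedModule.mkLinearMap q.primeCompl Γ(M, W))
    (Groth.L20.ModStalk.germₗ M hz)
  refine ⟨{ φ := ε.toRingEquiv.toRingHom, surj := ε.surjective, e := g.toAddEquiv, map_smul := fun x m => ?_ }⟩
  obtain ⟨r, s, rfl⟩ := IsLocalization.exists_mk'_eq q.primeCompl x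
  have hu := (Module.End.isUnit_iff _).1 (IsLocalizedModule.map_units (Groth.L20.ModStalk.germₗ M hz) s)
  refine hu.1 ?_
  rw [Module.algebraMap_end_apply, Module.algebraMap_end_apply]
  change (s : Γ(Z, W)) • g (IsLocalization.mk' (Localization.AtPrime q) r s • m) =
    (s : Γ(Z, W)) • (ε (IsLocalization.mk' (Localization.AtPrime q) r s) • g m)
  rw [← g.map_smul, ← smul_assoc (s : Γ(Z, W)) (ε _) (g m), ← map_smul ε, ← smul_assoc,
    Algebra.smul_def (s : Γ(Z, W)) (IsLocalization.mk' (Localization.AtPrime q) r s),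
    IsLocalization.mk'_spec', algebraMap_smul, g.map_smul, AlgEquiv.commutes, algebraMap_smul]

/-- the Serre condition at a point in terms of its generizations -/
theorem skAt_iff_gen {Z : Scheme.{u}} [IsLocallyNoetherian Z] (M : Z.Modules) (hM : Coh.IsCoh M) (k : ℕ) (z : Z) :
    RelCanon.SkAt k M z ↔ ∀ w : Z, w ⤳ z → Good k (Z.presheaf.stalk w) (M.presheaf.stalk w) := by
  haveI := hM.1
  obtain ⟨W, hW, hzW, -⟩ := exists_isAffineOpen_mem_and_subset (x := z) (U := ⊤) trivial
  haveI : IsNoetherianRing Γ(Z, W) := IsLocallyNoetherian.component_noetherian ⟨W, hW⟩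
  haveI : Module.Finite Γ(Z, W) Γ(M, W) := Groth.L20.ModStalk.finite_sections M hM hW
  haveI : ∀ (q : Ideal Γ(Z, W)) [q.IsPrime], Module.Finite (Localization.AtPrime q) (LocalizedModule q.primeCompl Γ(M, W)) :=
    fun q _ => Module.Finite.of_isLocalizedModule q.primeCompl (LocalizedModule.mkLinearMap q.primeCompl Γ(M, W))
  let q := (hW.primeIdealOf ⟨z, hzW⟩).asIdeal
  have hloc : ∀ (w : Z) (hw : w ∈ W),
      Good k (Localization.AtPrime (hW.primeIdealOf ⟨w, hw⟩).asIdeal)
        (LocalizedModule (hW.primeIdealOf ⟨w, hw⟩).asIdeal.primeCompl Γ(M, W)) ↔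
      Good k (Z.presheaf.stalk w) (M.presheaf.stalk w) := fun w hw => by
    obtain ⟨E⟩ := exists_semi_stalk M hW hw
    exact good_iff_of_semi E
  obtain ⟨E⟩ := exists_semi_stalk M hW hzW
  rw [RelCanon.SkAt, ← E.hasSk_iff k]
  constructor
  · intro h w hwz
    have hw : w ∈ W := hwz.mem_open W.2 hzW
    let Q := (hW.primeIdealOf ⟨w, hw⟩).asIdeal
    have hQq : Q ≤ q := by
      refine (PrimeSpectrum.le_iff_specializes (hW.primeIdealOf ⟨w, hw⟩) (hW.primeIdealOf ⟨z, hzW⟩)).2
        (hW.fromSpec.isOpenEmbedding.isInducing.specializes_iff.1 ?_)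
      rw [hW.fromSpec_primeIdealOf, hW.fromSpec_primeIdealOf]
      exact hwz
    let P := Q.map (algebraMap Γ(Z, W) (Localization.AtPrime q))
    haveI : P.IsPrime := Ideal.isPrime_map_of_isLocalizationAtPrime q hQq
    obtain ⟨E', -⟩ := Groth.L04.FibStalk.exists_semi_localized q Γ(M, W) P
    refine (hloc w hw).1 ?_
    have h1 : Good k (Localization.AtPrime (P.comap (algebraMap Γ(Z, W) (Localization.AtPrime q))))
        (LocalizedModule (P.comap (algebraMap Γ(Z, W) (Localization.AtPrime q))).primeCompl Γ(M, W)) :=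
      (good_iff_of_semi E').2 (h P)
    exact Groth.L07.GeomRk.congr_prime (T := fun V _ => Good k (Localization.AtPrime V) (LocalizedModule V.primeCompl Γ(M, W)))
      (Ideal.under_map_of_isLocalizationAtPrime q hQq) h1
  · intro h P _
    obtain ⟨E', -⟩ := Groth.L04.FibStalk.exists_semi_localized q Γ(M, W) P
    refine (good_iff_of_semi E').1 ?_
    let Q := P.comap (algebraMap Γ(Z, W) (Localization.AtPrime q))
    have hQq : Q ≤ q := (Ideal.comap_mono (le_maximalIdeal (Ideal.IsPrime.ne_top ‹P.IsPrime›))).trans_eq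
      (IsLocalization.AtPrime.under_maximalIdeal (Localization.AtPrime q) q)
    let w := hW.fromSpec ⟨Q, inferInstance⟩
    have hw : w ∈ W := hW.range_fromSpec.le ⟨_, rfl⟩
    have hwQ : hW.primeIdealOf ⟨w, hw⟩ = ⟨Q, inferInstance⟩ :=
      hW.fromSpec.isOpenEmbedding.injective (hW.fromSpec_primeIdealOf ⟨w, hw⟩)
    have hwz : w ⤳ z := by
      refine (?_ : w ⤳ hW.fromSpec (hW.primeIdealOf ⟨z, hzW⟩)).trans (specializes_of_eq (hW.fromSpec_primeIdealOf ⟨z, hzW⟩))
      exact ((PrimeSpectrum.le_iff_specializes (⟨Q, inferInstance⟩ : PrimeSpectrum Γ(Z, W)) _).1 hQq).map hW.fromSpec.continuous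
    exact Groth.L07.GeomRk.congr_prime (T := fun V _ => Good k (Localization.AtPrime V) (LocalizedModule V.primeCompl Γ(M, W)))
      (congrArg PrimeSpectrum.asIdeal hwQ) ((hloc w hw).2 (h w hwz))

theorem min_add_le {k : ℕ} {a d : WithBot ℕ∞} {c : ℕ∞} (h : min (k : WithBot ℕ∞) a ≤ d) :
    min (k : WithBot ℕ∞) (a + c) ≤ d + c := by
  rcases le_total (k : WithBot ℕ∞) a with hk | hk
  · rw [min_eq_left hk] at h
    exact (min_le_left _ _).trans (h.trans (le_add_of_nonneg_right (WithBot.coe_le_coe.2 zero_le)))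
  · rw [min_eq_right hk] at h
    exact (min_le_right _ _).trans (add_le_add h le_rfl)

/-- the local statement -/
theorem good_tensor (k : ℕ) {A B : Type u} [CommRing A] [IsLocalRing A] [IsNoetherianRing A] [CommRing B] [IsLocalRing B]
    [IsNoetherianRing B] [Algebra A B] [IsLocalHom (algebraMap A B)] [Module.Flat A B]
    (hF : LocCoh.IsCohenMacaulayLocalRing (EGA4.FibRing A B))
    (M : Type u) [AddCommGroup M] [Module A M] [Module.Finite A M] (h : Good k A M) : Good k B (B ⊗[A] M) := by
  rcases subsingleton_or_nontrivial M with hM | hM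
  · haveI : Subsingleton (B ⊗[A] M) := inferInstance
    show min _ _ ≤ _
    rw [(Module.supportDim_eq_bot_iff_subsingleton B (B ⊗[A] M)).2 inferInstance, min_eq_right bot_le]
    exact bot_le
  show min _ _ ≤ _
  let e : EGA4.FibMod A B B ≃ₗ[B] EGA4.FibRing A B :=
    Submodule.quotEquivOfEq _ _ (by rw [smul_eq_mul, Ideal.mul_top])
  rw [L02.CMMor.depth_tensor (N := B) M, L02.CMMor.supportDim_tensor (N := B) M, Module.supportDim_eq_of_equiv e]
  have h1 : LocCoh.depth B (EGA4.FibMod A B B) = LocCoh.depth (EGA4.FibRing A B) (EGA4.FibRing A B) :=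
    (Groth.L04.idealDepth_congr e).trans (Groth.L06.FlatFibre.depth_fibRing_eq A B)
  have h2 : Module.supportDim B (EGA4.FibRing A B) = ((LocCoh.depth (EGA4.FibRing A B) (EGA4.FibRing A B) : ℕ∞) : WithBot ℕ∞) := by
    rw [← hF.supportDim_eq_depth, Module.supportDim_self_eq_ringKrullDim]
    exact Module.supportDim_quotient_eq_ringKrullDim _
  rw [h1, h2, WithBot.coe_add]
  exact min_add_le h

set_option maxHeartbeats 1600000 in
/-- Serre conditions ascend along flat morphisms with Cohen–Macaulay fibres -/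
theorem skAt_pullback {Z Z' : Scheme.{u}} [IsLocallyNoetherian Z] [IsLocallyNoetherian Z'] (m : Z' ⟶ Z)
    (hm : ∀ z' : Z', MoreMor.IsCMAt m z') (M : Z.Modules) (hM : Coh.IsCoh M) (k : ℕ) (z' : Z')
    (h : RelCanon.SkAt k M (m z')) : RelCanon.SkAt k ((Scheme.Modules.pullback m).obj M) z' := by
  rw [skAt_iff_gen _ (Groth.L16.AffineBC.isCoh_pullback m hM)]
  rw [skAt_iff_gen _ hM] at h
  intro w' hw'
  let O := Z.presheaf.stalk (m w')
  let O' := Z'.presheaf.stalk w'
  letI : Algebra O O' := (m.stalkMap w').hom.toAlgebra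
  haveI : IsLocalHom (algebraMap O O') := inferInstanceAs (IsLocalHom (m.stalkMap w').hom)
  haveI : Module.Flat O O' := (hm w').1
  let N := (Groth.L00.Stk.F Z (m w')).obj M
  haveI : Module.Finite O N := Groth.L06.SupportStalk.finite_stalk M hM _
  let ε : ((Scheme.Modules.pullback m).obj M).presheaf.stalk w' ≃ₗ[O'] O' ⊗[O] N :=
    ((Groth.L00.PullStalk.stalkIso m w').app M).toLinearEquiv
  have hg := good_tensor k ((L02.CMMor.cm_fibre_iff m w').2 (hm w').2) N (h _ (hw'.map m.continuous))
  haveI : Module.Finite O' (O' ⊗[O] N) := inferInstance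
  exact (good_iff_of_semi (R := O') (M := O' ⊗[O] N)
    { φ := RingHom.id O', surj := Function.surjective_id, e := ε.symm.toAddEquiv,
      map_smul := fun r v => ε.symm.map_smul r v }).1 hg

/-- projections of changes of the base field have Cohen–Macaulay fibres -/
theorem isCMAt_fieldExt {k k' : Type u} [Field k] [Field k'] [Algebra k k'] {Z Z' : Scheme.{u}}
    (g : Z ⟶ Spec (CommRingCat.of k)) [LocallyOfFiniteType g] {m : Z' ⟶ Z} {g' : Z' ⟶ Spec (CommRingCat.of k')}
    (sq : IsPullback m g' g (Spec.map (CommRingCat.ofHom (algebraMap k k')))) (z' : Z') : MoreMor.IsCMAt m z' := by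
  haveI : Flat (Spec.map (CommRingCat.ofHom (algebraMap k k'))) := by
    rw [HasRingHomProperty.Spec_iff (P := @Flat)]
    exact RingHom.flat_algebraMap_iff.mpr inferInstance
  rw [← sq.isoPullback_hom_fst, L02.CMMor.isCMAt_openImmersion_comp]
  exact ⟨Flat.stalkMap _ _, L02.CMMor.isCM_fibre g _ (L02.CMMor.res_of_locallyOfFiniteType g _) _⟩

end Groth.L10.RelCan.SkPull
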